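import Mathlib

/-!
# Smooth algebras over a field (helper27)

* `isReduced_of_etale_of_isDomain`: an étale algebra over a domain is reduced.
* `isReduced_of_smooth_field`: a smooth algebra over a field is reduced.
-/

universe u

open TensorProduct

namespace Groth.Agent.Lib27.SmoothField

/-- An étale algebra over a domain is reduced. -/
theorem isReduced_of_etale_of_isDomain (P B : Type*) [CommRing P] [IsDomain P] [CommRing B]
    [Algebra P B] [Algebra.Etale P B] : IsReduced B := by
  let F := FractionRing P
  have hred : IsReduced (F ⊗[P] B) :=
    Algebra.FormallyUnramified.isReduced_of_field F (F ⊗[P] B)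
  have hinj : Function.Injective (Algebra.TensorProduct.includeRight : B →ₐ[P] F ⊗[P] B) := by
    have h1 : Function.Injective (algebraMap P F) := IsFractionRing.injective P F
    have := Module.Flat.rTensor_preserves_injective_linearMap (M := B)
      (Algebra.linearMap P F) h1
    have h2 : ⇑(Algebra.TensorProduct.includeRight : B →ₐ[P] F ⊗[P] B) =
        (LinearMap.rTensor B (Algebra.linearMap P F)) ∘ (TensorProduct.lid P B).symm := by
      ext b
      simp
    rw [h2]
    exact this.comp (TensorProduct.lid P B).symm.injective
  exact isReduced_of_injective _ hinj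

/-- If every prime has a basic open neighbourhood on which the ring is reduced, the ring is reduced. -/
theorem isReduced_of_forall_prime_exists_away (S : Type*) [CommRing S]
    (h : ∀ p : Ideal S, p.IsPrime → ∃ f ∉ p, IsReduced (Localization.Away f)) : IsReduced S := by
  constructor
  intro x hx
  by_contra hx0
  let I : Ideal S := (Ideal.span {x}).annihilator
  have hI : I ≠ ⊤ := by
    intro hI
    have : (1 : S) ∈ I := hI ▸ Submodule.mem_top
    rw [Submodule.mem_annihilator_span_singleton] at this
    exact hx0 (by simpa using this)
  obtain ⟨m, hm, hIm⟩ := Ideal.exists_le_maximal I hI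
  obtain ⟨f, hf, hred⟩ := h m hm.isPrime
  have hx' : IsNilpotent (algebraMap S (Localization.Away f) x) := hx.map _
  have h0 : algebraMap S (Localization.Away f) x = 0 := hx'.eq_zero
  rw [IsLocalization.map_eq_zero_iff (Submonoid.powers f)] at h0
  obtain ⟨⟨_, n, rfl⟩, hn⟩ := h0
  have : f ^ n ∈ I := by
    rw [Submodule.mem_annihilator_span_singleton]
    exact hn
  exact hf (hm.isPrime.mem_of_pow_mem n (hIm this))

/-- A smooth algebra over a field is reduced. -/
theorem isReduced_of_smooth_field (K S : Type*) [Field K] [CommRing S] [Algebra K S]
    [Algebra.Smooth K S] : IsReduced S := by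
  apply isReduced_of_forall_prime_exists_away
  intro p hp
  obtain ⟨f, hf, n, _, _, _⟩ :=
    Algebra.IsSmoothAt.exists_isStandardEtale_mvPolynomial (R := K) (p := p)
  exact ⟨f, hf, isReduced_of_etale_of_isDomain (MvPolynomial (Fin n) K) (Localization.Away f)⟩

end Groth.Agent.Lib27.SmoothField
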