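import Mathlib.RingTheory.Smooth.Field
import Mathlib.RingTheory.Nilpotent.GeometricallyReduced
import Mathlib.FieldTheory.SeparablyGenerated
import Mathlib.FieldTheory.IsAlgClosed.AlgebraicClosure
import Mathlib.RingTheory.Flat.Basic
import Mathlib.Algebra.CharP.Lemmas
import Mathlib.Algebra.CharP.Algebra

/-!
# Geometrically reduced finitely generated field extensions are formally smooth
(MacLane's criterion, using Mathlib's `exists_isTranscendenceBasis_and_isSeparable_of_linearIndepOn_pow_of_essFiniteType`).
-/

namespace Groth.Agent.Lib27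

open TensorProduct

universe u v

theorem linearIndepOn_pow_of_isGeometricallyReduced (k : Type u) (K : Type v) [Field k] [Field K]
    [Algebra k K] [Algebra.IsGeometricallyReduced k K] (p : ℕ) (hp : p.Prime) [ExpChar k p]
    (s : Finset K) (hs : LinearIndepOn k _root_.id (s : Set K)) :
    LinearIndepOn k (· ^ p) (s : Set K) := by
  classical
  let L := AlgebraicClosure k
  let T := L ⊗[k] K
  have hTinj : Function.Injective (algebraMap k T) := by
    have h1 : Function.Injective (algebraMap L T) :=
      Algebra.TensorProduct.includeLeft_injective (S := L) (algebraMap k K).injective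
    have : algebraMap k T = (algebraMap L T).comp (algebraMap k L) :=
      IsScalarTower.algebraMap_eq k L T
    rw [this]
    exact h1.comp (algebraMap k L).injective
  have : ExpChar T p := expChar_of_injective_algebraMap hTinj p
  have : IsReduced T := inferInstance
  rw [LinearIndepOn, Fintype.linearIndependent_iff]
  intro g hg
  have hd : ∀ i : (s : Set K), ∃ z : L, z ^ p = algebraMap k L (g i) := fun i =>
    IsAlgClosed.exists_pow_nat_eq _ hp.pos
  choose d hd using hd
  let t : T := ∑ i : (s : Set K), d i ⊗ₜ[k] (i : K)
  have ht : t ^ p = 0 := by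
    rw [sum_pow_char]
    have : ∀ i : (s : Set K), (d i ⊗ₜ[k] (i : K)) ^ p = (1 : L) ⊗ₜ[k] (g i • (i : K) ^ p) := by
      intro i
      rw [Algebra.TensorProduct.tmul_pow, hd, Algebra.algebraMap_eq_smul_one, TensorProduct.smul_tmul]
    rw [Finset.sum_congr rfl (fun i _ => this i), ← TensorProduct.tmul_sum, hg, TensorProduct.tmul_zero]
  have ht0 : t = 0 := by
    have := IsReduced.eq_zero t ⟨p, ht⟩
    exact this
  have hli : LinearIndependent L (fun i : (s : Set K) => (1 : L) ⊗ₜ[k] (i : K)) :=
    Module.Flat.linearIndependent_one_tmul (S := L) hs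
  rw [Fintype.linearIndependent_iff] at hli
  have ht' : ∑ i : (s : Set K), d i • ((1 : L) ⊗ₜ[k] (i : K)) = 0 := by
    rw [← ht0]
    refine Finset.sum_congr rfl (fun i _ => ?_)
    rw [TensorProduct.smul_tmul', smul_eq_mul, mul_one]
  have hdz := hli d ht'
  intro i
  have := hd i
  rw [hdz i, zero_pow hp.ne_zero] at this
  exact (map_eq_zero (algebraMap k L)).mp this.symm

theorem formallySmooth_of_isGeometricallyReduced (k : Type u) (K : Type v) [Field k] [Field K]
    [Algebra k K] [Algebra.EssFiniteType k K] [Algebra.IsGeometricallyReduced k K] :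
    Algebra.FormallySmooth k K := by
  obtain _ | ⟨p, hp, hpk⟩ := CharP.exists' k
  · infer_instance
  · have : ExpChar k p := ExpChar.prime hp.out
    obtain ⟨s, hs, H⟩ :=
      exists_isTranscendenceBasis_and_isSeparable_of_linearIndepOn_pow_of_essFiniteType
        (k := k) (K := K) p hp.out
        (fun s hs => linearIndepOn_pow_of_isGeometricallyReduced k K p hp.out s hs)
    have : Algebra.IsSeparable (↥(IntermediateField.adjoin k (Set.range ((↑) : s → K)))) K := by
      convert! H <;> simp
    exact .of_algebraicIndependent_of_isSeparable hs.1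

end Groth.Agent.Lib27
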