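import Mathlib

/-!
# Coproducts in localizations with a calculus of left fractions; coproducts in `D(A)`.
-/

set_option autoImplicit false

open CategoryTheory Limits

namespace Groth.Agent.Lib27.DCoprod

universe w w' v₁ v₂ u₁ u₂

section Pre

variable {C : Type u₁} [Category.{v₁} C] (W : MorphismProperty C)
  {J : Type w} [HasCoproductsOfShape J C] [W.IsStableUnderCoproductsOfShape J]

lemma W_sigmaMap {X Y : J → C} (s : ∀ j, X j ⟶ Y j) (hs : ∀ j, W (s j)) :
    W (Limits.Sigma.map s) :=
  MorphismProperty.colimMap (W := W) (X := Discrete.functor X) (Y := Discrete.functor Y)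
    (Discrete.natTrans fun j => s j.as) (fun j => hs j.as)

end Pre

section Loc

variable {C : Type u₁} {D : Type u₂} [Category.{v₁} C] [Category.{v₂} D]
  (L : C ⥤ D) (W : MorphismProperty C) [L.IsLocalization W] [W.HasLeftCalculusOfFractions]
  {J : Type w} [HasCoproductsOfShape J C] [W.IsStableUnderCoproductsOfShape J]

include W in
lemma exists_desc (X : J → C) (T : D) (g : ∀ j, L.obj (X j) ⟶ T) :
    ∃ m : L.obj (∐ X) ⟶ T, ∀ j, L.map (Sigma.ι X j) ≫ m = g j := by
  have : L.EssSurj := Localization.essSurj L W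
  have hL := Localization.inverts L W
  let Y := L.objPreimage T
  let e : L.obj Y ≅ T := L.objObjPreimageIso T
  have hφ : ∀ j, ∃ φ : W.LeftFraction (X j) Y, g j ≫ e.inv = φ.map L hL := fun j =>
    Localization.exists_leftFraction L W (g j ≫ e.inv)
  choose φ hφ using hφ
  let Y' : J → C := fun j => (φ j).Y'
  let f : ∀ j, X j ⟶ Y' j := fun j => (φ j).f
  let s : ∀ j, Y ⟶ Y' j := fun j => (φ j).s
  have hs : ∀ j, W (s j) := fun j => (φ j).hs
  have hS : W (Limits.Sigma.map s) := W_sigmaMap W s hs
  haveI : IsIso (L.map (Limits.Sigma.map s)) := hL _ hS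
  haveI : ∀ j, IsIso (L.map (s j)) := fun j => hL _ (hs j)
  refine ⟨L.map (Limits.Sigma.map f) ≫ inv (L.map (Limits.Sigma.map s)) ≫
    L.map (Sigma.desc (fun _ => 𝟙 Y)) ≫ e.hom, fun j => ?_⟩
  have h1 : L.map (Sigma.ι Y' j) ≫ inv (L.map (Limits.Sigma.map s)) =
      inv (L.map (s j)) ≫ L.map (Sigma.ι (fun _ : J => Y) j) := by
    rw [IsIso.comp_inv_eq, Category.assoc, IsIso.eq_inv_comp, ← L.map_comp, ← L.map_comp,
      Sigma.ι_map]
  have h2 : g j ≫ e.inv = L.map (f j) ≫ inv (L.map (s j)) := by
    rw [hφ j]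
    rfl
  calc L.map (Sigma.ι X j) ≫ L.map (Limits.Sigma.map f) ≫ inv (L.map (Limits.Sigma.map s)) ≫
        L.map (Sigma.desc (fun _ => 𝟙 Y)) ≫ e.hom
      = L.map (f j) ≫ (L.map (Sigma.ι Y' j) ≫ inv (L.map (Limits.Sigma.map s))) ≫
        L.map (Sigma.desc (fun _ => 𝟙 Y)) ≫ e.hom := by
        rw [← L.map_comp_assoc, Sigma.ι_map, L.map_comp_assoc]
        simp only [Category.assoc]
    _ = (L.map (f j) ≫ inv (L.map (s j))) ≫
        L.map (Sigma.ι (fun _ : J => Y) j ≫ Sigma.desc (fun _ => 𝟙 Y)) ≫ e.hom := by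
        rw [h1, L.map_comp]
        simp only [Category.assoc]
    _ = g j := by
        rw [← h2, Sigma.ι_desc, L.map_id, Category.id_comp, Category.assoc, e.inv_hom_id,
          Category.comp_id]

include W in
lemma hom_ext (X : J → C) (T : D) (m m' : L.obj (∐ X) ⟶ T)
    (h : ∀ j, L.map (Sigma.ι X j) ≫ m = L.map (Sigma.ι X j) ≫ m') : m = m' := by
  have : L.EssSurj := Localization.essSurj L W
  have hL := Localization.inverts L W
  let Y := L.objPreimage T
  let e : L.obj Y ≅ T := L.objObjPreimageIso T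
  obtain ⟨φ, h1, h2⟩ := Localization.exists_leftFraction₂ L W (m ≫ e.inv) (m' ≫ e.inv)
  haveI : IsIso (L.map φ.s) := hL _ φ.hs
  have h1' : m ≫ e.inv = L.map φ.f ≫ inv (L.map φ.s) := by rw [h1]; rfl
  have h2' : m' ≫ e.inv = L.map φ.f' ≫ inv (L.map φ.s) := by rw [h2]; rfl
  suffices hff : L.map φ.f = L.map φ.f' by
    rw [← cancel_mono e.inv, h1', h2', hff]
  have h3 : ∀ j, L.map (Sigma.ι X j ≫ φ.f) = L.map (Sigma.ι X j ≫ φ.f') := fun j => by
    rw [← cancel_mono (inv (L.map φ.s)), L.map_comp, L.map_comp, Category.assoc, Category.assoc,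
      ← h1', ← h2', ← Category.assoc, ← Category.assoc, h j]
  have h4 : ∀ j, ∃ (Z : C) (t : φ.Y' ⟶ Z) (_ : W t),
      (Sigma.ι X j ≫ φ.f) ≫ t = (Sigma.ι X j ≫ φ.f') ≫ t := fun j =>
    (MorphismProperty.map_eq_iff_postcomp L W _ _).1 (h3 j)
  choose Z t ht htt using h4
  let a : ∀ j, X j ⟶ φ.Y' := fun j => Sigma.ι X j ≫ φ.f
  let a' : ∀ j, X j ⟶ φ.Y' := fun j => Sigma.ι X j ≫ φ.f'
  have hT : W (Limits.Sigma.map t) := W_sigmaMap W t ht
  haveI : IsIso (L.map (Limits.Sigma.map t)) := hL _ hT
  have h5 : Limits.Sigma.map a ≫ Limits.Sigma.map t = Limits.Sigma.map a' ≫ Limits.Sigma.map t := by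
    rw [Sigma.map_comp_map, Sigma.map_comp_map]
    congr 1
    funext j
    exact htt j
  have h6 : L.map (Limits.Sigma.map a) = L.map (Limits.Sigma.map a') := by
    rw [← cancel_mono (L.map (Limits.Sigma.map t)), ← L.map_comp, ← L.map_comp, h5]
  have h7 : φ.f = Limits.Sigma.map a ≫ Sigma.desc (fun _ => 𝟙 φ.Y') := by
    apply Sigma.hom_ext
    intro j
    rw [Sigma.ι_map_assoc, Sigma.ι_desc, Category.comp_id]
  have h8 : φ.f' = Limits.Sigma.map a' ≫ Sigma.desc (fun _ => 𝟙 φ.Y') := by
    apply Sigma.hom_ext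
    intro j
    rw [Sigma.ι_map_assoc, Sigma.ι_desc, Category.comp_id]
  rw [h7, h8, L.map_comp, L.map_comp, h6]

/-- The image under a localization functor (for a class of morphisms with a calculus of left
fractions, stable under coproducts) of a coproduct is a coproduct. -/
noncomputable def isColimitMapCofan (X : J → C) :
    IsColimit (Cofan.mk (L.obj (∐ X)) (fun j => L.map (Sigma.ι X j))) :=
  Cofan.IsColimit.mk _ (fun s => (exists_desc L W X s.pt s.inj).choose)
    (fun s j => (exists_desc L W X s.pt s.inj).choose_spec j)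
    (fun s m hm => hom_ext L W X _ _ _ (fun j => by
      have h1 := hm j
      have h2 := (exists_desc L W X s.pt s.inj).choose_spec j
      dsimp at h1
      rw [h1, h2]))

include L W in
lemma hasCoproductsOfShape : HasCoproductsOfShape J D := by
  have : L.EssSurj := Localization.essSurj L W
  constructor
  intro F
  let X : J → C := fun j => L.objPreimage (F.obj ⟨j⟩)
  let e : F ≅ Discrete.functor (fun j => L.obj (X j)) :=
    Discrete.natIso (fun j => (L.objObjPreimageIso (F.obj j)).symm)
  haveI : HasColimit (Discrete.functor (fun j => L.obj (X j))) :=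
    ⟨⟨⟨_, isColimitMapCofan L W X⟩⟩⟩
  exact hasColimit_of_iso e

end Loc

section Homot

variable {A : Type u₁} [Category.{v₁} A] [Preadditive A] {ι : Type*} {c : ComplexShape ι}
  {J : Type w} [HasCoproductsOfShape J A]

/-- degreewise coproduct cofan -/
noncomputable def isColimitEvalCofan (K : J → HomologicalComplex A c) (i : ι) :
    IsColimit (Cofan.mk ((∐ K).X i) (fun j => (Sigma.ι K j).f i)) :=
  isColimitCofanMkObjOfIsColimit (HomologicalComplex.eval A c i) K _ (coproductIsCoproduct K)

lemma nonempty_homotopy (K : J → HomologicalComplex A c) {T : HomologicalComplex A c}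
    (a b : ∐ K ⟶ T) (h : ∀ j, Homotopy (Sigma.ι K j ≫ a) (Sigma.ι K j ≫ b)) :
    Nonempty (Homotopy a b) := by
  let hom : ∀ i i', (∐ K).X i ⟶ T.X i' := fun i i' =>
    Cofan.IsColimit.desc (isColimitEvalCofan K i) (fun j => (h j).hom i i')
  have fac : ∀ j i i', (Sigma.ι K j).f i ≫ hom i i' = (h j).hom i i' := fun j i i' =>
    Cofan.IsColimit.fac (isColimitEvalCofan K i) _ j
  refine ⟨{ hom := hom, zero := ?_, comm := ?_ }⟩
  · intro i i' hii'
    apply Cofan.IsColimit.hom_ext (isColimitEvalCofan K i)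
    intro j
    change (Sigma.ι K j).f i ≫ hom i i' = (Sigma.ι K j).f i ≫ 0
    rw [fac, comp_zero, (h j).zero i i' hii']
  · intro i
    apply Cofan.IsColimit.hom_ext (isColimitEvalCofan K i)
    intro j
    change (Sigma.ι K j).f i ≫ a.f i = (Sigma.ι K j).f i ≫ (dNext i hom + prevD i hom + b.f i)
    have e : (fun i i' => (Sigma.ι K j).f i ≫ hom i i') = (h j).hom := by
      funext i i'
      exact fac j i i'
    rw [Preadditive.comp_add, Preadditive.comp_add, ← dNext_comp_left, ← prevD_comp_left, e]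
    exact (h j).comm i

lemma quotient_map_eq_of_cofan (K : J → HomologicalComplex A c) (T : HomologicalComplex A c)
    (a b : ∐ K ⟶ T)
    (h : ∀ j, (HomotopyCategory.quotient A c).map (Sigma.ι K j ≫ a) =
      (HomotopyCategory.quotient A c).map (Sigma.ι K j ≫ b)) :
    (HomotopyCategory.quotient A c).map a = (HomotopyCategory.quotient A c).map b := by
  obtain ⟨H⟩ := nonempty_homotopy K a b (fun j => HomotopyCategory.homotopyOfEq _ _ (h j))
  exact HomotopyCategory.eq_of_homotopy _ _ H

end Homot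

section Quot

variable {K : Type u₁} {H : Type u₂} [Category.{v₁} K] [Category.{v₂} H] (Q : K ⥤ H)
  [Q.Full] [Q.EssSurj] {J : Type w} [HasCoproductsOfShape J K]
  (hQ : ∀ (X : J → K) (T : K) (a b : ∐ X ⟶ T),
    (∀ j, Q.map (Sigma.ι X j ≫ a) = Q.map (Sigma.ι X j ≫ b)) → Q.map a = Q.map b)

lemma quot_exists_desc (X : J → K) (T : H) (g : ∀ j, Q.obj (X j) ⟶ T) :
    ∃ m : Q.obj (∐ X) ⟶ T, ∀ j, Q.map (Sigma.ι X j) ≫ m = g j := by
  let e : Q.obj (Q.objPreimage T) ≅ T := Q.objObjPreimageIso T
  refine ⟨Q.map (Sigma.desc (fun j => Q.preimage (g j ≫ e.inv))) ≫ e.hom, fun j => ?_⟩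
  rw [← Functor.map_comp_assoc, Sigma.ι_desc, Functor.map_preimage, Category.assoc,
    e.inv_hom_id, Category.comp_id]

include hQ in
lemma quot_hom_ext (X : J → K) (T : H) (m m' : Q.obj (∐ X) ⟶ T)
    (h : ∀ j, Q.map (Sigma.ι X j) ≫ m = Q.map (Sigma.ι X j) ≫ m') : m = m' := by
  let e : Q.obj (Q.objPreimage T) ≅ T := Q.objObjPreimageIso T
  obtain ⟨a, ha⟩ := Q.map_surjective (m ≫ e.inv)
  obtain ⟨b, hb⟩ := Q.map_surjective (m' ≫ e.inv)
  have hab : Q.map a = Q.map b := hQ X _ a b (fun j => by
    rw [Functor.map_comp, Functor.map_comp, ha, hb, ← Category.assoc, ← Category.assoc, h j])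
  rw [← cancel_mono e.inv, ← ha, ← hb, hab]

include hQ in
/-- `Q` sends coproduct cofans to colimit cofans. -/
noncomputable def isColimitQuotCofan (X : J → K) :
    IsColimit (Cofan.mk (Q.obj (∐ X)) (fun j => Q.map (Sigma.ι X j))) :=
  Cofan.IsColimit.mk _ (fun s => (quot_exists_desc Q X s.pt s.inj).choose)
    (fun s j => (quot_exists_desc Q X s.pt s.inj).choose_spec j)
    (fun s m hm => quot_hom_ext Q hQ X _ _ _ (fun j => by
      have h1 := hm j
      have h2 := (quot_exists_desc Q X s.pt s.inj).choose_spec j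
      dsimp at h1
      rw [h1, h2]))

include hQ in
lemma quot_preserves : PreservesColimitsOfShape (Discrete J) Q := by
  haveI : ∀ X : J → K, PreservesColimit (Discrete.functor X) Q := fun X =>
    preservesColimit_of_preserves_colimit_cocone (coproductIsCoproduct X)
      ((isColimitMapCoconeCofanMkEquiv _ _ _).symm (isColimitQuotCofan Q hQ X))
  exact preservesColimitsOfShape_of_discrete _

include hQ in
lemma quot_hasCoproductsOfShape : HasCoproductsOfShape J H := by
  constructor
  intro F
  let X : J → K := fun j => Q.objPreimage (F.obj ⟨j⟩)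
  let e : F ≅ Discrete.functor (fun j => Q.obj (X j)) :=
    Discrete.natIso (fun j => (Q.objObjPreimageIso (F.obj j)).symm)
  haveI : HasColimit (Discrete.functor (fun j => Q.obj (X j))) :=
    ⟨⟨⟨_, isColimitQuotCofan Q hQ X⟩⟩⟩
  exact hasColimit_of_iso e

end Quot

section HomotInst

variable {A : Type u₁} [Category.{v₁} A] [Preadditive A] {ι : Type*} {c : ComplexShape ι}
  {J : Type w} [HasCoproductsOfShape J A]

instance preservesCoproducts_quotient :
    PreservesColimitsOfShape (Discrete J) (HomotopyCategory.quotient A c) :=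
  quot_preserves _ (fun K T a b h => quotient_map_eq_of_cofan K T a b h)

instance hasCoproductsOfShape_homotopyCategory :
    HasCoproductsOfShape J (HomotopyCategory A c) :=
  quot_hasCoproductsOfShape (HomotopyCategory.quotient A c)
    (fun K T a b h => quotient_map_eq_of_cofan K T a b h)

end HomotInst

section Transfer

variable {K : Type u₁} {H : Type u₂} [Category.{v₁} K] [Category.{v₂} H] (Q : K ⥤ H)
  [Q.Full] [Q.EssSurj] {J : Type w} [HasCoproductsOfShape J K] [HasCoproductsOfShape J H]
  [PreservesColimitsOfShape (Discrete J) Q]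
  (WK : MorphismProperty K) (WH : MorphismProperty H) [WH.RespectsIso]

include Q WK in
lemma stable_of_quotient (hQ : ∀ {X Y : K} (f : X ⟶ Y), WH (Q.map f) ↔ WK f)
    [WK.IsStableUnderCoproductsOfShape J] : WH.IsStableUnderCoproductsOfShape J := by
  apply MorphismProperty.IsStableUnderCoproductsOfShape.mk
  intro X₁ X₂ _ _ f hf
  let K₁ : J → K := fun j => Q.objPreimage (X₁ j)
  let K₂ : J → K := fun j => Q.objPreimage (X₂ j)
  let e₁ : ∀ j, Q.obj (K₁ j) ≅ X₁ j := fun j => Q.objObjPreimageIso (X₁ j)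
  let e₂ : ∀ j, Q.obj (K₂ j) ≅ X₂ j := fun j => Q.objObjPreimageIso (X₂ j)
  let g : ∀ j, K₁ j ⟶ K₂ j := fun j => Q.preimage ((e₁ j).hom ≫ f j ≫ (e₂ j).inv)
  have hg : ∀ j, WK (g j) := fun j => by
    rw [← hQ, Functor.map_preimage]
    exact (WH.cancel_left_of_respectsIso _ _).2 ((WH.cancel_right_of_respectsIso _ _).2 (hf j))
  have hG : WH (Q.map (Limits.Sigma.map g)) := (hQ _).2 (W_sigmaMap WK g hg)
  have key : Limits.Sigma.map f = (Sigma.mapIso e₁).inv ≫ sigmaComparison Q K₁ ≫
      Q.map (Limits.Sigma.map g) ≫ inv (sigmaComparison Q K₂) ≫ (Sigma.mapIso e₂).hom := by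
    apply Sigma.hom_ext
    intro j
    rw [Sigma.ι_map, Sigma.ι_mapIso_inv_assoc, ι_comp_sigmaComparison_assoc,
      ← Functor.map_comp_assoc, Sigma.ι_map, Functor.map_comp_assoc,
      map_ι_comp_inv_sigmaComparison_assoc, Sigma.ι_mapIso_hom, Functor.map_preimage]
    simp
  rw [key]
  exact (WH.cancel_left_of_respectsIso _ _).2 ((WH.cancel_left_of_respectsIso _ _).2
    ((WH.cancel_right_of_respectsIso _ _).2 hG))

end Transfer

section QIso

variable {A : Type u₁} [Category.{v₁} A] [Abelian A] {ι : Type*} (c : ComplexShape ι)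
  {J : Type w} [Category.{w'} J] [HasColimitsOfShape J A]

/-- a functor to complexes as a complex of functors -/
@[simps]
def psi (X : J ⥤ HomologicalComplex A c) : HomologicalComplex (J ⥤ A) c where
  X n := X ⋙ HomologicalComplex.eval A c n
  d n m :=
    { app := fun j => (X.obj j).d n m
      naturality := fun _ _ f => (X.map f).comm n m }
  shape n m h := by
    ext j
    exact (X.obj j).shape n m h
  d_comp_d' n m k _ _ := by
    ext j
    exact (X.obj j).d_comp_d n m k

@[simps]
def psiMap {X Y : J ⥤ HomologicalComplex A c} (f : X ⟶ Y) : psi c X ⟶ psi c Y where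
  f n := Functor.whiskerRight f (HomologicalComplex.eval A c n)
  comm' n m _ := by
    ext j
    exact (f.app j).comm n m

/-- the colimit cocone with point `colim (psi X)` -/
@[simps]
noncomputable def cc (X : J ⥤ HomologicalComplex A c) : Cocone X where
  pt := ((colim : (J ⥤ A) ⥤ A).mapHomologicalComplex c).obj (psi c X)
  ι :=
    { app := fun j =>
        { f := fun n => colimit.ι (X ⋙ HomologicalComplex.eval A c n) j
          comm' := fun n m _ => by
            change colimit.ι (X ⋙ HomologicalComplex.eval A c n) j ≫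
              colimMap ((psi c X).d n m) =
              (X.obj j).d n m ≫ colimit.ι (X ⋙ HomologicalComplex.eval A c m) j
            rw [ι_colimMap]
            rfl }
      naturality := fun i j φ => by
        ext n
        dsimp
        simp only [Category.comp_id]
        exact colimit.w (X ⋙ HomologicalComplex.eval A c n) φ }

noncomputable def isColimitCc (X : J ⥤ HomologicalComplex A c) : IsColimit (cc c X) :=
  HomologicalComplex.isColimitOfEval _ _ (fun n =>
    IsColimit.ofIsoColimit (colimit.isColimit (X ⋙ HomologicalComplex.eval A c n))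
      (Cocone.ext (Iso.refl _) (fun j => by dsimp; exact Category.comp_id _)))

lemma cc_compat {X Y : J ⥤ HomologicalComplex A c} (f : X ⟶ Y) (j : J) :
    (cc c X).ι.app j ≫ ((colim : (J ⥤ A) ⥤ A).mapHomologicalComplex c).map (psiMap c f) =
      f.app j ≫ (cc c Y).ι.app j := by
  ext n
  change colimit.ι (X ⋙ HomologicalComplex.eval A c n) j ≫
      colimMap (Functor.whiskerRight f (HomologicalComplex.eval A c n)) =
    (f.app j).f n ≫ colimit.ι (Y ⋙ HomologicalComplex.eval A c n) j
  rw [ι_colimMap]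
  rfl

lemma quasiIso_psiMap {X Y : J ⥤ HomologicalComplex A c} (f : X ⟶ Y)
    (hf : ∀ j, QuasiIso (f.app j)) : QuasiIso (psiMap c f) := by
  rw [HomologicalComplex.quasiIso_iff_evaluation]
  intro t
  have e : Arrow.mk ((((evaluation J A).obj t).mapHomologicalComplex c).map (psiMap c f)) ≅
      Arrow.mk (f.app t) :=
    Arrow.isoMk (HomologicalComplex.Hom.isoOfComponents (fun n => Iso.refl _)
        (fun i j _ => (Category.id_comp _).trans (Category.comp_id _).symm))
      (HomologicalComplex.Hom.isoOfComponents (fun n => Iso.refl _)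
        (fun i j _ => (Category.id_comp _).trans (Category.comp_id _).symm))
      (by
        ext n
        exact (Category.id_comp _).trans (Category.comp_id _).symm)
  exact (quasiIso_iff_of_arrow_mk_iso _ _ e).2 (hf t)

instance quasiIso_stableUnderColimitsOfShape [HasExactColimitsOfShape J A] :
    (HomologicalComplex.quasiIso A c).IsStableUnderColimitsOfShape J where
  condition X₁ X₂ c₁ c₂ h₁ h₂ f hf φ hφ := by
    have hf' : ∀ j, QuasiIso (f.app j) := fun j =>
      (HomologicalComplex.mem_quasiIso_iff _).1 (hf j)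
    have h1 : QuasiIso (psiMap c f) := quasiIso_psiMap c f hf'
    have h2 : QuasiIso (((colim : (J ⥤ A) ⥤ A).mapHomologicalComplex c).map (psiMap c f)) :=
      inferInstance
    let e₁ : c₁.pt ≅ ((colim : (J ⥤ A) ⥤ A).mapHomologicalComplex c).obj (psi c X₁) :=
      IsColimit.coconePointUniqueUpToIso h₁ (isColimitCc c X₁)
    let e₂ : c₂.pt ≅ ((colim : (J ⥤ A) ⥤ A).mapHomologicalComplex c).obj (psi c X₂) :=
      IsColimit.coconePointUniqueUpToIso h₂ (isColimitCc c X₂)
    have e2 : ∀ j, (cc c X₂).ι.app j ≫ e₂.inv = c₂.ι.app j := fun j =>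
      IsColimit.comp_coconePointUniqueUpToIso_inv _ _ _
    have e1 : ∀ j, c₁.ι.app j ≫ e₁.hom = (cc c X₁).ι.app j := fun j =>
      IsColimit.comp_coconePointUniqueUpToIso_hom _ _ _
    have key : φ = e₁.hom ≫
        ((colim : (J ⥤ A) ⥤ A).mapHomologicalComplex c).map (psiMap c f) ≫ e₂.inv := by
      apply h₁.hom_ext
      intro j
      calc c₁.ι.app j ≫ φ = f.app j ≫ c₂.ι.app j := hφ j
        _ = f.app j ≫ ((cc c X₂).ι.app j ≫ e₂.inv) :=
            congrArg (fun z => f.app j ≫ z) (e2 j).symm
        _ = (f.app j ≫ (cc c X₂).ι.app j) ≫ e₂.inv := (Category.assoc _ _ _).symm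
        _ = ((cc c X₁).ι.app j ≫
              ((colim : (J ⥤ A) ⥤ A).mapHomologicalComplex c).map (psiMap c f)) ≫ e₂.inv :=
            congrArg (fun z => z ≫ e₂.inv) (cc_compat c f j).symm
        _ = (cc c X₁).ι.app j ≫
              ((colim : (J ⥤ A) ⥤ A).mapHomologicalComplex c).map (psiMap c f) ≫ e₂.inv :=
            Category.assoc _ _ _
        _ = (c₁.ι.app j ≫ e₁.hom) ≫
              ((colim : (J ⥤ A) ⥤ A).mapHomologicalComplex c).map (psiMap c f) ≫ e₂.inv :=
            congrArg (fun z => z ≫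
              ((colim : (J ⥤ A) ⥤ A).mapHomologicalComplex c).map (psiMap c f) ≫ e₂.inv)
              (e1 j).symm
        _ = c₁.ι.app j ≫ e₁.hom ≫
              ((colim : (J ⥤ A) ⥤ A).mapHomologicalComplex c).map (psiMap c f) ≫ e₂.inv :=
            Category.assoc _ _ _
    rw [HomologicalComplex.mem_quasiIso_iff, key]
    have h3 : QuasiIso e₂.inv := inferInstance
    have h4 : QuasiIso e₁.hom := inferInstance
    have h5 : QuasiIso
        (((colim : (J ⥤ A) ⥤ A).mapHomologicalComplex c).map (psiMap c f) ≫ e₂.inv) :=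
      quasiIso_comp _ _
    exact quasiIso_comp _ _

end QIso

section Final

universe v u

variable {A : Type u} [Category.{v} A] [Abelian A] [IsGrothendieckAbelian.{v} A]

instance quasiIso_homotopyCategory_stable (J : Type v) {ι : Type*} (c : ComplexShape ι) :
    (HomotopyCategory.quasiIso A c).IsStableUnderCoproductsOfShape J :=
  stable_of_quotient (HomotopyCategory.quotient A c) (HomologicalComplex.quasiIso A c)
    (HomotopyCategory.quasiIso A c)
    (fun f => HomotopyCategory.quotient_map_mem_quasiIso_iff f)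

theorem derivedCategory_hasCoproducts [HasDerivedCategory.{v} A] :
    HasCoproducts.{v} (DerivedCategory A) := fun J =>
  hasCoproductsOfShape DerivedCategory.Qh (HomotopyCategory.quasiIso A (ComplexShape.up ℤ))

end Final

end Groth.Agent.Lib27.DCoprod
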