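import Groth.Prelude.Def_CotT
import Mathlib

/-!
# Lemmas on the cotangent modules `CotT.T0/T1/T2` of a presentation (helper27)
-/

universe u v w t m

open TensorProduct

namespace Groth.Agent.Lib27.CotTL

variable {A : Type u} {B : Type v} {ι : Type w} {σ : Type t}
variable [CommRing A] [CommRing B] [Algebra A B]
variable (P : Algebra.Presentation A B ι σ)

/-- Every element of `L₁ = B ⊗_R F` is of the form `1 ⊗ f`. -/
lemma exists_one_tmul (x : CotT.L1 P) : ∃ f : CotT.relMod P, x = (1 : B) ⊗ₜ f := by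
  induction x using TensorProduct.induction_on with
  | zero => exact ⟨0, (TensorProduct.tmul_zero _ _).symm⟩
  | tmul b f =>
    obtain ⟨r, rfl⟩ := P.toExtension.algebraMap_surjective b
    refine ⟨r • f, ?_⟩
    rw [← TensorProduct.smul_tmul, Algebra.smul_def, mul_one]
  | add x y hx hy =>
    obtain ⟨f, rfl⟩ := hx
    obtain ⟨g, rfl⟩ := hy
    exact ⟨f + g, (TensorProduct.tmul_add _ _ _).symm⟩

lemma toCot_surjective : Function.Surjective (CotT.toCot P) := by
  intro x
  obtain ⟨y, rfl⟩ := Algebra.Extension.Cotangent.mk_surjective x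
  have hy : (y : P.toExtension.Ring) ∈ LinearMap.range (CotT.jmap P) := by
    rw [CotT.range_jmap]; exact y.2
  obtain ⟨f, hf⟩ := hy
  refine ⟨(1 : B) ⊗ₜ f, ?_⟩
  rw [CotT.toCot_tmul, one_smul]
  congr 1
  exact Subtype.ext hf

/-- `1 ⊗ g = 0` in `B ⊗_R F` for `g ∈ I F`. -/
lemma one_tmul_eq_zero_of_mem_smul (g : CotT.relMod P)
    (hg : g ∈ (P.toExtension.ker • ⊤ : Submodule P.toExtension.Ring (CotT.relMod P))) :
    (1 : B) ⊗ₜ[P.toExtension.Ring] g = (0 : CotT.L1 P) := by
  refine Submodule.smul_induction_on hg ?_ ?_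
  · intro a ha f _
    rw [← TensorProduct.smul_tmul, Algebra.smul_def, mul_one]
    have : algebraMap P.toExtension.Ring B a = 0 := ha
    rw [this, TensorProduct.zero_tmul]
  · intro x y hx hy
    rw [TensorProduct.tmul_add, hx, hy, add_zero]

/-- Every element of `I²` is `j g` for some `g ∈ I F`. -/
lemma exists_jmap_eq_of_mem_sq (y : P.toExtension.Ring) (hy : y ∈ P.toExtension.ker ^ 2) :
    ∃ g ∈ (P.toExtension.ker • ⊤ : Submodule P.toExtension.Ring (CotT.relMod P)), CotT.jmap P g = y := by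
  rw [pow_two] at hy
  refine Submodule.mul_induction_on hy ?_ ?_
  · intro a ha b hb
    have hb' : b ∈ LinearMap.range (CotT.jmap P) := by rw [CotT.range_jmap]; exact hb
    obtain ⟨g₀, rfl⟩ := hb'
    exact ⟨a • g₀, Submodule.smul_mem_smul ha Submodule.mem_top, by rw [map_smul, smul_eq_mul]⟩
  · intro x y hx hy
    obtain ⟨g, hg, rfl⟩ := hx
    obtain ⟨g', hg', rfl⟩ := hy
    exact ⟨g + g', Submodule.add_mem _ hg hg', map_add _ _ _⟩

/-- The kernel of `L₁ → I/I²` is the image of `d₂`. -/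
lemma ker_toCot_le_range_d2 : LinearMap.ker (CotT.toCot P) ≤ LinearMap.range (CotT.d2 P) := by
  intro x hx
  obtain ⟨f, rfl⟩ := exists_one_tmul P x
  rw [LinearMap.mem_ker, CotT.toCot_tmul, one_smul, Algebra.Extension.Cotangent.mk_eq_zero_iff] at hx
  obtain ⟨g, hg, hjg⟩ := exists_jmap_eq_of_mem_sq P _ hx
  have hq : f - g ∈ CotT.relKer P := by
    change CotT.jmap P (f - g) = 0
    rw [map_sub, hjg, sub_eq_zero]
    rfl
  refine ⟨Submodule.Quotient.mk ((1 : B) ⊗ₜ ⟨f - g, hq⟩), ?_⟩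
  rw [CotT.d2_mk_tmul]
  change (1 : B) ⊗ₜ (f - g) = _
  rw [TensorProduct.tmul_sub, one_tmul_eq_zero_of_mem_smul P g hg, sub_zero]

end Groth.Agent.Lib27.CotTL
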