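import Mathlib
import Groth.Agent.Lib27.SmoothField

/-!
# Rational points of smooth algebras over a separably closed field (helper27)
-/

universe u

open TensorProduct

namespace Groth.Agent.Lib27.SmoothPts

/-- A nonempty open subset of affine space over an infinite field contains a rational point. -/
theorem exists_eval_mem_of_isOpen {K : Type*} [Field K] [Infinite K] {n : ℕ}
    (U : Set (PrimeSpectrum (MvPolynomial (Fin n) K))) (hU : IsOpen U) (hne : U.Nonempty) :
    ∃ (a : Fin n → K) (hp : (RingHom.ker (MvPolynomial.eval a)).IsPrime),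
      (⟨RingHom.ker (MvPolynomial.eval a), hp⟩ : PrimeSpectrum (MvPolynomial (Fin n) K)) ∈ U := by
  obtain ⟨q, hq⟩ := hne
  obtain ⟨_, ⟨_, ⟨φ, rfl⟩, rfl⟩, hqφ, hφU⟩ :=
    PrimeSpectrum.isBasis_basic_opens.exists_subset_of_mem_open hq hU
  have hφ0 : φ ≠ 0 := by
    rintro rfl
    exact hqφ (by simp)
  have : ∃ a : Fin n → K, MvPolynomial.eval a φ ≠ 0 := by
    by_contra h
    push Not at h
    exact hφ0 (MvPolynomial.funext (fun a => by rw [h a, map_zero]))
  obtain ⟨a, ha⟩ := this
  have hp : (RingHom.ker (MvPolynomial.eval a : MvPolynomial (Fin n) K →+* K)).IsPrime :=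
    RingHom.ker_isPrime _
  refine ⟨a, hp, hφU ?_⟩
  change φ ∉ RingHom.ker (MvPolynomial.eval a)
  rwa [RingHom.mem_ker]

/-- Separably closed fields are infinite. -/
theorem infinite_of_isSepClosed (K : Type*) [Field K] [IsSepClosed K] : Infinite K := by
  classical
  apply Infinite.of_not_fintype
  intro hfin
  set n := Fintype.card K
  set f := (Polynomial.X : Polynomial K) ^ (n + 1) - 1
  have hfsep : f.Separable := Polynomial.separable_X_pow_sub_C 1 (by simp [n]) one_ne_zero
  apply Nat.not_succ_le_self (Fintype.card K)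
  have hroot : n.succ = Fintype.card (f.rootSet K) := by
    rw [Polynomial.card_rootSet_eq_natDegree hfsep (IsSepClosed.splits_domain _ hfsep)]
    unfold f
    rw [← Polynomial.C_1, Polynomial.natDegree_X_pow_sub_C]
  rw [hroot]
  exact Fintype.card_le_of_injective _ Subtype.coe_injective

/-- A nonzero étale algebra over a polynomial ring over a separably closed field `K` has a
`K`-rational point. -/
theorem exists_algHom_of_etale_mvPolynomial {K : Type u} [Field K] [IsSepClosed K] {n : ℕ}
    (B : Type u) [CommRing B] [Nontrivial B] [Algebra K B] [Algebra (MvPolynomial (Fin n) K) B]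
    [IsScalarTower K (MvPolynomial (Fin n) K) B] [Algebra.Etale (MvPolynomial (Fin n) K) B] :
    Nonempty (B →ₐ[K] K) := by
  classical
  have : Infinite K := infinite_of_isSepClosed K
  have hopen : IsOpenMap (PrimeSpectrum.comap (algebraMap (MvPolynomial (Fin n) K) B)) :=
    PrimeSpectrum.isOpenMap_comap_of_hasGoingDown_of_finitePresentation
  have hU : IsOpen (Set.range (PrimeSpectrum.comap (algebraMap (MvPolynomial (Fin n) K) B))) :=
    hopen.isOpen_range
  have hne : (Set.range (PrimeSpectrum.comap
      (algebraMap (MvPolynomial (Fin n) K) B))).Nonempty := Set.range_nonempty _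
  obtain ⟨a, hp, q, hq⟩ := exists_eval_mem_of_isOpen _ hU hne
  obtain ⟨m, hm, hqm⟩ := Ideal.exists_le_maximal q.asIdeal q.2.ne_top
  have hsurj : Function.Surjective (MvPolynomial.eval a : MvPolynomial (Fin n) K →+* K) :=
    fun c => ⟨MvPolynomial.C c, by simp⟩
  have hmax : (RingHom.ker (MvPolynomial.eval a : MvPolynomial (Fin n) K →+* K)).IsMaximal :=
    RingHom.ker_isMaximal_of_surjective _ hsurj
  have hle : RingHom.ker (MvPolynomial.eval a : MvPolynomial (Fin n) K →+* K) ≤
      m.comap (algebraMap (MvPolynomial (Fin n) K) B) := by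
    intro x hx
    have h1 : (PrimeSpectrum.comap (algebraMap (MvPolynomial (Fin n) K) B) q).asIdeal =
        RingHom.ker (MvPolynomial.eval a) := congrArg PrimeSpectrum.asIdeal hq
    have h2 : x ∈ (PrimeSpectrum.comap (algebraMap (MvPolynomial (Fin n) K) B) q).asIdeal := by
      rw [h1]; exact hx
    exact hqm h2
  let : Field (B ⧸ m) := Ideal.Quotient.field m
  let : Algebra (MvPolynomial (Fin n) K) K := (MvPolynomial.eval a).toAlgebra
  have htower : IsScalarTower (MvPolynomial (Fin n) K) K (B ⧸ m) := by
    apply IsScalarTower.of_algebraMap_eq'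
    apply MvPolynomial.ringHom_ext
    · intro c
      rw [RingHom.comp_apply, RingHom.algebraMap_toAlgebra, MvPolynomial.eval_C,
        ← MvPolynomial.algebraMap_eq,
        ← IsScalarTower.algebraMap_apply K (MvPolynomial (Fin n) K) (B ⧸ m)]
    · intro i
      rw [RingHom.comp_apply, RingHom.algebraMap_toAlgebra, MvPolynomial.eval_X]
      have h3 : (MvPolynomial.X i - MvPolynomial.C (a i) : MvPolynomial (Fin n) K) ∈
          RingHom.ker (MvPolynomial.eval a) := by
        rw [RingHom.mem_ker]; simp
      have h4 := hle h3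
      rw [Ideal.mem_comap] at h4
      have h5 : algebraMap (MvPolynomial (Fin n) K) (B ⧸ m)
          (MvPolynomial.X i - MvPolynomial.C (a i)) = 0 := by
        rw [IsScalarTower.algebraMap_apply (MvPolynomial (Fin n) K) B (B ⧸ m)]
        exact Ideal.Quotient.eq_zero_iff_mem.mpr h4
      rw [map_sub, sub_eq_zero] at h5
      rw [h5, ← MvPolynomial.algebraMap_eq,
        ← IsScalarTower.algebraMap_apply K (MvPolynomial (Fin n) K) (B ⧸ m)]
  have hunr : Algebra.FormallyUnramified K (B ⧸ m) :=
    Algebra.FormallyUnramified.of_restrictScalars (MvPolynomial (Fin n) K) K (B ⧸ m)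
  have hftB : Algebra.FiniteType K B :=
    Algebra.FiniteType.trans (S := MvPolynomial (Fin n) K) inferInstance inferInstance
  have hft : Algebra.FiniteType K (B ⧸ m) := inferInstance
  have hsep : Algebra.IsSeparable K (B ⧸ m) := Algebra.FormallyUnramified.isSeparable K (B ⧸ m)
  have hbij : Function.Bijective (algebraMap K (B ⧸ m)) := IsSepClosed.algebraMap_bijective K _
  let e : K ≃ₐ[K] (B ⧸ m) := AlgEquiv.ofBijective (Algebra.ofId K (B ⧸ m)) hbij
  exact ⟨e.symm.toAlgHom.comp (IsScalarTower.toAlgHom K B (B ⧸ m))⟩

/-- A nonzero smooth algebra over a separably closed field `K` has a `K`-rational point. -/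
theorem exists_algHom_of_smooth {K : Type u} [Field K] [IsSepClosed K] (S : Type u) [CommRing S]
    [Nontrivial S] [Algebra K S] [Algebra.Smooth K S] : Nonempty (S →ₐ[K] K) := by
  obtain ⟨p, hp⟩ := Ideal.exists_maximal S
  have hpp : p.IsPrime := hp.isPrime
  obtain ⟨f, hf, n, _, _, _⟩ :=
    Algebra.IsSmoothAt.exists_isStandardEtale_mvPolynomial (R := K) (p := p)
  have hnt : Nontrivial (Localization.Away f) := by
    rw [← not_subsingleton_iff_nontrivial, IsLocalization.subsingleton_iff (M := Submonoid.powers f)]
    rintro ⟨m, hm⟩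
    exact hf (hpp.mem_of_pow_mem m (by simp only at hm; rw [hm]; exact p.zero_mem))
  obtain ⟨φ⟩ := exists_algHom_of_etale_mvPolynomial (K := K) (n := n) (Localization.Away f)
  exact ⟨φ.comp (IsScalarTower.toAlgHom K S (Localization.Away f))⟩

/-- A nonzero smooth algebra over a field `k` has a point with values in any separably closed
extension of `k`. -/
theorem exists_algHom_of_smooth_of_isSepClosed {k : Type u} [Field k] (K : Type u) [Field K]
    [Algebra k K] [IsSepClosed K] (S : Type u) [CommRing S]
    [Nontrivial S] [Algebra k S] [Algebra.Smooth k S] : Nonempty (S →ₐ[k] K) := by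
  have hinj : Function.Injective (Algebra.TensorProduct.includeRight : S →ₐ[k] K ⊗[k] S) :=
    Algebra.TensorProduct.includeRight_injective (algebraMap k K).injective
  have hnt : Nontrivial (K ⊗[k] S) := hinj.nontrivial
  obtain ⟨φ⟩ := exists_algHom_of_smooth (K := K) (K ⊗[k] S)
  exact ⟨(φ.restrictScalars k).comp Algebra.TensorProduct.includeRight⟩

/-- A nonzero smooth algebra over a field `k` has a point with values in a finite separable
extension of `k`. -/
theorem exists_finite_separable_point {k : Type u} [Field k] (S : Type u) [CommRing S]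
    [Nontrivial S] [Algebra k S] [Algebra.Smooth k S] :
    ∃ (L : Type u) (_ : Field L) (_ : Algebra k L) (_ : FiniteDimensional k L)
      (_ : Algebra.IsSeparable k L), Nonempty (S →ₐ[k] L) := by
  obtain ⟨ψ⟩ := exists_algHom_of_smooth_of_isSepClosed (k := k) (SeparableClosure k) S
  have hft : Algebra.FiniteType k S := inferInstance
  obtain ⟨s, hs⟩ := hft.out
  let L : IntermediateField k (SeparableClosure k) :=
    IntermediateField.adjoin k (ψ '' (s : Set S))
  have hfin : Finite (ψ '' (s : Set S)) := (s.finite_toSet.image ψ).to_subtype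
  have hfd : FiniteDimensional k L :=
    IntermediateField.finiteDimensional_adjoin
      (fun x _ => (Algebra.IsSeparable.isIntegral k x))
  have hmem : ∀ x : S, ψ x ∈ L := by
    intro x
    have hx : x ∈ Algebra.adjoin k (s : Set S) := by rw [hs]; exact Algebra.mem_top
    have h1 : ψ x ∈ (Algebra.adjoin k (s : Set S)).map ψ := ⟨x, hx, rfl⟩
    rw [AlgHom.map_adjoin] at h1
    exact IntermediateField.algebra_adjoin_le_adjoin k _ h1
  exact ⟨L, inferInstance, inferInstance, hfd, inferInstance,
    ⟨AlgHom.codRestrict ψ L.toSubalgebra hmem⟩⟩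

end Groth.Agent.Lib27.SmoothPts
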