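import Groth.Agent.Lib.Helper11.GrVerF

/-!
# Graded local cohomology and restriction of scalars along a degree-preserving ring map

For a degree-preserving ring map `φ : P → R` of Noetherian graded rings, homogeneous ideals
`b' ⊆ P`, `b ⊆ R` with `rad (b' R) = rad b`, and a graded `R`-module `N` (viewed over `P`),
`*H^p_{b'}(N) ≅ *H^p_b(N)` degree by degree.  (Modelled on helper11's Veronese comparison.)
-/

set_option autoImplicit false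
set_option linter.unusedSectionVars false
set_option linter.unusedVariables false
set_option linter.style.haveILetI false
universe u

namespace Groth.Agent.Lib27.RS

open DirectSum GrLC Groth.Agent.Lib.Helper11.GrLCLib Groth.Agent.Lib.Helper11.GrLes
  Groth.Agent.Lib.Helper11.GrShift Groth.Agent.Lib.Helper11.GrVer
open CategoryTheory

variable {ι : Type} [DecidableEq ι] [AddCommGroup ι]
variable {R : Type u} [CommRing R] (𝒜 : ι → AddSubgroup R) [GradedRing 𝒜]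
variable {P : Type u} [CommRing P] (ℬ : ι → AddSubgroup P) [GradedRing ℬ]
variable (φ : P →+* R)

/-- a degree-preserving ring map. -/
def IsGrRingHom : Prop := ∀ j x, x ∈ ℬ j → φ x ∈ 𝒜 j

variable {N : Type u} [AddCommGroup N] [Module R N] (𝒩 : ι → AddSubgroup N)
  [DirectSum.Decomposition 𝒩] [SetLike.GradedSMul 𝒜 𝒩]
variable {N' : Type u} [AddCommGroup N'] [Module P N'] (𝒩' : ι → AddSubgroup N')
  [DirectSum.Decomposition 𝒩'] [SetLike.GradedSMul ℬ 𝒩']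

/-- `N'` is `N` with scalars restricted along `φ`. -/
structure IsRS (g : N' →ₛₗ[φ] N) : Prop where
  bij : Function.Bijective g
  deg : ∀ j x, x ∈ 𝒩' j ↔ g x ∈ 𝒩 j

variable {𝒜 ℬ φ 𝒩 𝒩'}

namespace IsRS

variable {g : N' →ₛₗ[φ] N} (hV : IsRS φ 𝒩 𝒩' g)
include hV

/-- the inverse of `g`. -/
noncomputable def inv : N →+ N' where
  toFun y := (hV.bij.2 y).choose
  map_zero' := hV.bij.1 (by rw [(hV.bij.2 0).choose_spec, map_zero])
  map_add' y z := hV.bij.1 (by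
    rw [(hV.bij.2 (y + z)).choose_spec, map_add, (hV.bij.2 y).choose_spec,
      (hV.bij.2 z).choose_spec])

lemma g_inv (y : N) : g (hV.inv y) = y := (hV.bij.2 y).choose_spec

lemma inv_g (x : N') : hV.inv (g x) = x := hV.bij.1 (hV.g_inv _)

lemma inv_smul (r : P) (y : N) : hV.inv (φ r • y) = r • hV.inv y :=
  hV.bij.1 (by rw [hV.g_inv, map_smulₛₗ, hV.g_inv])

lemma map_mem {j : ι} {x : N'} (hx : x ∈ 𝒩' j) : g x ∈ 𝒩 j := (hV.deg j x).1 hx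

lemma inv_mem {j : ι} {y : N} (hy : y ∈ 𝒩 j) : hV.inv y ∈ 𝒩' j :=
  (hV.deg j _).2 (by rw [hV.g_inv]; exact hy)

end IsRS

section Exists

variable (ℬ φ 𝒩)

include 𝒜 in
/-- restriction of scalars exists. -/
theorem exists_rs (hφ : IsGrRingHom 𝒜 ℬ φ) :
    ∃ (N' : Type u) (_ : AddCommGroup N') (_ : Module P N') (𝒩' : ι → AddSubgroup N')
      (_ : DirectSum.Decomposition 𝒩') (_ : SetLike.GradedSMul ℬ 𝒩') (g : N' →ₛₗ[φ] N),
      IsRS φ 𝒩 𝒩' g := by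
  letI mod : Module P N := Module.compHom N φ
  have hgs : SetLike.GradedSMul ℬ 𝒩 := by
    refine ⟨fun {j k} r x hr hx => ?_⟩
    change φ r • x ∈ 𝒩 (j + k)
    have := SetLike.GradedSMul.smul_mem (A := 𝒜) (B := 𝒩) (hφ j r hr) hx
    rwa [vadd_eq_add] at this
  let g : N →ₛₗ[φ] N :=
    { toFun := id, map_add' := fun _ _ => rfl, map_smul' := fun _ _ => rfl }
  exact ⟨N, inferInstance, mod, 𝒩, inferInstance, hgs, g, ⟨Function.bijective_id, fun j x => Iff.rfl⟩⟩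

end Exists

section Maps

variable {A : Type u} [AddCommGroup A] [Module R A] {𝒳 : ι → AddSubgroup A}
  [DirectSum.Decomposition 𝒳] [SetLike.GradedSMul 𝒜 𝒳]
variable {A' : Type u} [AddCommGroup A'] [Module P A'] {𝒳' : ι → AddSubgroup A'}
  [DirectSum.Decomposition 𝒳'] [SetLike.GradedSMul ℬ 𝒳']
variable {Z : Type u} [AddCommGroup Z] [Module R Z] {𝒵 : ι → AddSubgroup Z}
  [DirectSum.Decomposition 𝒵] [SetLike.GradedSMul 𝒜 𝒵]
variable {Z' : Type u} [AddCommGroup Z'] [Module P Z'] {𝒵' : ι → AddSubgroup Z'}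
  [DirectSum.Decomposition 𝒵'] [SetLike.GradedSMul ℬ 𝒵']
variable {gN : N' →ₛₗ[φ] N} {gA : A' →ₛₗ[φ] A} {gZ : Z' →ₛₗ[φ] Z}

/-- the map induced on restrictions of scalars. -/
noncomputable def rsMap (hVA : IsRS φ 𝒳 𝒳' gA) (gN : N' →ₛₗ[φ] N) (f : N →ₗ[R] A) :
    N' →ₗ[P] A' where
  toFun x := hVA.inv (f (gN x))
  map_add' x y := by rw [map_add, map_add, map_add]
  map_smul' r x := by
    rw [map_smulₛₗ, map_smul, hVA.inv_smul]
    rfl

lemma g_rsMap (hVA : IsRS φ 𝒳 𝒳' gA) (gN : N' →ₛₗ[φ] N) (f : N →ₗ[R] A) (x : N') :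
    gA (rsMap hVA gN f x) = f (gN x) := hVA.g_inv _

lemma rsMap_isGrHom (hVN : IsRS φ 𝒩 𝒩' gN) (hVA : IsRS φ 𝒳 𝒳' gA) {f : N →ₗ[R] A}
    (hf : IsGrHom 𝒩 𝒳 f) : IsGrHom 𝒩' 𝒳' (rsMap hVA gN f) := by
  intro j x hx
  apply (hVA.deg j _).2
  rw [g_rsMap]
  exact hf _ _ (hVN.map_mem hx)

lemma rsMap_injective (hVN : IsRS φ 𝒩 𝒩' gN) (hVA : IsRS φ 𝒳 𝒳' gA) {f : N →ₗ[R] A}
    (hfi : Function.Injective f) : Function.Injective (rsMap hVA gN f) := by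
  intro x y hxy
  apply hVN.bij.1
  apply hfi
  rw [← g_rsMap hVA gN f, ← g_rsMap hVA gN f, hxy]

lemma rsMap_surjective (hVN : IsRS φ 𝒩 𝒩' gN) (hVA : IsRS φ 𝒳 𝒳' gA) {f : N →ₗ[R] A}
    (hfs : Function.Surjective f) : Function.Surjective (rsMap hVA gN f) := by
  intro a
  obtain ⟨n, hn⟩ := hfs (gA a)
  refine ⟨hVN.inv n, ?_⟩
  apply hVA.bij.1
  rw [g_rsMap, hVN.g_inv, hn]

lemma rsMap_exact (hVN : IsRS φ 𝒩 𝒩' gN) (hVA : IsRS φ 𝒳 𝒳' gA) (hVZ : IsRS φ 𝒵 𝒵' gZ)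
    {u : N →ₗ[R] A} {v : A →ₗ[R] Z} (hex : LinearMap.ker v = LinearMap.range u) :
    LinearMap.ker (rsMap hVZ gA v) = LinearMap.range (rsMap hVA gN u) := by
  ext a
  rw [LinearMap.mem_ker, LinearMap.mem_range]
  constructor
  · intro ha
    have h1 : v (gA a) = 0 := by
      rw [← g_rsMap hVZ gA v, ha, map_zero]
    have h2 : gA a ∈ LinearMap.range u := by
      rw [← hex]; exact LinearMap.mem_ker.mpr h1
    obtain ⟨n, hn⟩ := h2
    refine ⟨hVN.inv n, ?_⟩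
    apply hVA.bij.1
    rw [g_rsMap, hVN.g_inv, hn]
  · rintro ⟨x, rfl⟩
    apply hVZ.bij.1
    rw [g_rsMap, g_rsMap, map_zero]
    have : u (gN x) ∈ LinearMap.ker v := by rw [hex]; exact ⟨_, rfl⟩
    exact LinearMap.mem_ker.mp this

end Maps

section Acyclic

variable {A : Type u} [AddCommGroup A] [Module R A] {𝒳 : ι → AddSubgroup A}
  [DirectSum.Decomposition 𝒳] [SetLike.GradedSMul 𝒜 𝒳]
variable {A' : Type u} [AddCommGroup A'] [Module P A'] {𝒳' : ι → AddSubgroup A'}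
  [DirectSum.Decomposition 𝒳'] [SetLike.GradedSMul ℬ 𝒳']
variable {gA : A' →ₛₗ[φ] A}

lemma map_isHomogeneous (hφ : IsGrRingHom 𝒜 ℬ φ) (b' : HomogeneousIdeal ℬ) :
    (b'.toIdeal.map φ).IsHomogeneous 𝒜 := by
  obtain ⟨S, hS⟩ := (Ideal.IsHomogeneous.iff_exists (𝒜 := ℬ) (I := b'.toIdeal)).mp b'.isHomogeneous
  rw [hS, Ideal.map_span]
  apply Ideal.homogeneous_span
  rintro _ ⟨_, ⟨s, hs, rfl⟩, rfl⟩
  obtain ⟨j, hj⟩ := s.2
  exact ⟨j, hφ j _ hj⟩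

/-- ungraded local cohomology over `P` of a *injective `R`-module vanishes. -/
theorem subsingleton_locCoh_rs [IsNoetherianRing R] [IsNoetherianRing P]
    (hφ : IsGrRingHom 𝒜 ℬ φ)
    (hVA : IsRS φ 𝒳 𝒳' gA) (hA : IsStarInj 𝒜 𝒳) (b' : HomogeneousIdeal ℬ) (p : ℕ) :
    Subsingleton (LocCoh.H b'.toIdeal (p + 1) A') := by
  letI : Algebra P R := φ.toAlgebra
  letI : Module P A := Module.compHom A φ
  haveI : IsScalarTower P R A := IsScalarTower.of_algebraMap_smul (fun r x => rfl)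
  have h7 : Subsingleton (LocCoh.H (b'.toIdeal.map φ) (p + 1) A) :=
    Groth.Agent.Lib.Helper11.GrLCOrd.subsingleton_H_of_isStarInj 𝒳 hA
      ⟨b'.toIdeal.map φ, map_isHomogeneous hφ b'⟩ p
  obtain ⟨θ, -⟩ := Groth.Agent.Lib.Helper16.DTL.semiIso_H (R := P) (R' := R) b'.toIdeal (p + 1) A
  have h6 : Subsingleton (LocCoh.H b'.toIdeal (p + 1) A) := by
    have : Subsingleton (LocCoh.H (b'.toIdeal.map (algebraMap P R)) (p + 1) A) := h7
    exact θ.symm.toEquiv.subsingleton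
  let s : A' →ₗ[P] A :=
    { toFun := gA, map_add' := map_add gA, map_smul' := fun r x => gA.map_smulₛₗ r x }
  let t : A →ₗ[P] A' :=
    { toFun := hVA.inv, map_add' := map_add _, map_smul' := fun r y => hVA.inv_smul r y }
  have hts : t ∘ₗ s = LinearMap.id := by
    apply LinearMap.ext
    intro x
    exact hVA.inv_g x
  let F := localCohomology b'.toIdeal (p + 1)
  have hF : F.map (ModuleCat.ofHom s) ≫ F.map (ModuleCat.ofHom t) = 𝟙 _ := by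
    rw [← F.map_comp, ← ModuleCat.ofHom_comp, hts]
    exact F.map_id _
  refine ⟨fun x y => ?_⟩
  have hx : ∀ x : F.obj (ModuleCat.of P A'), x = 0 := by
    intro x
    have h1 : (F.map (ModuleCat.ofHom s) ≫ F.map (ModuleCat.ofHom t)).hom x = x := by
      rw [hF]; rfl
    rw [ModuleCat.hom_comp, LinearMap.comp_apply] at h1
    have h2 : (F.map (ModuleCat.ofHom s)).hom x = 0 := h6.elim _ _
    rw [h2, map_zero] at h1
    exact h1.symm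
  rw [hx x, hx y]

/-- graded local cohomology over `P` of a *injective `R`-module vanishes. -/
theorem subsingleton_H_rs [IsNoetherianRing R] [IsNoetherianRing P] (hφ : IsGrRingHom 𝒜 ℬ φ)
    (hVA : IsRS φ 𝒳 𝒳' gA) (hA : IsStarInj 𝒜 𝒳) (b' : HomogeneousIdeal ℬ)
    (FA : StarInjRes ℬ 𝒳') (p : ℕ) : Subsingleton (FA.H b' (p + 1)) := by
  obtain ⟨e⟩ := Groth.Agent.Lib.Helper11.GrLCOrd.nonempty_H_equiv FA b' (p + 1)
  have := subsingleton_locCoh_rs hφ hVA hA b' p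
  exact e.toEquiv.subsingleton

end Acyclic

section Cmp

/-- The comparison statement in cohomological degree `p` for given resolutions. -/
def Cmp (φ : P →+* R) (b : HomogeneousIdeal 𝒜) (b' : HomogeneousIdeal ℬ)
    (E : StarInjRes 𝒜 𝒩) (F : StarInjRes ℬ 𝒩') (p : ℕ) : Prop :=
  ∃ Φ : F.H b' p →ₛₗ[φ] E.H b p, Function.Injective Φ ∧
    (∀ j x, x ∈ F.Hcomp b' p j → Φ x ∈ E.Hcomp b p j) ∧
    (∀ j y, y ∈ E.Hcomp b p j → ∃ x ∈ F.Hcomp b' p j, Φ x = y)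

theorem cmp_zero (b : HomogeneousIdeal 𝒜) (b' : HomogeneousIdeal ℬ)
    (h1 : b'.toIdeal.map φ ≤ b.toIdeal) (h2 : ∃ K, b.toIdeal ^ K ≤ b'.toIdeal.map φ)
    {g : N' →ₛₗ[φ] N} (hV : IsRS φ 𝒩 𝒩' g) (E : StarInjRes 𝒜 𝒩) (F : StarInjRes ℬ 𝒩') :
    Cmp φ b b' E F 0 := by
  let e0 : ↥(gam b'.toIdeal N') ≃ₗ[P] F.H b' 0 :=
    LinearEquiv.ofBijective (h0 F b') ⟨h0_injective F b', h0_surjective F b'⟩
  let θ := gamMap g b.toIdeal b'.toIdeal h2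
  let Φ₁ : F.H b' 0 →ₛₗ[φ] ↥(gam b.toIdeal N) := θ.comp e0.symm.toLinearMap
  let Φ : F.H b' 0 →ₛₗ[φ] E.H b 0 := (h0 E b).comp Φ₁
  have hΦ : ∀ z : ↥(gam b'.toIdeal N'), Φ (h0 F b' z) = h0 E b (θ z) := by
    intro z
    change h0 E b (θ (e0.symm (e0 z))) = _
    rw [e0.symm_apply_apply]
  refine ⟨Φ, ?_, ?_, ?_⟩
  · intro x y hxy
    obtain ⟨z, rfl⟩ := h0_surjective F b' x
    obtain ⟨w, rfl⟩ := h0_surjective F b' y
    rw [hΦ, hΦ] at hxy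
    have h3 := h0_injective E b hxy
    have h4 : g (z : N') = g (w : N') := congrArg Subtype.val h3
    rw [Subtype.ext (hV.bij.1 h4)]
  · intro j x hx
    obtain ⟨z, hz, rfl⟩ := exists_h0_eq F b' hx
    rw [hΦ]
    exact h0_mem E b _ (hV.map_mem hz)
  · intro j y hy
    obtain ⟨w, hw, rfl⟩ := exists_h0_eq E b hy
    have hzw : g (hV.inv (w : N)) = (w : N) := hV.g_inv _
    have hzg : hV.inv (w : N) ∈ gam b'.toIdeal N' :=
      mem_gam_of_map_mem g hV.bij.1 b'.toIdeal b.toIdeal h1 (by rw [hzw]; exact w.2)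
    refine ⟨h0 F b' ⟨hV.inv (w : N), hzg⟩, h0_mem F b' _ (hV.inv_mem hw), ?_⟩
    rw [hΦ]
    congr 1
    exact Subtype.ext hzw

end Cmp

/-- The comparison statement in cohomological degree `p`, for all modules and resolutions. -/
def Claim (𝒜 : ι → AddSubgroup R) [GradedRing 𝒜] (ℬ : ι → AddSubgroup P) [GradedRing ℬ]
    (φ : P →+* R) (b : HomogeneousIdeal 𝒜) (b' : HomogeneousIdeal ℬ) (p : ℕ) : Prop :=
  ∀ (N : Type u) [AddCommGroup N] [Module R N] (𝒩 : ι → AddSubgroup N)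
    [DirectSum.Decomposition 𝒩] [SetLike.GradedSMul 𝒜 𝒩]
    (N' : Type u) [AddCommGroup N'] [Module P N'] (𝒩' : ι → AddSubgroup N')
    [DirectSum.Decomposition 𝒩'] [SetLike.GradedSMul ℬ 𝒩']
    (g : N' →ₛₗ[φ] N) (_ : IsRS φ 𝒩 𝒩' g) (E : StarInjRes 𝒜 𝒩) (F : StarInjRes ℬ 𝒩'),
    Cmp φ b b' E F p

theorem cmp_step_aux [IsNoetherianRing R] [IsNoetherianRing P] (hφ : IsGrRingHom 𝒜 ℬ φ)
    (b : HomogeneousIdeal 𝒜) (b' : HomogeneousIdeal ℬ)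
    (h1 : b'.toIdeal.map φ ≤ b.toIdeal) (h2 : ∃ K, b.toIdeal ^ K ≤ b'.toIdeal.map φ)
    {g : N' →ₛₗ[φ] N} (hV : IsRS φ 𝒩 𝒩' g) (E : StarInjRes 𝒜 𝒩) (F : StarInjRes ℬ 𝒩')
    {Z : Type u} [AddCommGroup Z] [Module R Z] (𝒵 : ι → AddSubgroup Z)
    [DirectSum.Decomposition 𝒵] [SetLike.GradedSMul 𝒜 𝒵]
    (v : (E.X 0).carrier →ₗ[R] Z) (hv : IsGrHom (E.X 0).gr 𝒵 v) (hvs : Function.Surjective v)
    (hex : LinearMap.ker v = LinearMap.range E.ε) :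
    Cmp φ b b' E F 1 ∧ ∀ p, Claim 𝒜 ℬ φ b b' (p + 1) → Cmp φ b b' E F (p + 2) := by
  obtain ⟨A', _, _, 𝒳', _, _, gA, hVA⟩ := exists_rs (𝒜 := 𝒜) ℬ φ (E.X 0).gr hφ
  obtain ⟨Z', _, _, 𝒵', _, _, gZ, hVZ⟩ := exists_rs (𝒜 := 𝒜) ℬ φ 𝒵 hφ
  have hu' : IsGrHom 𝒩' 𝒳' (rsMap hVA g E.ε) := rsMap_isGrHom hV hVA E.ε_grHom
  have hv' : IsGrHom 𝒳' 𝒵' (rsMap hVZ gA v) := rsMap_isGrHom hVA hVZ hv
  have hui' := rsMap_injective hV hVA E.ε_injective
  have hvs' := rsMap_surjective hVA hVZ hvs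
  have hex' := rsMap_exact hV hVA hVZ hex
  obtain ⟨EA⟩ := nonempty_starInjRes 𝒜 (E.X 0).gr
  obtain ⟨EZ⟩ := nonempty_starInjRes 𝒜 𝒵
  obtain ⟨FA⟩ := nonempty_starInjRes ℬ 𝒳'
  obtain ⟨FZ⟩ := nonempty_starInjRes ℬ 𝒵'
  have hacE : ∀ p, Subsingleton (EA.H b (p + 1)) := fun p => by
    obtain ⟨e⟩ := Groth.Agent.Lib.Helper11.GrLCOrd.nonempty_H_equiv EA b (p + 1)
    have := Groth.Agent.Lib.Helper11.GrLCOrd.subsingleton_H_of_isStarInj (E.X 0).gr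
      (E.starInj 0) b p
    exact e.toEquiv.subsingleton
  have hacF : ∀ p, Subsingleton (FA.H b' (p + 1)) :=
    fun p => subsingleton_H_rs hφ hVA (E.starInj 0) b' FA p
  obtain ⟨shE, σE, hσEs, hσEk, hσEd, hσEd'⟩ :=
    exists_shift E EA EZ E.ε v E.ε_grHom hv E.ε_injective hvs hex b hacE
  obtain ⟨shF, σF, hσFs, hσFk, hσFd, hσFd'⟩ :=
    exists_shift F FA FZ (rsMap hVA g E.ε) (rsMap hVZ gA v) hu' hv' hui' hvs' hex' b' hacF
  constructor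
  · let θZ := gamMap gZ b.toIdeal b'.toIdeal h2
    let Ψ : ↥(gam b'.toIdeal Z') →ₛₗ[φ] E.H b 1 := σE.comp θZ
    have hle : LinearMap.ker σF ≤ LinearMap.ker Ψ := by
      intro z hz
      rw [LinearMap.mem_ker] at hz ⊢
      obtain ⟨x, hx⟩ := (hσFk z).mp hz
      change σE (θZ z) = 0
      apply (hσEk _).mpr
      refine ⟨⟨gA (x : A'), map_mem_gam' gA b'.toIdeal b.toIdeal h2 x.2⟩, ?_⟩
      change v (gA (x : A')) = gZ (z : Z')
      rw [← g_rsMap hVZ gA v, hx]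
    let qe := σF.quotKerEquivOfSurjective hσFs
    let Φ : F.H b' 1 →ₛₗ[φ] E.H b 1 :=
      ((LinearMap.ker σF).liftQ Ψ hle).comp qe.symm.toLinearMap
    have hΦ : ∀ z, Φ (σF z) = σE (θZ z) := by
      intro z
      have h3 : qe.symm (σF z) = Submodule.Quotient.mk z := by
        rw [LinearEquiv.symm_apply_eq]
        rfl
      change (LinearMap.ker σF).liftQ Ψ hle (qe.symm (σF z)) = _
      rw [h3]
      rfl
    refine ⟨Φ, ?_, ?_, ?_⟩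
    · rw [injective_iff_map_eq_zero]
      intro x hx
      obtain ⟨z, rfl⟩ := hσFs x
      rw [hΦ] at hx
      obtain ⟨a, ha⟩ := (hσEk _).mp hx
      have ha2 : v (a : (E.X 0).carrier) = gZ (z : Z') := ha
      have hga' : gA (hVA.inv (a : (E.X 0).carrier)) ∈ gam b.toIdeal (E.X 0).carrier := by
        rw [hVA.g_inv]; exact a.2
      have ha'g : hVA.inv (a : (E.X 0).carrier) ∈ gam b'.toIdeal A' :=
        mem_gam_of_map_mem gA hVA.bij.1 b'.toIdeal b.toIdeal h1 hga'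
      apply (hσFk z).mpr
      refine ⟨⟨hVA.inv (a : (E.X 0).carrier), ha'g⟩, ?_⟩
      apply hVZ.bij.1
      change gZ (rsMap hVZ gA v (hVA.inv (a : (E.X 0).carrier))) = gZ (z : Z')
      rw [g_rsMap, hVA.g_inv, ha2]
    · intro j x hx
      obtain ⟨z, hz, rfl⟩ := hσFd' j x hx
      rw [hΦ]
      exact hσEd j _ (hVZ.map_mem hz)
    · intro j y hy
      obtain ⟨w, hw, rfl⟩ := hσEd' j y hy
      have hzw : gZ (hVZ.inv (w : Z)) = (w : Z) := hVZ.g_inv _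
      have hzg : hVZ.inv (w : Z) ∈ gam b'.toIdeal Z' :=
        mem_gam_of_map_mem gZ hVZ.bij.1 b'.toIdeal b.toIdeal h1 (by rw [hzw]; exact w.2)
      refine ⟨σF ⟨hVZ.inv (w : Z), hzg⟩, hσFd j _ (hVZ.inv_mem hw), ?_⟩
      rw [hΦ]
      congr 1
      exact Subtype.ext hzw
  · intro p ih
    obtain ⟨ΦZ, hinj, hd, hd'⟩ := ih Z 𝒵 Z' 𝒵' gZ hVZ EZ FZ
    obtain ⟨eE, heE, heE'⟩ := shE p
    obtain ⟨eF, heF, heF'⟩ := shF p
    let Φ₁ : F.H b' (p + 2) →ₛₗ[φ] EZ.H b (p + 1) := ΦZ.comp eF.symm.toLinearMap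
    let Φ : F.H b' (p + 2) →ₛₗ[φ] E.H b (p + 2) := eE.toLinearMap.comp Φ₁
    refine ⟨Φ, ?_, ?_, ?_⟩
    · exact eE.injective.comp (hinj.comp eF.symm.injective)
    · intro j x hx
      exact heE _ _ (hd j _ (heF' j x hx))
    · intro j y hy
      obtain ⟨x, hx, hxy⟩ := hd' j _ (heE' _ y hy)
      refine ⟨eF x, heF j x hx, ?_⟩
      change eE (ΦZ (eF.symm (eF x))) = y
      rw [eF.symm_apply_apply, hxy, eE.apply_symm_apply]

theorem cmp_step [IsNoetherianRing R] [IsNoetherianRing P] (hφ : IsGrRingHom 𝒜 ℬ φ)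
    (b : HomogeneousIdeal 𝒜) (b' : HomogeneousIdeal ℬ)
    (h1 : b'.toIdeal.map φ ≤ b.toIdeal) (h2 : ∃ K, b.toIdeal ^ K ≤ b'.toIdeal.map φ)
    {g : N' →ₛₗ[φ] N} (hV : IsRS φ 𝒩 𝒩' g) (E : StarInjRes 𝒜 𝒩) (F : StarInjRes ℬ 𝒩') :
    Cmp φ b b' E F 1 ∧ ∀ p, Claim 𝒜 ℬ φ b b' (p + 1) → Cmp φ b b' E F (p + 2) := by
  have hmem : ∀ x, E.d 0 x ∈ LinearMap.ker (E.d 1) :=
    fun x => LinearMap.mem_ker.mpr (ConeData.d_d_apply E 0 x)
  let v : (E.X 0).carrier →ₗ[R] (Z1 E).carrier :=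
    LinearMap.codRestrict (LinearMap.ker (E.d 1)) (E.d 0) hmem
  refine cmp_step_aux hφ b b' h1 h2 hV E F (Z1 E).gr v ?_ ?_ ?_
  · intro j x hx
    exact E.d_grHom 0 j x hx
  · rintro ⟨y, hy⟩
    rw [E.exact_succ 0] at hy
    obtain ⟨x, rfl⟩ := hy
    exact ⟨x, rfl⟩
  · rw [← E.exact_zero]
    exact LinearMap.ker_codRestrict (LinearMap.ker (E.d 1)) (E.d 0) hmem

theorem claim_all [IsNoetherianRing R] [IsNoetherianRing P] (hφ : IsGrRingHom 𝒜 ℬ φ)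
    (b : HomogeneousIdeal 𝒜) (b' : HomogeneousIdeal ℬ)
    (h1 : b'.toIdeal.map φ ≤ b.toIdeal) (h2 : ∃ K, b.toIdeal ^ K ≤ b'.toIdeal.map φ) :
    ∀ p, Claim 𝒜 ℬ φ b b' p
  | 0 => fun N _ _ 𝒩 _ _ N' _ _ 𝒩' _ _ g hV E F => cmp_zero b b' h1 h2 hV E F
  | 1 => fun N _ _ 𝒩 _ _ N' _ _ 𝒩' _ _ g hV E F => (cmp_step hφ b b' h1 h2 hV E F).1
  | p + 2 => fun N _ _ 𝒩 _ _ N' _ _ 𝒩' _ _ g hV E F =>
    (cmp_step hφ b b' h1 h2 hV E F).2 p (claim_all hφ b b' h1 h2 (p + 1))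

/-- **Independence of the base ring**, degree by degree: vanishing of a piece of `*H` over `P`
is equivalent to vanishing of the piece over `R`. -/
theorem vanish_iff [IsNoetherianRing R] [IsNoetherianRing P] (hφ : IsGrRingHom 𝒜 ℬ φ)
    (b : HomogeneousIdeal 𝒜) (b' : HomogeneousIdeal ℬ)
    (h1 : b'.toIdeal.map φ ≤ b.toIdeal) (h2 : ∃ K, b.toIdeal ^ K ≤ b'.toIdeal.map φ)
    {g : N' →ₛₗ[φ] N} (hV : IsRS φ 𝒩 𝒩' g) (E : StarInjRes 𝒜 𝒩) (F : StarInjRes ℬ 𝒩')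
    (p : ℕ) (j : ι) :
    (∀ x, x ∈ F.Hgr b' p j → x = 0) ↔ (∀ y, y ∈ E.Hgr b p j → y = 0) := by
  obtain ⟨Φ, hinj, hd, hd'⟩ := claim_all hφ b b' h1 h2 p N 𝒩 N' 𝒩' g hV E F
  constructor
  · intro h y hy
    obtain ⟨x, hx, rfl⟩ := hd' j y hy
    rw [h x hx, map_zero]
  · intro h x hx
    apply hinj
    rw [h _ (hd j x hx), map_zero]

end Groth.Agent.Lib27.RS
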