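import Groth.Agent.Lib27.Kos6
import Groth.Agent.Lib27.RS1
import Groth.Agent.Lib.Helper11.GrLesH
import Groth.Agent.Lib.Helper11.GrVanA
import Groth.Agent.Lib.Helper11.GrCanC

/-!
# `a(R) ≥ -dim R` for a standard graded Cohen–Macaulay ring with Artinian degree-zero part
-/

set_option autoImplicit false
set_option linter.unusedSectionVars false
set_option linter.unusedVariables false
set_option linter.style.haveILetI false
universe u

namespace Groth.Agent.Lib27.Kos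

open DirectSum GrLC Groth.Agent.Lib.Helper11.GrLCLib Groth.Agent.Lib.Helper11.GrLes
  Groth.Agent.Lib27.LD Groth.Agent.Lib27.RS

variable {R : Type u} [CommRing R] {𝒜 : ℤ → AddSubgroup R} [GradedRing 𝒜]

section Zero

lemma cp_neg (hpos : ∀ n : ℤ, n < 0 → 𝒜 n = ⊥) (e : ℤ) (r : R) (he : e < 0) :
    (decompose 𝒜 r e : R) = 0 := by
  have hmem : ((decompose 𝒜 r e : 𝒜 e) : R) ∈ (⊥ : AddSubgroup R) := hpos e he ▸ SetLike.coe_mem _
  exact (AddSubgroup.mem_bot).1 hmem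

/-- the degree-zero component is multiplicative on a non-negatively graded ring. -/
lemma cp0_mul (hpos : ∀ n : ℤ, n < 0 → 𝒜 n = ⊥) (r y : R) :
    (decompose 𝒜 (r * y) 0 : R) = (decompose 𝒜 r 0 : R) * (decompose 𝒜 y 0 : R) := by
  classical
  conv_lhs => rw [← DirectSum.sum_support_decompose 𝒜 y]
  rw [Finset.mul_sum, decompose_sum, DFinsupp.finsetSum_apply, AddSubmonoidClass.coe_finsetSum]
  have hterm : ∀ q : ℤ, (decompose 𝒜 (r * (decompose 𝒜 y q : R)) 0 : R) =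
      if q = 0 then (decompose 𝒜 r 0 : R) * (decompose 𝒜 y 0 : R) else 0 := by
    intro q
    have h1 : (0 : ℤ) = (0 - q) + q := by ring
    have := DirectSum.coe_decompose_mul_add_of_right_mem 𝒜 (i := 0 - q) (a := r)
      (SetLike.coe_mem (decompose 𝒜 y q))
    rw [← h1] at this
    rw [this]
    split_ifs with hq
    · subst hq
      rw [sub_self]
    · rcases lt_or_gt_of_ne hq with h | h
      · rw [cp_neg hpos q y h, mul_zero]
      · rw [cp_neg hpos (0 - q) r (by omega), zero_mul]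
  rw [Finset.sum_congr rfl (fun q _ => hterm q)]
  rw [Finset.sum_ite_eq']
  split_ifs with h0
  · rfl
  · rw [DFinsupp.notMem_support_iff.1 h0, ZeroMemClass.coe_zero, mul_zero]

end Zero

section Irr

variable (𝒜)

/-- the irrelevant ideal. -/
def irr : HomogeneousIdeal 𝒜 :=
  ⟨Ideal.span (⋃ n ∈ Set.Ioi (0 : ℤ), (𝒜 n : Set R)), by
    apply Ideal.homogeneous_span
    intro y hy
    obtain ⟨n, -, hn⟩ := Set.mem_iUnion₂.1 hy
    exact ⟨n, hn⟩⟩

lemma irr_toIdeal : (irr 𝒜).toIdeal = Ideal.span (⋃ n ∈ Set.Ioi (0 : ℤ), (𝒜 n : Set R)) := rfl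

/-- the homogeneous ideal `P₀ R + R_+`. -/
def bigJ (P₀ : Ideal (GrLC.deg0 𝒜)) : Ideal R :=
  Ideal.span (((↑) : GrLC.deg0 𝒜 → R) '' (P₀ : Set (GrLC.deg0 𝒜)) ∪
    ⋃ n ∈ Set.Ioi (0 : ℤ), (𝒜 n : Set R))

lemma bigJ_isHomogeneous (P₀ : Ideal (GrLC.deg0 𝒜)) : (bigJ 𝒜 P₀).IsHomogeneous 𝒜 := by
  apply Ideal.homogeneous_span
  rintro y (⟨c, -, rfl⟩ | hy)
  · exact ⟨0, c.2⟩
  · obtain ⟨n, -, hn⟩ := Set.mem_iUnion₂.1 hy
    exact ⟨n, hn⟩

lemma irr_le_bigJ (P₀ : Ideal (GrLC.deg0 𝒜)) : (irr 𝒜).toIdeal ≤ bigJ 𝒜 P₀ :=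
  Ideal.span_mono Set.subset_union_right

lemma coe_mem_bigJ (P₀ : Ideal (GrLC.deg0 𝒜)) (c : GrLC.deg0 𝒜) (hc : c ∈ P₀) :
    (c : R) ∈ bigJ 𝒜 P₀ :=
  Ideal.subset_span (Or.inl ⟨c, hc, rfl⟩)

variable {𝒜}

lemma cp0_mem_of_mem_bigJ (hpos : ∀ n : ℤ, n < 0 → 𝒜 n = ⊥) (P₀ : Ideal (GrLC.deg0 𝒜)) (y : R)
    (hy : y ∈ bigJ 𝒜 P₀) :
    (⟨(decompose 𝒜 y 0 : R), SetLike.coe_mem _⟩ : GrLC.deg0 𝒜) ∈ P₀ := by
  classical
  have key : ∀ w ∈ bigJ 𝒜 P₀, ∀ c : GrLC.deg0 𝒜, (c : R) = (decompose 𝒜 w 0 : R) → c ∈ P₀ := by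
    intro w hw
    unfold bigJ at hw
    induction hw using Submodule.span_induction with
    | mem w hw =>
      intro c hc
      rcases hw with ⟨c', hc', rfl⟩ | hw
      · rw [decompose_of_mem_same 𝒜 c'.2] at hc
        rw [Subtype.ext hc]
        exact hc'
      · obtain ⟨n, hn0, hn⟩ := Set.mem_iUnion₂.1 hw
        rw [decompose_of_mem_ne 𝒜 hn (ne_of_gt hn0)] at hc
        have : c = 0 := Subtype.ext hc
        rw [this]
        exact zero_mem _
    | zero =>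
      intro c hc
      rw [decompose_zero, DirectSum.zero_apply, ZeroMemClass.coe_zero] at hc
      have : c = 0 := Subtype.ext hc
      rw [this]
      exact zero_mem _
    | add w w' _ _ h h' =>
      intro c hc
      rw [decompose_add, DirectSum.add_apply, AddSubgroup.coe_add] at hc
      have : c = ⟨(decompose 𝒜 w 0 : R), SetLike.coe_mem _⟩ +
          ⟨(decompose 𝒜 w' 0 : R), SetLike.coe_mem _⟩ := Subtype.ext hc
      rw [this]
      exact add_mem (h _ rfl) (h' _ rfl)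
    | smul r w _ h =>
      intro c hc
      rw [smul_eq_mul, cp0_mul hpos] at hc
      have : c = ⟨(decompose 𝒜 r 0 : R), SetLike.coe_mem _⟩ *
          ⟨(decompose 𝒜 w 0 : R), SetLike.coe_mem _⟩ := Subtype.ext hc
      rw [this]
      exact Ideal.mul_mem_left _ _ (h _ rfl)
  exact key y hy _ rfl

lemma bigJ_ne_top (hpos : ∀ n : ℤ, n < 0 → 𝒜 n = ⊥) (P₀ : Ideal (GrLC.deg0 𝒜)) (hP : P₀ ≠ ⊤) :
    bigJ 𝒜 P₀ ≠ ⊤ := by
  intro h
  apply hP
  rw [Ideal.eq_top_iff_one]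
  have h1 : (1 : R) ∈ bigJ 𝒜 P₀ := h ▸ Submodule.mem_top
  have := cp0_mem_of_mem_bigJ hpos P₀ 1 h1
  have e : (⟨(decompose 𝒜 (1 : R) 0 : R), SetLike.coe_mem _⟩ : GrLC.deg0 𝒜) = 1 := by
    apply Subtype.ext
    exact decompose_of_mem_same 𝒜 (SetLike.GradedOne.one_mem : (1 : R) ∈ 𝒜 0)
  rwa [e] at this

end Irr

section Local

variable [IsNoetherianRing R]

/-- for a *local ring with Artinian degree-zero part, `m` and `R_+` have the same radical. -/
theorem irr_le_and_pow_le (hpos : ∀ n : ℤ, n < 0 → 𝒜 n = ⊥) [IsArtinianRing (GrLC.deg0 𝒜)]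
    (m : HomogeneousIdeal 𝒜) (hm : GrLC.IsStarLocal 𝒜 m) :
    (irr 𝒜).toIdeal ≤ m.toIdeal ∧ ∃ K : ℕ, m.toIdeal ^ K ≤ (irr 𝒜).toIdeal := by
  classical
  have hmax := isMaximal_of_isCoatom 𝒜 hpos hm.1
  have hm1 : (1 : R) ∉ m.toIdeal := fun h => hmax.ne_top ((Ideal.eq_top_iff_one _).2 h)
  have hJm : ∀ P₀ : Ideal (GrLC.deg0 𝒜), P₀ ≠ ⊤ → bigJ 𝒜 P₀ ≤ m.toIdeal := fun P₀ hP =>
    le_of_isHomogeneous_ne_top 𝒜 hm _ (bigJ_isHomogeneous 𝒜 P₀) (bigJ_ne_top hpos P₀ hP)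
  haveI : Nontrivial (GrLC.deg0 𝒜) := by
    refine ⟨⟨0, 1, fun h01 => hm1 ?_⟩⟩
    have : (0 : R) = 1 := congrArg Subtype.val h01
    rw [← this]
    exact zero_mem _
  constructor
  · obtain ⟨P₀, hP₀⟩ := Ideal.exists_maximal (GrLC.deg0 𝒜)
    exact (irr_le_bigJ 𝒜 P₀).trans (hJm P₀ hP₀.ne_top)
  · apply Ideal.exists_pow_le_of_le_radical_of_fg _ (IsNoetherian.noetherian _)
    intro r hr
    rw [← DirectSum.sum_support_decompose 𝒜 r]
    refine Ideal.sum_mem _ fun e _ => ?_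
    have hre : (decompose 𝒜 r e : R) ∈ m.toIdeal := m.isHomogeneous e hr
    rcases lt_trichotomy e 0 with he | he | he
    · rw [cp_neg hpos e r he]
      exact zero_mem _
    · subst he
      -- a degree-zero element of `m` is nilpotent
      obtain ⟨c, hc⟩ : ∃ c : GrLC.deg0 𝒜, (c : R) = (decompose 𝒜 r 0 : R) :=
        ⟨⟨_, SetLike.coe_mem _⟩, rfl⟩
      have hnil : IsNilpotent c := by
        rw [nilpotent_iff_mem_prime]
        intro P₀ hP₀
        by_contra hcP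
        haveI := hP₀
        have hPmax : P₀.IsMaximal := IsArtinianRing.isMaximal_of_isPrime P₀
        obtain ⟨t, p, hp, htp⟩ := hPmax.exists_inv hcP
        apply hm1
        have h1 : ((t * c + p : GrLC.deg0 𝒜) : R) = 1 := by rw [htp]; rfl
        rw [← h1]
        push_cast
        refine add_mem (Ideal.mul_mem_left _ _ ?_) (hJm P₀ hP₀.ne_top (coe_mem_bigJ 𝒜 P₀ p hp))
        rw [hc]
        exact hre
      obtain ⟨k, hk⟩ := hnil
      refine ⟨k, ?_⟩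
      rw [← hc]
      have : ((c ^ k : GrLC.deg0 𝒜) : R) = 0 := by rw [hk]; rfl
      have e2 : ((c ^ k : GrLC.deg0 𝒜) : R) = (c : R) ^ k := by push_cast; rfl
      rw [← e2, this]
      exact zero_mem _
    · apply Ideal.le_radical
      apply Ideal.subset_span
      exact Set.mem_iUnion₂.2 ⟨e, Set.mem_Ioi.2 he, SetLike.coe_mem _⟩

end Local

section Main

variable (R) [LocCoh.IsCohenMacaulayRing R] (𝒜)

theorem neg_dim_le_endDeg (hpos : ∀ n : ℤ, n < 0 → 𝒜 n = ⊥)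
    (hstd : Ideal.span (⋃ n ∈ Set.Ioi (0 : ℤ), (𝒜 n : Set R)) =
      Ideal.span ((𝒜 1 : AddSubgroup R) : Set R))
    [IsArtinianRing (GrLC.deg0 𝒜)] (m : HomogeneousIdeal 𝒜) (hm : GrLC.IsStarLocal 𝒜 m)
    (d : ℕ) (hd : ringKrullDim R = d) (I : GrLC.StarInjRes 𝒜 𝒜) :
    cc (-(d : ℤ)) ≤ GrLC.endDeg (I.Hgr m d) := by
  classical
  have hmax := isMaximal_of_isCoatom 𝒜 hpos hm.1
  have hm1 : (1 : R) ∉ m.toIdeal := fun h => hmax.ne_top ((Ideal.eq_top_iff_one _).2 h)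
  have hht : m.toIdeal.height = d := by
    have := ringKrullDim_eq_height 𝒜 hpos hm
    rw [hd] at this
    exact_mod_cast this.symm
  obtain ⟨h1, h2⟩ := irr_le_and_pow_le hpos m hm
  obtain ⟨s, x, hx, hxspan⟩ := exists_fin_gens (R := R) ((𝒜 1 : AddSubgroup R) : Set R)
  have ha : (irr 𝒜).toIdeal = Ideal.span (Set.range x) := by rw [irr_toIdeal, hstd, hxspan]
  by_contra hlt
  -- comparison of supports `R_+` and `m`
  have hφ : IsGrRingHom 𝒜 𝒜 (RingHom.id R) := fun j y hy => hy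
  have hV : IsRS (RingHom.id R) 𝒜 𝒜 (LinearMap.id : R →ₗ[R] R) :=
    ⟨Function.bijective_id, fun j y => Iff.rfl⟩
  have hcmp := fun (p : ℕ) (j : ℤ) => vanish_iff hφ m (irr 𝒜)
    (by rw [Ideal.map_id]; exact h1) (by rw [Ideal.map_id]; exact h2) hV I I p j
  have hvan : ∀ i : ℕ, Van (𝒜 := 𝒜) 𝒜 (irr 𝒜) i ((0 : ℤ) - i) := by
    intro i
    apply van_of_res I
    apply (hcmp i _).2
    intro z hz
    rcases lt_trichotomy i d with h | h | h
    · haveI := subsingleton_H_of_lt_height 𝒜 m hmax I d (le_of_eq hht.symm) i h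
      exact Subsingleton.elim _ _
    · subst h
      by_contra hz0
      apply hlt
      have hne : I.Hgr m i ((0 : ℤ) - i) ≠ ⊥ := by
        intro hbot
        rw [hbot] at hz
        exact hz0 ((AddSubgroup.mem_bot).1 hz)
      have := le_endDeg (I.Hgr m i) hne
      rwa [zero_sub] at this
    · haveI := Groth.Agent.Lib.Helper11.GrVan.subsingleton_H_of_height_lt hm.1 I d hht i h
      exact Subsingleton.elim _ _
  obtain ⟨g, hg, h1g⟩ := gen_step 𝒜 hx ha 0 hvan 1 (SetLike.GradedOne.one_mem : (1 : R) ∈ 𝒜 0)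
  apply hm1
  rw [h1g]
  refine Ideal.sum_mem _ fun j _ => ?_
  have : g j = 0 := by
    have hmem : g j ∈ (⊥ : AddSubgroup R) := hpos (0 - 1) (by norm_num) ▸ hg j
    exact (AddSubgroup.mem_bot).1 hmem
  rw [this, smul_zero]
  exact zero_mem _

end Main

end Groth.Agent.Lib27.Kos
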