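import Groth.Agent.Lib27.GrArt
import Groth.Agent.Lib27.Kos7
import Groth.Agent.Lib.Helper11.GrCoreB

/-!
# Finiteness facts for graded modules over Noetherian non-negatively graded rings
-/

set_option autoImplicit false
set_option linter.unusedSectionVars false
set_option linter.unusedVariables false
set_option linter.style.haveILetI false
universe u

namespace Groth.Agent.Lib27.GrFin

open DirectSum GrLC Groth.Agent.Lib.Helper11.GrLCLib Groth.Agent.Lib.Helper11.GrLes
  Groth.Agent.Lib27.GrArt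

variable {R : Type u} [CommRing R] {𝒜 : ℤ → AddSubgroup R} [GradedRing 𝒜]
variable {N : Type u} [AddCommGroup N] [Module R N] (𝒩 : ℤ → AddSubgroup N)
  [DirectSum.Decomposition 𝒩] [SetLike.GradedSMul 𝒜 𝒩]

/-- the pieces of a Noetherian graded module are Noetherian over the degree-zero subring. -/
theorem isNoetherian_piece [IsNoetherian R N] (n : ℤ)
    (C : Submodule (GrLC.deg0 𝒜) N) (hC : ∀ z, z ∈ C ↔ z ∈ 𝒩 n) :
    IsNoetherian (GrLC.deg0 𝒜) C := by
  classical
  let f : Submodule (GrLC.deg0 𝒜) C → Submodule R N := fun U =>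
    Submodule.span R (((↑) : C → N) '' (U : Set C))
  have hmono : Monotone f := fun U U' h => Submodule.span_mono (Set.image_mono h)
  have hback : ∀ (U : Submodule (GrLC.deg0 𝒜) C) (z : C), (z : N) ∈ f U → z ∈ U := by
    intro U z hz
    have key : ∀ w ∈ f U, ∀ r : R, ∃ u ∈ U, ((u : C) : N) = (decompose 𝒩 (r • w) n : N) := by
      intro w hw
      induction hw using Submodule.span_induction with
      | mem w hw =>
        intro r
        obtain ⟨u, hu, rfl⟩ := hw
        have hun : (u : N) ∈ 𝒩 n := (hC _).1 u.2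
        rw [decompose_smul_of_mem (𝒜 := 𝒜) 𝒩 hun, sub_self]
        let c : GrLC.deg0 𝒜 := ⟨(decompose 𝒜 r 0 : R), SetLike.coe_mem _⟩
        exact ⟨c • u, U.smul_mem c hu, rfl⟩
      | zero =>
        intro r
        exact ⟨0, zero_mem _, by
          rw [smul_zero, decompose_zero, DirectSum.zero_apply, ZeroMemClass.coe_zero]; rfl⟩
      | add w w' _ _ h h' =>
        intro r
        obtain ⟨u, hu, e⟩ := h r
        obtain ⟨u', hu', e'⟩ := h' r
        refine ⟨u + u', add_mem hu hu', ?_⟩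
        rw [smul_add, decompose_add, DirectSum.add_apply, AddSubgroup.coe_add, ← e, ← e']
        rfl
      | smul c w _ h =>
        intro r
        rw [smul_smul]
        exact h (r * c)
    obtain ⟨u, hu, e⟩ := key _ hz 1
    rw [one_smul, decompose_of_mem_same 𝒩 ((hC _).1 z.2)] at e
    have : u = z := Subtype.ext e
    rw [← this]
    exact hu
  have hstrict : StrictMono f := by
    intro U U' hlt
    refine lt_of_le_of_ne (hmono hlt.le) ?_
    intro heq
    apply hlt.not_ge
    intro z hz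
    apply hback U z
    rw [heq]
    exact Submodule.subset_span ⟨z, hz, rfl⟩
  haveI : WellFoundedGT (Submodule R N) := inferInstance
  exact isNoetherian_iff'.mpr hstrict.wellFoundedGT

variable (𝒜) in
/-- the degree-zero subring of a Noetherian graded ring is Noetherian. -/
theorem isNoetherianRing_deg0 [IsNoetherianRing R] : IsNoetherianRing (GrLC.deg0 𝒜) := by
  haveI : IsNoetherian (GrLC.deg0 𝒜) (GrLC.comp 𝒜 𝒜 0) :=
    isNoetherian_piece (𝒜 := 𝒜) 𝒜 0 (GrLC.comp 𝒜 𝒜 0) (fun z => Iff.rfl)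
  let e : GrLC.deg0 𝒜 →ₗ[GrLC.deg0 𝒜] GrLC.comp 𝒜 𝒜 0 :=
    { toFun := fun x => ⟨x.1, x.2⟩
      map_add' := fun _ _ => rfl
      map_smul' := fun _ _ => rfl }
  have he : Function.Injective e := by
    intro x y h
    exact Subtype.ext (congrArg (fun z : GrLC.comp 𝒜 𝒜 0 => (z : R)) h)
  exact isNoetherian_of_injective e he

/-- over a Noetherian ring, submodules of finitely generated submodules are finitely generated. -/
lemma fg_of_le_fg {R₀ : Type*} [Ring R₀] [IsNoetherianRing R₀] {X : Type*} [AddCommGroup X]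
    [Module R₀ X] {P Q : Submodule R₀ X} (hQ : Q.FG) (h : P ≤ Q) : P.FG := by
  haveI : IsNoetherian R₀ Q := isNoetherian_of_fg_of_noetherian Q hQ
  have h1 : (P.comap Q.subtype).FG := IsNoetherian.noetherian _
  have h2 := h1.map Q.subtype
  rwa [Submodule.map_comap_subtype, inf_eq_right.2 h] at h2

/-- the pieces of a finitely generated graded module are finitely generated over `R_0`. -/
theorem fg_comp [IsNoetherianRing R] [Module.Finite R N] (n : ℤ) : (GrLC.comp 𝒜 𝒩 n).FG := by
  haveI : IsNoetherian R N := isNoetherian_of_isNoetherianRing_of_finite R N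
  haveI := isNoetherian_piece (𝒜 := 𝒜) 𝒩 n (GrLC.comp 𝒜 𝒩 n) (fun z => Iff.rfl)
  exact Module.Finite.iff_fg.1 inferInstance

section Bound

/-- a homogeneous submodule is generated modulo `I` in bounded degrees, if `I` contains all
elements of positive degree. -/
lemma exists_deg_bound [IsNoetherian R N] (P : Submodule R N) (hP : P.IsHomogeneous 𝒩)
    (I : Ideal R) (hI : ∀ n : ℤ, 0 < n → ∀ x ∈ 𝒜 n, x ∈ I) :
    ∃ D : ℤ, ∀ n, D < n → ∀ x ∈ P, x ∈ 𝒩 n → x ∈ I • P := by
  classical
  obtain ⟨T, hT⟩ : P.FG := IsNoetherian.noetherian P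
  let T' : Finset N := T.biUnion (fun t => (decompose 𝒩 t).support.image
    (fun d => (decompose 𝒩 t d : N)))
  have hT'hom : ∀ g ∈ T', ∃ d : ℤ, g ∈ 𝒩 d := by
    intro g hg
    obtain ⟨t, _, hg⟩ := Finset.mem_biUnion.1 hg
    obtain ⟨d, _, rfl⟩ := Finset.mem_image.1 hg
    exact ⟨d, SetLike.coe_mem _⟩
  have hT'P : ∀ g ∈ T', g ∈ P := by
    intro g hg
    obtain ⟨t, ht, hg⟩ := Finset.mem_biUnion.1 hg
    obtain ⟨d, _, rfl⟩ := Finset.mem_image.1 hg
    exact hP d (hT ▸ Submodule.subset_span ht)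
  have hspan : P ≤ Submodule.span R (T' : Set N) := by
    rw [← hT, Submodule.span_le]
    intro t ht
    rw [SetLike.mem_coe, ← DirectSum.sum_support_decompose 𝒩 t]
    refine Submodule.sum_mem _ fun d hd => Submodule.subset_span ?_
    rw [Finset.mem_coe, Finset.mem_biUnion]
    exact ⟨t, ht, Finset.mem_image.2 ⟨d, hd, rfl⟩⟩
  choose! dg hdg using hT'hom
  refine ⟨∑ g ∈ T', |dg g|, fun n hn x hxP hxn => ?_⟩
  have hle : ∀ g ∈ T', dg g < n := by
    intro g hg
    have h1 : |dg g| ≤ ∑ g ∈ T', |dg g| := Finset.single_le_sum (f := fun g => |dg g|)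
      (fun y _ => abs_nonneg _) hg
    have h2 := le_abs_self (dg g)
    omega
  obtain ⟨f, -, hf⟩ := Submodule.mem_span_finset.1 (hspan hxP)
  have hx : x = ∑ g ∈ T', (decompose 𝒜 (f g) (n - dg g) : R) • g := by
    conv_lhs => rw [← decompose_of_mem_same 𝒩 hxn, ← hf]
    rw [decompose_sum, DFinsupp.finsetSum_apply, AddSubmonoidClass.coe_finsetSum]
    refine Finset.sum_congr rfl fun g hg => ?_
    exact decompose_smul_of_mem (𝒜 := 𝒜) 𝒩 (hdg g hg) (f g) n
  rw [hx]
  refine Submodule.sum_mem _ fun g hg => ?_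
  refine Submodule.smul_mem_smul ?_ (hT'P g hg)
  exact hI _ (by have := hle g hg; omega) _ (SetLike.coe_mem _)

/-- the elements killed by `I^j`. -/
def annPow (I : Ideal R) (N : Type u) [AddCommGroup N] [Module R N] (j : ℕ) : Submodule R N where
  carrier := {y | ∀ r ∈ I ^ j, r • y = 0}
  zero_mem' := fun r _ => smul_zero r
  add_mem' := fun {x y} hx hy r hr => by rw [smul_add, hx r hr, hy r hr, add_zero]
  smul_mem' := fun c x hx r hr => by rw [smul_comm, hx r hr, smul_zero]

lemma annPow_isHomogeneous (a : HomogeneousIdeal 𝒜) (j : ℕ) :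
    (annPow a.toIdeal N j).IsHomogeneous 𝒩 := by
  classical
  intro g x hx r hr
  have hpow := isHomogeneous_pow 𝒜 a j
  rw [← DirectSum.sum_support_decompose 𝒜 r, Finset.sum_smul]
  refine Finset.sum_eq_zero (fun h _ => ?_)
  have hrh : (decompose 𝒜 r h : R) ∈ a.toIdeal ^ j := hpow h hr
  have h0 := hx _ hrh
  have := decompose_smul_of_mem 𝒩 𝒜 (SetLike.coe_mem (decompose 𝒜 r h)) x g
  rw [← this, h0, decompose_zero, DirectSum.zero_apply, ZeroMemClass.coe_zero]

/-- a finitely generated torsion submodule is killed by one power. -/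
lemma exists_pow_le_annPow [IsNoetherian R N] (I : Ideal R) (P : Submodule R N)
    (hP : P ≤ gam I N) : ∃ k : ℕ, P ≤ annPow I N k := by
  classical
  obtain ⟨T, hT⟩ : P.FG := IsNoetherian.noetherian P
  have hex : ∀ t ∈ T, ∃ k : ℕ, ∀ r ∈ I ^ k, r • t = 0 := fun t ht =>
    hP (hT ▸ Submodule.subset_span ht)
  choose! kt hkt using hex
  refine ⟨∑ t ∈ T, kt t, ?_⟩
  rw [← hT, Submodule.span_le]
  intro t ht r hr
  apply hkt t ht
  exact Ideal.pow_le_pow_right (Finset.single_le_sum (f := kt) (fun _ _ => Nat.zero_le _) ht) hr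

/-- a homogeneous torsion submodule of a Noetherian graded module is bounded above. -/
theorem exists_bound_above [IsNoetherian R N] (a : HomogeneousIdeal 𝒜)
    (ha : ∀ n : ℤ, 0 < n → ∀ x ∈ 𝒜 n, x ∈ a.toIdeal) (P : Submodule R N)
    (hPhom : P.IsHomogeneous 𝒩) (hP : P ≤ gam a.toIdeal N) :
    ∃ n₁ : ℤ, ∀ n, n₁ ≤ n → ∀ x ∈ P, x ∈ 𝒩 n → x = 0 := by
  classical
  obtain ⟨k, hk⟩ := exists_pow_le_annPow a.toIdeal P hP
  have hZ : ∀ j, (P ⊓ annPow a.toIdeal N j).IsHomogeneous 𝒩 := fun j =>
    isHomogeneous_inf 𝒩 hPhom (annPow_isHomogeneous 𝒩 a j)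
  have hD := fun j => exists_deg_bound 𝒩 (P ⊓ annPow a.toIdeal N j) (hZ j) a.toIdeal ha
  choose D hD using hD
  have hstep : ∀ j, a.toIdeal • (P ⊓ annPow a.toIdeal N (j + 1)) ≤ P ⊓ annPow a.toIdeal N j := by
    intro j
    rw [Submodule.smul_le]
    intro r hr y hy
    refine ⟨P.smul_mem r hy.1, fun s hs => ?_⟩
    rw [smul_smul]
    apply hy.2
    rw [pow_succ]
    exact Ideal.mul_mem_mul hs hr
  refine ⟨1 + ∑ j ∈ Finset.range (k + 1), |D j|, fun n hn x hxP hxn => ?_⟩
  have hDn : ∀ j ∈ Finset.range (k + 1), D j < n := by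
    intro j hj
    have h1 : |D j| ≤ ∑ j ∈ Finset.range (k + 1), |D j| :=
      Finset.single_le_sum (f := fun j => |D j|) (fun y _ => abs_nonneg _) hj
    have h2 := le_abs_self (D j)
    omega
  have hdown : ∀ j, j ≤ k → x ∈ P ⊓ annPow a.toIdeal N (k - j) := by
    intro j
    induction j with
    | zero =>
      intro _
      exact ⟨hxP, hk hxP⟩
    | succ j ih =>
      intro hj
      have h1 := ih (by omega)
      have e : k - j = (k - (j + 1)) + 1 := by omega
      rw [e] at h1
      exact hstep _ (hD _ n (hDn _ (Finset.mem_range.2 (by omega))) x h1 hxn)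
  have h0 := (hdown k le_rfl).2
  rw [Nat.sub_self] at h0
  have := h0 1 (by rw [pow_zero, Ideal.one_eq_top]; trivial)
  rwa [one_smul] at this

end Bound

end Groth.Agent.Lib27.GrFin
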