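import Groth.Agent.Lib27.LD0

/-!
# Consequences of the long exact sequence: dimension shifting, kernels, right exactness of the top
-/

set_option autoImplicit false
set_option linter.unusedSectionVars false
set_option linter.unusedVariables false
set_option linter.style.haveILetI false
universe u

namespace Groth.Agent.Lib27.LD

open DirectSum GrLC Groth.Agent.Lib.Helper11.GrLCLib Groth.Agent.Lib.Helper11.GrLes

variable {ι : Type} [DecidableEq ι] [AddCommGroup ι]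
variable {R : Type u} [CommRing R] {𝒜 : ι → AddSubgroup R} [GradedRing 𝒜]
variable {M : Type u} [AddCommGroup M] [Module R M] {ℳ : ι → AddSubgroup M}
  [DirectSum.Decomposition ℳ] [SetLike.GradedSMul 𝒜 ℳ]
variable {M' : Type u} [AddCommGroup M'] [Module R M'] {ℳ' : ι → AddSubgroup M'}
  [DirectSum.Decomposition ℳ'] [SetLike.GradedSMul 𝒜 ℳ']
variable {M'' : Type u} [AddCommGroup M''] [Module R M''] {ℳ'' : ι → AddSubgroup M''}
  [DirectSum.Decomposition ℳ''] [SetLike.GradedSMul 𝒜 ℳ'']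

section LK

variable (E' : StarInjRes 𝒜 ℳ') (E : StarInjRes 𝒜 ℳ) (E'' : StarInjRes 𝒜 ℳ'')

/-- For `0 → M' → M → M'' → 0` with `H^i(M) = 0`: `H^i(M'')_j = 0` iff `H^{i+1}(M')_j → H^{i+1}(M)_j`
is injective. -/
theorem lk (u : M' →ₗ[R] M) (v : M →ₗ[R] M'') (hu : IsGrHomDeg ℳ' ℳ u 0)
    (hv : IsGrHomDeg ℳ ℳ'' v 0)
    (hui : Function.Injective u) (hvs : Function.Surjective v)
    (hex : LinearMap.ker v = LinearMap.range u) (a : HomogeneousIdeal 𝒜) (i : ℕ)
    (h0 : Subsingleton (E.H a i)) (j : ι) :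
    (∀ x, x ∈ E''.Hgr a i j → x = 0) ↔
      (∀ y, y ∈ E'.Hgr a (i + 1) j → Hm E' E a (i + 1) u 0 hu y = 0 → y = 0) := by
  obtain ⟨γ, hγ, e1, e2, e3, -⟩ := les E' E E'' u v hu hv hui hvs hex a
  have hγdeg : IsGrHomDeg (E''.Hgr a i) (E'.Hgr a (i + 1)) (γ i) 0 := by
    intro g x hx
    rw [add_zero]
    exact hγ i g x hx
  constructor
  · intro h y hy hy0
    obtain ⟨x, hx⟩ := (e3 i y).1 hy0
    have hy' : y ∈ E'.Hgr a (i + 1) (j + 0) := by rw [add_zero]; exact hy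
    obtain ⟨x', hx', hx'y⟩ := exists_homogeneous_preimage (E''.Hgr a i) (E'.Hgr a (i + 1))
      (Hgr_isInternal 𝒜 ℳ'' E'' a i) (Hgr_isInternal 𝒜 ℳ' E' a (i + 1)) (γ i) 0 hγdeg j y hy' x hx
    rw [← hx'y, h x' hx', map_zero]
  · intro h x hx
    have h1 : γ i x = 0 := by
      apply h _ (hγ i j x hx)
      exact (e3 i (γ i x)).2 ⟨x, rfl⟩
    obtain ⟨w, hw⟩ := (e2 i x).1 h1
    rw [← hw, Subsingleton.elim w 0, map_zero]

/-- dimension shifting. -/
theorem ds (u : M' →ₗ[R] M) (v : M →ₗ[R] M'') (hu : IsGrHomDeg ℳ' ℳ u 0)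
    (hv : IsGrHomDeg ℳ ℳ'' v 0)
    (hui : Function.Injective u) (hvs : Function.Surjective v)
    (hex : LinearMap.ker v = LinearMap.range u) (a : HomogeneousIdeal 𝒜) (i : ℕ)
    (h0 : Subsingleton (E.H a i)) (h1 : Subsingleton (E.H a (i + 1))) (j : ι) :
    (∀ x, x ∈ E''.Hgr a i j → x = 0) ↔ (∀ y, y ∈ E'.Hgr a (i + 1) j → y = 0) := by
  rw [lk E' E E'' u v hu hv hui hvs hex a i h0 j]
  constructor
  · intro h y hy
    exact h y hy (Subsingleton.elim _ _)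
  · intro h y hy _
    exact h y hy

end LK

section RE

variable (EA : StarInjRes 𝒜 ℳ') (EB : StarInjRes 𝒜 ℳ) (EC : StarInjRes 𝒜 ℳ'')

/-- right exactness of the top local cohomology. -/
theorem re (f : M' →ₗ[R] M) (g : M →ₗ[R] M'') (hf : IsGrHomDeg ℳ' ℳ f 0)
    (hg : IsGrHomDeg ℳ ℳ'' g 0) (hgs : Function.Surjective g)
    (hex : LinearMap.ker g = LinearMap.range f) (a : HomogeneousIdeal 𝒜) (n : ℕ)
    (hvan : ∀ (X : Type u) [AddCommGroup X] [Module R X] (𝒳 : ι → AddSubgroup X)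
      [DirectSum.Decomposition 𝒳] [SetLike.GradedSMul 𝒜 𝒳] (EX : StarInjRes 𝒜 𝒳),
      Subsingleton (EX.H a (n + 1))) :
    (∀ z : EC.H a n, ∃ y, Hm EB EC a n g 0 hg y = z) ∧
      (∀ y : EB.H a n, Hm EB EC a n g 0 hg y = 0 → ∃ x, Hm EA EB a n f 0 hf x = y) := by
  classical
  -- the kernel of `g`
  obtain ⟨K, hKdef⟩ : ∃ K : Submodule R M, K = LinearMap.ker g := ⟨_, rfl⟩
  have hK : K.IsHomogeneous ℳ := by rw [hKdef]; exact ker_isHomogeneous_deg ℳ ℳ'' hg
  letI := subDecomposition ℳ K hK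
  let EK : StarInjRes 𝒜 (subGr ℳ K) := starInjRes 𝒜 (subGr ℳ K)
  have hfK : ∀ x, f x ∈ K := by
    intro x
    rw [hKdef, hex]
    exact ⟨x, rfl⟩
  let f' : M' →ₗ[R] K := f.codRestrict K hfK
  have hf' : IsGrHomDeg ℳ' (subGr ℳ K) f' 0 := by
    intro j x hx
    exact hf j x hx
  have hf's : Function.Surjective f' := by
    rintro ⟨y, hy⟩
    have : y ∈ LinearMap.range f := by rw [← hex, ← hKdef]; exact hy
    obtain ⟨x, rfl⟩ := this
    exact ⟨x, rfl⟩
  have hsub : IsGrHomDeg (subGr ℳ K) ℳ K.subtype 0 := by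
    intro j x hx
    rw [add_zero]
    exact hx
  -- the kernel of `f'`
  obtain ⟨K', hK'def⟩ : ∃ K' : Submodule R M', K' = LinearMap.ker f' := ⟨_, rfl⟩
  have hK' : K'.IsHomogeneous ℳ' := by rw [hK'def]; exact ker_isHomogeneous_deg ℳ' (subGr ℳ K) hf'
  letI := subDecomposition ℳ' K' hK'
  let EK' : StarInjRes 𝒜 (subGr ℳ' K') := starInjRes 𝒜 (subGr ℳ' K')
  have hsub' : IsGrHomDeg (subGr ℳ' K') ℳ' K'.subtype 0 := by
    intro j x hx
    rw [add_zero]
    exact hx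
  obtain ⟨γ, -, e1, e2, -, -⟩ := les EK EB EC K.subtype g hsub hg (Submodule.injective_subtype K) hgs
    (by rw [Submodule.range_subtype, hKdef]) a
  obtain ⟨γ', -, -, e2', -, -⟩ := les EK' EA EK K'.subtype f' hsub' hf'
    (Submodule.injective_subtype K') hf's (by rw [Submodule.range_subtype, hK'def]) a
  have hK1 : Subsingleton (EK.H a (n + 1)) := hvan K (subGr ℳ K) EK
  have hK'1 : Subsingleton (EK'.H a (n + 1)) := hvan K' (subGr ℳ' K') EK'
  refine ⟨fun z => ?_, fun y hy => ?_⟩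
  · exact (e2 n z).1 (Subsingleton.elim _ _)
  · obtain ⟨w, hw⟩ := (e1 n y).1 hy
    obtain ⟨x, hx⟩ := (e2' n w).1 (Subsingleton.elim _ _)
    refine ⟨x, ?_⟩
    rw [← hw, ← hx]
    exact (Hm_comp_apply' hf' hsub hf (LinearMap.subtype_comp_codRestrict _ _ _) (add_zero 0) x).symm

end RE

end Groth.Agent.Lib27.LD
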