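import Groth.Agent.Lib27.GrFin3

/-!
# Finiteness and vanishing of the pieces of `*H^i_{R_+}(M)`: the induction
-/

set_option autoImplicit false
set_option linter.unusedSectionVars false
set_option linter.unusedVariables false
set_option linter.style.haveILetI false
universe u

namespace Groth.Agent.Lib27.GrFin

open DirectSum GrLC Groth.Agent.Lib.Helper11.GrLCLib Groth.Agent.Lib.Helper11.GrLes
  Groth.Agent.Lib27.LD Groth.Agent.Lib.Helper11.GrShift Groth.Agent.Lib27.Kos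

variable {R : Type u} [CommRing R] [IsNoetherianRing R] (𝒜 : ℤ → AddSubgroup R) [GradedRing 𝒜]

/-- the irrelevant ideal has no nonzero elements of degree zero. -/
lemma irr_deg_zero (hpos : ∀ n : ℤ, n < 0 → 𝒜 n = ⊥) (a : HomogeneousIdeal 𝒜)
    (ha : a.toIdeal = Ideal.span (⋃ n ∈ Set.Ioi (0 : ℤ), (𝒜 n : Set R))) :
    ∀ x ∈ a.toIdeal, x ∈ 𝒜 0 → x = 0 := by
  intro x hx hx0
  have h1 : x ∈ bigJ 𝒜 (⊥ : Ideal (GrLC.deg0 𝒜)) := by
    apply irr_le_bigJ 𝒜 ⊥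
    rw [irr_toIdeal, ← ha]
    exact hx
  have h2 := cp0_mem_of_mem_bigJ hpos ⊥ x h1
  rw [Ideal.mem_bot] at h2
  have h3 : (decompose 𝒜 x 0 : R) = 0 := congrArg Subtype.val h2
  rwa [decompose_of_mem_same 𝒜 hx0] at h3

lemma pos_mem_irr (a : HomogeneousIdeal 𝒜)
    (ha : a.toIdeal = Ideal.span (⋃ n ∈ Set.Ioi (0 : ℤ), (𝒜 n : Set R))) :
    ∀ n : ℤ, 0 < n → ∀ x ∈ 𝒜 n, x ∈ a.toIdeal := by
  intro n hn x hx
  rw [ha]
  exact Ideal.subset_span (Set.mem_iUnion₂.2 ⟨n, hn, hx⟩)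

variable {𝒜}

/-- the quotient by the torsion has no socle. -/
lemma quot_gam_socle (a : Ideal R) (M : Type u) [AddCommGroup M] [Module R M]
    [Module.Finite R M] (q : M ⧸ gam a M) (hq : ∀ r ∈ a, r • q = 0) : q = 0 := by
  haveI : IsNoetherian R M := isNoetherian_of_isNoetherianRing_of_finite R M
  obtain ⟨m, rfl⟩ := Submodule.mkQ_surjective _ q
  have hle : a • (Submodule.span R {m}) ≤ gam a M := by
    rw [Submodule.smul_le]
    intro r hr y hy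
    obtain ⟨s, rfl⟩ := Submodule.mem_span_singleton.1 hy
    rw [smul_comm]
    apply Submodule.smul_mem
    have := hq r hr
    rw [← map_smul] at this
    exact (Submodule.Quotient.mk_eq_zero _).1 this
  obtain ⟨k, hk⟩ := exists_pow_le_annPow a _ hle
  apply (Submodule.Quotient.mk_eq_zero _).2
  refine ⟨k + 1, fun r hr => ?_⟩
  rw [pow_succ] at hr
  refine Submodule.mul_induction_on hr ?_ ?_
  · intro s hs t ht
    rw [mul_smul]
    exact hk (Submodule.smul_mem_smul ht (Submodule.mem_span_singleton_self m)) s hs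
  · intro x y hx hy
    rw [add_smul, hx, hy, add_zero]

variable (𝒜)

/-- the statement proved by induction on `i`. -/
def Good (a : HomogeneousIdeal 𝒜) (i : ℕ) : Prop :=
  ∀ (M : Type u) [AddCommGroup M] [Module R M] [Module.Finite R M] (ℳ : ℤ → AddSubgroup M)
    [DirectSum.Decomposition ℳ] [SetLike.GradedSMul 𝒜 ℳ],
    (∃ r : ℤ, ∀ n, r ≤ n → Van (𝒜 := 𝒜) ℳ a i n) ∧ ∀ n, FGp (𝒜 := 𝒜) ℳ a i n

variable {𝒜}

theorem good_zero (hpos : ∀ n : ℤ, n < 0 → 𝒜 n = ⊥) (a : HomogeneousIdeal 𝒜)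
    (ha : a.toIdeal = Ideal.span (⋃ n ∈ Set.Ioi (0 : ℤ), (𝒜 n : Set R))) : Good 𝒜 a 0 := by
  intro M _ _ _ ℳ _ _
  haveI : IsNoetherian R M := isNoetherian_of_isNoetherianRing_of_finite R M
  haveI := isNoetherianRing_deg0 𝒜
  constructor
  · obtain ⟨n₁, hn₁⟩ := exists_bound_above ℳ a (pos_mem_irr 𝒜 a ha) (gam a.toIdeal M)
      (gam_isHomogeneous 𝒜 ℳ a) le_rfl
    refine ⟨n₁, fun n hn E z hz => ?_⟩
    obtain ⟨x, hxn, rfl⟩ := exists_h0_eq E a hz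
    have hx0 : (x : M) = 0 := hn₁ n hn x x.2 hxn
    have : x = 0 := Subtype.ext hx0
    rw [this, map_zero]
  · intro n E
    let ι₀ : ↥(gam a.toIdeal M) →ₗ[GrLC.deg0 𝒜] M :=
      (gam a.toIdeal M).subtype.restrictScalars (GrLC.deg0 𝒜)
    let h₀ : ↥(gam a.toIdeal M) →ₗ[GrLC.deg0 𝒜] E.H a 0 :=
      (h0 E a).restrictScalars (GrLC.deg0 𝒜)
    let Q : Submodule (GrLC.deg0 𝒜) ↥(gam a.toIdeal M) := (GrLC.comp 𝒜 ℳ n).comap ι₀
    have hQ : Q.FG := by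
      apply Submodule.fg_of_fg_map_injective ι₀ (Submodule.injective_subtype _)
      refine fg_of_le_fg (fg_comp (𝒜 := 𝒜) ℳ n) ?_
      rintro _ ⟨x, hx, rfl⟩
      exact hx
    refine fg_of_le_fg (hQ.map h₀) ?_
    intro z hz
    obtain ⟨x, hxn, rfl⟩ := exists_h0_eq E a hz
    exact ⟨x, hxn, rfl⟩

theorem good_succ (hpos : ∀ n : ℤ, n < 0 → 𝒜 n = ⊥) (a : HomogeneousIdeal 𝒜)
    (ha : a.toIdeal = Ideal.span (⋃ n ∈ Set.Ioi (0 : ℤ), (𝒜 n : Set R))) (i : ℕ)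
    (ih : Good 𝒜 a i) : Good 𝒜 a (i + 1) := by
  intro M _ _ _ ℳ _ _
  haveI : IsNoetherian R M := isNoetherian_of_isNoetherianRing_of_finite R M
  haveI := isNoetherianRing_deg0 𝒜
  -- the torsion submodule and the quotient
  have hΓ : (gam a.toIdeal M).IsHomogeneous ℳ := gam_isHomogeneous 𝒜 ℳ a
  letI := subDecomposition ℳ (gam a.toIdeal M) hΓ
  letI := quotDecomposition ℳ (gam a.toIdeal M) hΓ
  have hu : IsGrHomDeg (subGr ℳ (gam a.toIdeal M)) ℳ (gam a.toIdeal M).subtype 0 := by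
    intro j y hy
    rw [add_zero]
    exact hy
  have hv : IsGrHomDeg ℳ (quotGrM ℳ (gam a.toIdeal M)) (gam a.toIdeal M).mkQ 0 := by
    intro j y hy
    rw [add_zero]
    exact mkQ_isGrHom ℳ (gam a.toIdeal M) j y hy
  have hui : Function.Injective (gam a.toIdeal M).subtype := Submodule.injective_subtype _
  have hvs : Function.Surjective (gam a.toIdeal M).mkQ := Submodule.mkQ_surjective _
  have hex : LinearMap.ker (gam a.toIdeal M).mkQ = LinearMap.range (gam a.toIdeal M).subtype := by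
    rw [Submodule.ker_mkQ, Submodule.range_subtype]
  have ht : ∀ y : ↥(gam a.toIdeal M), ∃ k : ℕ, ∀ r ∈ a.toIdeal ^ k, r • y = 0 := by
    intro y
    obtain ⟨k, hk⟩ := y.2
    exact ⟨k, fun r hr => Subtype.ext (hk r hr)⟩
  have hVanΓ : ∀ n, Van (𝒜 := 𝒜) (subGr ℳ (gam a.toIdeal M)) a (i + 1) n :=
    fun n => van_of_torsion ht i n
  -- the quotient
  suffices hQ : (∃ r : ℤ, ∀ n, r ≤ n → Van (𝒜 := 𝒜) (quotGrM ℳ (gam a.toIdeal M)) a (i + 1) n) ∧
      ∀ n, FGp (𝒜 := 𝒜) (quotGrM ℳ (gam a.toIdeal M)) a (i + 1) n by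
    obtain ⟨⟨r, hr⟩, hfg⟩ := hQ
    refine ⟨⟨r, fun n hn => ?_⟩, fun n => ?_⟩
    · exact van_mid _ _ hu hv hui hvs hex (hVanΓ n) (hr n hn)
    · exact fgp_mid _ _ hu hv hui hvs hex (fgp_of_van (hVanΓ n)) (hfg n)
  -- a regular element
  obtain ⟨c, y, hc, hyc, hya, hreg⟩ := exists_regular 𝒜 hpos a (irr_deg_zero 𝒜 hpos a ha)
    (M ⧸ gam a.toIdeal M) (quot_gam_socle a.toIdeal M)
  have hu2 : IsGrHomDeg (quotGrM ℳ (gam a.toIdeal M)) (quotGrM ℳ (gam a.toIdeal M))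
      (LinearMap.lsmul R (M ⧸ gam a.toIdeal M) y) (c : ℤ) :=
    isGrHomDeg_lsmul (quotGrM ℳ (gam a.toIdeal M)) 𝒜 hyc
  have hP : (LinearMap.range (LinearMap.lsmul R (M ⧸ gam a.toIdeal M) y)).IsHomogeneous
      (quotGrM ℳ (gam a.toIdeal M)) :=
    range_isHomogeneous_deg (quotGrM ℳ (gam a.toIdeal M)) (quotGrM ℳ (gam a.toIdeal M)) hu2
  letI := quotDecomposition (quotGrM ℳ (gam a.toIdeal M))
    (LinearMap.range (LinearMap.lsmul R (M ⧸ gam a.toIdeal M) y)) hP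
  have hv2 : IsGrHomDeg (quotGrM ℳ (gam a.toIdeal M))
      (quotGrM (quotGrM ℳ (gam a.toIdeal M))
        (LinearMap.range (LinearMap.lsmul R (M ⧸ gam a.toIdeal M) y)))
      (LinearMap.range (LinearMap.lsmul R (M ⧸ gam a.toIdeal M) y)).mkQ 0 := by
    intro j z hz
    rw [add_zero]
    exact mkQ_isGrHom _ _ j z hz
  have hui2 : Function.Injective (LinearMap.lsmul R (M ⧸ gam a.toIdeal M) y) := by
    rw [injective_iff_map_eq_zero]
    intro q hq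
    exact hreg q hq
  obtain ⟨⟨r', hr'⟩, hfg''⟩ := ih
    ((M ⧸ gam a.toIdeal M) ⧸ LinearMap.range (LinearMap.lsmul R (M ⧸ gam a.toIdeal M) y))
    (quotGrM (quotGrM ℳ (gam a.toIdeal M))
      (LinearMap.range (LinearMap.lsmul R (M ⧸ gam a.toIdeal M) y)))
  have hvanQ := reg_van (a := a) (i := i) y (c : ℤ) hyc hya hu2 _ hv2 hui2
    (Submodule.mkQ_surjective _) (Submodule.ker_mkQ _) (Int.natCast_nonneg c) r' hr'
  have hfgQ := reg_fg (a := a) (i := i) y (c : ℤ) hyc hya hu2 _ hv2 hui2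
    (Submodule.mkQ_surjective _) (Submodule.ker_mkQ _) (by exact_mod_cast hc) r' hvanQ hfg''
  exact ⟨⟨r' - c, hvanQ⟩, hfgQ⟩

theorem good (hpos : ∀ n : ℤ, n < 0 → 𝒜 n = ⊥) (a : HomogeneousIdeal 𝒜)
    (ha : a.toIdeal = Ideal.span (⋃ n ∈ Set.Ioi (0 : ℤ), (𝒜 n : Set R))) (i : ℕ) :
    Good 𝒜 a i := by
  induction i with
  | zero => exact good_zero hpos a ha
  | succ i ih => exact good_succ hpos a ha i ih

end Groth.Agent.Lib27.GrFin
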