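import Groth.Agent.Lib27.LD3

/-!
# The duality pairing on the top local cohomology of graded free modules
-/

set_option autoImplicit false
set_option linter.unusedSectionVars false
set_option linter.unusedVariables false
set_option linter.style.haveILetI false
universe u

namespace Groth.Agent.Lib27.LD

open DirectSum GrLC Groth.Agent.Lib.Helper11.GrLCLib Groth.Agent.Lib.Helper11.GrLes Matrix

section LinAlg

variable {K V W U : Type*} [Field K] [AddCommGroup V] [Module K V] [AddCommGroup W] [Module K W]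
  [AddCommGroup U] [Module K U]

lemma exists_factor (f : V →ₗ[K] W) (g : V →ₗ[K] U) (h : LinearMap.ker f ≤ LinearMap.ker g) :
    ∃ l : W →ₗ[K] U, l ∘ₗ f = g := by
  set q := LinearMap.ker f
  let fbar : (V ⧸ q) →ₗ[K] W := q.liftQ f le_rfl
  have hfbar : LinearMap.ker fbar = ⊥ := Submodule.ker_liftQ_eq_bot _ _ _ le_rfl
  obtain ⟨r, hr⟩ := LinearMap.exists_leftInverse_of_injective fbar hfbar
  let gbar : (V ⧸ q) →ₗ[K] U := q.liftQ g h
  refine ⟨gbar ∘ₗ r, ?_⟩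
  apply LinearMap.ext
  intro x
  have h1 : r (f x) = q.mkQ x := by
    have := LinearMap.congr_fun hr (q.mkQ x)
    simpa [fbar] using this
  simp only [LinearMap.comp_apply, h1]
  simp [gbar]

end LinAlg

variable {R : Type u} [CommRing R] {𝒜 : ℤ → AddSubgroup R} [GradedRing 𝒜]

/-- abstract duality data for the top local cohomology of the ring. -/
structure TopDual (k : Type u) [Field k] [Algebra k R] (𝒜 : ℤ → AddSubgroup R) [GradedRing 𝒜]
    (m : HomogeneousIdeal 𝒜) (n : ℕ) (I : StarInjRes 𝒜 𝒜) where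
  /-- the pairing -/
  B : I.H m n →+ (R →ₗ[k] k)
  B_smul : ∀ (f : R) (u : I.H m n) (g : R), B (f • u) g = B u (f * g)
  eq_zero : ∀ (t : ℤ) (u : I.H m n), u ∈ I.Hgr m n t → (∀ g ∈ 𝒜 (-(t + n)), B u g = 0) → u = 0
  exists_eq : ∀ (t : ℤ) (l : R →ₗ[k] k), ∃ u ∈ I.Hgr m n t, ∀ g ∈ 𝒜 (-(t + n)), B u g = l g
  high : ∀ (X : Type u) [AddCommGroup X] [Module R X] (𝒳 : ℤ → AddSubgroup X)
      [DirectSum.Decomposition 𝒳] [SetLike.GradedSMul 𝒜 𝒳] (EX : StarInjRes 𝒜 𝒳) (i : ℕ),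
      n < i → Subsingleton (EX.H m i)
  low : ∀ i : ℕ, i < n → Subsingleton (I.H m i)
  algMap_mem : ∀ c : k, algebraMap k R c ∈ 𝒜 0

variable {k : Type u} [Field k] [Algebra k R] {m : HomogeneousIdeal 𝒜} {n : ℕ}
  {I : StarInjRes 𝒜 𝒜} (TD : TopDual k 𝒜 m n I)

section Decomp

variable {r : ℕ} {a : Fin r → ℤ} (EP : StarInjRes 𝒜 (freeGr 𝒜 a)) (q : ℕ)

/-- every class is the sum of its coordinates. -/
lemma decomp_id (ξ : EP.H m q) :
    ξ = ∑ b, Hm I EP m q (LinearMap.single R (fun _ : Fin r => R) b) (a b) (single_isGrHomDeg 𝒜 a b)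
      (Hm EP I m q (LinearMap.proj b) (-a b) (proj_isGrHomDeg 𝒜 a b) ξ) := by
  classical
  have h0 : ∀ b, IsGrHomDeg (freeGr 𝒜 a) (freeGr 𝒜 a)
      ((LinearMap.single R (fun _ : Fin r => R) b) ∘ₗ (LinearMap.proj b)) 0 := fun b => by
    have := isGrHomDeg_comp' (proj_isGrHomDeg 𝒜 a b) (single_isGrHomDeg 𝒜 a b)
    rwa [neg_add_cancel] at this
  have hs : IsGrHomDeg (freeGr 𝒜 a) (freeGr 𝒜 a)
      (∑ b : Fin r, (LinearMap.single R (fun _ : Fin r => R) b) ∘ₗ (LinearMap.proj b)) 0 :=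
    isGrHomDeg_sum' _ _ (fun b _ => h0 b)
  calc ξ = Hm EP EP m q LinearMap.id 0 isGrHomDeg_id0 ξ := (Hm_id_apply _ ξ).symm
    _ = Hm EP EP m q (∑ b : Fin r, (LinearMap.single R (fun _ : Fin r => R) b) ∘ₗ
          (LinearMap.proj b)) 0 hs ξ := by
        rw [Hm_congr isGrHomDeg_id0 hs sum_single_comp_proj.symm rfl]
    _ = ∑ b, Hm EP EP m q ((LinearMap.single R (fun _ : Fin r => R) b) ∘ₗ
          (LinearMap.proj b)) 0 (h0 b) ξ := by
        rw [Hm_sum Finset.univ _ h0 hs, LinearMap.sum_apply]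
    _ = _ := Finset.sum_congr rfl fun b _ =>
        (Hm_comp_apply' _ _ (h0 b) rfl (neg_add_cancel _) ξ).symm

include TD in
/-- the local cohomology of a graded free module vanishes below `n`. -/
lemma free_low (i : ℕ) (hi : i < n) : Subsingleton (EP.H m i) := by
  haveI := TD.low i hi
  refine ⟨fun x y => ?_⟩
  rw [decomp_id EP i x, decomp_id EP i y]
  refine Finset.sum_congr rfl fun b _ => ?_
  rw [Subsingleton.elim (Hm EP I m i (LinearMap.proj b) (-a b) (proj_isGrHomDeg 𝒜 a b) x)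
    (Hm EP I m i (LinearMap.proj b) (-a b) (proj_isGrHomDeg 𝒜 a b) y)]

end Decomp

section Pair

variable {r : ℕ} {a : Fin r → ℤ} (EP : StarInjRes 𝒜 (freeGr 𝒜 a))

/-- the pairing between `H^n(P)` and covectors of degree `e`. -/
noncomputable def pair (ξ : EP.H m n) (e : ℤ) (v : Fin r → R) (hv : Gmem 𝒜 a e v) : k :=
  TD.B (Hm EP I m n (dotL v) e (dotL_isGrHomDeg hv) ξ) 1

lemma pair_add_left (ξ ξ' : EP.H m n) (e : ℤ) (v : Fin r → R) (hv : Gmem 𝒜 a e v) :
    pair TD EP (ξ + ξ') e v hv = pair TD EP ξ e v hv + pair TD EP ξ' e v hv := by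
  unfold pair
  rw [map_add, map_add]
  rfl

lemma pair_sub_left (ξ ξ' : EP.H m n) (e : ℤ) (v : Fin r → R) (hv : Gmem 𝒜 a e v) :
    pair TD EP (ξ - ξ') e v hv = pair TD EP ξ e v hv - pair TD EP ξ' e v hv := by
  unfold pair
  rw [map_sub, map_sub]
  rfl

lemma pair_sum_left {β : Type*} (s : Finset β) (ξ : β → EP.H m n) (e : ℤ) (v : Fin r → R)
    (hv : Gmem 𝒜 a e v) :
    pair TD EP (∑ b ∈ s, ξ b) e v hv = ∑ b ∈ s, pair TD EP (ξ b) e v hv := by
  unfold pair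
  rw [map_sum, map_sum, LinearMap.sum_apply]

lemma pair_add_right (ξ : EP.H m n) (e : ℤ) (v v' : Fin r → R) (hv : Gmem 𝒜 a e v)
    (hv' : Gmem 𝒜 a e v') :
    pair TD EP ξ e (v + v') (Gmem_add hv hv') = pair TD EP ξ e v hv + pair TD EP ξ e v' hv' := by
  unfold pair
  rw [Hm_congr (dotL_isGrHomDeg (Gmem_add hv hv'))
    (isGrHomDeg_add' (dotL_isGrHomDeg hv) (dotL_isGrHomDeg hv')) (dotL_add v v') rfl,
    Hm_add (dotL_isGrHomDeg hv) (dotL_isGrHomDeg hv'), LinearMap.add_apply, map_add]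
  rfl

lemma pair_zero_right (ξ : EP.H m n) (e : ℤ) (h : Gmem 𝒜 a e (0 : Fin r → R)) :
    pair TD EP ξ e 0 h = 0 := by
  unfold pair
  have e0 : dotL (0 : Fin r → R) = 0 := by
    apply LinearMap.ext
    intro w
    simp [dotL_apply]
  rw [Hm_congr (dotL_isGrHomDeg h) (isGrHomDeg_zero' e) e0 rfl, Hm_zero, LinearMap.zero_apply,
    map_zero]
  rfl

lemma pair_congr (ξ : EP.H m n) (e : ℤ) {v v' : Fin r → R} (hv : Gmem 𝒜 a e v)
    (hv' : Gmem 𝒜 a e v') (h : v = v') : pair TD EP ξ e v hv = pair TD EP ξ e v' hv' := by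
  subst h
  rfl

include TD in
lemma Gmem_ksmul {e : ℤ} {v : Fin r → R} (hv : Gmem 𝒜 a e v) (c : k) : Gmem 𝒜 a e (c • v) := by
  intro b
  have := SetLike.GradedMul.mul_mem (A := 𝒜) (TD.algMap_mem c) (hv b)
  rw [zero_add] at this
  rw [Pi.smul_apply, Algebra.smul_def]
  exact this

lemma pair_smul_right (ξ : EP.H m n) (e : ℤ) (c : k) (v : Fin r → R) (hv : Gmem 𝒜 a e v) :
    pair TD EP ξ e (c • v) (Gmem_ksmul TD hv c) = c * pair TD EP ξ e v hv := by
  unfold pair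
  have e1 : dotL (c • v) = algebraMap k R c • dotL v := by
    rw [← dotL_smul]
    congr 1
    funext b
    rw [Pi.smul_apply, Pi.smul_apply, Algebra.smul_def, smul_eq_mul]
  rw [Hm_congr (dotL_isGrHomDeg (Gmem_ksmul TD hv c))
    (isGrHomDeg_smul' (TD.algMap_mem c) (dotL_isGrHomDeg hv)) e1 (add_zero e).symm,
    Hm_smul (TD.algMap_mem c) (dotL_isGrHomDeg hv), TD.B_smul, mul_one,
    Algebra.algebraMap_eq_smul_one, map_smul, smul_eq_mul]

/-- pairing a class coming from the `b`-th coordinate. -/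
lemma pair_Hm_single (u : I.H m n) (b : Fin r) (e : ℤ) (v : Fin r → R) (hv : Gmem 𝒜 a e v) :
    pair TD EP (Hm I EP m n (LinearMap.single R (fun _ : Fin r => R) b) (a b)
      (single_isGrHomDeg 𝒜 a b) u) e v hv = TD.B u (v b) := by
  unfold pair
  have h1 : IsGrHomDeg 𝒜 𝒜 (v b • (LinearMap.id : R →ₗ[R] R)) (0 + (e + a b)) :=
    isGrHomDeg_smul' (hv b) isGrHomDeg_id0
  rw [Hm_comp_apply' (single_isGrHomDeg 𝒜 a b) (dotL_isGrHomDeg hv) h1 (dotL_comp_single v b)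
    (by ring), Hm_smul (hv b) isGrHomDeg_id0, Hm_id_apply, TD.B_smul, mul_one]

/-- pairing with a covector supported at the `b`-th coordinate. -/
lemma pair_single (ξ : EP.H m n) (b : Fin r) (e : ℤ) (g : R) (hg : g ∈ 𝒜 (e + a b)) :
    pair TD EP ξ e (Pi.single b g) (Gmem_single b hg) =
      TD.B (Hm EP I m n (LinearMap.proj b) (-a b) (proj_isGrHomDeg 𝒜 a b) ξ) g := by
  unfold pair
  rw [Hm_congr (dotL_isGrHomDeg (Gmem_single b hg))
    (isGrHomDeg_smul' hg (proj_isGrHomDeg 𝒜 a b)) (dotL_single b g) (by ring),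
    Hm_smul hg (proj_isGrHomDeg 𝒜 a b), TD.B_smul, mul_one]

/-- nondegeneracy on the cohomology side. -/
theorem pair_eq_zero_left (j e : ℤ) (hje : e + j + n = 0) (ξ : EP.H m n) (hξ : ξ ∈ EP.Hgr m n j)
    (h : ∀ v hv, pair TD EP ξ e v hv = 0) : ξ = 0 := by
  rw [decomp_id EP n ξ]
  refine Finset.sum_eq_zero fun b _ => ?_
  have hu : Hm EP I m n (LinearMap.proj b) (-a b) (proj_isGrHomDeg 𝒜 a b) ξ = 0 := by
    apply TD.eq_zero (j + -a b) _ (Hm_mem (proj_isGrHomDeg 𝒜 a b) hξ)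
    intro g hg
    have hg' : g ∈ 𝒜 (e + a b) := by
      have e1 : e + a b = -(j + -a b + n) := by omega
      rw [e1]; exact hg
    rw [← pair_single TD EP ξ b e g hg']
    exact h _ _
  rw [hu, map_zero]

/-- nondegeneracy on the covector side. -/
theorem pair_eq_zero_right (j e : ℤ) (hje : e + j + n = 0) (v : Fin r → R) (hv : Gmem 𝒜 a e v)
    (h : ∀ ξ, ξ ∈ EP.Hgr m n j → pair TD EP ξ e v hv = 0) : v = 0 := by
  funext b
  by_contra hne
  obtain ⟨l, hl⟩ : ∃ l : Module.Dual k R, l (v b) ≠ 0 := by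
    by_contra hcon
    push Not at hcon
    exact hne ((Module.forall_dual_apply_eq_zero_iff k (v b)).mp hcon)
  obtain ⟨u, hu, hul⟩ := TD.exists_eq (j + -a b) l
  have hmem : Hm I EP m n (LinearMap.single R (fun _ : Fin r => R) b) (a b)
      (single_isGrHomDeg 𝒜 a b) u ∈ EP.Hgr m n j := by
    have := Hm_mem (E' := EP) (a := m) (q := n) (single_isGrHomDeg 𝒜 a b) hu
    rwa [neg_add_cancel_right] at this
  have h1 := h _ hmem
  rw [pair_Hm_single, hul] at h1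
  · exact hl h1
  · have e1 : -(j + -a b + n) = e + a b := by omega
    rw [e1]; exact hv b

/-- every functional on covectors of degree `e` is represented by a class of degree `j`. -/
theorem pair_exists (j e : ℤ) (hje : e + j + n = 0) (l : (Fin r → R) →ₗ[k] k) :
    ∃ ξ, ξ ∈ EP.Hgr m n j ∧ ∀ v hv, pair TD EP ξ e v hv = l v := by
  classical
  have hex : ∀ b : Fin r, ∃ u, u ∈ I.Hgr m n (j + -a b) ∧ ∀ g ∈ 𝒜 (-(j + -a b + n)),
      TD.B u g = (l ∘ₗ LinearMap.single k (fun _ : Fin r => R) b) g :=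
    fun b => TD.exists_eq (j + -a b) _
  choose u hu hul using hex
  refine ⟨∑ b, Hm I EP m n (LinearMap.single R (fun _ : Fin r => R) b) (a b)
      (single_isGrHomDeg 𝒜 a b) (u b), ?_, ?_⟩
  · refine sum_mem fun b _ => ?_
    have := Hm_mem (E' := EP) (a := m) (q := n) (single_isGrHomDeg 𝒜 a b) (hu b)
    rwa [neg_add_cancel_right] at this
  · intro v hv
    rw [pair_sum_left]
    have h1 : ∀ b, pair TD EP (Hm I EP m n (LinearMap.single R (fun _ : Fin r => R) b) (a b)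
        (single_isGrHomDeg 𝒜 a b) (u b)) e v hv = l (Pi.single b (v b)) := by
      intro b
      rw [pair_Hm_single, hul b]
      · rfl
      · have e1 : -(j + -a b + n) = e + a b := by omega
        rw [e1]; exact hv b
    rw [Finset.sum_congr rfl fun b _ => h1 b, ← map_sum, Finset.univ_sum_single]

end Pair

section Adjoint

variable {r r' : ℕ} {a : Fin r → ℤ} {a' : Fin r' → ℤ} (EP : StarInjRes 𝒜 (freeGr 𝒜 a))
  (EP' : StarInjRes 𝒜 (freeGr 𝒜 a'))

/-- adjointness of the matrix map and `vecMul`. -/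
lemma pair_Hm_mulVecLin {D : Matrix (Fin r) (Fin r') R} (hD : ∀ b b', D b b' ∈ 𝒜 (a' b' - a b))
    (ξ' : EP'.H m n) (e : ℤ) (v : Fin r → R) (hv : Gmem 𝒜 a e v) :
    pair TD EP (Hm EP' EP m n (Matrix.mulVecLin D) 0 (mulVecLin_isGrHomDeg hD) ξ') e v hv =
      pair TD EP' ξ' e (v ᵥ* D) (Gmem_vecMul hv hD) := by
  unfold pair
  rw [Hm_comp_apply' (mulVecLin_isGrHomDeg hD) (dotL_isGrHomDeg hv)
    (dotL_isGrHomDeg (Gmem_vecMul hv hD)) (dotL_comp_mulVecLin v D) (zero_add e)]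

/-- covectors of degree `e` as a `k`-subspace. -/
def Gsub (a : Fin r → ℤ) (e : ℤ) : Submodule k (Fin r → R) where
  carrier := {v | Gmem 𝒜 a e v}
  add_mem' := fun h h' => Gmem_add h h'
  zero_mem' := Gmem_zero e
  smul_mem' := fun c v hv => Gmem_ksmul TD hv c

/-- pairing with `ξ` as a functional on covectors. -/
noncomputable def pairL (ξ : EP.H m n) (e : ℤ) : Gsub TD a e →ₗ[k] k where
  toFun v := pair TD EP ξ e v.1 v.2
  map_add' v v' := pair_add_right TD EP ξ e v.1 v'.1 v.2 v'.2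
  map_smul' c v := by
    rw [RingHom.id_apply, smul_eq_mul]
    exact pair_smul_right TD EP ξ e c v.1 v.2

/-- lifting classes along a matrix map. -/
theorem exists_lift (j e : ℤ) (hje : e + j + n = 0) {D : Matrix (Fin r) (Fin r') R}
    (hD : ∀ b b', D b b' ∈ 𝒜 (a' b' - a b)) (ξ : EP.H m n) (hξ : ξ ∈ EP.Hgr m n j)
    (h : ∀ v hv, v ᵥ* D = 0 → pair TD EP ξ e v hv = 0) :
    ∃ η, η ∈ EP'.Hgr m n j ∧ Hm EP' EP m n (Matrix.mulVecLin D) 0 (mulVecLin_isGrHomDeg hD) η = ξ := by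
  let f' : Gsub TD a e →ₗ[k] (Fin r' → R) :=
    (D.vecMulLinear.restrictScalars k) ∘ₗ (Gsub TD a e).subtype
  have hker : LinearMap.ker f' ≤ LinearMap.ker (pairL TD EP ξ e) := by
    intro v hv
    rw [LinearMap.mem_ker] at hv ⊢
    exact h v.1 v.2 hv
  obtain ⟨l, hl⟩ := exists_factor f' (pairL TD EP ξ e) hker
  obtain ⟨η, hη, hηl⟩ := pair_exists TD EP' j e hje l
  refine ⟨η, hη, ?_⟩
  rw [← sub_eq_zero]
  apply pair_eq_zero_left TD EP j e hje _
    (sub_mem (by have := Hm_mem (E' := EP) (a := m) (q := n) (mulVecLin_isGrHomDeg hD) hη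
                 rwa [add_zero] at this) hξ)
  intro v hv
  rw [pair_sub_left, pair_Hm_mulVecLin TD EP EP' hD, hηl, sub_eq_zero]
  exact LinearMap.congr_fun hl ⟨v, hv⟩

/-- lifting covectors along `vecMul`. -/
theorem exists_colift (j e : ℤ) (hje : e + j + n = 0) {D : Matrix (Fin r) (Fin r') R}
    (hD : ∀ b b', D b b' ∈ 𝒜 (a' b' - a b)) (v : Fin r' → R) (hv : Gmem 𝒜 a' e v)
    (h : ∀ ξ, ξ ∈ EP'.Hgr m n j →
      (∀ w (hw : Gmem 𝒜 a e w), pair TD EP' ξ e (w ᵥ* D) (Gmem_vecMul hw hD) = 0) →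
        pair TD EP' ξ e v hv = 0) :
    ∃ w, Gmem 𝒜 a e w ∧ w ᵥ* D = v := by
  let g' : Gsub TD a e →ₗ[k] (Fin r' → R) :=
    (D.vecMulLinear.restrictScalars k) ∘ₗ (Gsub TD a e).subtype
  by_cases hmem : v ∈ LinearMap.range g'
  · obtain ⟨w, hw⟩ := hmem
    exact ⟨w.1, w.2, hw⟩
  · exfalso
    obtain ⟨l, hl, hl0⟩ := Submodule.exists_dual_map_eq_bot_of_notMem hmem inferInstance
    obtain ⟨ξ, hξ, hξl⟩ := pair_exists TD EP' j e hje l
    apply hl
    rw [← hξl v hv]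
    apply h ξ hξ
    intro w hw
    rw [hξl]
    have : l (w ᵥ* D) ∈ (LinearMap.range g').map l := ⟨_, ⟨⟨w, hw⟩, rfl⟩, rfl⟩
    rw [hl0] at this
    exact (Submodule.mem_bot k).mp this

end Adjoint

end Groth.Agent.Lib27.LD
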