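import Groth.Agent.Lib27.LD7
import Groth.Agent.Lib27.LD4
import Groth.Agent.Lib.Helper11.GrLesH
import Groth.Agent.Lib.Helper11.GrVanA
import Groth.Agent.Lib.Helper11.GrCanC

/-!
# Standard graded rings: the top local cohomology has no gaps below the a-invariant
-/

set_option autoImplicit false
set_option linter.unusedSectionVars false
set_option linter.unusedVariables false
set_option linter.style.haveILetI false
universe u

namespace Groth.Agent.Lib27.LD

open DirectSum GrLC Groth.Agent.Lib.Helper11.GrLCLib Groth.Agent.Lib.Helper11.GrLes Matrix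

variable {R : Type u} [CommRing R] [IsNoetherianRing R] {𝒜 : ℤ → AddSubgroup R} [GradedRing 𝒜]

lemma dotL_eq_linearCombination {t : ℕ} (x : Fin t → R) :
    dotL x = Fintype.linearCombination R x := by
  apply LinearMap.ext
  intro w
  rw [dotL_apply, Fintype.linearCombination_apply, dotProduct]
  exact Finset.sum_congr rfl fun b _ => mul_comm _ _

/-- if `m` is generated by linear forms and `H^r_m(R)_n = 0` then `H^r_m(R)_{n+1} = 0`, where `r` is
the top degree. -/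
theorem top_step (m : HomogeneousIdeal 𝒜) (hmax : m.toIdeal.IsMaximal) (t : ℕ) (x : Fin t → R)
    (hx : ∀ b, x b ∈ 𝒜 1) (hspan : m.toIdeal = Ideal.span (Set.range x)) (r : ℕ) (h1 : 1 ≤ r)
    (hvan : ∀ (X : Type u) [AddCommGroup X] [Module R X] (𝒳 : ℤ → AddSubgroup X)
      [DirectSum.Decomposition 𝒳] [SetLike.GradedSMul 𝒜 𝒳] (EX : StarInjRes 𝒜 𝒳),
      Subsingleton (EX.H m (r + 1)))
    (I : StarInjRes 𝒜 𝒜) (n : ℤ) (hn : ∀ z, z ∈ I.Hgr m r n → z = 0) :
    ∀ z, z ∈ I.Hgr m r (n + 1) → z = 0 := by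
  classical
  obtain ⟨a, hadef⟩ : ∃ a : Fin t → ℤ, a = fun _ => 1 := ⟨_, rfl⟩
  let EP : StarInjRes 𝒜 (freeGr 𝒜 a) := starInjRes 𝒜 (freeGr 𝒜 a)
  have hxG : Gmem 𝒜 a 0 x := fun b => by
    rw [zero_add, hadef]; exact hx b
  have hφ : IsGrHomDeg (freeGr 𝒜 a) 𝒜 (dotL x) 0 := dotL_isGrHomDeg hxG
  obtain ⟨T, hTdef⟩ : ∃ T : Submodule R R, T = m.toIdeal := ⟨_, rfl⟩
  have hTh : T.IsHomogeneous 𝒜 := by rw [hTdef]; exact m.isHomogeneous
  letI := quotDecomposition 𝒜 T hTh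
  let EQ : StarInjRes 𝒜 (quotGrM 𝒜 T) := starInjRes 𝒜 (quotGrM 𝒜 T)
  have hq : IsGrHomDeg 𝒜 (quotGrM 𝒜 T) T.mkQ 0 := by
    intro j y hy
    rw [add_zero]
    exact mkQ_isGrHom 𝒜 T j y hy
  have hex : LinearMap.ker T.mkQ = LinearMap.range (dotL x) := by
    rw [Submodule.ker_mkQ, hTdef, hspan, dotL_eq_linearCombination, Fintype.range_linearCombination]
  have hco : IsCoatom T := by rw [hTdef]; exact Ideal.isMaximal_def.1 hmax
  haveI : IsSimpleModule R (R ⧸ T) := isSimpleModule_iff_isCoatom.2 hco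
  haveI : Module.Finite R (R ⧸ T) := Module.Finite.quotient R T
  haveI : IsNoetherian R (R ⧸ T) := isNoetherian_of_isNoetherianRing_of_finite R (R ⧸ T)
  have hfl : IsFiniteLength R (R ⧸ T) :=
    isFiniteLength_iff_isNoetherian_isArtinian.2 ⟨inferInstance, inferInstance⟩
  haveI hQ0 : Subsingleton (EQ.H m r) := subsingleton_H_of_isFiniteLength hfl EQ m r h1
  obtain ⟨-, hre⟩ := re EP I EQ (dotL x) T.mkQ hφ hq (Submodule.mkQ_surjective T) hex m r hvan
  intro z hz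
  obtain ⟨ξ, hξ⟩ := hre z (Subsingleton.elim _ _)
  have hz' : z ∈ I.Hgr m r ((n + 1) + 0) := by rwa [add_zero]
  obtain ⟨ξ', hξ', hξz⟩ := Hm_exists_hom_preimage hφ hz' ξ hξ
  rw [← hξz, decomp_id (I := I) EP r ξ', map_sum]
  refine Finset.sum_eq_zero fun b _ => ?_
  have hu : Hm EP I m r (LinearMap.proj b) (-a b) (proj_isGrHomDeg 𝒜 a b) ξ' = 0 := by
    apply hn
    have := Hm_mem (E' := I) (proj_isGrHomDeg 𝒜 a b) hξ'
    have e : n + 1 + -a b = n := by rw [hadef]; ring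
    rwa [e] at this
  rw [hu, map_zero, map_zero]

end Groth.Agent.Lib27.LD
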