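import Groth.Agent.Lib27.LD10
import Groth.Agent.Lib.Helper11.GrFieldC
import Groth.Agent.S18656

/-!
# The canonical module of a standard graded ring of dimension ≥ 2 has pieces of dimension ≥ 2
-/

set_option autoImplicit false
set_option linter.unusedSectionVars false
set_option linter.unusedVariables false
set_option linter.style.haveILetI false
universe u

namespace Groth.Agent.Lib27.LD

open DirectSum GrLC Groth.Agent.Lib.Helper11.GrLCLib Groth.Agent.Lib.Helper11.GrLes Matrix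

variable {R : Type u} [CommRing R] [IsNoetherianRing R] {𝒜 : ℤ → AddSubgroup R} [GradedRing 𝒜]

/-- a finite family of generators inside a given set. -/
lemma exists_fin_gens (V : Set R) :
    ∃ (t : ℕ) (x : Fin t → R), (∀ b, x b ∈ V) ∧ Ideal.span V = Ideal.span (Set.range x) := by
  classical
  have hfg : (Submodule.span R V).FG := IsNoetherian.noetherian _
  obtain ⟨s, hs1, hs2⟩ := (Submodule.fg_span_iff_fg_span_finset_subset _).1 hfg
  let x : Fin s.card → R := fun b => (s.equivFin.symm b : R)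
  have hrange : Set.range x = (s : Set R) := by
    ext y
    constructor
    · rintro ⟨b, rfl⟩
      exact (s.equivFin.symm b).2
    · intro hy
      exact ⟨s.equivFin ⟨y, hy⟩, by simp [x]⟩
  refine ⟨s.card, x, fun b => hs1 (s.equivFin.symm b).2, ?_⟩
  rw [hrange]
  exact hs2

/-- the piece of `H^r_m(R)` just below a nonzero piece is not spanned by one element, when `r ≥ 2`. -/
theorem H_not_le_one (hpos : ∀ n : ℤ, n < 0 → 𝒜 n = ⊥) (h0 : IsField (GrLC.deg0 𝒜))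
    (m : HomogeneousIdeal 𝒜) (hm : GrLC.IsStarLocal 𝒜 m)
    (hmsp : m.toIdeal = Ideal.span (⋃ n ∈ Set.Ioi (0 : ℤ), (𝒜 n : Set R)))
    (hstd : Ideal.span (⋃ n ∈ Set.Ioi (0 : ℤ), (𝒜 n : Set R)) =
      Ideal.span ((𝒜 1 : AddSubgroup R) : Set R))
    (r : ℕ) (hr : ringKrullDim R = r) (h2 : 2 ≤ r) (I : StarInjRes 𝒜 𝒜) (i : ℤ)
    (z₀ : I.H m r) (hz₀ : z₀ ∈ I.Hgr m r (i + 1)) (hz₀ne : z₀ ≠ 0)
    (η : I.H m r) (hη : η ∈ I.Hgr m r i)
    (hspan : ∀ z, z ∈ I.Hgr m r i → ∃ c ∈ 𝒜 0, z = c • η) : False := by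
  classical
  letI : Field (GrLC.deg0 𝒜) := h0.toField
  have hmspan : m.toIdeal = Ideal.span ((𝒜 1 : AddSubgroup R) : Set R) := hmsp.trans hstd
  have hmax := Groth.Agent.Lib.Helper11.GrLes.isMaximal_of_isCoatom 𝒜 hpos hm.1
  have hht : m.toIdeal.height = r := by
    have := Groth.Agent.Lib.Helper11.GrLes.ringKrullDim_eq_height 𝒜 hpos hm
    rw [hr] at this
    exact_mod_cast this.symm
  have hvan : ∀ (X : Type u) [AddCommGroup X] [Module R X] (𝒳 : ℤ → AddSubgroup X)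
      [DirectSum.Decomposition 𝒳] [SetLike.GradedSMul 𝒜 𝒳] (EX : StarInjRes 𝒜 𝒳),
      Subsingleton (EX.H m (r + 1)) := fun X _ _ 𝒳 _ _ EX =>
    Groth.Agent.Lib.Helper11.GrVan.subsingleton_H_of_height_lt hm.1 EX r hht (r + 1)
      (Nat.lt_succ_self r)
  -- every class of degree `i + 1` is a linear form times `η`
  have hgen : ∀ (t : ℕ) (x : Fin t → R), (∀ b, x b ∈ 𝒜 1) →
      Module.supportDim R (R ⧸ Ideal.span (Set.range x)) < (r : WithBot ℕ∞) →
      ∀ z, z ∈ I.Hgr m r (i + 1) → ∃ c : Fin t → R, (∀ b, c b ∈ 𝒜 0) ∧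
        z = ∑ b, (c b * x b) • η := by
    intro t x hx hdim z hz
    obtain ⟨u, hu, hzu⟩ := top_gen m t x hx r hdim hvan I i z hz
    choose c hc hcu using fun b => hspan (u b) (hu b)
    refine ⟨c, hc, ?_⟩
    rw [hzu]
    refine Finset.sum_congr rfl fun b _ => ?_
    rw [hcu b, smul_smul, mul_comm]
  -- step (a): with generators of `m`
  obtain ⟨t, x, hx, hxspan⟩ := exists_fin_gens (R := R) ((𝒜 1 : AddSubgroup R) : Set R)
  have hdim_m : Module.supportDim R (R ⧸ Ideal.span (Set.range x)) < (r : WithBot ℕ∞) := by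
    rw [← hxspan, ← hmspan, Module.supportDim_quotient_eq_ringKrullDim]
    letI := Ideal.Quotient.field m.toIdeal
    rw [ringKrullDim_eq_zero_of_field]
    exact_mod_cast (by omega : 0 < r)
  obtain ⟨c, hc, hz₀c⟩ := hgen t x hx hdim_m z₀ hz₀
  obtain ⟨y, hy, hyη⟩ : ∃ y ∈ 𝒜 1, z₀ = y • η := by
    refine ⟨∑ b, c b * x b, ?_, ?_⟩
    · refine AddSubgroup.sum_mem _ fun b _ => ?_
      have := SetLike.GradedMul.mul_mem (A := 𝒜) (hc b) (hx b)
      rwa [zero_add] at this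
    · rw [hz₀c, Finset.sum_smul]
  -- a functional not vanishing at `z₀`
  obtain ⟨ξ, hξ⟩ : ∃ ξ : Module.Dual (GrLC.deg0 𝒜) (I.H m r), ξ z₀ ≠ 0 := by
    by_contra hcon
    push Not at hcon
    exact hz₀ne ((Module.forall_dual_apply_eq_zero_iff (GrLC.deg0 𝒜) z₀).mp hcon)
  have hξsmul : ∀ (c : R) (hc : c ∈ 𝒜 0) (w : I.H m r),
      ξ (c • w) = (⟨c, hc⟩ : GrLC.deg0 𝒜) * ξ w := by
    intro c hc w
    have : c • w = (⟨c, hc⟩ : GrLC.deg0 𝒜) • w := rfl
    rw [this, map_smul, smul_eq_mul]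
  obtain ⟨Vset, hVdef⟩ : ∃ Vset : Set R, Vset = {v | v ∈ 𝒜 1 ∧ ξ (v • η) = 0} := ⟨_, rfl⟩
  have hV : ∀ x ∈ 𝒜 1, ∃ c ∈ 𝒜 0, x - c * y ∈ Ideal.span Vset := by
    intro x hx1
    let c : GrLC.deg0 𝒜 := ξ (x • η) * (ξ z₀)⁻¹
    refine ⟨(c : R), c.2, Ideal.subset_span ?_⟩
    rw [hVdef]
    refine ⟨?_, ?_⟩
    · refine sub_mem hx1 ?_
      have := SetLike.GradedMul.mul_mem (A := 𝒜) c.2 hy
      rwa [zero_add] at this
    · rw [sub_smul, map_sub, mul_smul, ← hyη, hξsmul (c : R) c.2 z₀]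
      change ξ (x • η) - c * ξ z₀ = 0
      rw [show c = ξ (x • η) * (ξ z₀)⁻¹ from rfl, mul_assoc, inv_mul_cancel₀ hξ, mul_one, sub_self]
  have hdimJ : ringKrullDim (R ⧸ Ideal.span Vset) ≤ 1 :=
    ringKrullDim_quot_le_one hpos h0 hstd (Ideal.span Vset) y hV
  obtain ⟨t', x', hx', hx'span⟩ := exists_fin_gens (R := R) Vset
  have hx'1 : ∀ b, x' b ∈ 𝒜 1 := fun b => by
    have := hx' b
    rw [hVdef] at this
    exact this.1
  have hx'ξ : ∀ b, ξ (x' b • η) = 0 := fun b => by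
    have := hx' b
    rw [hVdef] at this
    exact this.2
  have hdim' : Module.supportDim R (R ⧸ Ideal.span (Set.range x')) < (r : WithBot ℕ∞) := by
    rw [← hx'span, Module.supportDim_quotient_eq_ringKrullDim]
    refine lt_of_le_of_lt hdimJ ?_
    exact_mod_cast (by omega : 1 < r)
  obtain ⟨c', hc', hz₀c'⟩ := hgen t' x' hx'1 hdim' z₀ hz₀
  apply hξ
  rw [hz₀c', map_sum]
  refine Finset.sum_eq_zero fun b _ => ?_
  rw [mul_smul, hξsmul (c' b) (hc' b), hx'ξ b, mul_zero]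

end Groth.Agent.Lib27.LD
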