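import Groth.Agent.Lib27.Kos5
import Groth.Agent.Lib27.LD11

/-!
# Castelnuovo–Mumford regularity over an arbitrary Noetherian base
-/

set_option autoImplicit false
set_option linter.unusedSectionVars false
set_option linter.unusedVariables false
set_option linter.style.haveILetI false
universe u

namespace Groth.Agent.Lib27.Kos

open DirectSum GrLC Groth.Agent.Lib.Helper11.GrLCLib Groth.Agent.Lib.Helper11.GrLes
  Groth.Agent.Lib27.LD

variable {R : Type u} [CommRing R] {𝒜 : ℤ → AddSubgroup R} [GradedRing 𝒜]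
variable {M : Type u} [AddCommGroup M] [Module R M] (ℳ : ℤ → AddSubgroup M)
  [DirectSum.Decomposition ℳ] [SetLike.GradedSMul 𝒜 ℳ]

section Bound

/-- a finitely generated graded module over a non-negatively graded ring is bounded below. -/
theorem exists_bound_below [Module.Finite R M] (hpos : ∀ n : ℤ, n < 0 → 𝒜 n = ⊥) :
    ∃ n₀ : ℤ, ∀ n < n₀, ∀ m ∈ ℳ n, m = 0 := by
  classical
  obtain ⟨T, hT⟩ := (Module.finite_def.1 (inferInstance : Module.Finite R M))
  let S : Finset ℤ := T.biUnion (fun t => (decompose ℳ t).support)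
  let n₀ : ℤ := -(∑ i ∈ S, |i|)
  have hS : ∀ i ∈ S, n₀ ≤ i := by
    intro i hi
    have h1 : |i| ≤ ∑ i ∈ S, |i| := Finset.single_le_sum (f := fun i => |i|)
      (fun y _ => abs_nonneg _) hi
    have h2 := neg_abs_le i
    change -(∑ i ∈ S, |i|) ≤ i
    omega
  have hneg : ∀ (e : ℤ) (r : R), e < 0 → (decompose 𝒜 r e : R) = 0 := by
    intro e r he
    have hmem : ((decompose 𝒜 r e : 𝒜 e) : R) ∈ (⊥ : AddSubgroup R) := hpos e he ▸ SetLike.coe_mem _
    exact (AddSubgroup.mem_bot).1 hmem
  let N : Submodule R M :=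
    { carrier := {y | ∀ n < n₀, (decompose ℳ y n : M) = 0}
      zero_mem' := fun n _ => by rw [decompose_zero, DirectSum.zero_apply, ZeroMemClass.coe_zero]
      add_mem' := fun {y y'} hy hy' n hn => by
        rw [decompose_add, DirectSum.add_apply, AddSubgroup.coe_add, hy n hn, hy' n hn, add_zero]
      smul_mem' := fun r y hy n hn => by
        rw [← DirectSum.sum_support_decompose 𝒜 r, Finset.sum_smul, decompose_sum,
          DFinsupp.finsetSum_apply, AddSubmonoidClass.coe_finsetSum]
        refine Finset.sum_eq_zero fun e _ => ?_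
        conv_lhs => rw [← DirectSum.sum_support_decompose ℳ y]
        rw [Finset.smul_sum, decompose_sum, DFinsupp.finsetSum_apply,
          AddSubmonoidClass.coe_finsetSum]
        refine Finset.sum_eq_zero fun d _ => ?_
        have hmem : (decompose 𝒜 r e : R) • (decompose ℳ y d : M) ∈ ℳ (e + d) := by
          have := SetLike.GradedSMul.smul_mem (A := 𝒜) (B := ℳ)
            (SetLike.coe_mem (decompose 𝒜 r e)) (SetLike.coe_mem (decompose ℳ y d))
          rwa [vadd_eq_add] at this
        by_cases hed : e + d = n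
        · by_cases he : e < 0
          · rw [hneg e r he, zero_smul, decompose_zero, DirectSum.zero_apply,
              ZeroMemClass.coe_zero]
          · rw [hy d (by omega), smul_zero, decompose_zero, DirectSum.zero_apply,
              ZeroMemClass.coe_zero]
        · exact decompose_of_mem_ne ℳ hmem hed }
  have hTN : (T : Set M) ⊆ N := by
    intro t ht n hn
    by_contra hne
    have hmem : n ∈ S := by
      refine Finset.mem_biUnion.2 ⟨t, ht, ?_⟩
      rw [DFinsupp.mem_support_toFun]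
      intro h0
      apply hne
      rw [h0]
      rfl
    have := hS n hmem
    omega
  have hN : N = ⊤ := by
    rw [eq_top_iff, ← hT]
    exact Submodule.span_le.2 hTN
  refine ⟨n₀, fun n hn m hm => ?_⟩
  have hmN : m ∈ N := hN ▸ Submodule.mem_top
  have := hmN n hn
  rwa [decompose_of_mem_same ℳ hm] at this

end Bound

variable [IsNoetherianRing R]

section Persist

/-- persistence of regularity above level `l ≥ 1`. -/
theorem persist (a : HomogeneousIdeal 𝒜)
    (hhom : a.toIdeal = Ideal.span ((𝒜 1 : AddSubgroup R) : Set R)) (r : ℤ) (l : ℕ) (hl : 1 ≤ l)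
    (hvan : ∀ i : ℕ, l ≤ i → Van (𝒜 := 𝒜) ℳ a i (r + 1 - i)) :
    ∀ t : ℤ, r + 1 ≤ t → ∀ i : ℕ, l ≤ i → Van (𝒜 := 𝒜) ℳ a i (t - i) := by
  obtain ⟨s, x, hx, hxspan⟩ := exists_fin_gens (R := R) ((𝒜 1 : AddSubgroup R) : Set R)
  have ha : a.toIdeal = Ideal.span (Set.range x) := by rw [hhom, hxspan]
  intro t ht
  induction t, ht using Int.leInduction with
  | base => exact hvan
  | succ t ht ih =>
    intro i hi
    obtain ⟨i', rfl⟩ : ∃ i', i = i' + 1 := ⟨i - 1, by omega⟩
    apply reg_step ℳ hx ha i'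
    intro j
    have := ih (i' + 1 + j) (by omega)
    have e : t - ((i' + 1 + j : ℕ) : ℤ) = t + 1 - ((i' + 1 : ℕ) : ℤ) - 1 - (j : ℤ) := by
      push_cast; ring
    rwa [e] at this

end Persist

section Gen

/-- `M` is generated in degrees at most its regularity. -/
theorem span_le_reg [Module.Finite R M] (hpos : ∀ n : ℤ, n < 0 → 𝒜 n = ⊥)
    (a : HomogeneousIdeal 𝒜)
    (hhom : a.toIdeal = Ideal.span ((𝒜 1 : AddSubgroup R) : Set R)) (E : StarInjRes 𝒜 ℳ) :
    Submodule.span R (⋃ (n : ℤ) (_ : ((n : WithTop ℤ) : WithBot (WithTop ℤ)) ≤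
      ⨆ i : ℕ, GrLC.endDeg (E.Hgr a i) + ((i : ℤ) : WithTop ℤ)), (ℳ n : Set M)) = ⊤ := by
  classical
  obtain ⟨s, x, hx, hxspan⟩ := exists_fin_gens (R := R) ((𝒜 1 : AddSubgroup R) : Set R)
  have ha : a.toIdeal = Ideal.span (Set.range x) := by rw [hhom, hxspan]
  obtain ⟨ρ, hρ⟩ : ∃ ρ : WithBot (WithTop ℤ),
      ρ = ⨆ i : ℕ, GrLC.endDeg (E.Hgr a i) + ((i : ℤ) : WithTop ℤ) := ⟨_, rfl⟩
  rw [← hρ]
  obtain ⟨N, hN⟩ : ∃ N : Submodule R M, N = Submodule.span R
      (⋃ (n : ℤ) (_ : ((n : WithTop ℤ) : WithBot (WithTop ℤ)) ≤ ρ), (ℳ n : Set M)) := ⟨_, rfl⟩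
  rw [← hN]
  obtain ⟨n₀, hn₀⟩ := exists_bound_below ℳ hpos
  have key : ∀ k : ℕ, ∀ n : ℤ, n < n₀ + k → ∀ m ∈ ℳ n, m ∈ N := by
    intro k
    induction k with
    | zero =>
      intro n hn m hm
      rw [hn₀ n (by simpa using hn) m hm]
      exact zero_mem _
    | succ k ih =>
      intro n hn m hm
      by_cases hlt : n < n₀ + k
      · exact ih n hlt m hm
      by_cases hle : ((n : WithTop ℤ) : WithBot (WithTop ℤ)) ≤ ρ
      · rw [hN]
        apply Submodule.subset_span
        exact Set.mem_iUnion₂.2 ⟨n, hle, hm⟩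
      -- above the regularity: use the Koszul chase
      have hvan : ∀ i : ℕ, Van (𝒜 := 𝒜) ℳ a i (n - i) := by
        intro i
        apply van_of_res E
        intro z hz
        by_contra hz0
        apply hle
        have hne : E.Hgr a i (n - i) ≠ ⊥ := by
          intro hbot
          rw [hbot] at hz
          exact hz0 ((AddSubgroup.mem_bot).1 hz)
        have h1 := le_endDeg (E.Hgr a i) hne
        have h2 : GrLC.endDeg (E.Hgr a i) + (((i : ℤ) : WithTop ℤ) : WithBot (WithTop ℤ)) ≤ ρ := by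
          rw [hρ]
          exact le_iSup (fun i : ℕ => GrLC.endDeg (E.Hgr a i) +
            (((i : ℤ) : WithTop ℤ) : WithBot (WithTop ℤ))) i
        refine le_trans (le_of_eq ?_) (le_trans (add_le_add_left h1 _) h2)
        unfold cc
        norm_cast
        ring
      obtain ⟨g, hg, rfl⟩ := gen_step ℳ hx ha n hvan m hm
      refine Submodule.sum_mem _ fun j _ => Submodule.smul_mem _ _ ?_
      exact ih (n - 1) (by push_cast at hn ⊢; omega) (g j) (hg j)
  rw [eq_top_iff]
  intro m _
  rw [← DirectSum.sum_support_decompose ℳ m]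
  refine Submodule.sum_mem _ fun n _ => ?_
  exact key (n - n₀ + 1).toNat n (by omega) _ (SetLike.coe_mem _)

end Gen

end Groth.Agent.Lib27.Kos
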