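import Mathlib

/-!
# Graded pieces of free modules over a ℤ-graded algebra
-/

set_option autoImplicit false

universe u

namespace Groth.Agent.Lib27.GrHilb

section Generic

variable {k : Type*} [CommRing k] {A : Type*} [CommRing A] [Algebra k A]
  (𝒜 : ℤ → Submodule k A) [GradedAlgebra 𝒜]
variable {M : Type*} [AddCommGroup M] [Module k M] [Module A M]
  (ℳ : ℤ → Submodule k M) [DirectSum.Decomposition ℳ] [SetLike.GradedSMul 𝒜 ℳ]

/-- projection to a graded piece. -/
noncomputable def projTo (e : ℤ) : A →ₗ[k] ↥(𝒜 e) :=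
  (DirectSum.component k ℤ (fun i => ↥(𝒜 i)) e).comp
    (DirectSum.decomposeLinearEquiv 𝒜).toLinearMap

lemma projTo_coe (e : ℤ) (x : A) : (projTo 𝒜 e x : A) = (DirectSum.decompose 𝒜 x e : A) := rfl

lemma projTo_of_mem {e : ℤ} {x : A} (hx : x ∈ 𝒜 e) : (projTo 𝒜 e x : A) = x :=
  DirectSum.decompose_of_mem_same 𝒜 hx

lemma projTo_of_mem_ne {e e' : ℤ} {x : A} (hx : x ∈ 𝒜 e) (h : e ≠ e') :
    (projTo 𝒜 e' x : A) = 0 :=
  DirectSum.decompose_of_mem_ne 𝒜 hx h

lemma projTo_mul_of_left_mem {p q : ℤ} {a b : A} (ha : a ∈ 𝒜 p) :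
    (projTo 𝒜 q (a * b) : A) = a * (projTo 𝒜 (q - p) b : A) := by
  have := DirectSum.coe_decompose_mul_add_of_left_mem 𝒜 (i := p) (j := q - p) (b := b) ha
  rw [add_sub_cancel] at this
  exact this

/-- projection to a graded piece of a graded module. -/
noncomputable def projToM (e : ℤ) : M →ₗ[k] ↥(ℳ e) :=
  (DirectSum.component k ℤ (fun i => ↥(ℳ i)) e).comp
    (DirectSum.decomposeLinearEquiv ℳ).toLinearMap

lemma projToM_coe (e : ℤ) (x : M) :
    (projToM ℳ e x : M) = (DirectSum.decompose ℳ x e : M) := rfl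

lemma projToM_of_mem {e : ℤ} {x : M} (hx : x ∈ ℳ e) : (projToM ℳ e x : M) = x :=
  DirectSum.decompose_of_mem_same ℳ hx

lemma projToM_of_mem_ne {e e' : ℤ} {x : M} (hx : x ∈ ℳ e) (h : e ≠ e') :
    (projToM ℳ e' x : M) = 0 :=
  DirectSum.decompose_of_mem_ne ℳ hx h

lemma projToM_smul_of_mem {p q : ℤ} (x : A) {y : M} (hy : y ∈ ℳ p) :
    (projToM ℳ q (x • y) : M) = (projTo 𝒜 (q - p) x : A) • y := by
  induction x using DirectSum.Decomposition.inductionOn 𝒜 with
  | zero => simp
  | @homogeneous e x =>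
    have hmem : (x : A) • y ∈ ℳ (e + p) := SetLike.GradedSMul.smul_mem x.2 hy
    by_cases h : e + p = q
    · subst h
      rw [projToM_of_mem ℳ hmem, add_sub_cancel_right, projTo_of_mem 𝒜 x.2]
    · rw [projToM_of_mem_ne ℳ hmem h, projTo_of_mem_ne 𝒜 x.2 (by omega), zero_smul]
  | add x x' hx hx' =>
    rw [add_smul, map_add, map_add, Submodule.coe_add, Submodule.coe_add, hx, hx', add_smul]

end Generic

section Pieces

variable {k : Type*} [CommRing k] {A : Type*} [CommRing A] [Algebra k A]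
  (𝒜 : ℤ → Submodule k A) [GradedAlgebra 𝒜]
variable {n : ℕ} (deg : Fin n → ℤ) (d : ℤ)

/-- the degree `d` piece of the free module with basis degrees `deg`. -/
abbrev Piece := ∀ b : Fin n, ↥(𝒜 (d - deg b))

/-- the inclusion of a graded piece into the free module. -/
noncomputable def incl : Piece 𝒜 deg d →ₗ[k] (Fin n → A) :=
  LinearMap.pi fun b => (𝒜 (d - deg b)).subtype.comp (LinearMap.proj b)

/-- the projection of the free module onto a graded piece. -/
noncomputable def projP : (Fin n → A) →ₗ[k] Piece 𝒜 deg d :=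
  LinearMap.pi fun b => (projTo 𝒜 (d - deg b)).comp (LinearMap.proj b)

lemma incl_apply (v : Piece 𝒜 deg d) (b : Fin n) : incl 𝒜 deg d v b = (v b : A) := rfl

lemma projP_apply (w : Fin n → A) (b : Fin n) :
    (projP 𝒜 deg d w b : A) = (projTo 𝒜 (d - deg b) (w b) : A) := rfl

lemma projP_incl (v : Piece 𝒜 deg d) : projP 𝒜 deg d (incl 𝒜 deg d v) = v := by
  funext b
  apply Subtype.ext
  rw [projP_apply, incl_apply]
  exact projTo_of_mem 𝒜 (v b).2

lemma incl_injective : Function.Injective (incl 𝒜 deg d) := by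
  intro v v' h
  funext b
  apply Subtype.ext
  exact congrFun h b

lemma incl_projP_of_mem (w : Fin n → A) (hw : ∀ b, w b ∈ 𝒜 (d - deg b)) :
    incl 𝒜 deg d (projP 𝒜 deg d w) = w := by
  funext b
  rw [incl_apply, projP_apply]
  exact projTo_of_mem 𝒜 (hw b)

end Pieces

section Mat

variable {k : Type*} [CommRing k] {A : Type*} [CommRing A] [Algebra k A]
  (𝒜 : ℤ → Submodule k A) [GradedAlgebra 𝒜]
variable {n m : ℕ} (degn : Fin n → ℤ) (degm : Fin m → ℤ) (d : ℤ)
  (D : Matrix (Fin n) (Fin m) A) (hD : ∀ a b, D a b ∈ 𝒜 (degm b - degn a))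

include hD in
lemma mulVec_mem (v : Piece 𝒜 degm d) (a : Fin n) :
    (D.mulVec (incl 𝒜 degm d v)) a ∈ 𝒜 (d - degn a) := by
  simp only [Matrix.mulVec, dotProduct]
  apply Submodule.sum_mem
  intro b _
  have := SetLike.GradedMul.mul_mem (hD a b) (v b).2
  rw [show degm b - degn a + (d - degm b) = d - degn a by ring] at this
  exact this

include hD in
lemma projP_mulVec (w : Fin m → A) :
    projP 𝒜 degn d (D.mulVec w) =
      projP 𝒜 degn d (D.mulVec (incl 𝒜 degm d (projP 𝒜 degm d w))) := by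
  funext a
  apply Subtype.ext
  rw [projP_apply, projP_apply]
  simp only [Matrix.mulVec, dotProduct]
  rw [map_sum, map_sum, AddSubmonoidClass.coe_finset_sum, AddSubmonoidClass.coe_finset_sum]
  refine Finset.sum_congr rfl fun b _ => ?_
  rw [projTo_mul_of_left_mem 𝒜 (hD a b), projTo_mul_of_left_mem 𝒜 (hD a b),
    sub_sub_sub_cancel_right, incl_apply, projP_apply]
  congr 1
  exact (projTo_of_mem 𝒜 (projTo 𝒜 (d - degm b) (w b)).2).symm

end Mat

end Groth.Agent.Lib27.GrHilb
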