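import Mathlib
import Groth.Prelude.Def_GrSyz
import Groth.Agent.Lib27.GrHilb2

/-!
# Minimal homogeneous generators of graded modules (abstract form)
-/

set_option autoImplicit false

universe u

namespace Groth.Agent.Lib27.GrMin

open Groth.Agent.Lib27.GrHilb

section Cmp

variable {k : Type*} [CommRing k] {A : Type*} [CommRing A] [Algebra k A]
  (𝒜 : ℤ → Submodule k A) [GradedAlgebra 𝒜]

/-- the degree `e` component as an additive endomorphism. -/
noncomputable def cmp (e : ℤ) : A →+ A :=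
  ((𝒜 e).subtype.comp (projTo 𝒜 e)).toAddMonoidHom

lemma cmp_apply (e : ℤ) (a : A) : cmp 𝒜 e a = (projTo 𝒜 e a : A) := rfl

lemma cmp_mem (e : ℤ) (a : A) : cmp 𝒜 e a ∈ 𝒜 e := (projTo 𝒜 e a).2

lemma cmp_of_mem {e : ℤ} {a : A} (h : a ∈ 𝒜 e) : cmp 𝒜 e a = a := projTo_of_mem 𝒜 h

lemma cmp_of_mem_ne {e e' : ℤ} {a : A} (h : a ∈ 𝒜 e) (hne : e ≠ e') : cmp 𝒜 e' a = 0 :=
  projTo_of_mem_ne 𝒜 h hne

lemma cmp_cmp (e' e : ℤ) (a : A) :
    cmp 𝒜 e' (cmp 𝒜 e a) = if e' = e then cmp 𝒜 e a else 0 := by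
  split_ifs with h
  · subst h
    exact cmp_of_mem 𝒜 (cmp_mem 𝒜 _ a)
  · exact cmp_of_mem_ne 𝒜 (cmp_mem 𝒜 e a) (Ne.symm h)

lemma cmp_mul_of_left_mem {p : ℤ} (q : ℤ) {a : A} (b : A) (ha : a ∈ 𝒜 p) :
    cmp 𝒜 q (a * b) = a * cmp 𝒜 (q - p) b :=
  projTo_mul_of_left_mem 𝒜 ha

lemma exists_sum_cmp (a : A) (c : ℤ) :
    ∃ T : Finset ℤ, ∀ T' : Finset ℤ, T ⊆ T' → ∑ d ∈ T', cmp 𝒜 (d - c) a = a := by
  classical
  refine ⟨(DirectSum.decompose 𝒜 a).support.image (· + c), fun T' hT' => ?_⟩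
  rw [← Finset.sum_subset hT' ?_, Finset.sum_image (fun x _ y _ h => add_right_cancel h)]
  · simp only [add_sub_cancel_right]
    exact DirectSum.sum_support_decompose 𝒜 a
  · intro d _ hd
    have : d - c ∉ (DirectSum.decompose 𝒜 a).support := fun h =>
      hd (Finset.mem_image.2 ⟨d - c, h, sub_add_cancel d c⟩)
    rw [DFinsupp.notMem_support_iff] at this
    rw [cmp_apply, projTo_coe, this]
    rfl

end Cmp

section Abstract

variable {k : Type*} [CommRing k] {A : Type*} [CommRing A] [Algebra k A]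
  (𝒜 : ℤ → Submodule k A) [GradedAlgebra 𝒜]

/-- an abstract ℤ-grading on an `A`-module, given by its projections. -/
structure GrStr (N : Type*) [AddCommGroup N] [Module A N] where
  /-- the projections -/
  π : ℤ → N →+ N
  π_π : ∀ d e x, π d (π e x) = if d = e then π e x else 0
  supp : ∀ x, ∃ T : Finset ℤ, ∑ d ∈ T, π d x = x
  π_smul : ∀ (p q : ℤ) (a : A) (x : N), a ∈ 𝒜 p → π q (a • x) = a • π (q - p) x

variable {𝒜}
variable {N : Type*} [AddCommGroup N] [Module A N]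

lemma GrStr.π_smul_hom (G : GrStr 𝒜 N) {p : ℤ} {y : N} (hy : G.π p y = y) (q : ℤ) (a : A) :
    G.π q (a • y) = cmp 𝒜 (q - p) a • y := by
  induction a using DirectSum.Decomposition.inductionOn 𝒜 with
  | zero => simp
  | @homogeneous e x =>
    have h1 : G.π (q - e) y = if q - e = p then y else 0 := by
      calc G.π (q - e) y = G.π (q - e) (G.π p y) := by rw [hy]
        _ = if q - e = p then G.π p y else 0 := G.π_π _ _ _
        _ = _ := by rw [hy]
    rw [G.π_smul e q x y x.2, h1]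
    by_cases h : q - e = p
    · rw [if_pos h, cmp_of_mem 𝒜 (show (x : A) ∈ 𝒜 (q - p) by
        rw [show q - p = e by omega]; exact x.2)]
    · rw [if_neg h, smul_zero, cmp_of_mem_ne 𝒜 x.2 (show e ≠ q - p by omega), zero_smul]
  | add x x' hx hx' =>
    rw [add_smul, map_add, map_add, hx, hx', add_smul]

/-- restriction of a grading to a graded submodule. -/
def GrStr.restrict (G : GrStr 𝒜 N) (K : Submodule A N) (hK : ∀ d, ∀ x ∈ K, G.π d x ∈ K) :
    GrStr 𝒜 ↥K where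
  π d :=
    { toFun := fun x => ⟨G.π d x.1, hK d x.1 x.2⟩
      map_zero' := Subtype.ext (map_zero _)
      map_add' := fun x y => Subtype.ext (map_add _ _ _) }
  π_π d e x := by
    apply Subtype.ext
    show G.π d (G.π e x.1) = _
    rw [G.π_π]
    split_ifs <;> rfl
  supp x := by
    obtain ⟨T, hT⟩ := G.supp x.1
    refine ⟨T, Subtype.ext ?_⟩
    rw [AddSubmonoidClass.coe_finset_sum]
    exact hT
  π_smul p q a x ha := Subtype.ext (G.π_smul p q a x.1 ha)

lemma GrStr.restrict_π_coe (G : GrStr 𝒜 N) (K : Submodule A N)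
    (hK : ∀ d, ∀ x ∈ K, G.π d x ∈ K) (d : ℤ) (x : ↥K) :
    (((G.restrict K hK).π d x : ↥K) : N) = G.π d x.1 := rfl

lemma exists_hom_gens (G : GrStr 𝒜 N) [Module.Finite A N] :
    ∃ (n : ℕ) (deg : Fin n → ℤ) (g : Fin n → N), (∀ b, G.π (deg b) (g b) = g b) ∧
      Submodule.span A (Set.range g) = ⊤ := by
  classical
  obtain ⟨s, hs⟩ := (Module.Finite.fg_top : (⊤ : Submodule A N).FG)
  choose T hT using G.supp
  let Q : Finset (Σ _ : N, ℤ) := s.sigma T
  let e := Q.equivFin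
  refine ⟨Q.card, fun b => (e.symm b).1.2, fun b => G.π (e.symm b).1.2 (e.symm b).1.1, ?_, ?_⟩
  · intro b
    rw [G.π_π, if_pos rfl]
  · rw [eq_top_iff, ← hs, Submodule.span_le]
    intro x hx
    rw [SetLike.mem_coe, ← hT x]
    refine Submodule.sum_mem _ fun d hd => Submodule.subset_span ?_
    have hmem : (⟨x, d⟩ : Σ _ : N, ℤ) ∈ Q := Finset.mem_sigma.2 ⟨hx, hd⟩
    exact ⟨e ⟨_, hmem⟩, by simp⟩

lemma reduce_gens (G : GrStr 𝒜 N) (n : ℕ) (deg : Fin n → ℤ) (g : Fin n → N)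
    (hg : ∀ b, G.π (deg b) (g b) = g b) (hspan : Submodule.span A (Set.range g) = ⊤)
    (w : Fin n → A) (hw : ∑ b, w b • g b = 0) (b0 : Fin n) (hu : IsUnit (cmp 𝒜 0 (w b0))) :
    ∃ m, m < n ∧ ∃ (deg' : Fin m → ℤ) (g' : Fin m → N), (∀ b, G.π (deg' b) (g' b) = g' b) ∧
      Submodule.span A (Set.range g') = ⊤ := by
  cases n with
  | zero => exact b0.elim0
  | succ m =>
    refine ⟨m, Nat.lt_succ_self m, deg ∘ b0.succAbove, g ∘ b0.succAbove, fun b => hg _, ?_⟩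
    have key : ∑ b, cmp 𝒜 (deg b0 - deg b) (w b) • g b = 0 := by
      have h := congrArg (G.π (deg b0)) hw
      rw [map_sum, map_zero] at h
      rw [← h]
      exact Finset.sum_congr rfl fun b _ => (G.π_smul_hom (hg b) _ _).symm
    rw [Fin.sum_univ_succAbove _ b0, sub_self] at key
    have hb0 : g b0 ∈ Submodule.span A (Set.range (g ∘ b0.succAbove)) := by
      obtain ⟨u, hu'⟩ := hu
      rw [← hu'] at key
      have h1 := eq_neg_of_add_eq_zero_left key
      have h2 : g b0 = (↑u⁻¹ : A) • ((u : A) • g b0) := by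
        rw [smul_smul, Units.inv_mul, one_smul]
      rw [h2, h1]
      exact Submodule.smul_mem _ _ (Submodule.neg_mem _ (Submodule.sum_mem _ fun j _ =>
        Submodule.smul_mem _ _ (Submodule.subset_span ⟨j, rfl⟩)))
    rw [eq_top_iff, ← hspan, Submodule.span_le]
    rintro _ ⟨b, rfl⟩
    by_cases hb : b = b0
    · subst hb
      exact hb0
    · obtain ⟨j, rfl⟩ := Fin.exists_succAbove_eq hb
      exact Submodule.subset_span ⟨j, rfl⟩

theorem exists_min_gens (G : GrStr 𝒜 N) [Module.Finite A N] (𝔪 : Ideal A)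
    (h𝔪 : ∀ a : A, a ∉ 𝔪 → IsUnit (cmp 𝒜 0 a)) :
    ∃ (n : ℕ) (deg : Fin n → ℤ) (g : Fin n → N), (∀ b, G.π (deg b) (g b) = g b) ∧
      Submodule.span A (Set.range g) = ⊤ ∧
      ∀ w : Fin n → A, ∑ b, w b • g b = 0 → ∀ b, w b ∈ 𝔪 := by
  classical
  let P : ℕ → Prop := fun n => ∃ (deg : Fin n → ℤ) (g : Fin n → N),
    (∀ b, G.π (deg b) (g b) = g b) ∧ Submodule.span A (Set.range g) = ⊤
  have hex : ∃ n, P n := by
    obtain ⟨n, deg, g, h1, h2⟩ := exists_hom_gens G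
    exact ⟨n, deg, g, h1, h2⟩
  obtain ⟨deg, g, hg, hspan⟩ := Nat.find_spec hex
  refine ⟨Nat.find hex, deg, g, hg, hspan, ?_⟩
  intro w hw b0
  by_contra hb0
  obtain ⟨m, hm, deg', g', h1, h2⟩ := reduce_gens G _ deg g hg hspan w hw b0 (h𝔪 _ hb0)
  exact Nat.find_min hex hm ⟨deg', g', h1, h2⟩

end Abstract

end Groth.Agent.Lib27.GrMin
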