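import Mathlib
import Groth.Prelude.Def_GrSyz
import Groth.Agent.Lib27.GrMin1

/-!
# Existence of minimal graded free resolutions (generic form)
-/

set_option autoImplicit false

universe u

namespace Groth.Agent.Lib27.GrMin

open Groth.Agent.Lib27.GrHilb

section Free

variable {k : Type*} [CommRing k] {A : Type*} [CommRing A] [Algebra k A]
  (𝒜 : ℤ → Submodule k A) [GradedAlgebra 𝒜]

/-- the degree `d` projection of the free module with basis degrees `deg`. -/
noncomputable def πF {n : ℕ} (deg : Fin n → ℤ) (d : ℤ) : (Fin n → A) →+ (Fin n → A) where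
  toFun w b := cmp 𝒜 (d - deg b) (w b)
  map_zero' := by funext b; simp
  map_add' w w' := by funext b; simp

lemma πF_apply {n : ℕ} (deg : Fin n → ℤ) (d : ℤ) (w : Fin n → A) (b : Fin n) :
    πF 𝒜 deg d w b = cmp 𝒜 (d - deg b) (w b) := rfl

/-- the grading of the free module with basis degrees `deg`. -/
noncomputable def freeGrStr {n : ℕ} (deg : Fin n → ℤ) : GrStr 𝒜 (Fin n → A) where
  π := πF 𝒜 deg
  π_π d e w := by
    funext b
    rw [πF_apply, πF_apply, cmp_cmp]
    by_cases h : d = e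
    · subst h
      rw [if_pos rfl, if_pos rfl, πF_apply]
    · rw [if_neg (by omega), if_neg h]
      rfl
  supp w := by
    classical
    choose T hT using fun b => exists_sum_cmp 𝒜 (w b) (deg b)
    refine ⟨Finset.univ.biUnion T, ?_⟩
    funext b
    rw [Finset.sum_apply]
    exact hT b _ (Finset.subset_biUnion_of_mem T (Finset.mem_univ b))
  π_smul p q a w ha := by
    funext b
    show cmp 𝒜 (q - deg b) (a * w b) = a * cmp 𝒜 (q - p - deg b) (w b)
    rw [cmp_mul_of_left_mem 𝒜 _ _ ha, sub_right_comm]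

lemma πF_mulVec {n m : ℕ} (degn : Fin n → ℤ) (degm : Fin m → ℤ) (D : Matrix (Fin n) (Fin m) A)
    (hD : ∀ a b, D a b ∈ 𝒜 (degm b - degn a)) (d : ℤ) (w : Fin m → A) :
    πF 𝒜 degn d (D.mulVec w) = D.mulVec (πF 𝒜 degm d w) := by
  funext a
  show cmp 𝒜 (d - degn a) (∑ b, D a b * w b) = ∑ b, D a b * cmp 𝒜 (d - degm b) (w b)
  rw [map_sum]
  refine Finset.sum_congr rfl fun b _ => ?_
  rw [cmp_mul_of_left_mem 𝒜 _ _ (hD a b), sub_sub_sub_cancel_right]

variable {M : Type*} [AddCommGroup M] [Module k M] [Module A M]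
  (ℳ : ℤ → Submodule k M) [DirectSum.Decomposition ℳ] [SetLike.GradedSMul 𝒜 ℳ]

/-- the abstract grading structure of a graded module. -/
noncomputable def modGrStr : GrStr 𝒜 M where
  π d := ((ℳ d).subtype.comp (projToM ℳ d)).toAddMonoidHom
  π_π d e x := by
    show (projToM ℳ d (projToM ℳ e x : M) : M) = if d = e then (projToM ℳ e x : M) else 0
    split_ifs with h
    · subst h
      exact projToM_of_mem ℳ (projToM ℳ d x).2
    · exact projToM_of_mem_ne ℳ (projToM ℳ e x).2 (Ne.symm h)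
  supp x := by
    classical
    exact ⟨(DirectSum.decompose ℳ x).support, DirectSum.sum_support_decompose ℳ x⟩
  π_smul p q a x ha := by
    show (projToM ℳ q (a • x) : M) = a • (projToM ℳ (q - p) x : M)
    induction x using DirectSum.Decomposition.inductionOn ℳ with
    | zero => simp
    | @homogeneous e y =>
      have hmem : a • (y : M) ∈ ℳ (p + e) := SetLike.GradedSMul.smul_mem ha y.2
      by_cases h : p + e = q
      · subst h
        rw [projToM_of_mem ℳ hmem, add_sub_cancel_left, projToM_of_mem ℳ y.2]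
      · rw [projToM_of_mem_ne ℳ hmem h, projToM_of_mem_ne ℳ y.2 (by omega), smul_zero]
    | add y y' hy hy' =>
      rw [smul_add, map_add, map_add, Submodule.coe_add, Submodule.coe_add, hy, hy', smul_add]

lemma modGrStr_π_apply (d : ℤ) (x : M) : (modGrStr 𝒜 ℳ).π d x = (projToM ℳ d x : M) := rfl

lemma π_linearCombination {n : ℕ} (deg : Fin n → ℤ) (aug : Fin n → M)
    (haug : ∀ b, aug b ∈ ℳ (deg b)) (d : ℤ) (w : Fin n → A) :
    (projToM ℳ d (Fintype.linearCombination A aug w) : M) =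
      Fintype.linearCombination A aug (πF 𝒜 deg d w) := by
  rw [Fintype.linearCombination_apply, Fintype.linearCombination_apply, map_sum,
    AddSubmonoidClass.coe_finset_sum]
  refine Finset.sum_congr rfl fun b _ => ?_
  exact projToM_smul_of_mem 𝒜 ℳ (w b) (haug b)

end Free

section Rec

variable {k : Type u} [CommRing k] {A : Type u} [CommRing A] [Algebra k A]
  (𝒜 : ℤ → Submodule k A) [GradedAlgebra 𝒜] (𝔪 : Ideal A)

/-- the state of the recursion: a graded submodule of a graded free module, contained in `𝔪 F`. -/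
structure St where
  /-- rank -/
  n : ℕ
  /-- basis degrees -/
  deg : Fin n → ℤ
  /-- the submodule to be covered next -/
  K : Submodule A (Fin n → A)
  graded : ∀ d, ∀ w ∈ K, πF 𝒜 deg d w ∈ K
  mem : ∀ w ∈ K, ∀ b, w b ∈ 𝔪

/-- the output of one step. -/
structure StepOut (s : St 𝒜 𝔪) where
  /-- new rank -/
  n' : ℕ
  /-- new degrees -/
  deg' : Fin n' → ℤ
  /-- the matrix -/
  D : Matrix (Fin s.n) (Fin n') A
  hom : ∀ a b, D a b ∈ 𝒜 (deg' b - s.deg a)
  mem : ∀ a b, D a b ∈ 𝔪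
  range_eq : LinearMap.range (Matrix.mulVecLin D) = s.K
  ker_mem : ∀ w, D.mulVec w = 0 → ∀ b, w b ∈ 𝔪

variable {𝒜 𝔪}

/-- the next state. -/
def StepOut.next {s : St 𝒜 𝔪} (o : StepOut 𝒜 𝔪 s) : St 𝒜 𝔪 where
  n := o.n'
  deg := o.deg'
  K := LinearMap.ker (Matrix.mulVecLin o.D)
  graded d w hw := by
    rw [LinearMap.mem_ker, Matrix.mulVecLin_apply] at hw ⊢
    rw [← πF_mulVec 𝒜 s.deg o.deg' o.D o.hom, hw, map_zero]
  mem w hw := o.ker_mem w (by rwa [LinearMap.mem_ker, Matrix.mulVecLin_apply] at hw)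

variable (𝒜 𝔪)

theorem exists_step [IsNoetherianRing A] (h𝔪 : ∀ a : A, a ∉ 𝔪 → IsUnit (cmp 𝒜 0 a))
    (s : St 𝒜 𝔪) : Nonempty (StepOut 𝒜 𝔪 s) := by
  have : Module.Finite A ↥s.K := Module.IsNoetherian.finite A ↥s.K
  let G := (freeGrStr 𝒜 s.deg).restrict s.K s.graded
  obtain ⟨m, deg', g, hg, hspan, hrel⟩ := exists_min_gens G 𝔪 h𝔪
  have hD : ∀ w : Fin m → A, (Matrix.of fun a b => (g b : Fin s.n → A) a).mulVec w =
      ((∑ b, w b • g b : ↥s.K) : Fin s.n → A) := by
    intro w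
    funext a
    rw [AddSubmonoidClass.coe_finset_sum, Finset.sum_apply]
    show ∑ b, (g b : Fin s.n → A) a * w b = _
    refine Finset.sum_congr rfl fun b _ => ?_
    show _ = w b * (g b : Fin s.n → A) a
    exact mul_comm _ _
  refine ⟨⟨m, deg', Matrix.of fun a b => (g b : Fin s.n → A) a, ?_, ?_, ?_, ?_⟩⟩
  · intro a b
    have := congrArg (fun x : ↥s.K => (x : Fin s.n → A) a) (hg b)
    show (g b : Fin s.n → A) a ∈ _
    rw [← this]
    exact cmp_mem 𝒜 _ _
  · intro a b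
    exact s.mem _ (g b).2 a
  · ext v
    constructor
    · rintro ⟨w, rfl⟩
      rw [Matrix.mulVecLin_apply, hD]
      exact (∑ b, w b • g b).2
    · intro hv
      have : (⟨v, hv⟩ : ↥s.K) ∈ Submodule.span A (Set.range g) := by
        rw [hspan]
        trivial
      obtain ⟨w, hw⟩ := (Submodule.mem_span_range_iff_exists_fun A).1 this
      exact ⟨w, by rw [Matrix.mulVecLin_apply, hD, hw]⟩
  · intro w hw b
    apply hrel w _ b
    apply Subtype.ext
    rw [← hD, hw]
    rfl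

/-- a chosen step. -/
noncomputable def step [IsNoetherianRing A] (h𝔪 : ∀ a : A, a ∉ 𝔪 → IsUnit (cmp 𝒜 0 a))
    (s : St 𝒜 𝔪) : StepOut 𝒜 𝔪 s :=
  (exists_step 𝒜 𝔪 h𝔪 s).some

/-- the sequence of states. -/
noncomputable def σ [IsNoetherianRing A] (h𝔪 : ∀ a : A, a ∉ 𝔪 → IsUnit (cmp 𝒜 0 a))
    (s0 : St 𝒜 𝔪) (i : ℕ) : St 𝒜 𝔪 :=
  Nat.rec s0 (fun _ s => (step 𝒜 𝔪 h𝔪 s).next) i

theorem exists_freeRes_isMinimal_gen [IsNoetherianRing A]
    (h𝔪 : ∀ a : A, a ∉ 𝔪 → IsUnit (cmp 𝒜 0 a))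
    {M : Type u} [AddCommGroup M] [Module k M] [Module A M] [Module.Finite A M]
    (ℳ : ℤ → Submodule k M) [DirectSum.Decomposition ℳ] [SetLike.GradedSMul 𝒜 ℳ] :
    ∃ F : GrSyz.FreeRes 𝒜 ℳ, F.IsMinimal 𝔪 := by
  obtain ⟨n, deg, g, hg, hspan, hrel⟩ := exists_min_gens (modGrStr 𝒜 ℳ) 𝔪 h𝔪
  have haug : ∀ b, g b ∈ ℳ (deg b) := fun b => by
    rw [← hg b]
    exact (projToM ℳ (deg b) (g b)).2
  let s0 : St 𝒜 𝔪 :=
    { n := n
      deg := deg
      K := LinearMap.ker (Fintype.linearCombination A g)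
      graded := by
        intro d w hw
        rw [LinearMap.mem_ker] at hw ⊢
        rw [← π_linearCombination 𝒜 ℳ deg g haug, hw, map_zero]
        rfl
      mem := by
        intro w hw b
        rw [LinearMap.mem_ker, Fintype.linearCombination_apply] at hw
        exact hrel w hw b }
  have hsurj : Function.Surjective (Fintype.linearCombination A g) :=
    LinearMap.range_eq_top.1 (by rw [Fintype.range_linearCombination, hspan])
  refine ⟨{ rk := fun i => (σ 𝒜 𝔪 h𝔪 s0 i).n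
            deg := fun i => (σ 𝒜 𝔪 h𝔪 s0 i).deg
            d := fun i => (step 𝒜 𝔪 h𝔪 (σ 𝒜 𝔪 h𝔪 s0 i)).D
            aug := g
            d_mem := fun i a b => (step 𝒜 𝔪 h𝔪 (σ 𝒜 𝔪 h𝔪 s0 i)).hom a b
            aug_mem := haug
            aug_surjective := hsurj
            exact_zero := ((step 𝒜 𝔪 h𝔪 s0).range_eq).symm
            exact_succ := fun i => ((step 𝒜 𝔪 h𝔪 (σ 𝒜 𝔪 h𝔪 s0 (i + 1))).range_eq).symm },
    fun i a b => (step 𝒜 𝔪 h𝔪 (σ 𝒜 𝔪 h𝔪 s0 i)).mem a b⟩

end Rec

end Groth.Agent.Lib27.GrMin
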