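import Mathlib

/-!
# Hilbert's syzygy theorem for minimal complexes, by induction on the number of variables
-/

set_option autoImplicit false

universe u

namespace Groth.Agent.Lib27.Syz

/-- a complex of finite free modules in matrix form, exact in positive degrees, with all
entries in the ideal `𝔪`. -/
structure MinCx (S : Type*) [CommRing S] (𝔪 : Ideal S) where
  /-- ranks -/
  rk : ℕ → ℕ
  /-- matrices -/
  d : (i : ℕ) → Matrix (Fin (rk i)) (Fin (rk (i + 1))) S
  mem : ∀ i a b, d i a b ∈ 𝔪
  exact : ∀ i, LinearMap.ker (Matrix.mulVecLin (d i)) =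
    LinearMap.range (Matrix.mulVecLin (d (i + 1)))

/-- all minimal complexes have length at most `n`. -/
def HasBound (S : Type*) [CommRing S] (𝔪 : Ideal S) (n : ℕ) : Prop :=
  ∀ C : MinCx S 𝔪, ∀ i, n < i → C.rk i = 0

section Step

variable {S S' : Type*} [CommRing S] [CommRing S'] (ρ : S →+* S')

lemma map_mulVec' {m n : ℕ} (D : Matrix (Fin m) (Fin n) S) (v : Fin n → S) :
    (D.map ρ).mulVec (ρ ∘ v) = ρ ∘ (D.mulVec v) := by
  funext i
  exact (RingHom.map_mulVec ρ D v i).symm

theorem hasBound_succ (hρ : Function.Surjective ρ) (x : S)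
    (hker : ∀ p, ρ p = 0 → ∃ q, p = x * q) (hx0 : ρ x = 0) (hx : ∀ q : S, x * q = 0 → q = 0)
    (𝔪 : Ideal S) (𝔪' : Ideal S') (h𝔪 : ∀ p ∈ 𝔪, ρ p ∈ 𝔪') (n : ℕ) (H : HasBound S' 𝔪' n) :
    HasBound S 𝔪 (n + 1) := by
  intro C
  have hlift : ∀ {m : ℕ} (v' : Fin m → S'), ∃ v : Fin m → S, ρ ∘ v = v' := by
    intro m v'
    choose v hv using fun b => hρ (v' b)
    exact ⟨v, funext hv⟩
  have hdiv : ∀ {m : ℕ} (u : Fin m → S), ρ ∘ u = 0 → ∃ u' : Fin m → S, u = x • u' := by
    intro m u hu
    choose u' hu' using fun b => hker (u b) (congrFun hu b)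
    exact ⟨u', funext fun b => by rw [hu' b]; rfl⟩
  have hdd : ∀ i (w : Fin (C.rk (i + 2)) → S), (C.d i).mulVec ((C.d (i + 1)).mulVec w) = 0 := by
    intro i w
    have : (C.d (i + 1)).mulVec w ∈ LinearMap.ker (Matrix.mulVecLin (C.d i)) := by
      rw [C.exact i]
      exact ⟨w, rfl⟩
    exact this
  let C' : MinCx S' 𝔪' :=
    { rk := fun i => C.rk (i + 1)
      d := fun i => (C.d (i + 1)).map ρ
      mem := fun i a b => h𝔪 _ (C.mem (i + 1) a b)
      exact := by
        intro i
        apply le_antisymm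
        · intro v' hv'
          rw [LinearMap.mem_ker, Matrix.mulVecLin_apply] at hv'
          obtain ⟨v, rfl⟩ := hlift v'
          rw [map_mulVec'] at hv'
          obtain ⟨u, hu⟩ := hdiv _ hv'
          have hdu : (C.d i).mulVec u = 0 := by
            have h1 : (C.d i).mulVec (x • u) = 0 := by
              rw [← hu]
              exact hdd i v
            rw [Matrix.mulVec_smul] at h1
            funext a
            exact hx _ (congrFun h1 a)
          have hu2 : u ∈ LinearMap.range (Matrix.mulVecLin (C.d (i + 1))) := by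
            rw [← C.exact i]
            exact hdu
          obtain ⟨v1, hv1⟩ := hu2
          rw [Matrix.mulVecLin_apply] at hv1
          have hker2 : v - x • v1 ∈ LinearMap.ker (Matrix.mulVecLin (C.d (i + 1))) := by
            rw [LinearMap.mem_ker, Matrix.mulVecLin_apply, Matrix.mulVec_sub, Matrix.mulVec_smul,
              hv1, hu, sub_self]
          rw [C.exact (i + 1)] at hker2
          obtain ⟨v2, hv2⟩ := hker2
          rw [Matrix.mulVecLin_apply] at hv2
          refine ⟨ρ ∘ v2, ?_⟩
          rw [Matrix.mulVecLin_apply]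
          show ((C.d (i + 1 + 1)).map ρ).mulVec (ρ ∘ v2) = ρ ∘ v
          rw [map_mulVec', hv2]
          funext b
          show ρ (v b - x * v1 b) = ρ (v b)
          rw [map_sub, map_mul, hx0, zero_mul, sub_zero]
        · rintro _ ⟨v', rfl⟩
          obtain ⟨v, rfl⟩ := hlift v'
          rw [LinearMap.mem_ker, Matrix.mulVecLin_apply, Matrix.mulVecLin_apply]
          show ((C.d (i + 1)).map ρ).mulVec (((C.d (i + 1 + 1)).map ρ).mulVec (ρ ∘ v)) = 0
          rw [map_mulVec', map_mulVec', hdd (i + 1) v]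
          funext b
          exact map_zero ρ }
  intro j hj
  obtain ⟨i, rfl⟩ : ∃ i, j = i + 1 := ⟨j - 1, by omega⟩
  exact H C' i (by omega)

end Step

end Groth.Agent.Lib27.Syz
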