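import Mathlib
import Groth.Agent.Lib27.GrMin2
import Groth.Agent.Lib27.Syz1

/-!
# Generator degrees of graded minimal complexes: reduction modulo a variable
-/

set_option autoImplicit false

universe u

namespace Groth.Agent.Lib27.RegA

open Groth.Agent.Lib27.GrMin Groth.Agent.Lib27.Syz

section Defs

variable {k : Type*} [CommRing k] {S : Type*} [CommRing S] [Algebra k S]
  (𝒜 : ℤ → Submodule k S)

/-- graded complexes of free modules in matrix form with entries in `𝔪`. -/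
structure GrCx (𝔪 : Ideal S) where
  /-- ranks -/
  rk : ℕ → ℕ
  /-- degrees -/
  deg : (i : ℕ) → Fin (rk i) → ℤ
  /-- matrices -/
  d : (i : ℕ) → Matrix (Fin (rk i)) (Fin (rk (i + 1))) S
  d_mem : ∀ i a b, d i a b ∈ 𝒜 (deg (i + 1) b - deg i a)
  min : ∀ i a b, d i a b ∈ 𝔪
  dd : ∀ i (w : Fin (rk (i + 2)) → S), (d i).mulVec ((d (i + 1)).mulVec w) = 0

/-- homogeneous vectors of degree `j`. -/
def IsHom {n : ℕ} (deg : Fin n → ℤ) (j : ℤ) (z : Fin n → S) : Prop :=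
  ∀ b, z b ∈ 𝒜 (j - deg b)

variable {𝒜}

/-- vanishing of `H_0` in degree `j`. -/
def Van0 {𝔪 : Ideal S} (C : GrCx 𝒜 𝔪) (j : ℤ) : Prop :=
  ∀ z, IsHom 𝒜 (C.deg 0) j z → ∃ w, IsHom 𝒜 (C.deg 1) j w ∧ (C.d 0).mulVec w = z

/-- vanishing of `H_{i+1}` in degree `j`. -/
def VanS {𝔪 : Ideal S} (C : GrCx 𝒜 𝔪) (i : ℕ) (j : ℤ) : Prop :=
  ∀ z, IsHom 𝒜 (C.deg (i + 1)) j z → (C.d i).mulVec z = 0 →
    ∃ w, IsHom 𝒜 (C.deg (i + 2)) j w ∧ (C.d (i + 1)).mulVec w = z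

variable (𝒜)

/-- the degree bound property. -/
def Bound (𝔪 : Ideal S) : Prop :=
  ∀ (C : GrCx 𝒜 𝔪) (d : ℤ), (∀ j, d < j → Van0 C j) → (∀ (i : ℕ) (j : ℤ), d + ((i : ℤ) + 1) < j → VanS C i j) →
    ∀ (i : ℕ) (b : Fin (C.rk i)), C.deg i b ≤ d + (i : ℤ)

lemma mulVec_isHom [GradedAlgebra 𝒜] {m n : ℕ} (degm : Fin m → ℤ) (degn : Fin n → ℤ)
    (D : Matrix (Fin m) (Fin n) S) (hD : ∀ a b, D a b ∈ 𝒜 (degn b - degm a)) (j : ℤ)
    (z : Fin n → S) (hz : IsHom 𝒜 degn j z) : IsHom 𝒜 degm j (D.mulVec z) := by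
  intro a
  show ∑ b, D a b * z b ∈ 𝒜 (j - degm a)
  refine sum_mem fun b _ => ?_
  have := SetLike.GradedMul.mul_mem (hD a b) (hz b)
  rwa [show degn b - degm a + (j - degn b) = j - degm a by ring] at this

end Defs

section Step

variable {k : Type*} [CommRing k] {S S' : Type*} [CommRing S] [CommRing S'] [Algebra k S]
  [Algebra k S'] (𝒜 : ℤ → Submodule k S) [GradedAlgebra 𝒜] (𝒜' : ℤ → Submodule k S')
  [GradedAlgebra 𝒜']

theorem bound_step (ρ : S →+* S') (ι : S' → S) (hρι : ∀ q, ρ (ι q) = q)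
    (hρg : ∀ e p, p ∈ 𝒜 e → ρ p ∈ 𝒜' e) (hιg : ∀ e q, q ∈ 𝒜' e → ι q ∈ 𝒜 e)
    (x : S) (hx1 : x ∈ 𝒜 1) (hker : ∀ p, ρ p = 0 → ∃ q, p = x * q) (hx0 : ρ x = 0)
    (hx : ∀ q : S, x * q = 0 → q = 0)
    (𝔪 : Ideal S) (𝔪' : Ideal S') (h𝔪 : ∀ p ∈ 𝔪, ρ p ∈ 𝔪') (H : Bound 𝒜' 𝔪') :
    Bound 𝒜 𝔪 := by
  intro C d h0 hS
  have hlift : ∀ {m : ℕ} (v' : Fin m → S'), ρ ∘ (ι ∘ v') = v' := by
    intro m v'
    funext b
    exact hρι (v' b)
  have hdiv : ∀ {m : ℕ} (u : Fin m → S), ρ ∘ u = 0 → ∃ u' : Fin m → S, u = x • u' := by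
    intro m u hu
    choose u' hu' using fun b => hker (u b) (congrFun hu b)
    exact ⟨u', funext fun b => by rw [hu' b]; rfl⟩
  have hρhom : ∀ {m : ℕ} (deg : Fin m → ℤ) (j : ℤ) (w : Fin m → S), IsHom 𝒜 deg j w →
      IsHom 𝒜' deg j (ρ ∘ w) := fun deg j w hw b => hρg _ _ (hw b)
  have hιhom : ∀ {m : ℕ} (deg : Fin m → ℤ) (j : ℤ) (w : Fin m → S'), IsHom 𝒜' deg j w →
      IsHom 𝒜 deg j (ι ∘ w) := fun deg j w hw b => hιg _ _ (hw b)
  let C' : GrCx 𝒜' 𝔪' :=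
    { rk := C.rk
      deg := C.deg
      d := fun i => (C.d i).map ρ
      d_mem := fun i a b => hρg _ _ (C.d_mem i a b)
      min := fun i a b => h𝔪 _ (C.min i a b)
      dd := by
        intro i w'
        rw [← hlift w', map_mulVec', map_mulVec', C.dd]
        funext b
        exact map_zero ρ }
  refine H C' d ?_ ?_
  · intro j hj z' hz'
    obtain ⟨w, hw, hwz⟩ := h0 j hj (ι ∘ z') (hιhom _ _ _ hz')
    refine ⟨ρ ∘ w, hρhom _ _ _ hw, ?_⟩
    show ((C.d 0).map ρ).mulVec (ρ ∘ w) = z'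
    rw [map_mulVec', hwz, hlift]
  · intro i j hij z' hz' hcyc'
    set z := ι ∘ z' with hzdef
    have hz : IsHom 𝒜 (C.deg (i + 1)) j z := hιhom _ _ _ hz'
    have h1 : ρ ∘ ((C.d i).mulVec z) = 0 := by
      rw [← map_mulVec', hlift]
      exact hcyc'
    obtain ⟨w', hw'⟩ := hdiv _ h1
    have hdz : IsHom 𝒜 (C.deg i) j ((C.d i).mulVec z) :=
      mulVec_isHom 𝒜 _ _ _ (C.d_mem i) j z hz
    set w : Fin (C.rk i) → S := fun a => cmp 𝒜 (j - 1 - C.deg i a) (w' a) with hwdef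
    have hw : IsHom 𝒜 (C.deg i) (j - 1) w := fun a => cmp_mem 𝒜 _ _
    have hxw : (C.d i).mulVec z = x • w := by
      funext a
      have e1 : (C.d i).mulVec z a = cmp 𝒜 (j - C.deg i a) ((C.d i).mulVec z a) :=
        (cmp_of_mem 𝒜 (hdz a)).symm
      rw [e1, hw']
      show cmp 𝒜 (j - C.deg i a) (x * w' a) = x * cmp 𝒜 (j - 1 - C.deg i a) (w' a)
      rw [cmp_mul_of_left_mem 𝒜 _ _ hx1, show j - C.deg i a - 1 = j - 1 - C.deg i a by ring]
    have hu : ∃ u, IsHom 𝒜 (C.deg (i + 1)) (j - 1) u ∧ (C.d i).mulVec u = w := by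
      cases i with
      | zero => exact h0 (j - 1) (by omega) w hw
      | succ i' =>
        have hcw : (C.d i').mulVec w = 0 := by
          have h2 : x • (C.d i').mulVec w = 0 := by
            rw [← Matrix.mulVec_smul, ← hxw]
            exact C.dd i' z
          funext a
          exact hx _ (congrFun h2 a)
        exact hS i' (j - 1) (by push_cast at hij ⊢; omega) w hw hcw
    obtain ⟨u, hu1, hu2⟩ := hu
    have hz2 : IsHom 𝒜 (C.deg (i + 1)) j (z - x • u) := by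
      intro b
      refine sub_mem (hz b) ?_
      have := SetLike.GradedMul.mul_mem hx1 (hu1 b)
      rwa [show (1 : ℤ) + (j - 1 - C.deg (i + 1) b) = j - C.deg (i + 1) b by ring] at this
    have hcyc2 : (C.d i).mulVec (z - x • u) = 0 := by
      rw [Matrix.mulVec_sub, Matrix.mulVec_smul, hu2, hxw, sub_self]
    obtain ⟨v, hv1, hv2⟩ := hS i j hij _ hz2 hcyc2
    refine ⟨ρ ∘ v, hρhom _ _ _ hv1, ?_⟩
    show ((C.d (i + 1)).map ρ).mulVec (ρ ∘ v) = z'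
    rw [map_mulVec', hv2]
    funext b
    show ρ (z b - x * u b) = z' b
    rw [map_sub, map_mul, hx0, zero_mul, sub_zero]
    exact hρι (z' b)

end Step

end Groth.Agent.Lib27.RegA
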