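import Mathlib
import Groth.Prelude.Def_GrSyz

/-!
# Dimension of the graded pieces of a polynomial ring
-/

set_option autoImplicit false
open MvPolynomial

universe u

namespace Groth.Agent.Lib27.GrHilb

variable (k : Type u) [Field k] (r : ℕ)

lemma weight_one (d : Fin (r + 1) →₀ ℕ) :
    Finsupp.weight (fun _ : Fin (r + 1) => (1 : ℤ)) d = ((∑ i, d i : ℕ) : ℤ) := by
  rw [Finsupp.weight_apply, Finsupp.sum_fintype _ _ (fun i => by simp)]
  push_cast
  simp

lemma setOf_weight_eq_natCast (n : ℕ) :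
    {d : Fin (r + 1) →₀ ℕ | Finsupp.weight (fun _ : Fin (r + 1) => (1 : ℤ)) d = (n : ℤ)} =
      ↑((Finset.univ : Finset (Fin (r + 1))).finsuppAntidiag n) := by
  ext d
  simp only [Set.mem_setOf_eq, Finset.mem_coe, Finset.mem_finsuppAntidiag, Finset.subset_univ,
    and_true]
  rw [weight_one]
  exact Nat.cast_inj

lemma setOf_weight_eq_neg (e : ℤ) (he : e < 0) :
    {d : Fin (r + 1) →₀ ℕ | Finsupp.weight (fun _ : Fin (r + 1) => (1 : ℤ)) d = e} = ∅ := by
  ext d
  simp only [Set.mem_setOf_eq, Set.mem_empty_iff_false, iff_false]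
  rw [weight_one]
  intro h
  have : (0 : ℤ) ≤ ((∑ i, d i : ℕ) : ℤ) := Int.natCast_nonneg _
  omega

/-- the linear equivalence between a graded piece and finitely supported functions on monomials. -/
noncomputable def stdGrEquiv (e : ℤ) :
    ↥(GrSyz.stdGr k (Fin (r + 1)) e) ≃ₗ[k]
      ({d : Fin (r + 1) →₀ ℕ | Finsupp.weight (fun _ : Fin (r + 1) => (1 : ℤ)) d = e} →₀ k) :=
  (LinearEquiv.ofEq _ _ (weightedHomogeneousSubmodule_eq_finsupp_supported k
    (fun _ : Fin (r + 1) => (1 : ℤ)) e)).trans (AddMonoidAlgebra.supportedEquivFinsupp _)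

lemma finrank_stdGr_natCast (n : ℕ) :
    Module.finrank k ↥(GrSyz.stdGr k (Fin (r + 1)) (n : ℤ)) = Nat.choose (r + n) r := by
  classical
  rw [LinearEquiv.finrank_eq (stdGrEquiv k r n)]
  have hfin : Fintype ↥{d : Fin (r + 1) →₀ ℕ |
      Finsupp.weight (fun _ : Fin (r + 1) => (1 : ℤ)) d = (n : ℤ)} := by
    rw [setOf_weight_eq_natCast]
    infer_instance
  rw [Module.finrank_finsupp_self]
  have : Fintype.card ↥{d : Fin (r + 1) →₀ ℕ |
      Finsupp.weight (fun _ : Fin (r + 1) => (1 : ℤ)) d = (n : ℤ)} =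
      ((Finset.univ : Finset (Fin (r + 1))).finsuppAntidiag n).card := by
    rw [← Fintype.card_coe]
    exact Fintype.card_congr (Equiv.setCongr (setOf_weight_eq_natCast r n))
  rw [this, Finset.card_finsuppAntidiag_nat_eq_choose, Finset.card_univ, Fintype.card_fin,
    show r + 1 + n - 1 = r + n by omega, Nat.choose_symm_add]

lemma finrank_stdGr_neg (e : ℤ) (he : e < 0) :
    Module.finrank k ↥(GrSyz.stdGr k (Fin (r + 1)) e) = 0 := by
  rw [LinearEquiv.finrank_eq (stdGrEquiv k r e)]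
  have : IsEmpty ↥{d : Fin (r + 1) →₀ ℕ |
      Finsupp.weight (fun _ : Fin (r + 1) => (1 : ℤ)) d = e} := by
    rw [setOf_weight_eq_neg r e he]
    infer_instance
  exact Module.finrank_zero_of_subsingleton

lemma finrank_stdGr (e : ℤ) :
    Module.finrank k ↥(GrSyz.stdGr k (Fin (r + 1)) e) =
      if 0 ≤ e then Nat.choose (r + e.toNat) r else 0 := by
  split_ifs with h
  · obtain ⟨n, rfl⟩ := Int.eq_ofNat_of_zero_le h
    rw [finrank_stdGr_natCast, Int.toNat_natCast]
  · exact finrank_stdGr_neg k r e (by omega)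

instance finite_stdGr (e : ℤ) : Module.Finite k ↥(GrSyz.stdGr k (Fin (r + 1)) e) := by
  by_cases h : 0 ≤ e
  · obtain ⟨n, rfl⟩ := Int.eq_ofNat_of_zero_le h
    have hfin : Finite ↥{d : Fin (r + 1) →₀ ℕ |
        Finsupp.weight (fun _ : Fin (r + 1) => (1 : ℤ)) d = (n : ℤ)} := by
      rw [setOf_weight_eq_natCast]
      infer_instance
    exact Module.Finite.equiv (stdGrEquiv k r n).symm
  · have : IsEmpty ↥{d : Fin (r + 1) →₀ ℕ |
        Finsupp.weight (fun _ : Fin (r + 1) => (1 : ℤ)) d = e} := by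
      rw [setOf_weight_eq_neg r e (by omega)]
      infer_instance
    exact Module.Finite.equiv (stdGrEquiv k r e).symm

end Groth.Agent.Lib27.GrHilb
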