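import Mathlib
import Groth.Prelude.Def_GrSyz
import Groth.Agent.Lib27.GrHilb1
import Groth.Agent.Lib27.GrMin2

/-!
# Polynomial rings: the irrelevant ideal and the degree zero part
-/

set_option autoImplicit false

universe u

namespace Groth.Agent.Lib27.GrMin

open Groth.Agent.Lib27.GrHilb MvPolynomial

variable (k : Type u) [Field k] (r : ℕ)

lemma cmp_stdGr_eq (e : ℤ) (a : MvPolynomial (Fin (r + 1)) k) :
    cmp (GrSyz.stdGr k (Fin (r + 1))) e a =
      weightedHomogeneousComponent (fun _ : Fin (r + 1) => (1 : ℤ)) e a :=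
  MvPolynomial.weightedDecomposition.decompose'_apply k (fun _ : Fin (r + 1) => (1 : ℤ)) a e

lemma weight_eq_zero_iff (d : Fin (r + 1) →₀ ℕ) :
    Finsupp.weight (fun _ : Fin (r + 1) => (1 : ℤ)) d = 0 ↔ d = 0 := by
  rw [weight_one]
  constructor
  · intro h
    have h' : ∑ i, d i = 0 := by exact_mod_cast h
    ext i
    exact (Finset.sum_eq_zero_iff.1 h') i (Finset.mem_univ i)
  · rintro rfl
    simp

lemma weight_pos (d : Fin (r + 1) →₀ ℕ) (hd : d ≠ 0) :
    0 < Finsupp.weight (fun _ : Fin (r + 1) => (1 : ℤ)) d := by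
  have h1 : Finsupp.weight (fun _ : Fin (r + 1) => (1 : ℤ)) d ≠ 0 :=
    fun h => hd ((weight_eq_zero_iff r d).1 h)
  have h2 : 0 ≤ Finsupp.weight (fun _ : Fin (r + 1) => (1 : ℤ)) d := by
    rw [weight_one]
    exact Int.natCast_nonneg _
  omega

lemma cmp_zero_eq (a : MvPolynomial (Fin (r + 1)) k) :
    cmp (GrSyz.stdGr k (Fin (r + 1))) 0 a = C (coeff 0 a) := by
  classical
  rw [cmp_stdGr_eq]
  ext d
  rw [coeff_weightedHomogeneousComponent, coeff_C]
  by_cases hd : d = 0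
  · subst hd
    rw [if_pos rfl, if_pos]
    simp
  · rw [if_neg (Ne.symm hd), if_neg]
    exact fun h => hd ((weight_eq_zero_iff r d).1 h)

lemma mem_irrel_of_coeff_zero (a : MvPolynomial (Fin (r + 1)) k) (h : coeff 0 a = 0) :
    a ∈ (GrSyz.irrel (GrSyz.stdGr k (Fin (r + 1)))).toIdeal := by
  rw [← MvPolynomial.support_sum_monomial_coeff a]
  refine Ideal.sum_mem _ fun d hd => ?_
  have hd0 : d ≠ 0 := by
    rintro rfl
    exact (MvPolynomial.mem_support_iff.1 hd) h
  refine Ideal.subset_span ⟨Finsupp.weight (fun _ : Fin (r + 1) => (1 : ℤ)) d, weight_pos r d hd0, ?_⟩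
  exact MvPolynomial.isWeightedHomogeneous_monomial _ d _ rfl

lemma isUnit_cmp_zero (a : MvPolynomial (Fin (r + 1)) k)
    (h : a ∉ (GrSyz.irrel (GrSyz.stdGr k (Fin (r + 1)))).toIdeal) :
    IsUnit (cmp (GrSyz.stdGr k (Fin (r + 1))) 0 a) := by
  rw [cmp_zero_eq]
  have hc : coeff 0 a ≠ 0 := fun h0 => h (mem_irrel_of_coeff_zero k r a h0)
  exact (isUnit_iff_ne_zero.2 hc).map C

end Groth.Agent.Lib27.GrMin
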