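import Mathlib
import Groth.Prelude.Def_GrSyz
import Groth.Agent.Lib27.GrMin3

/-!
# Minimality versus irredundancy
-/

set_option autoImplicit false

universe u

namespace Groth.Agent.Lib27.GrMin

open Groth.Agent.Lib27.GrHilb MvPolynomial

section Gen

variable {R : Type*} [CommRing R] {N : Type*} [AddCommGroup N] [Module R N]

lemma mem_span_others_of_rel {n : ℕ} (g : Fin n → N) (w : Fin n → R) (hw : ∑ a, w a • g a = 0)
    (a0 : Fin n) (hu : IsUnit (w a0)) :
    g a0 ∈ Submodule.span R (g '' {a | a ≠ a0}) := by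
  classical
  rw [← Finset.add_sum_erase Finset.univ _ (Finset.mem_univ a0)] at hw
  obtain ⟨u, hu'⟩ := hu
  rw [← hu'] at hw
  have h1 := eq_neg_of_add_eq_zero_left hw
  have h2 : g a0 = (↑u⁻¹ : R) • ((u : R) • g a0) := by
    rw [smul_smul, Units.inv_mul, one_smul]
  rw [h2, h1]
  refine Submodule.smul_mem _ _ (Submodule.neg_mem _ (Submodule.sum_mem _ fun a ha =>
    Submodule.smul_mem _ _ (Submodule.subset_span ⟨a, ?_, rfl⟩)))
  exact (Finset.mem_erase.1 ha).1

lemma exists_rel_of_mem_span_others {n : ℕ} (g : Fin n → N) (b : Fin n)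
    (h : g b ∈ Submodule.span R (g '' {a | a ≠ b})) :
    ∃ w : Fin n → R, w b = 1 ∧ ∑ a, w a • g a = 0 := by
  classical
  obtain ⟨l, hl, hlg⟩ := (Finsupp.mem_span_image_iff_linearCombination R).1 h
  have hlb : l b = 0 := by
    by_contra hne
    have : b ∈ l.support := Finsupp.mem_support_iff.2 hne
    exact (hl this) rfl
  refine ⟨fun a => (Pi.single b (1 : R) : Fin n → R) a - l a, by simp [hlb], ?_⟩
  simp only [sub_smul, Finset.sum_sub_distrib]
  rw [Finsupp.linearCombination_apply, Finsupp.sum_fintype _ _ (fun i => by simp)] at hlg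
  rw [hlg, Finset.sum_eq_single b]
  · simp
  · intro a _ hab
    rw [Pi.single_eq_of_ne hab, zero_smul]
  · intro hb
    exact absurd (Finset.mem_univ b) hb

end Gen

variable (k : Type u) [Field k] (r : ℕ)

lemma coeff_zero_of_mem_irrel (a : MvPolynomial (Fin (r + 1)) k)
    (ha : a ∈ (GrSyz.irrel (GrSyz.stdGr k (Fin (r + 1)))).toIdeal) : coeff 0 a = 0 := by
  change a ∈ Ideal.span {x : MvPolynomial (Fin (r + 1)) k |
    ∃ n : ℤ, 0 < n ∧ x ∈ GrSyz.stdGr k (Fin (r + 1)) n} at ha
  refine Submodule.span_induction ?_ ?_ ?_ ?_ ha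
  · rintro x ⟨n, hn, hx⟩
    refine MvPolynomial.IsWeightedHomogeneous.coeff_eq_zero hx 0 ?_
    rw [map_zero]
    omega
  · simp
  · intro x y _ _ hx hy
    rw [coeff_add, hx, hy, add_zero]
  · intro c x _ hx
    rw [smul_eq_mul]
    have := (MvPolynomial.constantCoeff (R := k) (σ := Fin (r + 1))).map_mul c x
    rw [MvPolynomial.constantCoeff_eq] at this
    rw [this, hx, mul_zero]

lemma one_notMem_irrel :
    (1 : MvPolynomial (Fin (r + 1)) k) ∉ (GrSyz.irrel (GrSyz.stdGr k (Fin (r + 1)))).toIdeal := by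
  intro h
  have := coeff_zero_of_mem_irrel k r 1 h
  simp at this

lemma isUnit_of_hom_notMem {e : ℤ} {x : MvPolynomial (Fin (r + 1)) k}
    (hx : x ∈ GrSyz.stdGr k (Fin (r + 1)) e)
    (h : x ∉ (GrSyz.irrel (GrSyz.stdGr k (Fin (r + 1)))).toIdeal) : IsUnit x := by
  have hu := isUnit_cmp_zero k r x h
  by_cases he : e = 0
  · subst he
    rwa [cmp_of_mem _ hx] at hu
  · rw [cmp_of_mem_ne _ hx he] at hu
    exact absurd hu not_isUnit_zero

end Groth.Agent.Lib27.GrMin
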