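import Mathlib
import Groth.Prelude.Def_GrSyz
import Groth.Agent.Lib27.Syz1
import Groth.Agent.Lib27.GrMin4

/-!
# Hilbert's syzygy theorem for polynomial rings over a field
-/

set_option autoImplicit false

universe u

namespace Groth.Agent.Lib27.Syz

open MvPolynomial

variable (k : Type u) [Field k]

/-- the ideal of polynomials with zero constant coefficient. -/
noncomputable def mm (n : ℕ) : Ideal (MvPolynomial (Fin n) k) :=
  RingHom.ker (constantCoeff : MvPolynomial (Fin n) k →+* k)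

lemma mem_mm {n : ℕ} (p : MvPolynomial (Fin n) k) : p ∈ mm k n ↔ coeff 0 p = 0 := by
  rw [mm, RingHom.mem_ker, constantCoeff_eq]

/-- setting the first variable to zero. -/
noncomputable def ρ (n : ℕ) : MvPolynomial (Fin (n + 1)) k →+* MvPolynomial (Fin n) k :=
  (Polynomial.constantCoeff).comp (finSuccEquiv k n : MvPolynomial (Fin (n + 1)) k →+* _)

lemma ρ_apply (n : ℕ) (p : MvPolynomial (Fin (n + 1)) k) :
    ρ k n p = Polynomial.coeff (finSuccEquiv k n p) 0 := rfl

lemma ρ_surjective (n : ℕ) : Function.Surjective (ρ k n) := by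
  intro p
  refine ⟨(finSuccEquiv k n).symm (Polynomial.C p), ?_⟩
  rw [ρ_apply, AlgEquiv.apply_symm_apply, Polynomial.coeff_C_zero]

lemma ρ_ker (n : ℕ) (p : MvPolynomial (Fin (n + 1)) k) (hp : ρ k n p = 0) :
    ∃ q, p = X 0 * q := by
  rw [ρ_apply, ← Polynomial.X_dvd_iff] at hp
  obtain ⟨q, hq⟩ := hp
  refine ⟨(finSuccEquiv k n).symm q, ?_⟩
  apply (finSuccEquiv k n).injective
  rw [map_mul, finSuccEquiv_X_zero, AlgEquiv.apply_symm_apply, hq]

lemma ρ_X_zero (n : ℕ) : ρ k n (X 0) = 0 := by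
  rw [ρ_apply, finSuccEquiv_X_zero, Polynomial.coeff_X_zero]

lemma ρ_mm (n : ℕ) (p : MvPolynomial (Fin (n + 1)) k) (hp : p ∈ mm k (n + 1)) :
    ρ k n p ∈ mm k n := by
  rw [mem_mm] at hp ⊢
  rw [ρ_apply, finSuccEquiv_coeff_coeff, Finsupp.cons_zero_zero, hp]

theorem hasBound_zero : HasBound (MvPolynomial (Fin 0) k) (mm k 0) 0 := by
  intro C i hi
  obtain ⟨j, rfl⟩ : ∃ j, i = j + 1 := ⟨i - 1, by omega⟩
  have hzero : ∀ i, C.d i = 0 := by
    intro i
    ext a b
    have h := (mem_mm k _).1 (C.mem i a b)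
    rw [eq_C_of_isEmpty (C.d i a b), h, map_zero]
    rfl
  have hex := C.exact j
  rw [hzero j, hzero (j + 1)] at hex
  by_contra hne
  have hpos : 0 < C.rk (j + 1) := Nat.pos_of_ne_zero hne
  have hmem : (fun _ => 1 : Fin (C.rk (j + 1)) → MvPolynomial (Fin 0) k) ∈
      LinearMap.ker (Matrix.mulVecLin (0 : Matrix (Fin (C.rk j)) (Fin (C.rk (j + 1)))
        (MvPolynomial (Fin 0) k))) := by
    rw [LinearMap.mem_ker, Matrix.mulVecLin_apply, Matrix.zero_mulVec]
  rw [hex] at hmem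
  obtain ⟨v, hv⟩ := hmem
  rw [Matrix.mulVecLin_apply, Matrix.zero_mulVec] at hv
  have := congrFun hv ⟨0, hpos⟩
  simp at this

theorem hasBound (n : ℕ) : HasBound (MvPolynomial (Fin n) k) (mm k n) n := by
  induction n with
  | zero => exact hasBound_zero k
  | succ n ih =>
    refine hasBound_succ (ρ k n) (ρ_surjective k n) (X 0) (ρ_ker k n) (ρ_X_zero k n) ?_
      (mm k (n + 1)) (mm k n) (ρ_mm k n) n ih
    intro q hq
    rcases mul_eq_zero.1 hq with h | h
    · exact absurd h (X_ne_zero 0)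
    · exact h

theorem hasLengthLE_of_isMinimal (r : ℕ)
    {M : Type u} [AddCommGroup M] [Module k M] [Module (MvPolynomial (Fin (r + 1)) k) M]
    (ℳ : ℤ → Submodule k M) [DirectSum.Decomposition ℳ]
    [SetLike.GradedSMul (GrSyz.stdGr k (Fin (r + 1))) ℳ]
    (F : GrSyz.FreeRes (GrSyz.stdGr k (Fin (r + 1))) ℳ)
    (hF : F.IsMinimal (GrSyz.irrel (GrSyz.stdGr k (Fin (r + 1)))).toIdeal) :
    F.HasLengthLE (r + 1) := by
  intro i hi
  exact hasBound k (r + 1)
    { rk := F.rk
      d := F.d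
      mem := fun i a b => (mem_mm k _).2
        (Groth.Agent.Lib27.GrMin.coeff_zero_of_mem_irrel k r _ (hF i a b))
      exact := F.exact_succ } i hi

end Groth.Agent.Lib27.Syz
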