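import Mathlib
import Groth.Prelude.Def_GrSyz
import Groth.Agent.Lib27.RegA1
import Groth.Agent.Lib27.Syz2

/-!
# A graded module over a polynomial ring vanishing above degree `d` has regularity at most `d`
-/

set_option autoImplicit false

universe u

namespace Groth.Agent.Lib27.RegA

open MvPolynomial Groth.Agent.Lib27.Syz Groth.Agent.Lib27.GrMin

variable (k : Type u) [Field k]

lemma weight_one' (n : ℕ) (d : Fin n →₀ ℕ) :
    Finsupp.weight (fun _ : Fin n => (1 : ℤ)) d = ((∑ i, d i : ℕ) : ℤ) := by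
  rw [Finsupp.weight_apply, Finsupp.sum_fintype _ _ (fun i => by simp)]
  push_cast
  simp

lemma weight_cons (n : ℕ) (a : ℕ) (m : Fin n →₀ ℕ) :
    Finsupp.weight (fun _ : Fin (n + 1) => (1 : ℤ)) (Finsupp.cons a m) =
      (a : ℤ) + Finsupp.weight (fun _ : Fin n => (1 : ℤ)) m := by
  rw [weight_one', weight_one', Fin.sum_univ_succ, Finsupp.cons_zero]
  simp only [Finsupp.cons_succ]
  push_cast
  ring

lemma ρ_mem (n : ℕ) (e : ℤ) (p : MvPolynomial (Fin (n + 1)) k)
    (hp : p ∈ GrSyz.stdGr k (Fin (n + 1)) e) : ρ k n p ∈ GrSyz.stdGr k (Fin n) e := by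
  rw [GrSyz.mem_stdGr_iff] at hp ⊢
  intro m hm
  have hc : coeff m (ρ k n p) = coeff (Finsupp.cons 0 m) p := by
    rw [ρ_apply, finSuccEquiv_coeff_coeff]
  rw [hc] at hm
  have := hp hm
  rw [weight_cons] at this
  simpa using this

/-- the inclusion of polynomials not involving the first variable. -/
noncomputable def ι (n : ℕ) (q : MvPolynomial (Fin n) k) : MvPolynomial (Fin (n + 1)) k :=
  (finSuccEquiv k n).symm (Polynomial.C q)

lemma ρ_ι (n : ℕ) (q : MvPolynomial (Fin n) k) : ρ k n (ι k n q) = q := by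
  rw [ρ_apply, ι, AlgEquiv.apply_symm_apply, Polynomial.coeff_C_zero]

lemma coeff_ι (n : ℕ) (q : MvPolynomial (Fin n) k) (m' : Fin (n + 1) →₀ ℕ) :
    coeff m' (ι k n q) = if m' 0 = 0 then coeff (Finsupp.tail m') q else 0 := by
  conv_lhs => rw [← Finsupp.cons_tail m']
  rw [← finSuccEquiv_coeff_coeff, ι, AlgEquiv.apply_symm_apply, Polynomial.coeff_C]
  split_ifs <;> simp

lemma ι_mem (n : ℕ) (e : ℤ) (q : MvPolynomial (Fin n) k)
    (hq : q ∈ GrSyz.stdGr k (Fin n) e) : ι k n q ∈ GrSyz.stdGr k (Fin (n + 1)) e := by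
  rw [GrSyz.mem_stdGr_iff] at hq ⊢
  intro m' hm'
  rw [coeff_ι] at hm'
  split_ifs at hm' with h0
  · have := hq hm'
    rw [← Finsupp.cons_tail m', weight_cons, h0, this]
    simp
  · exact absurd rfl hm'

theorem bound_zero : Bound (GrSyz.stdGr k (Fin 0)) (mm k 0) := by
  intro C d h0 hS i b
  by_contra hlt
  push Not at hlt
  have hzero : ∀ i, C.d i = 0 := by
    intro i
    ext a b
    have h := (mem_mm k _).1 (C.min i a b)
    rw [eq_C_of_isEmpty (C.d i a b), h, map_zero]
    rfl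
  set z : Fin (C.rk i) → MvPolynomial (Fin 0) k := Pi.single b 1 with hzdef
  have hz : IsHom (GrSyz.stdGr k (Fin 0)) (C.deg i) (C.deg i b) z := by
    intro b'
    by_cases hb : b' = b
    · subst hb
      rw [hzdef, Pi.single_eq_same, sub_self]
      exact SetLike.GradedOne.one_mem
    · rw [hzdef, Pi.single_eq_of_ne hb]
      exact zero_mem _
  have hz0 : z = 0 := by
    cases i with
    | zero =>
      obtain ⟨w, _, hw⟩ := h0 _ (by simpa using hlt) z hz
      rw [← hw, hzero, Matrix.zero_mulVec]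
    | succ i' =>
      obtain ⟨w, _, hw⟩ := hS i' _ (by push_cast at hlt; omega) z hz
        (by rw [hzero, Matrix.zero_mulVec])
      rw [← hw, hzero, Matrix.zero_mulVec]
  have := congrFun hz0 b
  rw [hzdef, Pi.single_eq_same] at this
  exact one_ne_zero this

theorem bound (n : ℕ) : Bound (GrSyz.stdGr k (Fin n)) (mm k n) := by
  induction n with
  | zero => exact bound_zero k
  | succ n ih =>
    refine bound_step _ _ (ρ k n) (ι k n) (ρ_ι k n) (ρ_mem k n) (ι_mem k n) (X 0)
      (isWeightedHomogeneous_X k (fun _ => (1 : ℤ)) 0) (ρ_ker k n) (ρ_X_zero k n) ?_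
      (mm k (n + 1)) (mm k n) (ρ_mm k n) ih
    intro q hq
    rcases mul_eq_zero.1 hq with h | h
    · exact absurd h (X_ne_zero 0)
    · exact h

variable (r : ℕ)
  {M : Type u} [AddCommGroup M] [Module k M] [Module (MvPolynomial (Fin (r + 1)) k) M]
  (ℳ : ℤ → Submodule k M) [DirectSum.Decomposition ℳ]
  [SetLike.GradedSMul (GrSyz.stdGr k (Fin (r + 1))) ℳ]

theorem isGenLE_of_vanishing (F : GrSyz.FreeRes (GrSyz.stdGr k (Fin (r + 1))) ℳ)
    (hF : F.IsMinimal (GrSyz.irrel (GrSyz.stdGr k (Fin (r + 1)))).toIdeal) (d : ℤ)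
    (hvan : ∀ j, d < j → ∀ m ∈ ℳ j, m = 0) : F.IsGenLE d := by
  let C : GrCx (GrSyz.stdGr k (Fin (r + 1))) (mm k (r + 1)) :=
    { rk := F.rk
      deg := F.deg
      d := F.d
      d_mem := F.d_mem
      min := fun i a b => (mem_mm k _).2 (coeff_zero_of_mem_irrel k r _ (hF i a b))
      dd := fun i w => by
        have : (F.d (i + 1)).mulVec w ∈ LinearMap.ker (Matrix.mulVecLin (F.d i)) := by
          rw [F.exact_succ i]
          exact ⟨w, rfl⟩
        exact this }
  have hproj : ∀ (i : ℕ) (j : ℤ) (z : Fin (F.rk i) → MvPolynomial (Fin (r + 1)) k)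
      (w' : Fin (F.rk (i + 1)) → MvPolynomial (Fin (r + 1)) k),
      IsHom (GrSyz.stdGr k (Fin (r + 1))) (F.deg i) j z → (F.d i).mulVec w' = z →
      ∃ w, IsHom (GrSyz.stdGr k (Fin (r + 1))) (F.deg (i + 1)) j w ∧ (F.d i).mulVec w = z := by
    intro i j z w' hz hw'
    refine ⟨πF (GrSyz.stdGr k (Fin (r + 1))) (F.deg (i + 1)) j w', fun b => cmp_mem _ _ _, ?_⟩
    rw [← πF_mulVec _ (F.deg i) (F.deg (i + 1)) (F.d i) (F.d_mem i) j w', hw']
    funext b
    exact cmp_of_mem _ (hz b)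
  refine bound k (r + 1) C d ?_ ?_
  · intro j hj z hz
    have haug : F.augLin z ∈ ℳ j := by
      rw [Fintype.linearCombination_apply]
      refine sum_mem fun b _ => ?_
      have := SetLike.GradedSMul.smul_mem (A := GrSyz.stdGr k (Fin (r + 1))) (B := ℳ)
        (hz b) (F.aug_mem b)
      rwa [vadd_eq_add, sub_add_cancel] at this
    have hker : z ∈ LinearMap.ker F.augLin := hvan j hj _ haug
    rw [F.exact_zero] at hker
    obtain ⟨w', hw'⟩ := hker
    exact hproj 0 j z w' hz hw'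
  · intro i j hij z hz hcyc
    have hker : z ∈ LinearMap.ker (Matrix.mulVecLin (F.d i)) := hcyc
    rw [F.exact_succ i] at hker
    obtain ⟨w', hw'⟩ := hker
    exact hproj (i + 1) j z w' hz hw'

end Groth.Agent.Lib27.RegA
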