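import Groth.Agent.Lib27.HBPts1
import Groth.Agent.Lib.Helper18.CM1

/-!
# The vanishing ideal of a finite set of points: homogeneity, depth
-/

set_option autoImplicit false
set_option linter.unusedSectionVars false
set_option linter.unusedVariables false
set_option linter.style.haveILetI false

universe u

namespace Groth.Agent.Lib27.HBPts

open Groth.Agent.Lib27.GrMin Groth.Agent.Lib27.Syz Groth.Agent.Lib27.RegA Matrix MvPolynomial
  Groth.Agent.Lib27.CMReg Groth.Agent.Lib27.GrHilb Groth.Agent.Lib27.HBurch DirectSum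

variable {k : Type u} [Field k] {r : ℕ}

/-- homogeneous polynomials lie in the pieces of the standard grading. -/
lemma mem_stdGr_of_isHomogeneous (n : ℕ) (f : MvPolynomial (Fin (r + 1)) k)
    (hf : f.IsHomogeneous n) : f ∈ GrSyz.stdGr k (Fin (r + 1)) (n : ℤ) := by
  intro d hd
  have h1 := hf hd
  rw [weight_one]
  have h2 : Finsupp.weight (1 : Fin (r + 1) → ℕ) d = ∑ i, d i := by
    rw [Finsupp.weight_apply, Finsupp.sum_fintype _ _ (fun i => by simp)]
    simp
  rw [h2] at h1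
  exact_mod_cast h1

lemma X_mem_stdGr (i : Fin (r + 1)) :
    (X i : MvPolynomial (Fin (r + 1)) k) ∈ GrSyz.stdGr k (Fin (r + 1)) 1 :=
  isWeightedHomogeneous_X k (fun _ : Fin (r + 1) => (1 : ℤ)) i

lemma X_mem_irrel (i : Fin (r + 1)) :
    (X i : MvPolynomial (Fin (r + 1)) k) ∈
      (GrSyz.irrel (GrSyz.stdGr k (Fin (r + 1)))).toIdeal :=
  Ideal.subset_span ⟨1, one_pos, X_mem_stdGr i⟩

/-- the components for the standard grading are the homogeneous components. -/
lemma decompose_eq_homogeneousComponent (n : ℕ) (f : MvPolynomial (Fin (r + 1)) k) :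
    (decompose (GrSyz.stdGr k (Fin (r + 1))) f (n : ℤ) : MvPolynomial (Fin (r + 1)) k) =
      homogeneousComponent n f := by
  classical
  conv_rhs => rw [← DirectSum.sum_support_decompose (GrSyz.stdGr k (Fin (r + 1))) f]
  rw [map_sum]
  have hmain : homogeneousComponent n
      (decompose (GrSyz.stdGr k (Fin (r + 1))) f (n : ℤ) : MvPolynomial (Fin (r + 1)) k) =
      (decompose (GrSyz.stdGr k (Fin (r + 1))) f (n : ℤ) : MvPolynomial (Fin (r + 1)) k) := by
    have hhom : (decompose (GrSyz.stdGr k (Fin (r + 1))) f (n : ℤ) :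
        MvPolynomial (Fin (r + 1)) k) ∈ homogeneousSubmodule (Fin (r + 1)) k n :=
      isHomogeneous_of_mem_stdGr n _ (SetLike.coe_mem _)
    rw [homogeneousComponent_of_mem hhom, if_pos rfl]
  rw [Finset.sum_eq_single (n : ℤ), hmain]
  · intro i _ hin
    by_cases hi : i < 0
    · rw [stdGr_neg k r i hi _ (SetLike.coe_mem _), map_zero]
    · obtain ⟨m, rfl⟩ := Int.eq_ofNat_of_zero_le (not_lt.1 hi)
      have hhom : (decompose (GrSyz.stdGr k (Fin (r + 1))) f (m : ℤ) :
          MvPolynomial (Fin (r + 1)) k) ∈ homogeneousSubmodule (Fin (r + 1)) k m :=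
        isHomogeneous_of_mem_stdGr m _ (SetLike.coe_mem _)
      rw [homogeneousComponent_of_mem hhom, if_neg]
      intro h
      exact hin (by rw [h])
  · intro hn
    have h0 : decompose (GrSyz.stdGr k (Fin (r + 1))) f (n : ℤ) = 0 :=
      DFinsupp.notMem_support_iff.1 hn
    rw [h0, ZeroMemClass.coe_zero, map_zero]

section Points

variable (Z : Finset (Fin (r + 1) → k)) (I : Ideal (MvPolynomial (Fin (r + 1)) k))
  (hI : ∀ f : MvPolynomial (Fin (r + 1)) k, f ∈ I ↔
    ∀ p ∈ Z, ∀ j : ℕ, MvPolynomial.eval p (MvPolynomial.homogeneousComponent j f) = 0)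

include hI

/-- the vanishing ideal is homogeneous. -/
lemma isHomogeneous_I : I.IsHomogeneous (GrSyz.stdGr k (Fin (r + 1))) := by
  intro i x hx
  by_cases hi : i < 0
  · rw [stdGr_neg k r i hi _ (SetLike.coe_mem _)]
    exact zero_mem _
  · obtain ⟨n, rfl⟩ := Int.eq_ofNat_of_zero_le (not_lt.1 hi)
    rw [mem_I_iff_of_mem Z I hI (n : ℤ) _ (SetLike.coe_mem _)]
    intro p hp
    rw [decompose_eq_homogeneousComponent]
    exact (hI x).1 hx p hp n

/-- the vanishing ideal of the empty set is everything. -/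
lemma eq_top_of_empty (hZ0 : Z = ∅) : I = ⊤ := by
  rw [Ideal.eq_top_iff_one, hI]
  intro p hp
  rw [hZ0] at hp
  exact absurd hp (Finset.notMem_empty p)

lemma one_notMem (hZne : Z.Nonempty) : (1 : MvPolynomial (Fin (r + 1)) k) ∉ I := by
  intro h1I
  obtain ⟨p, hp⟩ := hZne
  have h3 := (hI 1).1 h1I p hp 0
  rw [homogeneousComponent_of_mem (MvPolynomial.isHomogeneous_one (Fin (r + 1)) k), if_pos rfl,
    map_one] at h3
  exact one_ne_zero h3

/-- an element of the irrelevant ideal plus one is never in the ideal. -/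
lemma one_sub_notMem (hZne : Z.Nonempty) (s : MvPolynomial (Fin (r + 1)) k)
    (hs : s ∈ (GrSyz.irrel (GrSyz.stdGr k (Fin (r + 1)))).toIdeal) : 1 - s ∉ I := by
  intro h1I
  obtain ⟨p, hp⟩ := hZne
  have h3 := (hI (1 - s)).1 h1I p hp 0
  rw [homogeneousComponent_zero, coeff_sub, coeff_zero_of_mem_irrel k r s hs, coeff_zero_one,
    sub_zero, map_one, map_one] at h3
  exact one_ne_zero h3

/-- the saturation property. -/
lemma mem_of_irrel_mul_mem (hZ : ∀ p ∈ Z, p ≠ 0) (g : MvPolynomial (Fin (r + 1)) k)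
    (hg : ∀ s ∈ (GrSyz.irrel (GrSyz.stdGr k (Fin (r + 1)))).toIdeal, s * g ∈ I) : g ∈ I := by
  classical
  rw [← DirectSum.sum_support_decompose (GrSyz.stdGr k (Fin (r + 1))) g]
  refine Ideal.sum_mem _ fun j _ => ?_
  rw [mem_I_iff_of_mem Z I hI j _ (SetLike.coe_mem _)]
  intro p hp
  obtain ⟨i, hi⟩ := Function.ne_iff.1 (hZ p hp)
  have h1 : X i * g ∈ I := hg _ (X_mem_irrel i)
  have h2 := isHomogeneous_I Z I hI (1 + j) h1
  rw [coe_decompose_mul_add_of_left_mem (GrSyz.stdGr k (Fin (r + 1))) (X_mem_stdGr i)] at h2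
  have h3 := (mem_I_iff_of_mem Z I hI (1 + j) _
    (SetLike.GradedMul.mul_mem (X_mem_stdGr i) (SetLike.coe_mem _))).1 h2 p hp
  rw [map_mul, eval_X] at h3
  rcases mul_eq_zero.1 h3 with h4 | h4
  · exact absurd h4 hi
  · exact h4

variable {M : Type u} [AddCommGroup M] [Module k M] [Module (MvPolynomial (Fin (r + 1)) k) M]
  [IsScalarTower k (MvPolynomial (Fin (r + 1)) k) M]
  {ℳ : ℤ → Submodule k M} [DirectSum.Decomposition ℳ]
  [SetLike.GradedSMul (GrSyz.stdGr k (Fin (r + 1))) ℳ]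
  (π : MvPolynomial (Fin (r + 1)) k →ₗ[MvPolynomial (Fin (r + 1)) k] M)
  (hπ : Function.Surjective π) (hker : LinearMap.ker π = I)

include hπ hker

lemma gamma_zero (hZ : ∀ p ∈ Z, p ≠ 0) (y : M)
    (hy : ∀ s ∈ (GrSyz.irrel (GrSyz.stdGr k (Fin (r + 1)))).toIdeal, s • y = 0) : y = 0 := by
  obtain ⟨g, rfl⟩ := hπ y
  have hgI : g ∈ I := mem_of_irrel_mul_mem Z I hI hZ g (fun s hs => by
    rw [← hker, LinearMap.mem_ker, ← smul_eq_mul, map_smul]
    exact hy s hs)
  rw [← hker] at hgI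
  exact hgI

lemma one_le_idealDepth (hZ : ∀ p ∈ Z, p ≠ 0) :
    1 ≤ LocCoh.idealDepth (GrSyz.irrel (GrSyz.stdGr k (Fin (r + 1)))).toIdeal M := by
  haveI : Module.Finite (MvPolynomial (Fin (r + 1)) k) M := Module.Finite.of_surjective π hπ
  by_cases htop : (GrSyz.irrel (GrSyz.stdGr k (Fin (r + 1)))).toIdeal • (⊤ : Submodule (MvPolynomial (Fin (r + 1)) k) M) = ⊤
  · rw [Groth.Agent.Lib.Helper16.Depth.idealDepth_eq_top_of_smul_top_eq_top _ _ htop]
    exact le_top
  · rw [Groth.Agent.Lib.Helper18.CM.one_le_idealDepth_iff _ _ htop,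
      Groth.Agent.Lib.Helper18.CM.exists_regular_iff]
    intro P hP hle
    obtain ⟨hprime, y, hy⟩ := (isAssociatedPrime_iff).1 hP
    have hy0 : y = 0 := gamma_zero Z I hI π hπ hker hZ y (fun s hs => by
      have h1 : s ∈ (⊥ : Submodule (MvPolynomial (Fin (r + 1)) k) M).colon {y} := hy ▸ hle hs
      rw [Submodule.mem_colon_singleton] at h1
      exact (Submodule.mem_bot _).1 h1)
    apply hprime.ne_top
    rw [hy, hy0, Ideal.eq_top_iff_one, Submodule.mem_colon_singleton, smul_zero]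
    exact zero_mem _

end Points

end Groth.Agent.Lib27.HBPts
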