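import Groth.Prelude.Def_W4c4lgringredgrpLG
import Mathlib

/-!
# LG-rings: isomorphism of finite projective modules from isomorphism of fibres (helper27)
-/

universe u v w v'

open scoped TensorProduct

namespace Groth.Agent.Lib27.LGProj

open LGRing

variable {R : Type u} [CommRing R]

/-- The LG property for polynomials in any finite set of variables. -/
lemma representsUnit_of_finite (hR : IsLGRing R) {σ : Type} [Finite σ] (f : MvPolynomial σ R)
    (h : ∀ (m : Ideal R) [m.IsMaximal], RepresentsUnit f (R ⧸ m)) : RepresentsUnit f R := by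
  obtain ⟨n, ⟨e⟩⟩ := Finite.exists_equiv_fin σ
  have h' : ∀ (m : Ideal R) [m.IsMaximal], RepresentsUnit (MvPolynomial.rename e f) (R ⧸ m) := by
    intro m _
    obtain ⟨s, hs⟩ := h m
    refine ⟨s ∘ e.symm, ?_⟩
    rw [MvPolynomial.aeval_rename]
    have : (s ∘ e.symm) ∘ e = s := by ext i; simp
    rw [this]
    exact hs
  obtain ⟨t, ht⟩ := hR n (MvPolynomial.rename e f) h'
  refine ⟨t ∘ e, ?_⟩
  rw [MvPolynomial.aeval_rename] at ht
  exact ht

/-- A finite projective module is a retract of a finite free module. -/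
lemma exists_presentation (M : Type v) [AddCommGroup M] [Module R M] [Module.Finite R M]
    [Module.Projective R M] :
    ∃ (n : ℕ) (π : (Fin n → R) →ₗ[R] M) (s : M →ₗ[R] (Fin n → R)), π ∘ₗ s = LinearMap.id := by
  obtain ⟨n, π, hπ⟩ := Module.Finite.exists_fin' R M
  obtain ⟨s, hs⟩ := Module.projective_lifting_property π LinearMap.id hπ
  exact ⟨n, π, s, hs⟩

section Poly

variable {n₁ n₂ : ℕ}

/-- The index type of the variables: entries of `X : n₂ × n₁` and of `Y : n₁ × n₂`. -/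
abbrev Var (n₁ n₂ : ℕ) : Type := (Fin n₂ × Fin n₁) ⊕ (Fin n₁ × Fin n₂)

variable (A : Type w) [CommRing A] [Algebra R A]
  (e₁ : Matrix (Fin n₁) (Fin n₁) R) (e₂ : Matrix (Fin n₂) (Fin n₂) R)

/-- `e₁ Y e₂ X e₁ + 1 - e₁` over an `R`-algebra `A`. -/
def Φ₁ (X : Matrix (Fin n₂) (Fin n₁) A) (Y : Matrix (Fin n₁) (Fin n₂) A) : Matrix (Fin n₁) (Fin n₁) A :=
  e₁.map (algebraMap R A) * Y * e₂.map (algebraMap R A) * X * e₁.map (algebraMap R A) + 1 -
    e₁.map (algebraMap R A)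

/-- `e₂ X e₁ Y e₂ + 1 - e₂` over an `R`-algebra `A`. -/
def Φ₂ (X : Matrix (Fin n₂) (Fin n₁) A) (Y : Matrix (Fin n₁) (Fin n₂) A) : Matrix (Fin n₂) (Fin n₂) A :=
  e₂.map (algebraMap R A) * X * e₁.map (algebraMap R A) * Y * e₂.map (algebraMap R A) + 1 -
    e₂.map (algebraMap R A)

/-- The matrix `X` read off from a point. -/
def matX (t : Var n₁ n₂ → A) : Matrix (Fin n₂) (Fin n₁) A := Matrix.of fun a b => t (Sum.inl (a, b))

/-- The matrix `Y` read off from a point. -/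
def matY (t : Var n₁ n₂ → A) : Matrix (Fin n₁) (Fin n₂) A := Matrix.of fun a b => t (Sum.inr (a, b))

/-- The polynomial `det Φ₁ * det Φ₂` in the entries of `X` and `Y`. -/
noncomputable def F : MvPolynomial (Var n₁ n₂) R :=
  (Φ₁ (MvPolynomial (Var n₁ n₂) R) e₁ e₂ (matX _ MvPolynomial.X) (matY _ MvPolynomial.X)).det *
  (Φ₂ (MvPolynomial (Var n₁ n₂) R) e₁ e₂ (matX _ MvPolynomial.X) (matY _ MvPolynomial.X)).det

lemma map_map_C (e : Matrix (Fin n₁) (Fin n₁) R) (t : Var n₁ n₂ → A) :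
    (e.map (algebraMap R (MvPolynomial (Var n₁ n₂) R))).map (MvPolynomial.aeval t) =
      e.map (algebraMap R A) := by
  ext a b
  simp [Matrix.map_apply]

lemma map_map_C' (e : Matrix (Fin n₂) (Fin n₂) R) (t : Var n₁ n₂ → A) :
    (e.map (algebraMap R (MvPolynomial (Var n₁ n₂) R))).map (MvPolynomial.aeval t) =
      e.map (algebraMap R A) := by
  ext a b
  simp [Matrix.map_apply]

lemma matX_map (t : Var n₁ n₂ → A) :
    (matX (MvPolynomial (Var n₁ n₂) R) MvPolynomial.X).map (MvPolynomial.aeval t) = matX A t := by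
  ext a b
  simp [matX, Matrix.map_apply]

lemma matY_map (t : Var n₁ n₂ → A) :
    (matY (MvPolynomial (Var n₁ n₂) R) MvPolynomial.X).map (MvPolynomial.aeval t) = matY A t := by
  ext a b
  simp [matY, Matrix.map_apply]

lemma aeval_F (t : Var n₁ n₂ → A) :
    MvPolynomial.aeval t (F e₁ e₂) =
      (Φ₁ A e₁ e₂ (matX A t) (matY A t)).det * (Φ₂ A e₁ e₂ (matX A t) (matY A t)).det := by
  unfold F
  rw [map_mul, AlgHom.map_det, AlgHom.map_det]
  congr 2
  · ext a b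
    simp [Φ₁, Matrix.mul_apply, Matrix.map_apply, Matrix.one_apply, matX, matY, map_sum, apply_ite,
      Matrix.add_apply, Matrix.sub_apply]
  · ext a b
    simp [Φ₂, Matrix.mul_apply, Matrix.map_apply, Matrix.one_apply, matX, matY, map_sum, apply_ite,
      Matrix.add_apply, Matrix.sub_apply]

end Poly

section Retract

variable {M : Type v} [AddCommGroup M] [Module R M] {n : ℕ}
  (π : (Fin n → R) →ₗ[R] M) (s : M →ₗ[R] (Fin n → R)) (hπs : π ∘ₗ s = LinearMap.id)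

include hπs in
lemma π_s_apply (m : M) : π (s m) = m := congrArg (fun f : M →ₗ[R] M => f m) hπs

include hπs in
/-- An endomorphism `α` of a retract `M` of `R^n` is bijective as soon as `s α π + (1 - s π)` is. -/
lemma bijective_of_extend (α : M →ₗ[R] M)
    (hT : Function.Bijective ((s ∘ₗ α ∘ₗ π + (LinearMap.id - s ∘ₗ π) :
      (Fin n → R) →ₗ[R] (Fin n → R)))) : Function.Bijective α := by
  have hT_apply : ∀ v, (s ∘ₗ α ∘ₗ π + (LinearMap.id - s ∘ₗ π) : (Fin n → R) →ₗ[R] (Fin n → R)) v =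
      s (α (π v)) + (v - s (π v)) := fun v => rfl
  constructor
  · rw [← LinearMap.ker_eq_bot, LinearMap.ker_eq_bot']
    intro m hm
    have h1 : (s ∘ₗ α ∘ₗ π + (LinearMap.id - s ∘ₗ π) : (Fin n → R) →ₗ[R] (Fin n → R)) (s m) = 0 := by
      rw [hT_apply, π_s_apply π s hπs, hm, map_zero, sub_self, add_zero]
    have h2 : s m = 0 := by
      have := hT.1 (h1.trans (map_zero _).symm)
      exact this
    rw [← π_s_apply π s hπs m, h2, map_zero]
  · intro m
    obtain ⟨v, hv⟩ := hT.2 (s m)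
    refine ⟨π v, ?_⟩
    have := congrArg π hv
    rw [hT_apply, map_add, map_sub, π_s_apply π s hπs, π_s_apply π s hπs, sub_self, add_zero,
      π_s_apply π s hπs] at this
    exact this

end Retract

lemma bijective_toLin'_of_isUnit_det {n : ℕ} (A : Matrix (Fin n) (Fin n) R) (h : IsUnit A.det) :
    Function.Bijective (Matrix.toLin' A) := by
  have hA : IsUnit A := (Matrix.isUnit_iff_isUnit_det A).2 h
  obtain ⟨B, hAB, hBA⟩ := isUnit_iff_exists.1 hA
  have h1 : Matrix.toLin' A ∘ₗ Matrix.toLin' B = LinearMap.id := by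
    rw [← Matrix.toLin'_mul, hAB, Matrix.toLin'_one]
  have h2 : Matrix.toLin' B ∘ₗ Matrix.toLin' A = LinearMap.id := by
    rw [← Matrix.toLin'_mul, hBA, Matrix.toLin'_one]
  constructor
  · intro x y hxy
    have := congrArg (Matrix.toLin' B) hxy
    rwa [← LinearMap.comp_apply, ← LinearMap.comp_apply, h2] at this
  · intro y
    exact ⟨Matrix.toLin' B y, by rw [← LinearMap.comp_apply, h1]; rfl⟩

section Iso

variable {M₁ : Type v} {M₂ : Type v'} [AddCommGroup M₁] [Module R M₁] [AddCommGroup M₂] [Module R M₂]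
  {n₁ n₂ : ℕ}
  (π₁ : (Fin n₁ → R) →ₗ[R] M₁) (s₁ : M₁ →ₗ[R] (Fin n₁ → R)) (h₁ : π₁ ∘ₗ s₁ = LinearMap.id)
  (π₂ : (Fin n₂ → R) →ₗ[R] M₂) (s₂ : M₂ →ₗ[R] (Fin n₂ → R)) (h₂ : π₂ ∘ₗ s₂ = LinearMap.id)

include h₁ h₂ in
/-- If the polynomial `F` takes a unit value at `(X, Y)` then `M₁ ≅ M₂`. -/
theorem nonempty_linearEquiv_of_isUnit (X : Matrix (Fin n₂) (Fin n₁) R) (Y : Matrix (Fin n₁) (Fin n₂) R)
    (hu : IsUnit ((Φ₁ R (LinearMap.toMatrix' (s₁ ∘ₗ π₁)) (LinearMap.toMatrix' (s₂ ∘ₗ π₂)) X Y).det *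
      (Φ₂ R (LinearMap.toMatrix' (s₁ ∘ₗ π₁)) (LinearMap.toMatrix' (s₂ ∘ₗ π₂)) X Y).det)) :
    Nonempty (M₁ ≃ₗ[R] M₂) := by
  have hu1 := isUnit_of_mul_isUnit_left hu
  have hu2 := isUnit_of_mul_isUnit_right hu
  set φ : M₁ →ₗ[R] M₂ := π₂ ∘ₗ Matrix.toLin' X ∘ₗ s₁ with hφ
  set ψ : M₂ →ₗ[R] M₁ := π₁ ∘ₗ Matrix.toLin' Y ∘ₗ s₂ with hψ
  have hmap : ∀ {k : ℕ} (e : Matrix (Fin k) (Fin k) R), e.map (algebraMap R R) = e := by
    intro k e; ext a b; simp
  have b1 := bijective_toLin'_of_isUnit_det _ hu1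
  have b2 := bijective_toLin'_of_isUnit_det _ hu2
  have e1 : Matrix.toLin' (Φ₁ R (LinearMap.toMatrix' (s₁ ∘ₗ π₁)) (LinearMap.toMatrix' (s₂ ∘ₗ π₂)) X Y) =
      s₁ ∘ₗ (ψ ∘ₗ φ) ∘ₗ π₁ + (LinearMap.id - s₁ ∘ₗ π₁) := by
    unfold Φ₁
    rw [hmap, hmap, map_sub, map_add, Matrix.toLin'_one, Matrix.toLin'_mul, Matrix.toLin'_mul,
      Matrix.toLin'_mul, Matrix.toLin'_mul, Matrix.toLin'_toMatrix', Matrix.toLin'_toMatrix', hφ, hψ]
    apply LinearMap.ext
    intro v
    simp only [LinearMap.add_apply, LinearMap.sub_apply, LinearMap.comp_apply, LinearMap.id_apply]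
    abel
  have e2 : Matrix.toLin' (Φ₂ R (LinearMap.toMatrix' (s₁ ∘ₗ π₁)) (LinearMap.toMatrix' (s₂ ∘ₗ π₂)) X Y) =
      s₂ ∘ₗ (φ ∘ₗ ψ) ∘ₗ π₂ + (LinearMap.id - s₂ ∘ₗ π₂) := by
    unfold Φ₂
    rw [hmap, hmap, map_sub, map_add, Matrix.toLin'_one, Matrix.toLin'_mul, Matrix.toLin'_mul,
      Matrix.toLin'_mul, Matrix.toLin'_mul, Matrix.toLin'_toMatrix', Matrix.toLin'_toMatrix', hφ, hψ]
    apply LinearMap.ext
    intro v
    simp only [LinearMap.add_apply, LinearMap.sub_apply, LinearMap.comp_apply, LinearMap.id_apply]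
    abel
  rw [e1] at b1
  rw [e2] at b2
  have c1 : Function.Bijective (ψ ∘ₗ φ) := bijective_of_extend π₁ s₁ h₁ _ b1
  have c2 : Function.Bijective (φ ∘ₗ ψ) := bijective_of_extend π₂ s₂ h₂ _ b2
  have hinj : Function.Injective φ := by
    have : Function.Injective (ψ ∘ φ) := c1.1
    exact this.of_comp
  have hsurj : Function.Surjective φ := by
    have : Function.Surjective (φ ∘ ψ) := c2.2
    exact this.of_comp
  exact ⟨LinearEquiv.ofBijective φ ⟨hinj, hsurj⟩⟩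

end Iso

section Fibre

variable (k : Type w) [CommRing k] [Algebra R k]
  {M : Type v} [AddCommGroup M] [Module R M] {n : ℕ}
  (π : (Fin n → R) →ₗ[R] M) (s : M →ₗ[R] (Fin n → R)) (hπs : π ∘ₗ s = LinearMap.id)

/-- Base change of the projection of a presentation, with source `k^n`. -/
noncomputable def πk : (Fin n → k) →ₗ[k] k ⊗[R] M :=
  (π.baseChange k) ∘ₗ (TensorProduct.piScalarRight R k k (Fin n)).symm.toLinearMap

/-- Base change of the section of a presentation, with target `k^n`. -/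
noncomputable def sk : k ⊗[R] M →ₗ[k] (Fin n → k) :=
  (TensorProduct.piScalarRight R k k (Fin n)).toLinearMap ∘ₗ (s.baseChange k)

include hπs in
lemma πk_sk_apply (x : k ⊗[R] M) : πk k π (sk k s x) = x := by
  unfold πk sk
  simp only [LinearMap.comp_apply, LinearEquiv.coe_coe, LinearEquiv.symm_apply_apply]
  rw [← LinearMap.comp_apply, ← LinearMap.baseChange_comp, hπs, LinearMap.baseChange_id,
    LinearMap.id_apply]

lemma toMatrix'_sk_πk :
    LinearMap.toMatrix' (sk k s ∘ₗ πk k π) = (LinearMap.toMatrix' (s ∘ₗ π)).map (algebraMap R k) := by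
  ext a b
  rw [LinearMap.toMatrix'_apply, Matrix.map_apply, LinearMap.toMatrix'_apply]
  unfold πk sk
  simp only [LinearMap.comp_apply, LinearEquiv.coe_coe]
  rw [TensorProduct.piScalarRight_symm_single, LinearMap.baseChange_tmul, LinearMap.baseChange_tmul,
    TensorProduct.piScalarRight_apply, TensorProduct.piScalarRightHom_tmul, Algebra.algebraMap_eq_smul_one]

end Fibre

section FibrePoint

variable (k : Type w) [CommRing k] [Algebra R k]
  {M₁ : Type v} {M₂ : Type v'} [AddCommGroup M₁] [Module R M₁] [AddCommGroup M₂] [Module R M₂]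
  {n₁ n₂ : ℕ}
  (π₁ : (Fin n₁ → R) →ₗ[R] M₁) (s₁ : M₁ →ₗ[R] (Fin n₁ → R)) (h₁ : π₁ ∘ₗ s₁ = LinearMap.id)
  (π₂ : (Fin n₂ → R) →ₗ[R] M₂) (s₂ : M₂ →ₗ[R] (Fin n₂ → R)) (h₂ : π₂ ∘ₗ s₂ = LinearMap.id)

include h₁ h₂ in
/-- If the fibres `k ⊗ M₁` and `k ⊗ M₂` are isomorphic, then `F` takes the value `1` at some `k`-point. -/
theorem exists_point_of_fibre_iso (θ : k ⊗[R] M₁ ≃ₗ[k] k ⊗[R] M₂) :
    ∃ t : Var n₁ n₂ → k,
      MvPolynomial.aeval t (F (LinearMap.toMatrix' (s₁ ∘ₗ π₁)) (LinearMap.toMatrix' (s₂ ∘ₗ π₂))) = 1 := by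
  set X : Matrix (Fin n₂) (Fin n₁) k := LinearMap.toMatrix' (sk k s₂ ∘ₗ θ.toLinearMap ∘ₗ πk k π₁) with hX
  set Y : Matrix (Fin n₁) (Fin n₂) k :=
    LinearMap.toMatrix' (sk k s₁ ∘ₗ θ.symm.toLinearMap ∘ₗ πk k π₂) with hY
  refine ⟨Sum.elim (fun p => X p.1 p.2) (fun p => Y p.1 p.2), ?_⟩
  rw [aeval_F]
  have hmX : matX k (Sum.elim (fun p => X p.1 p.2) (fun p => Y p.1 p.2)) = X := by ext a b; rfl
  have hmY : matY k (Sum.elim (fun p => X p.1 p.2) (fun p => Y p.1 p.2)) = Y := by ext a b; rfl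
  rw [hmX, hmY]
  have e1 : Φ₁ k (LinearMap.toMatrix' (s₁ ∘ₗ π₁)) (LinearMap.toMatrix' (s₂ ∘ₗ π₂)) X Y = 1 := by
    unfold Φ₁
    rw [← toMatrix'_sk_πk, ← toMatrix'_sk_πk, hX, hY, ← LinearMap.toMatrix'_comp,
      ← LinearMap.toMatrix'_comp, ← LinearMap.toMatrix'_comp, ← LinearMap.toMatrix'_comp]
    have : ((((sk k s₁ ∘ₗ πk k π₁) ∘ₗ sk k s₁ ∘ₗ θ.symm.toLinearMap ∘ₗ πk k π₂) ∘ₗ sk k s₂ ∘ₗ πk k π₂) ∘ₗ
        sk k s₂ ∘ₗ θ.toLinearMap ∘ₗ πk k π₁) ∘ₗ sk k s₁ ∘ₗ πk k π₁ = sk k s₁ ∘ₗ πk k π₁ := by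
      apply LinearMap.ext
      intro v
      simp only [LinearMap.comp_apply, LinearEquiv.coe_coe, πk_sk_apply k π₁ s₁ h₁,
        πk_sk_apply k π₂ s₂ h₂, LinearEquiv.symm_apply_apply]
    rw [this]
    abel
  have e2 : Φ₂ k (LinearMap.toMatrix' (s₁ ∘ₗ π₁)) (LinearMap.toMatrix' (s₂ ∘ₗ π₂)) X Y = 1 := by
    unfold Φ₂
    rw [← toMatrix'_sk_πk, ← toMatrix'_sk_πk, hX, hY, ← LinearMap.toMatrix'_comp,
      ← LinearMap.toMatrix'_comp, ← LinearMap.toMatrix'_comp, ← LinearMap.toMatrix'_comp]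
    have : ((((sk k s₂ ∘ₗ πk k π₂) ∘ₗ sk k s₂ ∘ₗ θ.toLinearMap ∘ₗ πk k π₁) ∘ₗ sk k s₁ ∘ₗ πk k π₁) ∘ₗ
        sk k s₁ ∘ₗ θ.symm.toLinearMap ∘ₗ πk k π₂) ∘ₗ sk k s₂ ∘ₗ πk k π₂ = sk k s₂ ∘ₗ πk k π₂ := by
      apply LinearMap.ext
      intro v
      simp only [LinearMap.comp_apply, LinearEquiv.coe_coe, πk_sk_apply k π₁ s₁ h₁,
        πk_sk_apply k π₂ s₂ h₂, LinearEquiv.apply_symm_apply]
    rw [this]
    abel
  rw [e1, e2, Matrix.det_one, Matrix.det_one, mul_one]

end FibrePoint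

/-- **Key lemma**: over an LG-ring, two finite projective modules whose fibres at every maximal ideal are
isomorphic are isomorphic. -/
theorem nonempty_linearEquiv_of_fibres (hR : IsLGRing R) (M₁ : Type v) (M₂ : Type v')
    [AddCommGroup M₁] [Module R M₁] [Module.Finite R M₁] [Module.Projective R M₁]
    [AddCommGroup M₂] [Module R M₂] [Module.Finite R M₂] [Module.Projective R M₂]
    (h : ∀ (m : Ideal R) [m.IsMaximal], Nonempty ((R ⧸ m) ⊗[R] M₁ ≃ₗ[R ⧸ m] (R ⧸ m) ⊗[R] M₂)) :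
    Nonempty (M₁ ≃ₗ[R] M₂) := by
  obtain ⟨n₁, π₁, s₁, h₁⟩ := exists_presentation (R := R) M₁
  obtain ⟨n₂, π₂, s₂, h₂⟩ := exists_presentation (R := R) M₂
  have hrep : RepresentsUnit (F (LinearMap.toMatrix' (s₁ ∘ₗ π₁)) (LinearMap.toMatrix' (s₂ ∘ₗ π₂))) R := by
    apply representsUnit_of_finite hR
    intro m hm
    obtain ⟨θ⟩ := h m
    obtain ⟨t, ht⟩ := exists_point_of_fibre_iso (R ⧸ m) π₁ s₁ h₁ π₂ s₂ h₂ θ
    exact ⟨t, by rw [ht]; exact isUnit_one⟩
  obtain ⟨t, ht⟩ := hrep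
  rw [aeval_F] at ht
  exact nonempty_linearEquiv_of_isUnit π₁ s₁ h₁ π₂ s₂ h₂ _ _ ht

section Rank

variable (m : Ideal R) [hm : m.IsMaximal] (M : Type v) [AddCommGroup M] [Module R M]
  [Module.Finite R M] [Module.Projective R M]

/-- The dimension of the fibre at a maximal ideal is the rank at that point. -/
lemma finrank_fibre_eq_rankAtStalk :
    letI := Ideal.Quotient.field m
    Module.finrank (R ⧸ m) ((R ⧸ m) ⊗[R] M) = Module.rankAtStalk M ⟨m, hm.isPrime⟩ := by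
  let _ := Ideal.Quotient.field m
  rw [Module.rankAtStalk_eq]
  let e : m.ResidueField ⊗[R ⧸ m] ((R ⧸ m) ⊗[R] M) ≃ₗ[m.ResidueField] m.ResidueField ⊗[R] M :=
    TensorProduct.AlgebraTensorModule.cancelBaseChange R (R ⧸ m) m.ResidueField m.ResidueField M
  rw [← e.finrank_eq]
  exact (Module.finrank_baseChange (R := m.ResidueField) (S := R ⧸ m)
    (M' := (R ⧸ m) ⊗[R] M)).symm

/-- Finite-dimensional fibres of equal dimension are isomorphic. -/
lemma nonempty_fibre_equiv_of_finrank_eq (M' : Type v') [AddCommGroup M'] [Module R M']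
    [Module.Finite R M'] [Module.Projective R M']
    (h : letI := Ideal.Quotient.field m
      Module.finrank (R ⧸ m) ((R ⧸ m) ⊗[R] M) = Module.finrank (R ⧸ m) ((R ⧸ m) ⊗[R] M')) :
    Nonempty ((R ⧸ m) ⊗[R] M ≃ₗ[R ⧸ m] (R ⧸ m) ⊗[R] M') := by
  let _ := Ideal.Quotient.field m
  exact FiniteDimensional.nonempty_linearEquiv_of_finrank_eq h

end Rank

/-- Over an LG-ring, finite projective modules with the same rank function are isomorphic. -/
theorem nonempty_linearEquiv_of_rankAtStalk_eq (hR : IsLGRing R) (M₁ : Type v) (M₂ : Type v')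
    [AddCommGroup M₁] [Module R M₁] [Module.Finite R M₁] [Module.Projective R M₁]
    [AddCommGroup M₂] [Module R M₂] [Module.Finite R M₂] [Module.Projective R M₂]
    (h : ∀ (m : Ideal R) [hm : m.IsMaximal],
      Module.rankAtStalk M₁ ⟨m, hm.isPrime⟩ = Module.rankAtStalk M₂ ⟨m, hm.isPrime⟩) :
    Nonempty (M₁ ≃ₗ[R] M₂) := by
  apply nonempty_linearEquiv_of_fibres hR
  intro m hm
  apply nonempty_fibre_equiv_of_finrank_eq
  rw [finrank_fibre_eq_rankAtStalk m M₁, finrank_fibre_eq_rankAtStalk m M₂, h m]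

section Unimodular

/-- The fibre of a finite faithful module at a maximal ideal is nonzero. -/
lemma nontrivial_fibre_of_faithful (m : Ideal R) [hm : m.IsMaximal] (M : Type v) [AddCommGroup M]
    [Module R M] [Module.Finite R M] [FaithfulSMul R M] : Nontrivial ((R ⧸ m) ⊗[R] M) := by
  by_contra hcon
  rw [not_nontrivial_iff_subsingleton] at hcon
  have e := TensorProduct.quotTensorEquivQuotSMul M m
  have hsub : Subsingleton (M ⧸ (m • ⊤ : Submodule R M)) := e.symm.toEquiv.subsingleton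
  rw [Submodule.Quotient.subsingleton_iff] at hsub
  obtain ⟨r, hr1, hr2⟩ := Submodule.exists_sub_one_mem_and_smul_eq_zero_of_fg_of_le_smul m
    (⊤ : Submodule R M) Module.Finite.fg_top (by rw [hsub])
  have hr0 : r = 0 := by
    apply FaithfulSMul.eq_of_smul_eq_smul (α := M)
    intro x
    rw [hr2 x Submodule.mem_top, zero_smul]
  rw [hr0, zero_sub] at hr1
  exact hm.ne_top ((Ideal.eq_top_iff_one _).2 (by simpa using m.neg_mem hr1))

variable {n : ℕ} (e : Matrix (Fin n) (Fin n) R)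

/-- The polynomial `y ⬝ (e x)` in the variables `x = inl`, `y = inr`. -/
noncomputable def G : MvPolynomial (Fin n ⊕ Fin n) R :=
  ∑ a, ∑ b, MvPolynomial.X (Sum.inr a) * MvPolynomial.C (e a b) * MvPolynomial.X (Sum.inl b)

lemma aeval_G (A : Type w) [CommRing A] [Algebra R A] (t : Fin n ⊕ Fin n → A) :
    MvPolynomial.aeval t (G e) = ∑ a, ∑ b, t (Sum.inr a) * algebraMap R A (e a b) * t (Sum.inl b) := by
  simp [G, map_sum]

/-- Over an LG-ring a finite projective faithful module has a unimodular element. -/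
theorem exists_unimodular (hR : IsLGRing R) (M : Type v) [AddCommGroup M] [Module R M] [Module.Finite R M]
    [Module.Projective R M] [FaithfulSMul R M] : ∃ (x : M) (f : Module.Dual R M), f x = 1 := by
  obtain ⟨n, π, s, hπs⟩ := exists_presentation (R := R) M
  set e := LinearMap.toMatrix' (s ∘ₗ π) with he
  have hrep : RepresentsUnit (G e) R := by
    apply representsUnit_of_finite hR
    intro m hm
    letI := Ideal.Quotient.field m
    have hnt := nontrivial_fibre_of_faithful m M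
    have hne : e.map (algebraMap R (R ⧸ m)) ≠ 0 := by
      intro h0
      rw [he, ← toMatrix'_sk_πk] at h0
      have h1 : sk (R ⧸ m) s ∘ₗ πk (R ⧸ m) π = 0 := by
        apply LinearMap.toMatrix'.injective
        rw [h0, map_zero]
      obtain ⟨x, y, hxy⟩ := hnt
      apply hxy
      rw [← πk_sk_apply (R ⧸ m) π s hπs x, ← πk_sk_apply (R ⧸ m) π s hπs y,
        ← πk_sk_apply (R ⧸ m) π s hπs x, ← πk_sk_apply (R ⧸ m) π s hπs y]
      have h2 : ∀ z, sk (R ⧸ m) s (πk (R ⧸ m) π z) = 0 := fun z =>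
        congrArg (fun f : (Fin n → R ⧸ m) →ₗ[R ⧸ m] (Fin n → R ⧸ m) => f z) h1
      rw [h2, h2]
    obtain ⟨a, b, hab⟩ : ∃ a b, (e.map (algebraMap R (R ⧸ m))) a b ≠ 0 := by
      by_contra hcon
      push Not at hcon
      exact hne (Matrix.ext hcon)
    refine ⟨Sum.elim (Pi.single b 1) (Pi.single a 1), ?_⟩
    rw [aeval_G]
    have : ∑ a', ∑ b', (Sum.elim (Pi.single b (1 : R ⧸ m)) (Pi.single a 1) (Sum.inr a')) *
        algebraMap R (R ⧸ m) (e a' b') * (Sum.elim (Pi.single b (1 : R ⧸ m)) (Pi.single a 1) (Sum.inl b')) =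
        algebraMap R (R ⧸ m) (e a b) := by
      simp [Pi.single_apply, Finset.sum_ite_eq']
    rw [this]
    exact (isUnit_iff_ne_zero).2 hab
  obtain ⟨t, ht⟩ := hrep
  rw [aeval_G] at ht
  obtain ⟨u, hu⟩ := ht
  refine ⟨π (fun b => t (Sum.inl b)),
    (↑u⁻¹ : R) • ∑ a, t (Sum.inr a) • (LinearMap.proj a ∘ₗ s), ?_⟩
  have hs : ∀ a, s (π (fun b => t (Sum.inl b))) a = ∑ b, e a b * t (Sum.inl b) := by
    intro a
    have := congrFun (Matrix.toLin'_apply e (fun b => t (Sum.inl b))) a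
    rw [he, Matrix.toLin'_toMatrix'] at this
    rw [← he] at this
    exact this
  simp only [LinearMap.smul_apply, LinearMap.sum_apply, LinearMap.comp_apply, LinearMap.proj_apply,
    smul_eq_mul, hs]
  have : ∑ a, t (Sum.inr a) * ∑ b, e a b * t (Sum.inl b) = (u : R) := by
    rw [hu]
    apply Finset.sum_congr rfl
    intro a _
    rw [Finset.mul_sum]
    apply Finset.sum_congr rfl
    intro b _
    simp [mul_assoc]
  rw [this]
  exact Units.inv_mul u

end Unimodular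

end Groth.Agent.Lib27.LGProj
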