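import Groth.Prelude.Def_W4c2azumayainvolQEt
import Mathlib

/-!
# Rings with involution: basic lemmas (helper27)
-/

universe u v

namespace Groth.Agent.Lib27.RInvL

variable {S : Type u} {R : Type v} [CommRing S] [CommRing R] [Algebra S R] (lam : R ≃+* R)

lemma mem_jacobson_iff (x : R) : x ∈ Ring.jacobson R ↔ ∀ y, IsUnit (x * y + 1) := by
  rw [← Ideal.jacobson_bot, Ideal.mem_jacobson_bot]

include lam in
lemma lam_mem_jacobson (hlam : Function.Involutive lam) {x : R} (hx : x ∈ Ring.jacobson R) :
    lam x ∈ Ring.jacobson R := by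
  rw [mem_jacobson_iff] at hx ⊢
  intro y
  have := (hx (lam y)).map lam
  rwa [map_add, map_mul, hlam y, map_one] at this

/-- An element of the fixed ring (assumed local) lying in the Jacobson radical of `R` is in the maximal ideal. -/
lemma mem_maximalIdeal_of_algebraMap_mem_jacobson [IsLocalRing S]
    (hinj : Function.Injective (algebraMap S R)) (b : S)
    (hb : algebraMap S R b ∈ Ring.jacobson R) : b ∈ IsLocalRing.maximalIdeal S := by
  rw [IsLocalRing.mem_maximalIdeal]
  intro hu
  obtain ⟨c, hc⟩ := hu.exists_right_inv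
  rw [mem_jacobson_iff] at hb
  have h1 := hb (algebraMap S R (-c))
  rw [← map_mul, mul_neg, hc, map_neg, map_one, neg_add_cancel] at h1
  have h01 : (0 : R) = 1 := by
    have := h1.mul_val_inv
    rw [zero_mul] at this
    exact this
  have : algebraMap S R 0 = algebraMap S R 1 := by rw [map_zero, map_one, h01]
  exact zero_ne_one (hinj this)

section FixedRing

open RInv

variable (hlam : Function.Involutive lam) (hS : IsFixedRing S R lam)

include hS in
lemma lam_algebraMap (s : S) : lam (algebraMap S R s) = algebraMap S R s :=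
  (hS.2 _).2 ⟨s, rfl⟩

include hS in
lemma lam_smul (s : S) (x : R) : lam (s • x) = s • lam x := by
  rw [Algebra.smul_def, Algebra.smul_def, map_mul, lam_algebraMap lam hS]

include hlam hS in
/-- The trace `x + λ x` lies in `S`. -/
lemma exists_trace (x : R) : ∃ t : S, algebraMap S R t = x + lam x := by
  obtain ⟨t, ht⟩ := (hS.2 (x + lam x)).1 (by rw [map_add, hlam x, add_comm])
  exact ⟨t, ht⟩

include hlam hS in
/-- The norm `x * λ x` lies in `S`. -/
lemma exists_norm (x : R) : ∃ n : S, algebraMap S R n = x * lam x := by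
  obtain ⟨t, ht⟩ := (hS.2 (x * lam x)).1 (by rw [map_mul, hlam x, mul_comm])
  exact ⟨t, ht⟩

include hlam hS in
lemma isIntegral (x : R) : IsIntegral S x := by
  obtain ⟨t, ht⟩ := exists_trace lam hlam hS x
  obtain ⟨n, hn⟩ := exists_norm lam hlam hS x
  refine ⟨Polynomial.X ^ 2 - Polynomial.C t * Polynomial.X + Polynomial.C n, ?_, ?_⟩
  · have : (Polynomial.X ^ 2 - Polynomial.C t * Polynomial.X + Polynomial.C n : Polynomial S) =
        Polynomial.X ^ 2 + (Polynomial.C (-t) * Polynomial.X + Polynomial.C n) := by
      rw [map_neg]; ring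
    rw [this]
    refine Polynomial.monic_X_pow_add ?_
    refine lt_of_le_of_lt (Polynomial.degree_add_le _ _) ?_
    refine max_lt (lt_of_le_of_lt (Polynomial.degree_C_mul_X_le _) (by norm_num))
      (lt_of_le_of_lt Polynomial.degree_C_le (by norm_num))
  · simp only [Polynomial.eval₂_add, Polynomial.eval₂_sub, Polynomial.eval₂_mul, Polynomial.eval₂_pow,
      Polynomial.eval₂_X, Polynomial.eval₂_C, ht, hn]
    ring

include hlam hS in
lemma algebra_isIntegral : Algebra.IsIntegral S R := ⟨isIntegral lam hlam hS⟩

variable {r : R} (hu : IsUnit (r - lam r))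

include hlam hS hu in
/-- If `r - λ r` is a unit then every element is `a + b r` with `a, b ∈ S`. -/
lemma exists_decomp (x : R) : ∃ a b : S, x = algebraMap S R a + algebraMap S R b * r := by
  obtain ⟨v, hv⟩ := hu.exists_right_inv
  have hlv : lam v = -v := by
    have h1 : lam (r - lam r) * lam v = 1 := by rw [← map_mul, hv, map_one]
    rw [map_sub, hlam r] at h1
    have h2 : (r - lam r) * (-(lam v)) = 1 := by rw [← h1]; ring
    have := (hu.mul_right_inj).1 (h2.trans hv.symm)
    exact neg_eq_iff_eq_neg.1 this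
  obtain ⟨b, hb⟩ := (hS.2 ((x - lam x) * v)).1 (by
    rw [map_mul, map_sub, hlam x, hlv]; ring)
  obtain ⟨a, ha⟩ := (hS.2 (x - (x - lam x) * v * r)).1 (by
    rw [map_sub, map_mul, map_mul, map_sub, hlam x, hlv]
    have : x - (x - lam x) * v * r - (lam x - (lam x - x) * -v * lam r) =
      (x - lam x) * (1 - (r - lam r) * v) := by ring
    rw [eq_comm, ← sub_eq_zero, this, hv, sub_self, mul_zero])
  refine ⟨a, b, ?_⟩
  rw [ha, hb]
  ring

include hS hu in
lemma decomp_unique (a b : S) (h : algebraMap S R a + algebraMap S R b * r = 0) : a = 0 ∧ b = 0 := by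
  have h' := congrArg lam h
  rw [map_add, map_mul, lam_algebraMap lam hS, lam_algebraMap lam hS, map_zero] at h'
  have h1 : algebraMap S R b * (r - lam r) = 0 := by
    have : algebraMap S R b * (r - lam r) =
      (algebraMap S R a + algebraMap S R b * r) - (algebraMap S R a + algebraMap S R b * lam r) := by ring
    rw [this, h, h', sub_zero]
  have hb : algebraMap S R b = 0 := (hu.mul_left_eq_zero).1 h1
  have hb0 : b = 0 := hS.1 (by rw [hb, map_zero])
  rw [hb, zero_mul, add_zero] at h
  exact ⟨hS.1 (by rw [h, map_zero]), hb0⟩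

include hlam hS hu in
/-- `{1, r}` is a basis of `R` over `S` when `r - λ r` is a unit. -/
lemma exists_basis : ∃ b : Module.Basis (Fin 2) S R, b 0 = 1 ∧ b 1 = r := by
  have hli : LinearIndependent S ![(1 : R), r] := by
    rw [LinearIndependent.pair_iff]
    intro s t hst
    rw [Algebra.smul_def, Algebra.smul_def, mul_one] at hst
    exact decomp_unique lam hS hu s t hst
  have hsp : ⊤ ≤ Submodule.span S (Set.range ![(1 : R), r]) := by
    intro x _
    obtain ⟨a, b, rfl⟩ := exists_decomp lam hlam hS hu x
    rw [Matrix.range_cons, Matrix.range_cons, Matrix.range_empty, Set.union_empty]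
    refine Submodule.add_mem _ ?_ ?_
    · rw [Algebra.algebraMap_eq_smul_one]
      exact Submodule.smul_mem _ _ (Submodule.subset_span (by simp))
    · rw [← Algebra.smul_def]
      exact Submodule.smul_mem _ _ (Submodule.subset_span (by simp))
  exact ⟨Module.Basis.mk hli hsp, by simp, by simp⟩

include hlam hS hu in
lemma formallyUnramified : Algebra.FormallyUnramified S R := by
  constructor
  obtain ⟨t, ht⟩ := exists_trace lam hlam hS r
  obtain ⟨n, hn⟩ := exists_norm lam hlam hS r
  have hrr : r * r = algebraMap S R t * r - algebraMap S R n := by rw [ht, hn]; ring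
  have hDr : KaehlerDifferential.D S R r = 0 := by
    have h1 := congrArg (KaehlerDifferential.D S R) hrr
    rw [Derivation.leibniz, map_sub, Derivation.leibniz, Derivation.map_algebraMap,
      Derivation.map_algebraMap, smul_zero, add_zero, sub_zero, ← add_smul] at h1
    have h2 : (r - lam r) • KaehlerDifferential.D S R r = 0 := by
      have : r - lam r = (r + r) - algebraMap S R t := by rw [ht]; ring
      rw [this, sub_smul, h1, sub_self]
    obtain ⟨v, hv⟩ := hu.exists_left_inv
    calc KaehlerDifferential.D S R r = (v * (r - lam r)) • KaehlerDifferential.D S R r := by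
          rw [hv, one_smul]
      _ = 0 := by rw [mul_smul, h2, smul_zero]
  have hD : ∀ x : R, KaehlerDifferential.D S R x = 0 := by
    intro x
    obtain ⟨a, b, rfl⟩ := exists_decomp lam hlam hS hu x
    rw [map_add, Derivation.leibniz, Derivation.map_algebraMap, Derivation.map_algebraMap, hDr,
      smul_zero, smul_zero, add_zero, add_zero]
  refine subsingleton_of_forall_eq 0 fun ω => ?_
  have hω : ω ∈ Submodule.span R (Set.range (KaehlerDifferential.D S R)) := by
    rw [KaehlerDifferential.span_range_derivation]; trivial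
  refine Submodule.span_induction ?_ rfl ?_ ?_ hω
  · rintro _ ⟨x, rfl⟩
    exact hD x
  · intro x y _ _ hx hy
    rw [hx, hy, add_zero]
  · intro c x _ hx
    rw [hx, smul_zero]

include hlam hS hu in
/-- `R` is quadratic etale over the fixed ring when some `r - λ r` is a unit. -/
theorem isQuadEtale_of_isUnit : IsQuadEtale S R := by
  obtain ⟨b, -, -⟩ := exists_basis lam hlam hS hu
  have hfree : Module.Free S R := Module.Free.of_basis b
  have hfin : Module.Finite S R := Module.Finite.of_basis b
  refine ⟨hfin, inferInstance, formallyUnramified lam hlam hS hu, ?_⟩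
  intro p
  have : Nontrivial S := ⟨⟨0, 1, fun h => p.isPrime.ne_top
    ((Ideal.eq_top_iff_one _).2 (h ▸ p.asIdeal.zero_mem))⟩⟩
  rw [Module.rankAtStalk_eq_finrank_of_free]
  simp [Module.finrank_eq_card_basis b]

omit hu in
include hlam hS in
/-- If `{1, θ}` is a basis of `R` over the fixed ring `S` and `R` is formally unramified over `S`, then `θ - λ θ` is a unit. -/
theorem isUnit_sub_of_basis (b : Module.Basis (Fin 2) S R) (h0 : b 0 = 1)
    [Algebra.FormallyUnramified S R] : IsUnit (b 1 - lam (b 1)) := by
  set θ := b 1 with hθ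
  obtain ⟨t, ht⟩ := exists_trace lam hlam hS θ
  obtain ⟨n, hn⟩ := exists_norm lam hlam hS θ
  have hθθ : θ * θ = algebraMap S R t * θ - algebraMap S R n := by rw [ht, hn]; ring
  set u := θ - lam θ with hu
  have hu' : u = θ + θ - algebraMap S R t := by rw [ht, hu]; ring
  -- decomposition
  have hdec : ∀ x : R, x = algebraMap S R (b.repr x 0) + algebraMap S R (b.repr x 1) * θ := by
    intro x
    conv_lhs => rw [← b.sum_repr x]
    rw [Fin.sum_univ_two, h0, Algebra.smul_def, Algebra.smul_def, mul_one]
  have hcoord : ∀ p q : S, b.repr (algebraMap S R p + algebraMap S R q * θ) 1 = q := by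
    intro p q
    have : algebraMap S R p + algebraMap S R q * θ = p • b 0 + q • b 1 := by
      rw [h0, Algebra.smul_def, Algebra.smul_def, mul_one]
    rw [this, map_add, map_smul, map_smul, b.repr_self, b.repr_self]
    simp
  let I : Ideal R := Ideal.span {u}
  let D₀ : R →ₗ[S] (R ⧸ I) := (Algebra.linearMap S (R ⧸ I)) ∘ₗ (b.coord 1)
  have hD₀ : ∀ x, D₀ x = Ideal.Quotient.mk I (algebraMap S R (b.repr x 1)) := fun x => rfl
  have key : ∀ a c a' c' : S,
      D₀ ((algebraMap S R a + algebraMap S R c * θ) * (algebraMap S R a' + algebraMap S R c' * θ)) =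
        (algebraMap S R a + algebraMap S R c * θ) • D₀ (algebraMap S R a' + algebraMap S R c' * θ) +
        (algebraMap S R a' + algebraMap S R c' * θ) • D₀ (algebraMap S R a + algebraMap S R c * θ) := by
    intro a c a' c'
    have hxy : (algebraMap S R a + algebraMap S R c * θ) * (algebraMap S R a' + algebraMap S R c' * θ) =
        algebraMap S R (a * a' - c * c' * n) +
        algebraMap S R (a * c' + c * a' + c * c' * t) * θ := by
      simp only [map_add, map_sub, map_mul]
      have : (algebraMap S R a + algebraMap S R c * θ) * (algebraMap S R a' + algebraMap S R c' * θ) =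
          algebraMap S R a * algebraMap S R a' + (algebraMap S R a * algebraMap S R c' +
            algebraMap S R c * algebraMap S R a') * θ +
            algebraMap S R c * algebraMap S R c' * (θ * θ) := by ring
      rw [this, hθθ]
      ring
    rw [hxy, hD₀, hD₀, hD₀, hcoord, hcoord, hcoord]
    change Ideal.Quotient.mk I _ = Ideal.Quotient.mk I (_ * _) + Ideal.Quotient.mk I (_ * _)
    rw [← map_add, Ideal.Quotient.mk_eq_mk_iff_sub_mem]
    refine Ideal.mem_span_singleton'.2 ⟨- (algebraMap S R c * algebraMap S R c'), ?_⟩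
    rw [hu']
    simp only [map_add, map_mul]
    ring
  have hleib : ∀ x y : R, D₀ (x * y) = x • D₀ y + y • D₀ x := by
    intro x y
    have := key (b.repr x 0) (b.repr x 1) (b.repr y 0) (b.repr y 1)
    rwa [← hdec x, ← hdec y] at this
  let D : Derivation S R (R ⧸ I) := Derivation.mk' D₀ hleib
  have hDz : D = 0 := by
    apply (KaehlerDifferential.linearMapEquivDerivation S R).symm.injective
    exact Subsingleton.elim _ _
  have h1 : D θ = 0 := by rw [hDz]; rfl
  have h2 : D θ = Ideal.Quotient.mk I 1 := by
    change D₀ θ = _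
    rw [hD₀, hθ, b.repr_self]
    simp
  rw [h2, Ideal.Quotient.eq_zero_iff_mem] at h1
  obtain ⟨v, hv⟩ := Ideal.mem_span_singleton'.1 h1
  exact IsUnit.of_mul_eq_one v (by rw [mul_comm]; exact hv)

end FixedRing

section BasisOne

lemma repr_pair (b' : Module.Basis (Fin 2) S R) (p q : S) :
    b'.repr (p • b' 0 + q • b' 1) 0 = p ∧ b'.repr (p • b' 0 + q • b' 1) 1 = q := by
  rw [map_add, map_smul, map_smul, b'.repr_self, b'.repr_self]
  constructor <;> simp

lemma exists_basis_one_of_isUnit (b' : Module.Basis (Fin 2) S R) (hα : IsUnit (b'.repr 1 0)) :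
    ∃ b : Module.Basis (Fin 2) S R, b 0 = 1 := by
  set α := b'.repr 1 0 with hαd
  set β := b'.repr 1 1 with hβd
  have h1 : (1 : R) = α • b' 0 + β • b' 1 := by
    conv_lhs => rw [← b'.sum_repr 1]
    rw [Fin.sum_univ_two]
  obtain ⟨γ, hγ⟩ := hα.exists_left_inv
  have hli : LinearIndependent S ![(1 : R), b' 1] := by
    rw [LinearIndependent.pair_iff]
    intro s t hst
    have e : s • (1 : R) + t • b' 1 = (s * α) • b' 0 + (s * β + t) • b' 1 := by
      rw [h1, smul_add, smul_smul, smul_smul, add_smul, add_assoc]
    rw [e] at hst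
    have c := repr_pair b' (s * α) (s * β + t)
    rw [hst, LinearEquiv.map_zero] at c
    have hs : s = 0 := by
      have : s * α * γ = 0 := by rw [← c.1]; simp
      rwa [mul_assoc, mul_comm α γ, hγ, mul_one] at this
    have ht : t = 0 := by
      have := c.2
      rw [hs, zero_mul, zero_add] at this
      rw [← this]; simp
    exact ⟨hs, ht⟩
  have hsp : ⊤ ≤ Submodule.span S (Set.range ![(1 : R), b' 1]) := by
    rw [← b'.span_eq, Submodule.span_le]
    have hone : (1 : R) ∈ Submodule.span S (Set.range ![(1 : R), b' 1]) :=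
      Submodule.subset_span ⟨0, rfl⟩
    have hb1 : b' 1 ∈ Submodule.span S (Set.range ![(1 : R), b' 1]) :=
      Submodule.subset_span ⟨1, rfl⟩
    rintro _ ⟨i, rfl⟩
    fin_cases i
    · have : b' 0 = γ • ((1 : R) - β • b' 1) := by
        rw [h1, add_sub_cancel_right, smul_smul, hγ, one_smul]
      change b' 0 ∈ _
      rw [this]
      exact Submodule.smul_mem _ _ (Submodule.sub_mem _ hone (Submodule.smul_mem _ _ hb1))
    · exact hb1
  exact ⟨Module.Basis.mk hli hsp, by simp⟩

/-- Over a local ring, a rank two free algebra has a basis of the form `{1, θ}`. -/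
lemma exists_basis_one [IsLocalRing S] [Nontrivial R] (b' : Module.Basis (Fin 2) S R) :
    ∃ b : Module.Basis (Fin 2) S R, b 0 = 1 := by
  by_cases hα : IsUnit (b'.repr 1 0)
  · exact exists_basis_one_of_isUnit b' hα
  by_cases hβ : IsUnit (b'.repr 1 1)
  · refine exists_basis_one_of_isUnit (b'.reindex (Equiv.swap 0 1)) ?_
    rw [Module.Basis.repr_reindex_apply]
    simpa using hβ
  exfalso
  have hfin : Module.Finite S R := Module.Finite.of_basis b'
  have h1 : (1 : R) = (b'.repr 1 0) • b' 0 + (b'.repr 1 1) • b' 1 := by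
    conv_lhs => rw [← b'.sum_repr 1]
    rw [Fin.sum_univ_two]
  have hmem : (1 : R) ∈ (IsLocalRing.maximalIdeal S) • (⊤ : Submodule S R) := by
    rw [h1]
    exact Submodule.add_mem _ (Submodule.smul_mem_smul hα Submodule.mem_top)
      (Submodule.smul_mem_smul hβ Submodule.mem_top)
  have htop : (⊤ : Submodule S R) ≤ (IsLocalRing.maximalIdeal S) • (⊤ : Submodule S R) := by
    intro x _
    have hgen : ∀ y ∈ (IsLocalRing.maximalIdeal S) • (⊤ : Submodule S R),
        x * y ∈ (IsLocalRing.maximalIdeal S) • (⊤ : Submodule S R) := by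
      intro y hy
      refine Submodule.smul_induction_on hy ?_ ?_
      · intro a ha r _
        rw [mul_smul_comm]
        exact Submodule.smul_mem_smul ha Submodule.mem_top
      · intro y z hy hz
        rw [mul_add]
        exact Submodule.add_mem _ hy hz
    have := hgen 1 hmem
    rwa [mul_one] at this
  have hbot := Submodule.eq_bot_of_le_smul_of_le_jacobson_bot (IsLocalRing.maximalIdeal S)
    (⊤ : Submodule S R) Module.Finite.fg_top htop
    (IsLocalRing.jacobson_eq_maximalIdeal ⊥ bot_ne_top).ge
  have h10 : (1 : R) ∈ (⊥ : Submodule S R) := hbot ▸ Submodule.mem_top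
  exact one_ne_zero ((Submodule.mem_bot S).1 h10)

end BasisOne

section Local

open RInv

variable (hlam : Function.Involutive lam) (hS : IsFixedRing S R lam) [IsLocalRing S]

include hS in
lemma nontrivial_of_isFixedRing : Nontrivial R :=
  ⟨⟨algebraMap S R 0, algebraMap S R 1, fun h => zero_ne_one (hS.1 h)⟩⟩

include hlam hS in
/-- `S15574`: a quadratic etale algebra over its local fixed ring has some `r - λ r` invertible. -/
theorem exists_isUnit_sub_of_isQuadEtale (hq : IsQuadEtale S R) : ∃ r : R, IsUnit (r - lam r) := by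
  obtain ⟨hfin, hproj, hunr, hrank⟩ := hq
  have : Nontrivial R := nontrivial_of_isFixedRing lam hS
  have hfree : Module.Free S R := Module.free_of_flat_of_isLocalRing
  have h2 : Module.finrank S R = 2 := by
    have := hrank (IsLocalRing.closedPoint S)
    rw [Module.rankAtStalk_eq_finrank_of_free] at this
    exact this
  obtain ⟨b, hb⟩ := exists_basis_one (Module.finBasisOfFinrankEq S R h2)
  exact ⟨b 1, isUnit_sub_of_basis lam hlam hS b hb⟩

include hlam hS in
lemma comap_eq_maximalIdeal (M : Ideal R) [hM : M.IsMaximal] :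
    M.comap (algebraMap S R) = IsLocalRing.maximalIdeal S := by
  have := algebra_isIntegral lam hlam hS
  exact IsLocalRing.eq_maximalIdeal (Ideal.isMaximal_comap_of_isIntegral_of_isMaximal M)

include hlam hS in
/-- The involution acts transitively on the maximal ideals of `R`. -/
lemma eq_or_eq_comap_of_isMaximal (M M' : Ideal R) [hM : M.IsMaximal] [hM' : M'.IsMaximal] :
    M' = M ∨ M' = M.comap (lam : R →+* R) := by
  by_contra hcon
  push Not at hcon
  obtain ⟨h1, h2⟩ := hcon
  have hlM : (M.comap (lam : R →+* R)).IsMaximal :=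
    Ideal.comap_isMaximal_of_surjective (lam : R →+* R) lam.surjective
  have hn1 : ¬ M' ≤ M := fun h => h1 (hM'.eq_of_le hM.ne_top h)
  have hn2 : ¬ M' ≤ M.comap (lam : R →+* R) := fun h => h2 (hM'.eq_of_le hlM.ne_top h)
  have hsub : ¬ ((M' : Set R) ⊆ (M : Set R) ∪ (M.comap (lam : R →+* R) : Set R)) := by
    intro h
    rcases (Ideal.subset_union (R := R)).1 h with h | h
    · exact hn1 h
    · exact hn2 h
  rw [Set.not_subset] at hsub
  obtain ⟨x, hxM', hx⟩ := hsub
  rw [Set.mem_union, not_or] at hx
  obtain ⟨hx1, hx2⟩ := hx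
  obtain ⟨n, hn⟩ := exists_norm lam hlam hS x
  have hnm : n ∈ M'.comap (algebraMap S R) := by
    rw [Ideal.mem_comap, hn]
    exact Ideal.mul_mem_right _ _ hxM'
  rw [comap_eq_maximalIdeal lam hlam hS M', ← comap_eq_maximalIdeal lam hlam hS M, Ideal.mem_comap,
    hn] at hnm
  rcases hM.isPrime.mem_or_mem hnm with h | h
  · exact hx1 h
  · exact hx2 h

include hlam hS in
/-- An anti-invariant element outside the Jacobson radical is a unit. -/
lemma isUnit_of_lam_eq_neg {x : R} (hx : lam x = -x) (hxJ : x ∉ Ring.jacobson R) : IsUnit x := by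
  by_contra hnu
  obtain ⟨M, hM, hxM⟩ := exists_max_ideal_of_mem_nonunits hnu
  apply hxJ
  rw [← Ideal.jacobson_bot, Ideal.jacobson, Ideal.mem_sInf]
  rintro M' ⟨-, hM'⟩
  rcases eq_or_eq_comap_of_isMaximal lam hlam hS M M' with h | h
  · rw [h]; exact hxM
  · rw [h, Ideal.mem_comap]
    change lam x ∈ M
    rw [hx]
    exact M.neg_mem hxM

include hlam hS in
/-- `S15576`. -/
theorem isQuadEtale_of_not_mem_jacobson (h : ∃ r : R, lam r - r ∉ Ring.jacobson R) :
    IsQuadEtale S R := by
  obtain ⟨r, hr⟩ := h
  have hx : lam (lam r - r) = -(lam r - r) := by rw [map_sub, hlam r]; ring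
  have hu := isUnit_of_lam_eq_neg lam hlam hS hx hr
  have hu' : IsUnit (r - lam r) := by
    have : r - lam r = -(lam r - r) := by ring
    rw [this]; exact hu.neg
  exact isQuadEtale_of_isUnit lam hlam hS hu'

include hlam hS in
/-- `S15577`. -/
theorem isLocalRing_and_not_isQuadEtale (h : ∀ r : R, lam r - r ∈ Ring.jacobson R) :
    IsLocalRing R ∧ ¬ IsQuadEtale S R := by
  have hnt : Nontrivial R := nontrivial_of_isFixedRing lam hS
  constructor
  · obtain ⟨M, hM⟩ := Ideal.exists_maximal R
    refine IsLocalRing.of_unique_max_ideal ⟨M, hM, ?_⟩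
    intro M' hM'
    have hM'' : M'.IsMaximal := hM'
    rcases eq_or_eq_comap_of_isMaximal lam hlam hS M M' with h' | h'
    · exact h'
    · rw [h']
      ext x
      rw [Ideal.mem_comap]
      change lam x ∈ M ↔ x ∈ M
      have hJ : lam x - x ∈ M := by
        have := h x
        rw [← Ideal.jacobson_bot, Ideal.jacobson, Ideal.mem_sInf] at this
        exact this ⟨bot_le, hM⟩
      constructor
      · intro hl
        have : x = lam x - (lam x - x) := by ring
        rw [this]; exact M.sub_mem hl hJ
      · intro hx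
        have : lam x = x + (lam x - x) := by ring
        rw [this]; exact M.add_mem hx hJ
  · intro hq
    obtain ⟨r, hr⟩ := exists_isUnit_sub_of_isQuadEtale lam hlam hS hq
    have hJ : r - lam r ∈ Ring.jacobson R := by
      have : r - lam r = -(lam r - r) := by ring
      rw [this]; exact (Ring.jacobson R).neg_mem (h r)
    rw [mem_jacobson_iff] at hJ
    obtain ⟨v, hv⟩ := hr.exists_right_inv
    have := hJ (-v)
    rw [mul_neg, hv, neg_add_cancel] at this
    exact not_isUnit_zero this

include hlam hS in
/-- An element `a` with `a * r = λ a` (`r` a unit) avoiding one maximal ideal is a unit. -/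
lemma isUnit_of_mul_eq_lam {a r : R} (hr : IsUnit r) (har : a * r = lam a) (M : Ideal R) [hM : M.IsMaximal]
    (haM : a ∉ M) : IsUnit a := by
  by_contra hnu
  obtain ⟨M', hM', haM'⟩ := exists_max_ideal_of_mem_nonunits hnu
  rcases eq_or_eq_comap_of_isMaximal lam hlam hS M M' with h | h
  · exact haM (h ▸ haM')
  · rw [h, Ideal.mem_comap] at haM'
    change lam a ∈ M at haM'
    rw [← har] at haM'
    rcases hM.isPrime.mem_or_mem haM' with h' | h'
    · exact haM h'
    · exact hM.ne_top (Ideal.eq_top_of_isUnit_mem _ h' hr)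

include hlam hS in
/-- `S15580`: Hilbert 90 for quadratic etale algebras over a local fixed ring. -/
theorem exists_units_eq_inv_mul_lam (hq : IsQuadEtale S R) (r : Rˣ) (hr : lam r * r = 1) :
    ∃ a : Rˣ, (r : R) = (a⁻¹ : Rˣ) * lam a := by
  have hnt : Nontrivial R := nontrivial_of_isFixedRing lam hS
  obtain ⟨θ, hθ⟩ := exists_isUnit_sub_of_isQuadEtale lam hlam hS hq
  obtain ⟨M, hM⟩ := Ideal.exists_maximal R
  have hlr : lam (lam (r : R)) = r := hlam r
  have key : ∀ c : R, (lam c + c * lam r) * r = lam (lam c + c * lam r) := by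
    intro c
    rw [map_add, map_mul, hlam c, hlr, add_mul, mul_assoc, hr, mul_one, add_comm]
  have hex : ∃ a : R, a * r = lam a ∧ a ∉ M := by
    by_cases h1 : (1 : R) + lam r ∈ M
    · refine ⟨lam θ + θ * lam r, key θ, ?_⟩
      intro hmem
      have e : θ - lam θ = θ * (1 + lam r) - (lam θ + θ * lam r) := by ring
      have : θ - lam θ ∈ M := by
        rw [e]; exact M.sub_mem (M.mul_mem_left _ h1) hmem
      exact hM.ne_top (Ideal.eq_top_of_isUnit_mem _ this hθ)
    · refine ⟨lam 1 + 1 * lam r, key 1, ?_⟩
      rw [map_one, one_mul]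
      exact h1
  obtain ⟨a, har, haM⟩ := hex
  have hau : IsUnit a := isUnit_of_mul_eq_lam lam hlam hS r.isUnit har M haM
  refine ⟨hau.unit, ?_⟩
  rw [eq_comm, Units.inv_mul_eq_iff_eq_mul, IsUnit.unit_spec, har]

end Local

end Groth.Agent.Lib27.RInvL
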