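import Mathlib.CategoryTheory.Abelian.Projective.Resolution
import Mathlib.Algebra.Homology.ShortComplex.Abelian
import Mathlib.Algebra.Homology.ShortComplex.ExactFunctor
import Mathlib.Algebra.Homology.QuasiIso

/-!
# Resolutions by iterated covers

Given an abelian category `C` with an assignment `X ↦ (cov X ⟶ X)`, and a class `Q` of objects
closed under kernels (of maps with source in `Q`) and `cov`, such that `cov X ⟶ X` is an
epimorphism for `X` in `Q`, every `Z` in `Q` has a left resolution by objects of the form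
`cov Y` with `Y` in `Q`.
-/

set_option autoImplicit false
universe v u

open CategoryTheory CategoryTheory.Limits

namespace Groth.Agent.Lib27.Resol

variable {C : Type u} [Category.{v} C] [Abelian C]

/-- cover data -/
structure Cover (C : Type u) [Category.{v} C] where
  cov : C → C
  π : ∀ X, cov X ⟶ X

namespace Cover

variable (D : Cover C)

/-- the cover of the kernel, mapped to the source -/
noncomputable def d {X Y : C} (f : X ⟶ Y) : D.cov (kernel f) ⟶ X := D.π _ ≫ kernel.ι f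

@[reassoc (attr := simp)]
lemma d_comp {X Y : C} (f : X ⟶ Y) : D.d f ≫ f = 0 := by simp [d]

/-- The resolution complex. -/
noncomputable def complex (Z : C) : ChainComplex C ℕ :=
  ChainComplex.mk' (D.cov Z) (D.cov (kernel (D.π Z))) (D.d (D.π Z))
    (fun f => ⟨_, D.d f, D.d_comp f⟩)

lemma complex_d_1_0 (Z : C) : (D.complex Z).d 1 0 = D.d (D.π Z) := by
  simp [complex]

/-- the iso for higher terms -/
noncomputable def complexXIso (Z : C) (n : ℕ) :
    (D.complex Z).X (n + 2) ≅ D.cov (kernel ((D.complex Z).d (n + 1) n)) :=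
  ChainComplex.mk'XIso _ _ _ _ n

lemma complex_d (Z : C) (n : ℕ) :
    (D.complex Z).d (n + 2) (n + 1) = (D.complexXIso Z n).hom ≫ D.d ((D.complex Z).d (n + 1) n) :=
  ChainComplex.mk'_d _ _ _ _ n

variable (Q : C → Prop)

/-- hypotheses on the class `Q` -/
structure Good : Prop where
  iso : ∀ {X Y : C}, (X ≅ Y) → Q X → Q Y
  epi : ∀ X, Q X → Epi (D.π X)
  cov : ∀ X, Q X → Q (D.cov X)
  ker : ∀ {X Y : C} (f : X ⟶ Y), Q X → Q (kernel f)

variable {D Q}

lemma exact_d (h : D.Good Q) {X Y : C} (f : X ⟶ Y) (hX : Q X) :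
    (ShortComplex.mk (D.d f) f (D.d_comp f)).Exact := by
  have := h.epi _ (h.ker f hX)
  let α : ShortComplex.mk (D.d f) f (D.d_comp f) ⟶ ShortComplex.mk (kernel.ι f) f (by simp) :=
    { τ₁ := D.π _
      τ₂ := 𝟙 _
      τ₃ := 𝟙 _
      comm₁₂ := by simp [d] }
  rw [ShortComplex.exact_iff_of_epi_of_isIso_of_mono α]
  apply ShortComplex.exact_of_f_is_kernel
  apply kernelIsKernel

lemma Q_X (h : D.Good Q) (Z : C) (hZ : Q Z) : ∀ n, Q ((D.complex Z).X n)
  | 0 => h.cov _ hZ
  | 1 => h.cov _ (h.ker _ (h.cov _ hZ))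
  | n + 2 => h.iso (D.complexXIso Z n).symm (h.cov _ (h.ker _ (Q_X h Z hZ (n + 1))))

lemma exists_X_iso (h : D.Good Q) (Z : C) (hZ : Q Z) (n : ℕ) :
    ∃ Y, Q Y ∧ Nonempty ((D.complex Z).X n ≅ D.cov Y) := by
  match n with
  | 0 => exact ⟨Z, hZ, ⟨Iso.refl _⟩⟩
  | 1 => exact ⟨_, h.ker _ (h.cov _ hZ), ⟨Iso.refl _⟩⟩
  | n + 2 => exact ⟨_, h.ker _ (Q_X h Z hZ (n + 1)), ⟨D.complexXIso Z n⟩⟩

lemma exactAt_succ (h : D.Good Q) (Z : C) (hZ : Q Z) (n : ℕ) :
    (D.complex Z).ExactAt (n + 1) := by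
  rw [HomologicalComplex.exactAt_iff' _ (n + 1 + 1) (n + 1) n (by simp) (by simp)]
  have ex := exact_d h ((D.complex Z).d (n + 1) n) (Q_X h Z hZ (n + 1))
  show (ShortComplex.mk ((D.complex Z).d (n + 2) (n + 1)) ((D.complex Z).d (n + 1) n)
    ((D.complex Z).d_comp_d _ _ _)).Exact
  let α : ShortComplex.mk ((D.complex Z).d (n + 2) (n + 1)) ((D.complex Z).d (n + 1) n)
      ((D.complex Z).d_comp_d _ _ _) ⟶
      ShortComplex.mk (D.d ((D.complex Z).d (n + 1) n)) ((D.complex Z).d (n + 1) n)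
        (D.d_comp _) :=
    { τ₁ := (D.complexXIso Z n).hom
      τ₂ := 𝟙 ((D.complex Z).X (n + 1))
      τ₃ := 𝟙 ((D.complex Z).X n)
      comm₁₂ := by
        dsimp
        rw [Category.comp_id]
        exact (D.complex_d Z n).symm
      comm₂₃ := by
        dsimp
        rw [Category.comp_id, Category.id_comp] }
  have : IsIso α.τ₂ := inferInstanceAs (IsIso (𝟙 _))
  have : Mono α.τ₃ := inferInstanceAs (Mono (𝟙 _))
  have : Epi α.τ₁ := inferInstanceAs (Epi (D.complexXIso Z n).hom)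
  rw [ShortComplex.exact_iff_of_epi_of_isIso_of_mono α]
  exact ex

/-- the augmentation -/
noncomputable def aug (Z : C) : D.complex Z ⟶ (ChainComplex.single₀ C).obj Z :=
  (ChainComplex.toSingle₀Equiv _ _).symm ⟨D.π Z, by
    rw [complex_d_1_0]; exact D.d_comp _⟩

lemma quasiIso_aug (h : D.Good Q) (Z : C) (hZ : Q Z) : QuasiIso (D.aug Z) := by
  refine ⟨fun n => ?_⟩
  cases n with
  | zero =>
    rw [ChainComplex.quasiIsoAt₀_iff, ShortComplex.quasiIso_iff_of_zeros']
    · have := h.epi Z hZ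
      refine (ShortComplex.exact_and_epi_g_iff_of_iso ?_).2
        ⟨exact_d h (D.π Z) (h.cov _ hZ), by dsimp; infer_instance⟩
      exact ShortComplex.isoMk (Iso.refl _) (Iso.refl _) (Iso.refl _)
        (by
          show 𝟙 _ ≫ D.d (D.π Z) = (D.complex Z).d 1 0 ≫ 𝟙 _
          rw [complex_d_1_0, Category.id_comp, Category.comp_id])
        (by
          show 𝟙 _ ≫ D.π Z = (D.aug Z).f 0 ≫ 𝟙 _
          rw [Category.id_comp, Category.comp_id, aug,
            ChainComplex.toSingle₀Equiv_symm_apply_f_zero])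
    all_goals rfl
  | succ n =>
    rw [quasiIsoAt_iff_exactAt']
    · exact exactAt_succ h Z hZ n
    · apply ChainComplex.exactAt_succ_single_obj

end Cover

end Groth.Agent.Lib27.Resol
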