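import Groth.Prelude.Def_DRing2
import Groth.Agent.Lib27.Resol
import Mathlib.CategoryTheory.Abelian.Projective.Extend
import Mathlib.Algebra.Category.ModuleCat.Projective
import Mathlib.RingTheory.Noetherian.Basic

/-!
# Finite modules over Noetherian rings are pseudo-coherent
-/

set_option autoImplicit false
universe u
attribute [local instance] HasDerivedCategory.standard
open CategoryTheory CategoryTheory.Limits

namespace Groth.Agent.Lib27.PseudoCoh

open Groth.Agent.Lib27.Resol

variable (P : Type u) [CommRing P]

/-- a chosen presentation (junk for non-finite modules) -/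
noncomputable def pres (N : ModuleCat.{u} P) : Σ k : ℕ, ((Fin k → P) →ₗ[P] N) := by
  classical
  exact if h : Module.Finite P N then
    ⟨(Module.Finite.exists_fin' P N).choose, (Module.Finite.exists_fin' P N).choose_spec.choose⟩
  else ⟨0, 0⟩

lemma pres_surjective (N : ModuleCat.{u} P) (h : Module.Finite P N) :
    Function.Surjective (pres P N).2 := by
  classical
  unfold pres
  rw [dif_pos h]
  exact (Module.Finite.exists_fin' P N).choose_spec.choose_spec

/-- the cover data -/
noncomputable def cover : Cover (ModuleCat.{u} P) where
  cov N := ModuleCat.of P (Fin (pres P N).1 → P)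
  π N := ModuleCat.ofHom (pres P N).2

lemma good [IsNoetherianRing P] :
    (cover P).Good (fun N : ModuleCat.{u} P => Module.Finite P N) where
  iso e h := Module.Finite.equiv e.toLinearEquiv
  epi N hN := (ModuleCat.epi_iff_surjective _).2 (pres_surjective P N hN)
  cov N _ := by
    show Module.Finite P (Fin (pres P N).1 → P)
    infer_instance
  ker {X Y} f hX := by
    have : IsNoetherian P X := isNoetherian_of_isNoetherianRing_of_finite P X
    have hinj : Function.Injective (kernel.ι f).hom :=
      (ModuleCat.mono_iff_injective _).1 inferInstance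
    exact Module.Finite.of_injective (kernel.ι f).hom hinj

variable {P}

lemma finite_free_of_iso_cov {X : ModuleCat.{u} P} {Y : ModuleCat.{u} P}
    (e : X ≅ (cover P).cov Y) : Module.Finite P X ∧ Module.Free P X := by
  have h1 : Module.Finite P ((cover P).cov Y) :=
    inferInstanceAs (Module.Finite P (Fin (pres P Y).1 → P))
  have h2 : Module.Free P ((cover P).cov Y) :=
    inferInstanceAs (Module.Free P (Fin (pres P Y).1 → P))
  exact ⟨Module.Finite.equiv e.symm.toLinearEquiv, Module.Free.of_equiv e.symm.toLinearEquiv⟩

variable (P) in
/-- the resolution of a finite module by finite free modules -/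
noncomputable def resolution [IsNoetherianRing P] (M : ModuleCat.{u} P) (hM : Module.Finite P M) :
    ProjectiveResolution M where
  complex := (cover P).complex M
  projective n := by
    obtain ⟨Y, -, ⟨e⟩⟩ := Cover.exists_X_iso (good P) M hM n
    have := (finite_free_of_iso_cov e).2
    infer_instance
  π := (cover P).aug M
  quasiIso := Cover.quasiIso_aug (good P) M hM

theorem isPseudoCoherentModule'_of_finite [IsNoetherianRing P] (M : Type u) [AddCommGroup M]
    [Module P M] [hM : Module.Finite P M] : DRing.IsPseudoCoherentModule' P M := by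
  let Rs := resolution P (ModuleCat.of P M) hM
  refine ⟨Rs.cochainComplex, 0, ?_, ?_, ⟨?_⟩⟩
  · intro i hi
    exact CochainComplex.isZero_of_isStrictlyLE _ 0 i hi
  · intro i
    by_cases hi : i ≤ 0
    · obtain ⟨k, rfl⟩ := Int.exists_eq_neg_ofNat hi
      obtain ⟨Y, -, ⟨e⟩⟩ := Cover.exists_X_iso (good P) (ModuleCat.of P M) hM k
      exact finite_free_of_iso_cov ((Rs.cochainComplexXIso (-k) k) ≪≫ e)
    · have hz : IsZero (Rs.cochainComplex.X i) :=
        CochainComplex.isZero_of_isStrictlyLE _ 0 i (by lia)
      have : Subsingleton (Rs.cochainComplex.X i) := ModuleCat.subsingleton_of_isZero hz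
      exact ⟨inferInstance, inferInstance⟩
  · have : IsIso (DerivedCategory.Q.map Rs.π') := by
      rw [DerivedCategory.isIso_Q_map_iff_quasiIso]
      infer_instance
    exact asIso (DerivedCategory.Q.map Rs.π') ≪≫
      ((DerivedCategory.singleFunctorIsoCompQ (ModuleCat.{u} P) 0).app (ModuleCat.of P M)).symm

end Groth.Agent.Lib27.PseudoCoh
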