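import Groth.Prelude.Def_CGrpSh
import Groth.Prelude.Def_W4c1extbt15Mult
import Mathlib.CategoryTheory.Sites.EpiMono

/-!
# Alternating multilinear maps descend along fppf-epimorphisms of group schemes
-/

set_option autoImplicit false
universe u
open CategoryTheory CategoryTheory.Limits MonoidalCategory CartesianMonoidalCategory MonObj
  AlgebraicGeometry Opposite

namespace Groth.Agent.Lib27.AltDescend

section general

variable {C : Type*} [Category C]

/-- a finite intersection of covering sieves is covering -/
theorem exists_covering_inter (J : GrothendieckTopology C) (T : C) :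
    ∀ (r : ℕ) (P : Fin r → Sieve T), (∀ l, P l ∈ J T) →
      ∃ Q ∈ J T, ∀ {Y : C} (g : Y ⟶ T), Q g → ∀ l, P l g := by
  intro r
  induction r with
  | zero => exact fun P _ => ⟨⊤, J.top_mem T, fun g _ l => l.elim0⟩
  | succ n ih =>
    intro P hP
    obtain ⟨Q', hQ', h'⟩ := ih (fun l => P l.succ) (fun l => hP l.succ)
    refine ⟨P 0 ⊓ Q', J.intersection_covering (hP 0) hQ', ?_⟩
    intro Y g hg l
    refine Fin.cases ?_ ?_ l
    · exact hg.1
    · intro l'
      exact h' g hg.2 l'

end general

section tuple

variable {C : Type*} [Category C] [CartesianMonoidalCategory C] [BraidedCategory C]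

theorem comp_tuple {M T T' : C} (g : T' ⟶ T) :
    ∀ {n : ℕ} (y : Fin n → (T ⟶ M)), g ≫ MultSch.tuple y = MultSch.tuple (fun l => g ≫ y l) := by
  intro n
  induction n with
  | zero => intro y; exact toUnit_unique _ _
  | succ n ih =>
    intro y
    change g ≫ lift (y 0) (MultSch.tuple fun i => y i.succ) =
      lift (g ≫ y 0) (MultSch.tuple fun i => g ≫ y i.succ)
    rw [comp_lift, ih]

end tuple

section main

variable {S : Scheme.{u}} {M M'' H : Over S}
  [GrpObj M] [IsCommMonObj M] [GrpObj M''] [IsCommMonObj M''] [GrpObj H] [IsCommMonObj H]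

theorem main (π : M ⟶ M'') [IsMonHom π] (hπ : Epi (CGrpSh.ptsMap Scheme.fppfPrecoverage π))
    {r : ℕ} (φ : MultSch.pow M'' r ⟶ H)
    (halt : ∀ (T : Over S) (x : Fin r → (T ⟶ M)) (i j : Fin r), i ≠ j → x i = x j →
      MultSch.tuple (fun l => x l ≫ π) ≫ φ = 1) :
    MultSch.IsAlternating φ := by
  intro T y i j hij hyij
  have hls : Sheaf.IsLocallySurjective (CGrpSh.ptsMap Scheme.fppfPrecoverage π) :=
    (Sheaf.isLocallySurjective_iff_epi' (φ := CGrpSh.ptsMap Scheme.fppfPrecoverage π)).2 hπ
  -- the covering sieves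
  let s : Fin r → (CGrpSh.pts Scheme.fppfPrecoverage M'').obj.obj (op T) :=
    fun l => ULift.up (Additive.ofMul (y l))
  have hcov : ∀ l, Presheaf.imageSieve (CGrpSh.ptsMap Scheme.fppfPrecoverage π).hom (s l) ∈
      QuotSh.J Scheme.fppfPrecoverage S T := fun l => hls.imageSieve_mem (s l)
  obtain ⟨Q, hQ, hQP⟩ := exists_covering_inter (QuotSh.J Scheme.fppfPrecoverage S) T r _ hcov
  -- separatedness of the representable presheaf of `H`
  have hsh : Presieve.IsSheaf (QuotSh.J Scheme.fppfPrecoverage S) (yoneda.obj H) :=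
    GrothendieckTopology.Subcanonical.isSheaf_of_isRepresentable
      (J := QuotSh.J Scheme.fppfPrecoverage S) (yoneda.obj H)
  refine (hsh Q hQ).isSeparatedFor.ext ?_
  intro T' g hg
  change g ≫ (MultSch.tuple y ≫ φ) = g ≫ 1
  rw [MonObj.comp_one, ← Category.assoc, comp_tuple]
  have hl := hQP g hg
  choose t ht using hl
  have ht' : ∀ l, (t l).down.toMul ≫ π = g ≫ y l := by
    intro l
    have := congrArg (fun z => z.down.toMul) (ht l)
    exact this
  let x : Fin r → (T' ⟶ M) := fun l => if l = i then (t j).down.toMul else (t l).down.toMul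
  have hx : ∀ l, x l ≫ π = g ≫ y l := by
    intro l
    by_cases h : l = i
    · subst h
      simp only [x, if_pos rfl]
      rw [ht', hyij]
    · simp only [x, if_neg h]
      exact ht' l
  have hxij : x i = x j := by
    simp only [x, if_pos rfl, if_neg (Ne.symm hij)]
  have := halt T' x i j hij hxij
  rw [show (fun l => x l ≫ π) = fun l => g ≫ y l from funext hx] at this
  exact this

end main

end Groth.Agent.Lib27.AltDescend
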