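import Groth.Agent.Lib27.ARSys
import Mathlib.CategoryTheory.Abelian.SerreClass.Basic
import Mathlib.CategoryTheory.Subobject.NoetherianObject
import Mathlib.CategoryTheory.Subobject.ArtinianObject

/-! Noetherian and Artinian objects of an abelian category form Serre classes (helper27). -/

set_option autoImplicit false
open CategoryTheory CategoryTheory.Limits Opposite
universe v u

namespace Groth.Agent.Lib27.NoethSerre

open Groth.Agent.Lib27.ARSys

variable {C : Type u} [Category.{v} C] [Abelian C]

lemma pullback_factors_iff {X Y T : C} (f : X ⟶ Y) (S : Subobject Y) (x : T ⟶ X) :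
    ((Subobject.pullback f).obj S).Factors x ↔ S.Factors (x ≫ f) := by
  constructor
  · intro h
    have hg := Subobject.factorThru_arrow _ x h
    have e : x ≫ f = (Subobject.factorThru _ x h ≫ Subobject.pullbackπ f S) ≫ S.arrow := by
      rw [Category.assoc, (Subobject.isPullback f S).w, ← Category.assoc, hg]
    rw [e]
    exact Subobject.factors_comp_arrow _
  · intro h
    have hh := Subobject.factorThru_arrow _ _ h
    have e : x = (Subobject.isPullback f S).lift (S.factorThru _ h) x hh ≫
        ((Subobject.pullback f).obj S).arrow :=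
      ((Subobject.isPullback f S).lift_snd _ x hh).symm
    rw [e]
    exact Subobject.factors_comp_arrow _

lemma factors_of_epi_comp {B T T' : C} (S : Subobject B) (π : T' ⟶ T) [Epi π] (x : T ⟶ B)
    (h : S.Factors (π ≫ x)) : S.Factors x := by
  have hg := Subobject.factorThru_arrow _ _ h
  have hx : x ≫ cokernel.π S.arrow = 0 := by
    rw [← cancel_epi π, comp_zero, ← Category.assoc, ← hg, Category.assoc, cokernel.condition,
      comp_zero]
  rw [← Abelian.monoLift_comp S.arrow x hx]
  exact Subobject.factors_comp_arrow _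

lemma imageSubobject_arrow_eq {B : C} (S : Subobject B) : imageSubobject S.arrow = S := by
  rw [imageSubobject_mono, Subobject.mk_arrow]

/-- key lemma for extensions -/
lemma le_of_pullback_le_of_image_le (S : ShortComplex C) (hS : S.Exact) (N N' : Subobject S.X₂)
    (hNN' : N ≤ N')
    (h₁ : (Subobject.pullback S.f).obj N' ≤ (Subobject.pullback S.f).obj N)
    (h₃ : imageSubobject (N'.arrow ≫ S.g) ≤ imageSubobject (N.arrow ≫ S.g)) : N' ≤ N := by
  apply Subobject.le_of_factors
  obtain ⟨T₁, π₁, hπ₁, y, hy⟩ := lift_of_imageSubobject_le _ _ h₃ (𝟙 _)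
  rw [Category.id_comp] at hy
  have hd : (π₁ ≫ N'.arrow - y ≫ N.arrow) ≫ S.g = 0 := by
    rw [Preadditive.sub_comp, Category.assoc, Category.assoc, hy, sub_self]
  obtain ⟨T₂, π₂, hπ₂, a, ha⟩ := hS.exact_up_to_refinements _ hd
  have hf1 : N'.Factors (π₁ ≫ N'.arrow - y ≫ N.arrow) := by
    rw [sub_eq_add_neg]
    apply Subobject.factors_add
    · exact Subobject.factors_comp_arrow π₁
    · rw [← Preadditive.neg_comp]
      exact Subobject.factors_of_le _ hNN' (Subobject.factors_comp_arrow _)
  have hf2 : N'.Factors (a ≫ S.f) := by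
    rw [← ha]
    exact Subobject.factors_of_factors_right π₂ hf1
  have hf3 : N.Factors (a ≫ S.f) :=
    (pullback_factors_iff S.f N a).1
      (Subobject.factors_of_le _ h₁ ((pullback_factors_iff S.f N' a).2 hf2))
  have hf4 : N.Factors ((π₂ ≫ π₁) ≫ N'.arrow) := by
    have e : (π₂ ≫ π₁) ≫ N'.arrow = a ≫ S.f + (π₂ ≫ y) ≫ N.arrow := by
      rw [← ha, Preadditive.comp_sub]
      simp only [Category.assoc]
      abel
    rw [e]
    exact Subobject.factors_add _ _ hf3 (Subobject.factors_comp_arrow _)
  exact factors_of_epi_comp N (π₂ ≫ π₁) N'.arrow hf4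

/-- key lemma for quotients -/
lemma le_of_pullback_le_of_epi {X Y : C} (p : X ⟶ Y) [Epi p] (M M' : Subobject Y)
    (h : (Subobject.pullback p).obj M' ≤ (Subobject.pullback p).obj M) : M' ≤ M := by
  apply Subobject.le_of_factors
  obtain ⟨T, π, hπ, b, hb⟩ := surjective_up_to_refinements_of_epi p M'.arrow
  have h1 : ((Subobject.pullback p).obj M').Factors b := by
    rw [pullback_factors_iff, ← hb]
    exact Subobject.factors_comp_arrow π
  have h2 : M.Factors (b ≫ p) :=
    (pullback_factors_iff p M b).1 (Subobject.factors_of_le _ h h1)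
  rw [← hb] at h2
  exact factors_of_epi_comp M π M'.arrow h2

lemma imageSubobject_arrow_comp_mono {B Q : C} (p : B ⟶ Q) {N N' : Subobject B} (h : N ≤ N') :
    imageSubobject (N.arrow ≫ p) ≤ imageSubobject (N'.arrow ≫ p) := by
  rw [← Subobject.ofLE_arrow h, Category.assoc]
  exact imageSubobject_comp_le _ _

instance : (isNoetherianObject (C := C)).IsClosedUnderQuotients where
  prop_of_epi {X Y} p _ hX := by
    have : IsNoetherianObject X := isNoetherianObject.is_of_prop hX
    suffices IsNoetherianObject Y from isNoetherianObject.prop_of_is Y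
    rw [isNoetherianObject_iff_monotone_chain_condition]
    intro f
    let g : ℕ →o Subobject X :=
      ⟨fun k => (Subobject.pullback p).obj (f k), fun k l hkl =>
        (Subobject.pullback p).monotone (f.monotone hkl)⟩
    obtain ⟨n, hn⟩ := monotone_chain_condition_of_isNoetherianObject g
    refine ⟨n, fun m hm => le_antisymm (f.monotone hm) ?_⟩
    exact le_of_pullback_le_of_epi p _ _ (hn m hm).ge

instance : (isNoetherianObject (C := C)).IsClosedUnderExtensions where
  prop_X₂_of_shortExact {S} hS h₁ h₃ := by
    have : IsNoetherianObject S.X₁ := isNoetherianObject.is_of_prop h₁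
    have : IsNoetherianObject S.X₃ := isNoetherianObject.is_of_prop h₃
    suffices IsNoetherianObject S.X₂ from isNoetherianObject.prop_of_is S.X₂
    rw [isNoetherianObject_iff_monotone_chain_condition]
    intro f
    let g₁ : ℕ →o Subobject S.X₁ :=
      ⟨fun k => (Subobject.pullback S.f).obj (f k), fun k l hkl =>
        (Subobject.pullback S.f).monotone (f.monotone hkl)⟩
    let g₃ : ℕ →o Subobject S.X₃ :=
      ⟨fun k => imageSubobject ((f k).arrow ≫ S.g), fun k l hkl =>
        imageSubobject_arrow_comp_mono S.g (f.monotone hkl)⟩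
    obtain ⟨n₁, hn₁⟩ := monotone_chain_condition_of_isNoetherianObject g₁
    obtain ⟨n₃, hn₃⟩ := monotone_chain_condition_of_isNoetherianObject g₃
    refine ⟨max n₁ n₃, fun m hm => le_antisymm (f.monotone hm) ?_⟩
    apply le_of_pullback_le_of_image_le S hS.exact _ _ (f.monotone hm)
    · have e1 := hn₁ m ((le_max_left _ _).trans hm)
      have e2 := hn₁ (max n₁ n₃) (le_max_left _ _)
      exact (e1.symm.trans e2).le
    · have e1 := hn₃ m ((le_max_right _ _).trans hm)
      have e2 := hn₃ (max n₁ n₃) (le_max_right _ _)
      exact (e1.symm.trans e2).le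

instance : (isNoetherianObject (C := C)).IsSerreClass where

instance : (isArtinianObject (C := C)).IsClosedUnderQuotients where
  prop_of_epi {X Y} p _ hX := by
    have : IsArtinianObject X := isArtinianObject.is_of_prop hX
    suffices IsArtinianObject Y from isArtinianObject.prop_of_is Y
    rw [isArtinianObject_iff_antitone_chain_condition]
    intro f
    let g : ℕ →o (Subobject X)ᵒᵈ :=
      ⟨fun k => OrderDual.toDual ((Subobject.pullback p).obj (OrderDual.ofDual (f k))),
        fun k l hkl => (Subobject.pullback p).monotone (f.monotone hkl)⟩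
    obtain ⟨n, hn⟩ := antitone_chain_condition_of_isArtinianObject g
    refine ⟨n, fun m hm => le_antisymm (f.monotone hm) ?_⟩
    have e : (Subobject.pullback p).obj (OrderDual.ofDual (f n)) =
        (Subobject.pullback p).obj (OrderDual.ofDual (f m)) := hn m hm
    exact le_of_pullback_le_of_epi p (OrderDual.ofDual (f m)) (OrderDual.ofDual (f n)) e.le

instance : (isArtinianObject (C := C)).IsClosedUnderExtensions where
  prop_X₂_of_shortExact {S} hS h₁ h₃ := by
    have : IsArtinianObject S.X₁ := isArtinianObject.is_of_prop h₁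
    have : IsArtinianObject S.X₃ := isArtinianObject.is_of_prop h₃
    suffices IsArtinianObject S.X₂ from isArtinianObject.prop_of_is S.X₂
    rw [isArtinianObject_iff_antitone_chain_condition]
    intro f
    let g₁ : ℕ →o (Subobject S.X₁)ᵒᵈ :=
      ⟨fun k => OrderDual.toDual ((Subobject.pullback S.f).obj (OrderDual.ofDual (f k))),
        fun k l hkl => (Subobject.pullback S.f).monotone (f.monotone hkl)⟩
    let g₃ : ℕ →o (Subobject S.X₃)ᵒᵈ :=
      ⟨fun k => OrderDual.toDual (imageSubobject ((OrderDual.ofDual (f k)).arrow ≫ S.g)),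
        fun k l hkl => imageSubobject_arrow_comp_mono S.g (f.monotone hkl)⟩
    obtain ⟨n₁, hn₁⟩ := antitone_chain_condition_of_isArtinianObject g₁
    obtain ⟨n₃, hn₃⟩ := antitone_chain_condition_of_isArtinianObject g₃
    refine ⟨max n₁ n₃, fun m hm => le_antisymm (f.monotone hm) ?_⟩
    have hle : OrderDual.ofDual (f m) ≤ OrderDual.ofDual (f (max n₁ n₃)) := f.monotone hm
    apply le_of_pullback_le_of_image_le S hS.exact _ _ hle
    · have e1 : (Subobject.pullback S.f).obj (OrderDual.ofDual (f n₁)) =
          (Subobject.pullback S.f).obj (OrderDual.ofDual (f m)) :=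
        hn₁ m ((le_max_left _ _).trans hm)
      have e2 : (Subobject.pullback S.f).obj (OrderDual.ofDual (f n₁)) =
          (Subobject.pullback S.f).obj (OrderDual.ofDual (f (max n₁ n₃))) :=
        hn₁ (max n₁ n₃) (le_max_left _ _)
      exact (e2.symm.trans e1).le
    · have e1 : imageSubobject ((OrderDual.ofDual (f n₃)).arrow ≫ S.g) =
          imageSubobject ((OrderDual.ofDual (f m)).arrow ≫ S.g) :=
        hn₃ m ((le_max_right _ _).trans hm)
      have e2 : imageSubobject ((OrderDual.ofDual (f n₃)).arrow ≫ S.g) =
          imageSubobject ((OrderDual.ofDual (f (max n₁ n₃))).arrow ≫ S.g) :=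
        hn₃ (max n₁ n₃) (le_max_right _ _)
      exact (e2.symm.trans e1).le

instance : (isArtinianObject (C := C)).IsSerreClass where

end Groth.Agent.Lib27.NoethSerre
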