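import Mathlib

/-!
# The reduced subscheme (helper27)
-/

universe u

open CategoryTheory AlgebraicGeometry

namespace Groth.Agent.Lib27.RedSch

/-- A scheme whose nilradical ideal sheaf vanishes is reduced. -/
theorem isReduced_of_nilradical_eq_bot (X : Scheme.{u}) (h : X.nilradical = ⊥) : IsReduced X := by
  have hU : ∀ U : X.affineOpens, _root_.IsReduced Γ(X, U.1) := by
    intro U
    have h1 : X.nilradical.ideal U = ⊥ := by rw [h]; rfl
    have h2 : (⊥ : Ideal Γ(X, U.1)).radical = ⊥ := h1
    exact nilradical_eq_bot_iff.1 h2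
  have : ∀ i, IsReduced ((X.openCoverOfIsOpenCover _ (iSup_affineOpens_eq_top X)).X i) := by
    intro U
    change IsReduced (U.1 : X.Opens).toScheme
    have : IsAffine (U.1 : X.Opens).toScheme := U.2
    have := hU U
    have : _root_.IsReduced Γ((U.1 : X.Opens).toScheme, ⊤) :=
      isReduced_of_injective (U.1.topIso.hom.hom) (U.1.topIso.commRingCatIsoToRingEquiv.injective)
    exact isReduced_of_isAffine_isReduced _
  exact IsReduced.of_openCover X (X.openCoverOfIsOpenCover _ (iSup_affineOpens_eq_top X))

/-- The nilradical is contained in the kernel of any morphism from a reduced scheme. -/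
theorem nilradical_le_ker {Y X : Scheme.{u}} [IsReduced Y] (f : Y ⟶ X) : X.nilradical ≤ f.ker := by
  refine Scheme.IdealSheafData.le_ofIdeals_iff.2 fun U x hx => ?_
  have hx' : x ∈ (⊥ : Ideal Γ(X, U.1)).radical := hx
  obtain ⟨n, hn⟩ := hx'
  rw [Ideal.mem_bot] at hn
  rw [RingHom.mem_ker]
  have : IsNilpotent ((f.app U.1).hom x) := ⟨n, by rw [← map_pow, hn, map_zero]⟩
  exact this.eq_zero

/-- Every morphism from a reduced scheme factors through the reduced subscheme. -/
theorem exists_factor_reduced {Y X : Scheme.{u}} [IsReduced Y] (f : Y ⟶ X) :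
    ∃ g : Y ⟶ X.nilradical.subscheme, g ≫ X.nilradical.subschemeι = f :=
  ⟨f.toImage ≫ Scheme.IdealSheafData.inclusion (nilradical_le_ker f), by
    rw [Category.assoc, Scheme.IdealSheafData.inclusion_subschemeι, Scheme.Hom.toImage_imageι]⟩

end Groth.Agent.Lib27.RedSch
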