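import Groth.Prelude.Def_LambdaSp
import Mathlib.Tactic

/-!
# Adams operations of a pre-λ-ring: Newton identities
-/

set_option autoImplicit false
universe u
open LambdaRing LambdaRing.LambdaOps Finset PowerSeries

namespace Groth.Agent.Lib27.Adams

variable {K : Type u} [CommRing K] [LambdaOps K]

lemma constantCoeff_lamSeries (x : K) : constantCoeff (lamSeries x) = ((1 : Kˣ) : K) := by
  rw [← coeff_zero_eq_constantCoeff_apply, lamSeries, coeff_mk, lam_zero, Units.val_one]

lemma logDeriv_mul_lamSeries (x : K) :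
    logDerivSeries x * lamSeries x = derivative K (lamSeries x) := by
  rw [logDerivSeries, mul_assoc, invOfUnit_mul _ _ (constantCoeff_lamSeries x), mul_one]

/-- `c_n(x)`: the coefficients of the logarithmic derivative. -/
noncomputable def c (n : ℕ) (x : K) : K := coeff n (logDerivSeries x)

/-- Newton identity: `(n+1) λ^{n+1}(x) = Σ_{i+j=n} c_i(x) λ^j(x)`. -/
lemma newton (n : ℕ) (x : K) :
    lam (n + 1) x * ((n : K) + 1) = ∑ p ∈ antidiagonal n, c p.1 x * lam p.2 x := by
  have h := congrArg (coeff n) (logDeriv_mul_lamSeries x)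
  rw [coeff_derivative, coeff_mul] at h
  have e : ∀ m, coeff m (lamSeries x) = lam m x := fun m => by rw [lamSeries, coeff_mk]
  rw [e] at h
  rw [← h]
  apply Finset.sum_congr rfl
  intro p _
  rw [c, e]

lemma adamsOp_succ (k : ℕ) (x : K) : adamsOp (k + 1) x = (-1) ^ k * c k x := rfl

lemma c_eq (k : ℕ) (x : K) : c k x = (-1) ^ k * adamsOp (k + 1) x := by
  rw [adamsOp_succ, ← mul_assoc, ← mul_pow]
  simp

/-- The top term isolated: `c_n(x) = (n+1) λ^{n+1}(x) - Σ_{i<n} c_i(x) λ^{n-i}(x)`. -/
lemma c_rec (n : ℕ) (x : K) :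
    c n x = lam (n + 1) x * ((n : K) + 1) - ∑ i ∈ range n, c i x * lam (n - i) x := by
  rw [newton, Finset.Nat.sum_antidiagonal_eq_sum_range_succ_mk, Finset.sum_range_succ]
  simp [lam_zero]

lemma lamSeries_add (x y : K) : lamSeries (x + y) = lamSeries x * lamSeries y := by
  ext k
  rw [coeff_mul, lamSeries, coeff_mk, lam_add, Finset.Nat.sum_antidiagonal_eq_sum_range_succ_mk]
  simp [lamSeries]

lemma invOfUnit_mul_lamSeries (x : K) : (lamSeries x).invOfUnit 1 * lamSeries x = 1 :=
  invOfUnit_mul _ _ (constantCoeff_lamSeries x)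

lemma isUnit_lamSeries (x : K) : IsUnit (lamSeries x) := by
  rw [PowerSeries.isUnit_iff_constantCoeff, constantCoeff_lamSeries]
  exact Units.isUnit 1

lemma logDerivSeries_add (x y : K) :
    logDerivSeries (x + y) = logDerivSeries x + logDerivSeries y := by
  apply (isUnit_lamSeries (x + y)).mul_left_injective
  show logDerivSeries (x + y) * lamSeries (x + y) =
    (logDerivSeries x + logDerivSeries y) * lamSeries (x + y)
  rw [logDeriv_mul_lamSeries, lamSeries_add, Derivation.leibniz, add_mul]
  have e1 : logDerivSeries x * (lamSeries x * lamSeries y) =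
      (logDerivSeries x * lamSeries x) * lamSeries y := by ring
  have e2 : logDerivSeries y * (lamSeries x * lamSeries y) =
      lamSeries x * (logDerivSeries y * lamSeries y) := by ring
  rw [e1, e2, logDeriv_mul_lamSeries, logDeriv_mul_lamSeries]
  simp only [smul_eq_mul]
  ring

lemma adamsOp_add (k : ℕ) (x y : K) : adamsOp k (x + y) = adamsOp k x + adamsOp k y := by
  cases k with
  | zero => simp [adamsOp]
  | succ k => rw [adamsOp_succ, adamsOp_succ, adamsOp_succ, c, c, c, logDerivSeries_add, map_add, mul_add]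

end Groth.Agent.Lib27.Adams
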