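import Groth.Prelude.Def_LambdaRing
import Mathlib.Tactic

set_option autoImplicit false
universe u
open Finset
open LambdaRing

namespace Groth.Agent.Lib27.Lam

variable {K : Type u} [CommRing K] [LambdaRing.LambdaOps K]

open LambdaRing.LambdaOps

lemma lam_add_one (h1 : ∀ k : ℕ, 2 ≤ k → lam k (1 : K) = 0) (k : ℕ) (x : K) :
    lam (k + 1) (x + 1) = lam (k + 1) x + lam k x := by
  rw [lam_add, Finset.sum_range_succ, Finset.sum_range_succ]
  have : ∑ i ∈ range k, lam i x * lam (k + 1 - i) (1 : K) = 0 := by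
    apply Finset.sum_eq_zero
    intro i hi
    rw [Finset.mem_range] at hi
    rw [h1 (k + 1 - i) (by omega), mul_zero]
  rw [this, zero_add, Nat.sub_self, lam_zero, mul_one, Nat.add_sub_cancel_left, lam_one, mul_one,
    add_comm]

lemma lam_zero_arg (k : ℕ) (hk : 1 ≤ k) : lam k (0 : K) = 0 := by
  induction k using Nat.strong_induction_on with
  | _ k ih =>
    have h := lam_add (K := K) k 0 0
    rw [add_zero] at h
    obtain ⟨k, rfl⟩ : ∃ m, k = m + 1 := ⟨k - 1, by omega⟩
    rw [Finset.sum_range_succ, Finset.sum_range_succ'] at h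
    have : ∑ i ∈ range k, lam (i + 1) (0 : K) * lam (k + 1 - (i + 1)) (0 : K) = 0 := by
      apply Finset.sum_eq_zero
      intro i hi
      rw [Finset.mem_range] at hi
      rw [ih (i + 1) (by omega) (by omega), zero_mul]
    rw [this, zero_add, Nat.sub_self, lam_zero, Nat.sub_zero, one_mul, mul_one] at h
    -- h : lam (k+1) 0 = lam (k+1) 0 + lam (k+1) 0
    have h2 : lam (k + 1) (0 : K) + lam (k + 1) (0 : K) = lam (k + 1) (0 : K) + 0 := by
      rw [add_zero]; exact h.symm
    exact add_left_cancel h2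

lemma lam_natCast (h1 : ∀ k : ℕ, 2 ≤ k → lam k (1 : K) = 0) (m k : ℕ) :
    lam k ((m : ℕ) : K) = (Nat.choose m k : K) := by
  induction m generalizing k with
  | zero =>
    rcases k with _ | k
    · simp [lam_zero]
    · rw [Nat.cast_zero, lam_zero_arg _ (by omega)]; simp
  | succ m ih =>
    rcases k with _ | k
    · simp [lam_zero]
    · rw [Nat.cast_succ, lam_add_one h1, ih, ih, Nat.choose_succ_succ, Nat.cast_add, add_comm]

lemma gamma_eq_lam (h1 : ∀ k : ℕ, 2 ≤ k → lam k (1 : K) = 0) (n : ℕ) (x : K) :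
    LambdaRing.gamma n x = lam n (x + (n : K) - 1) := by
  rcases n with _ | m
  · simp [LambdaRing.gamma, lam_zero]
  · have hx : x + ((m + 1 : ℕ) : K) - 1 = x + (m : K) := by push_cast; ring
    rw [hx, lam_add, LambdaRing.gamma, if_neg (Nat.succ_ne_zero m)]
    apply Finset.sum_congr rfl
    intro i hi
    rw [Finset.mem_range] at hi
    rw [lam_natCast h1]
    rcases i with _ | i
    · simp
    · rw [if_neg (Nat.succ_ne_zero i), Nat.add_sub_cancel, Nat.add_sub_cancel]
      have : m + 1 - (i + 1) = m - i := by omega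
      rw [this, Nat.choose_symm (by omega : i ≤ m), mul_comm]

lemma lam_sub_one (h1 : ∀ k : ℕ, 2 ≤ k → lam k (1 : K) = 0) (n : ℕ) (y : K) :
    lam n (y - 1) = (-1 : K) ^ n * ∑ i ∈ range (n + 1), (-1 : K) ^ i * lam i y := by
  induction n with
  | zero => simp [lam_zero]
  | succ n ih =>
    have h2 : lam (n + 1) y = lam (n + 1) (y - 1) + lam n (y - 1) := by
      have := lam_add_one h1 n (y - 1)
      rwa [sub_add_cancel] at this
    have h3 : lam (n + 1) (y - 1) = lam (n + 1) y - lam n (y - 1) := by rw [h2]; ring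
    rw [h3, ih, Finset.sum_range_succ _ (n + 1), mul_add, ← mul_assoc, ← pow_add]
    have h4 : (-1 : K) ^ (n + 1 + (n + 1)) = 1 := by
      rw [← two_mul, pow_mul]; simp
    rw [h4, one_mul, pow_succ]
    ring

lemma lam_add_line (y : K) (hy : ∀ j : ℕ, 2 ≤ j → lam j y = 0) (k : ℕ) (v : K) :
    lam (k + 1) (v + y) = lam (k + 1) v + lam k v * y := by
  rw [lam_add, Finset.sum_range_succ, Finset.sum_range_succ]
  have : ∑ i ∈ range k, lam i v * lam (k + 1 - i) y = 0 := by
    apply Finset.sum_eq_zero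
    intro i hi
    rw [Finset.mem_range] at hi
    rw [hy (k + 1 - i) (by omega), mul_zero]
  rw [this, zero_add, Nat.sub_self, lam_zero, mul_one, Nat.add_sub_cancel_left, lam_one,
    add_comm]

lemma gamma_add_line (h1 : ∀ k : ℕ, 2 ≤ k → lam k (1 : K) = 0) (y : K)
    (hy : ∀ j : ℕ, 2 ≤ j → lam j y = 0) (k : ℕ) (u : K) :
    LambdaRing.gamma (k + 1) (u + (y - 1)) =
      LambdaRing.gamma (k + 1) u + LambdaRing.gamma k u * (y - 1) := by
  rw [gamma_eq_lam h1, gamma_eq_lam h1, gamma_eq_lam h1]
  -- v = u + k - 1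
  have e1 : u + (y - 1) + ((k + 1 : ℕ) : K) - 1 = (u + (k : K) - 1) + y := by push_cast; ring
  have e2 : u + ((k + 1 : ℕ) : K) - 1 = (u + (k : K) - 1) + 1 := by push_cast; ring
  rw [e1, e2, lam_add_line y hy, lam_add_one h1]
  ring

lemma gamma_sum_sub_card {ι : Type*} [DecidableEq ι] (h1 : ∀ k : ℕ, 2 ≤ k → lam k (1 : K) = 0)
    (y : ι → K) (hy : ∀ (i : ι) (j : ℕ), 2 ≤ j → lam j (y i) = 0) (s : Finset ι) :
    ∀ k : ℕ, LambdaRing.gamma k (∑ i ∈ s, y i - (s.card : K)) =
      ∑ t ∈ s.powersetCard k, ∏ i ∈ t, (y i - 1) := by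
  induction s using Finset.induction_on with
  | empty =>
    intro k
    rcases k with _ | k
    · simp [LambdaRing.gamma]
    · rw [Finset.powersetCard_eq_empty.2 (by simp), Finset.sum_empty]
      simp only [Finset.sum_empty, Finset.card_empty, Nat.cast_zero, sub_zero]
      rw [gamma_eq_lam h1]
      have : (0 : K) + ((k + 1 : ℕ) : K) - 1 = ((k : ℕ) : K) := by push_cast; ring
      rw [this, lam_natCast h1, Nat.choose_succ_self, Nat.cast_zero]
  | insert a s ha ih =>
    intro k
    have e : ∑ i ∈ insert a s, y i - ((insert a s).card : K) =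
        (∑ i ∈ s, y i - (s.card : K)) + (y a - 1) := by
      rw [Finset.sum_insert ha, Finset.card_insert_of_notMem ha]; push_cast; ring
    rw [e]
    rcases k with _ | k
    · simp [LambdaRing.gamma]
    · rw [gamma_add_line h1 (y a) (hy a), ih, ih, Finset.powersetCard_succ_insert ha,
        Finset.sum_union, Finset.sum_image]
      · congr 1
        rw [Finset.sum_mul]
        apply Finset.sum_congr rfl
        intro t ht
        rw [Finset.mem_powersetCard] at ht
        rw [Finset.prod_insert (fun h => ha (ht.1 h)), mul_comm]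
      · intro t ht t' ht' htt'
        rw [Finset.mem_coe, Finset.mem_powersetCard] at ht ht'
        have h1 : a ∉ t := fun h => ha (ht.1 h)
        have h2 : a ∉ t' := fun h => ha (ht'.1 h)
        rw [← Finset.erase_insert h1, ← Finset.erase_insert h2, htt']
      · rw [Finset.disjoint_left]
        intro t ht ht'
        rw [Finset.mem_powersetCard] at ht
        rw [Finset.mem_image] at ht'
        obtain ⟨t', _, rfl⟩ := ht'
        exact ha (ht.1 (Finset.mem_insert_self a t'))

end Groth.Agent.Lib27.Lam
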