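import Mathlib
import Groth.Agent.Lib27.Adams

/-!
# γ-operations via substitution `t ↦ t/(1-t)`

`gammaSeries x = λ_{t/(1-t)}(x)` and the additivity formula for the γ-operations.
-/

set_option autoImplicit false
universe u
open LambdaRing LambdaRing.LambdaOps Finset PowerSeries

namespace Groth.Agent.Lib27.Gamma

variable {K : Type u} [CommRing K]

/-- the series `t/(1-t) = t + t² + …`. -/
noncomputable def sser (K : Type u) [CommRing K] : PowerSeries K := X * PowerSeries.mk 1

lemma hasSubst_sser : PowerSeries.HasSubst (sser K) :=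
  PowerSeries.HasSubst.of_constantCoeff_zero' (by simp [sser])

lemma coeff_sser_pow (k d : ℕ) :
    coeff k (sser K ^ d) =
      if d = 0 then (if k = 0 then 1 else 0) else
        if d ≤ k then ((Nat.choose (k - 1) (d - 1) : ℕ) : K) else 0 := by
  rcases d with _ | d
  · simp [coeff_one]
  · rw [if_neg (Nat.succ_ne_zero d), sser, mul_pow, mk_one_pow_eq_mk_choose_add, coeff_X_pow_mul']
    split_ifs with h
    · rw [coeff_mk]
      congr 2
      omega
    · rfl

variable [LambdaOps K]

/-- `γ_t(x) = λ_{t/(1-t)}(x)`. -/
noncomputable def gammaSeries (x : K) : PowerSeries K := (lamSeries x).subst (sser K)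

lemma coeff_gammaSeries (k : ℕ) (x : K) : coeff k (gammaSeries x) = gamma k x := by
  rw [gammaSeries, PowerSeries.coeff_subst' hasSubst_sser]
  rw [finsum_eq_sum_of_support_subset (s := range (k + 1))]
  · simp only [coeff_sser_pow, lamSeries, coeff_mk, smul_eq_mul]
    rcases k with _ | k
    · simp [gamma, lam_zero]
    · rw [gamma, if_neg (Nat.succ_ne_zero k)]
      refine Finset.sum_congr rfl fun j hj => ?_
      have hj' : j ≤ k + 1 := Nat.lt_succ_iff.1 (Finset.mem_range.1 hj)
      rcases j with _ | j
      · simp
      · simp only [Nat.succ_ne_zero, if_false, if_pos hj', Nat.add_sub_cancel]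
        ring
  · intro d hd
    rw [Function.mem_support] at hd
    by_contra hlt
    apply hd
    have hlt' : k < d := by
      simpa [Finset.mem_coe, Finset.mem_range, Nat.lt_succ_iff] using hlt
    rw [coeff_sser_pow, if_neg (by omega), if_neg (by omega), smul_zero]

lemma gammaSeries_add (x y : K) : gammaSeries (x + y) = gammaSeries x * gammaSeries y := by
  rw [gammaSeries, Adams.lamSeries_add, PowerSeries.subst_mul hasSubst_sser]
  rfl

/-- additivity of the γ-operations. -/
theorem gamma_add (k : ℕ) (x y : K) :
    gamma k (x + y) = ∑ i ∈ range (k + 1), gamma i x * gamma (k - i) y := by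
  rw [← coeff_gammaSeries, gammaSeries_add, coeff_mul,
    Finset.Nat.sum_antidiagonal_eq_sum_range_succ_mk]
  simp only [coeff_gammaSeries]

lemma gamma_zero (x : K) : gamma 0 x = 1 := by simp [gamma]

lemma gamma_one (x : K) : gamma 1 x = x := by
  simp [gamma, Finset.sum_range_succ, lam_one]

end Groth.Agent.Lib27.Gamma
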