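import Mathlib
import Groth.Prelude.Def_LambdaSp

/-!
Helper lemmas on symmetric polynomials: homogeneous components commute with substitution of
homogeneous polynomials, and the existence of isobaric preimages under the elementary symmetric
substitution.
-/

namespace Groth.Agent.Lib27.SymmPoly

open MvPolynomial Finset

variable {R : Type*} [CommRing R]

/-- substituting homogeneous polynomials `e k` of degree `w k` into a monomial gives a homogeneous
polynomial of degree the weight of the monomial. -/
theorem aeval_monomial_isHomogeneous {σ τ : Type*} (w : σ → ℕ) (e : σ → MvPolynomial τ R)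
    (he : ∀ k, (e k).IsHomogeneous (w k)) (d : σ →₀ ℕ) (r : R) :
    (aeval e (monomial d r)).IsHomogeneous (Finsupp.weight w d) := by
  rw [aeval_monomial]
  have h2 : (d.prod fun i k => e i ^ k).IsHomogeneous (Finsupp.weight w d) := by
    have := IsHomogeneous.prod d.support (fun i => e i ^ d i) (fun i => w i * d i)
      (fun i _ => (he i).pow (d i))
    have h4 : Finsupp.weight w d = ∑ i ∈ d.support, w i * d i := by
      rw [Finsupp.weight_apply, Finsupp.sum]
      refine Finset.sum_congr rfl fun i _ => ?_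
      simp [mul_comm]
    rw [h4]
    exact this
  have h3 := (isHomogeneous_C τ r).mul h2
  rw [zero_add] at h3
  exact h3

/-- a product of `n` distinct variables is homogeneous of degree `n`. -/
theorem prod_X_isHomogeneous {τ : Type*} (t : Finset τ) :
    (∏ i ∈ t, (X i : MvPolynomial τ R)).IsHomogeneous t.card := by
  have := IsHomogeneous.prod t (fun i => (X i : MvPolynomial τ R)) (fun _ => 1)
    (fun i _ => isHomogeneous_X R i)
  simpa using this

/-- the elementary symmetric polynomial of degree `n` is homogeneous of degree `n`. -/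
theorem esymm_isHomogeneous (τ : Type*) [Fintype τ] (n : ℕ) :
    (esymm τ R n).IsHomogeneous n := by
  rw [esymm_eq_sum_subtype]
  refine IsHomogeneous.sum _ _ _ fun t _ => ?_
  have := prod_X_isHomogeneous (R := R) (t : Finset τ)
  rwa [t.2] at this

/-- homogeneous components commute with substitution of homogeneous polynomials. -/
theorem homogeneousComponent_aeval {σ τ : Type*} (w : σ → ℕ) (e : σ → MvPolynomial τ R)
    (he : ∀ k, (e k).IsHomogeneous (w k)) (m : ℕ) (Q : MvPolynomial σ R) :
    homogeneousComponent m (aeval e Q) = aeval e (weightedHomogeneousComponent w m Q) := by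
  classical
  induction Q using MvPolynomial.induction_on' with
  | monomial d r =>
    rw [homogeneousComponent_of_mem (aeval_monomial_isHomogeneous w e he d r),
      weightedHomogeneousComponent_of_mem (isWeightedHomogeneous_monomial w d r rfl)]
    split_ifs <;> simp
  | add p q hp hq => simp only [map_add, hp, hq]

/-- if a homogeneous polynomial of degree `m` is obtained by substitution of homogeneous polynomials,
it is also obtained from an isobaric polynomial of weight `m`. -/
theorem exists_isWeightedHomogeneous_aeval {σ τ : Type*} (w : σ → ℕ) (e : σ → MvPolynomial τ R)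
    (he : ∀ k, (e k).IsHomogeneous (w k)) (m : ℕ) (Q₀ : MvPolynomial σ R)
    (h : (aeval e Q₀).IsHomogeneous m) :
    ∃ Q : MvPolynomial σ R, aeval e Q = aeval e Q₀ ∧ IsWeightedHomogeneous w Q m :=
  ⟨weightedHomogeneousComponent w m Q₀, by
    rw [← homogeneousComponent_aeval w e he, homogeneousComponent_eq_self h],
    weightedHomogeneousComponent_isWeightedHomogeneous m Q₀⟩

/-- a symmetric homogeneous polynomial in `n` variables over `R` of degree `m` is an isobaric
polynomial of weight `m` in the elementary symmetric polynomials. -/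
theorem exists_isobaric_of_isSymmetric (n : ℕ) (p : MvPolynomial (Fin n) R) (hs : p.IsSymmetric)
    (m : ℕ) (hp : p.IsHomogeneous m) :
    ∃ Q : MvPolynomial (Fin n) R,
      aeval (fun k : Fin n => esymm (Fin n) R ((k : ℕ) + 1)) Q = p ∧
        IsWeightedHomogeneous (fun k : Fin n => (k : ℕ) + 1) Q m := by
  obtain ⟨Q₀, hQ₀⟩ := (esymmAlgHom_fin_bijective (R := R) n).2 ⟨p, hs⟩
  have h0 : aeval (fun k : Fin n => esymm (Fin n) R ((k : ℕ) + 1)) Q₀ = p := by
    rw [← esymmAlgHom_apply, hQ₀]
  obtain ⟨Q, hQ1, hQ2⟩ := exists_isWeightedHomogeneous_aeval (fun k : Fin n => (k : ℕ) + 1)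
    (fun k : Fin n => esymm (Fin n) R ((k : ℕ) + 1)) (fun k => esymm_isHomogeneous _ _) m Q₀
    (h0 ▸ hp)
  exact ⟨Q, hQ1.trans h0, hQ2⟩


/-- the `j`-th elementary symmetric function of the products of the variables over `i`-subsets. -/
noncomputable def compSym (σ : Type*) [Fintype σ] (R : Type*) [CommRing R] (i j : ℕ) : MvPolynomial σ R :=
  ∑ t ∈ ((univ : Finset σ).powersetCard i).powersetCard j, ∏ s ∈ t, ∏ a ∈ s, X a

theorem rename_compSym {σ τ : Type*} [Fintype σ] [Fintype τ] (i j : ℕ) (e : σ ≃ τ) :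
    rename e (compSym σ R i j) = compSym τ R i j :=
  calc
    rename e (compSym σ R i j)
        = ∑ t ∈ ((univ : Finset σ).powersetCard i).powersetCard j, ∏ s ∈ t, ∏ a ∈ s, X (e a) := by
      simp_rw [compSym, map_sum, map_prod, rename_X]
    _ = ∑ t ∈ (((univ : Finset σ).map e.toEmbedding).powersetCard i).powersetCard j,
          ∏ s ∈ t, ∏ a ∈ s, X a := by
      simp [powersetCard_map, -map_univ_equiv, (mapEmbedding_apply)]
    _ = compSym τ R i j := by rw [map_univ_equiv, compSym]

theorem compSym_isSymmetric (σ : Type*) [Fintype σ] (i j : ℕ) : (compSym σ R i j).IsSymmetric := by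
  intro e
  rw [rename_compSym]

theorem compSym_isHomogeneous (σ : Type*) [Fintype σ] (i j : ℕ) :
    (compSym σ R i j).IsHomogeneous (i * j) := by
  unfold compSym
  refine IsHomogeneous.sum _ _ _ fun t ht => ?_
  have h1 := IsHomogeneous.prod t (fun s => ∏ a ∈ s, (X a : MvPolynomial σ R)) (fun _ => i)
    (fun s hs => ?_)
  · rw [Finset.sum_const, (Finset.mem_powersetCard.1 ht).2, smul_eq_mul, mul_comm] at h1
    exact h1
  · have := prod_X_isHomogeneous (R := R) s
    rwa [(Finset.mem_powersetCard.1 ((Finset.mem_powersetCard.1 ht).1 hs)).2] at this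


section OneFamily
variable (R : Type*) [CommRing R] (n : ℕ)

lemma aeval_esymm_injective :
    Function.Injective (aeval (fun k : Fin n => esymm (Fin n) R ((k : ℕ) + 1)) :
      MvPolynomial (Fin n) R → MvPolynomial (Fin n) R) := by
  intro p q h
  apply esymmAlgHom_fin_injective (R := R) (le_refl n)
  apply Subtype.ext
  rw [esymmAlgHom_apply, esymmAlgHom_apply]
  exact h

lemma aeval_esymm_surjective (p : MvPolynomial (Fin n) R) (hp : p.IsSymmetric) :
    ∃ Q : MvPolynomial (Fin n) R, aeval (fun k : Fin n => esymm (Fin n) R ((k : ℕ) + 1)) Q = p := by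
  obtain ⟨Q₀, hQ₀⟩ := (esymmAlgHom_fin_bijective (R := R) n).2 ⟨p, hp⟩
  exact ⟨Q₀, by rw [← esymmAlgHom_apply, hQ₀]⟩

end OneFamily

section TwoFamilies
variable (R : Type*) [CommRing R] (n : ℕ)

/-- substitution of the elementary symmetric functions of two families of `n` variables. -/
noncomputable def Phi : MvPolynomial (Fin n ⊕ Fin n) R →ₐ[R] MvPolynomial (Fin n ⊕ Fin n) R :=
  aeval (Sum.elim (fun k : Fin n => rename Sum.inl (esymm (Fin n) R ((k : ℕ) + 1)))
    (fun k : Fin n => rename Sum.inr (esymm (Fin n) R ((k : ℕ) + 1))))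

/-- substitution in the coefficients. -/
noncomputable def psiY : MvPolynomial (Fin n) R →+* MvPolynomial (Fin n) R :=
  (aeval (fun k : Fin n => esymm (Fin n) R ((k : ℕ) + 1)) :
    MvPolynomial (Fin n) R →ₐ[R] MvPolynomial (Fin n) R).toRingHom

/-- substitution in the outer variables. -/
noncomputable def PsiX : MvPolynomial (Fin n) (MvPolynomial (Fin n) R) →+*
    MvPolynomial (Fin n) (MvPolynomial (Fin n) R) :=
  (aeval (fun k : Fin n => esymm (Fin n) (MvPolynomial (Fin n) R) ((k : ℕ) + 1)) :
    MvPolynomial (Fin n) (MvPolynomial (Fin n) R) →ₐ[MvPolynomial (Fin n) R] _).toRingHom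

lemma sumAlgEquiv_rename_inl (p : MvPolynomial (Fin n) R) :
    sumAlgEquiv R (Fin n) (Fin n) (rename Sum.inl p) = map C p := by
  have := DFunLike.congr_fun (sumAlgEquiv_comp_rename_inl (R := R) (S₁ := Fin n) (S₂ := Fin n)) p
  simpa using this

lemma sumAlgEquiv_rename_inr (p : MvPolynomial (Fin n) R) :
    sumAlgEquiv R (Fin n) (Fin n) (rename Sum.inr p) = C p := by
  have := DFunLike.congr_fun (sumAlgEquiv_comp_rename_inr (R := R) (S₁ := Fin n) (S₂ := Fin n)) p
  simpa using this

lemma key (p : MvPolynomial (Fin n ⊕ Fin n) R) :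
    sumAlgEquiv R (Fin n) (Fin n) (Phi R n p) =
      PsiX R n (map (psiY R n) (sumAlgEquiv R (Fin n) (Fin n) p)) := by
  have : ((sumAlgEquiv R (Fin n) (Fin n)).toAlgHom.toRingHom).comp (Phi R n).toRingHom =
      (PsiX R n).comp ((map (psiY R n)).comp
        ((sumAlgEquiv R (Fin n) (Fin n)).toAlgHom.toRingHom)) := by
    apply MvPolynomial.ringHom_ext
    · intro r
      simp [Phi, PsiX, psiY]
    · rintro (k | k)
      · simp [Phi, PsiX, psiY, sumAlgEquiv_rename_inl, map_esymm]
      · simp [Phi, PsiX, psiY, sumAlgEquiv_rename_inr]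
  exact RingHom.congr_fun this p

lemma PsiX_injective : Function.Injective (PsiX R n) :=
  aeval_esymm_injective (MvPolynomial (Fin n) R) n

lemma psiY_injective : Function.Injective (psiY R n) := aeval_esymm_injective R n

/-- the elementary symmetric functions of two families are algebraically independent. -/
theorem Phi_injective : Function.Injective (Phi R n) := by
  intro p q h
  have h1 := congrArg (sumAlgEquiv R (Fin n) (Fin n)) h
  rw [key, key] at h1
  exact (sumAlgEquiv R (Fin n) (Fin n)).injective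
    (map_injective _ (psiY_injective R n) (PsiX_injective R n h1))

end TwoFamilies
section TwoFamilies2
variable (R : Type*) [CommRing R] (n : ℕ)

lemma sumAlgEquiv_rename_left (e : Equiv.Perm (Fin n)) (q : MvPolynomial (Fin n ⊕ Fin n) R) :
    sumAlgEquiv R (Fin n) (Fin n) (rename (Sum.map e id) q) =
      rename e (sumAlgEquiv R (Fin n) (Fin n) q) := by
  have : ((sumAlgEquiv R (Fin n) (Fin n)).toAlgHom.toRingHom).comp
      (rename (Sum.map e id) : MvPolynomial (Fin n ⊕ Fin n) R →ₐ[R] _).toRingHom =
      (rename e : MvPolynomial (Fin n) (MvPolynomial (Fin n) R) →ₐ[_] _).toRingHom.comp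
        ((sumAlgEquiv R (Fin n) (Fin n)).toAlgHom.toRingHom) := by
    apply MvPolynomial.ringHom_ext
    · intro r; simp
    · rintro (k | k) <;> simp
  exact RingHom.congr_fun this q

lemma sumAlgEquiv_rename_right (τ : Equiv.Perm (Fin n)) (q : MvPolynomial (Fin n ⊕ Fin n) R) :
    sumAlgEquiv R (Fin n) (Fin n) (rename (Sum.map id τ) q) =
      map (rename τ : MvPolynomial (Fin n) R →ₐ[R] _).toRingHom
        (sumAlgEquiv R (Fin n) (Fin n) q) := by
  have : ((sumAlgEquiv R (Fin n) (Fin n)).toAlgHom.toRingHom).comp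
      (rename (Sum.map id τ) : MvPolynomial (Fin n ⊕ Fin n) R →ₐ[R] _).toRingHom =
      (map (rename τ : MvPolynomial (Fin n) R →ₐ[R] _).toRingHom).comp
        ((sumAlgEquiv R (Fin n) (Fin n)).toAlgHom.toRingHom) := by
    apply MvPolynomial.ringHom_ext
    · intro r; simp
    · rintro (k | k) <;> simp
  exact RingHom.congr_fun this q

lemma map_rename_PsiX (τ : Equiv.Perm (Fin n)) (Q : MvPolynomial (Fin n) (MvPolynomial (Fin n) R)) :
    map (rename τ : MvPolynomial (Fin n) R →ₐ[R] _).toRingHom (PsiX R n Q) =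
      PsiX R n (map (rename τ : MvPolynomial (Fin n) R →ₐ[R] _).toRingHom Q) := by
  have : (map (rename τ : MvPolynomial (Fin n) R →ₐ[R] _).toRingHom).comp (PsiX R n) =
      (PsiX R n).comp (map (rename τ : MvPolynomial (Fin n) R →ₐ[R] _).toRingHom) := by
    apply MvPolynomial.ringHom_ext
    · intro r; simp [PsiX]
    · intro k; simp [PsiX, map_esymm]
  exact RingHom.congr_fun this Q

/-- a polynomial in two families of variables which is symmetric in each family is a polynomial in
the elementary symmetric functions of the two families. -/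
theorem Phi_surjective_of_bisymm (p : MvPolynomial (Fin n ⊕ Fin n) R)
    (h1 : ∀ e : Equiv.Perm (Fin n), rename (Sum.map e id) p = p)
    (h2 : ∀ e : Equiv.Perm (Fin n), rename (Sum.map id e) p = p) :
    ∃ P, Phi R n P = p := by
  set p' := sumAlgEquiv R (Fin n) (Fin n) p with hp'
  have hs : p'.IsSymmetric := by
    intro e
    rw [hp', ← sumAlgEquiv_rename_left, h1]
  obtain ⟨Q₁, hQ₁⟩ := aeval_esymm_surjective (MvPolynomial (Fin n) R) n p' hs
  have hQ₁' : PsiX R n Q₁ = p' := hQ₁
  have hinv : ∀ τ : Equiv.Perm (Fin n),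
      map (rename τ : MvPolynomial (Fin n) R →ₐ[R] _).toRingHom Q₁ = Q₁ := by
    intro τ
    apply PsiX_injective R n
    rw [← map_rename_PsiX, hQ₁', hp', ← sumAlgEquiv_rename_right, h2]
  have hrange : Q₁ ∈ Set.range (map (psiY R n)) := by
    rw [mem_range_map_iff_coeffs_subset]
    intro c hc
    obtain ⟨d, _, rfl⟩ := mem_coeffs_iff.1 hc
    have hsym : (coeff d Q₁).IsSymmetric := by
      intro τ
      have := congrArg (coeff d) (hinv τ)
      rwa [coeff_map] at this
    obtain ⟨q, hq⟩ := aeval_esymm_surjective R n _ hsym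
    exact ⟨q, hq⟩
  obtain ⟨Q₂, hQ₂⟩ := hrange
  refine ⟨(sumAlgEquiv R (Fin n) (Fin n)).symm Q₂, ?_⟩
  apply (sumAlgEquiv R (Fin n) (Fin n)).injective
  rw [key, AlgEquiv.apply_symm_apply, hQ₂, hQ₁']

end TwoFamilies2

section Weighted
variable {R : Type*} [CommRing R]

theorem aeval_monomial_isWeightedHomogeneous {σ τ M : Type*} [AddCommMonoid M] (w : σ → M)
    (v : τ → M) (e : σ → MvPolynomial τ R) (he : ∀ k, IsWeightedHomogeneous v (e k) (w k))
    (d : σ →₀ ℕ) (r : R) :
    IsWeightedHomogeneous v (aeval e (monomial d r)) (Finsupp.weight w d) := by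
  rw [aeval_monomial]
  have h2 : IsWeightedHomogeneous v (d.prod fun i k => e i ^ k) (Finsupp.weight w d) := by
    have := IsWeightedHomogeneous.prod d.support (fun i => e i ^ d i) (fun i => d i • w i)
      (fun i _ => (he i).pow (d i))
    have h4 : Finsupp.weight w d = ∑ i ∈ d.support, d i • w i := by
      rw [Finsupp.weight_apply, Finsupp.sum]
    rw [h4]
    exact this
  have h3 := (isWeightedHomogeneous_C v r).mul h2
  rw [zero_add] at h3
  exact h3

theorem weightedHomogeneousComponent_aeval {σ τ M : Type*} [AddCommMonoid M] (w : σ → M)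
    (v : τ → M) (e : σ → MvPolynomial τ R) (he : ∀ k, IsWeightedHomogeneous v (e k) (w k))
    (m : M) (Q : MvPolynomial σ R) :
    weightedHomogeneousComponent v m (aeval e Q) = aeval e (weightedHomogeneousComponent w m Q) := by
  classical
  induction Q using MvPolynomial.induction_on' with
  | monomial d r =>
    rw [weightedHomogeneousComponent_of_mem (aeval_monomial_isWeightedHomogeneous w v e he d r),
      weightedHomogeneousComponent_of_mem (isWeightedHomogeneous_monomial w d r rfl)]
    split_ifs <;> simp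
  | add p q hp hq => simp only [map_add, hp, hq]

end Weighted

section Reindex

lemma sum_powersetCard_prod_equiv {ι A : Type*} [Fintype ι] [CommRing A] (E : ι ≃ ι)
    (g : ι → A) (k : ℕ) :
    ∑ t ∈ powersetCard k (univ : Finset ι), ∏ x ∈ t, g (E x) =
      ∑ t ∈ powersetCard k (univ : Finset ι), ∏ x ∈ t, g x :=
  by
  classical
  conv_rhs => rw [← Finset.map_univ_equiv E, Finset.powersetCard_map, Finset.sum_map]
  refine Finset.sum_congr rfl fun t _ => ?_
  rw [RelEmbedding.coe_toEmbedding, Finset.mapEmbedding_apply, Finset.prod_map]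
  rfl

end Reindex

section MulGen
open LambdaRing

lemma mulGen_eq_sum (N k : ℕ) :
    mulGen N k = ∑ t ∈ powersetCard k (univ : Finset (Fin N × Fin N)),
      ∏ ab ∈ t, (X (Sum.inl ab.1) * X (Sum.inr ab.2) : MvPolynomial (Fin N ⊕ Fin N) ℤ) := by
  unfold mulGen
  rw [Finset.esymm_map_val]

lemma rename_left_mulGen (N k : ℕ) (e : Equiv.Perm (Fin N)) :
    rename (Sum.map e id) (mulGen N k) = mulGen N k := by
  rw [mulGen_eq_sum]
  simp only [map_sum, map_prod, map_mul, rename_X, Sum.map_inl, Sum.map_inr, id_eq]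
  exact sum_powersetCard_prod_equiv (Equiv.prodCongr e (Equiv.refl (Fin N)))
    (fun ab => (X (Sum.inl ab.1) * X (Sum.inr ab.2) : MvPolynomial (Fin N ⊕ Fin N) ℤ)) k

lemma rename_right_mulGen (N k : ℕ) (e : Equiv.Perm (Fin N)) :
    rename (Sum.map id e) (mulGen N k) = mulGen N k := by
  rw [mulGen_eq_sum]
  simp only [map_sum, map_prod, map_mul, rename_X, Sum.map_inl, Sum.map_inr, id_eq]
  exact sum_powersetCard_prod_equiv (Equiv.prodCongr (Equiv.refl (Fin N)) e)
    (fun ab => (X (Sum.inl ab.1) * X (Sum.inr ab.2) : MvPolynomial (Fin N ⊕ Fin N) ℤ)) k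

/-- the bidegree weights on the two families of variables. -/
def vW (N : ℕ) : Fin N ⊕ Fin N → ℕ × ℕ := Sum.elim (fun _ => (1, 0)) (fun _ => (0, 1))

lemma mulGen_isWeightedHomogeneous (N k : ℕ) :
    IsWeightedHomogeneous (vW N) (mulGen N k) (k, k) := by
  rw [mulGen_eq_sum]
  refine IsWeightedHomogeneous.sum _ _ _ fun t ht => ?_
  have h1 := IsWeightedHomogeneous.prod t
    (fun ab : Fin N × Fin N => (X (Sum.inl ab.1) * X (Sum.inr ab.2) :
      MvPolynomial (Fin N ⊕ Fin N) ℤ)) (fun _ => ((1, 1) : ℕ × ℕ)) (w := vW N)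
    (fun ab _ => by
      have := (isWeightedHomogeneous_X ℤ (vW N) (Sum.inl ab.1)).mul
        (isWeightedHomogeneous_X ℤ (vW N) (Sum.inr ab.2))
      simpa [vW] using this)
  rw [Finset.sum_const, (Finset.mem_powersetCard.1 ht).2] at h1
  simpa using h1

lemma rename_inl_esymm_isWeightedHomogeneous (N k : ℕ) :
    IsWeightedHomogeneous (vW N) (rename Sum.inl (esymm (Fin N) ℤ k) :
      MvPolynomial (Fin N ⊕ Fin N) ℤ) (k, 0) := by
  rw [esymm]
  simp only [map_sum, map_prod, rename_X]
  refine IsWeightedHomogeneous.sum _ _ _ fun t ht => ?_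
  have h1 := IsWeightedHomogeneous.prod t
    (fun a : Fin N => (X (Sum.inl a) : MvPolynomial (Fin N ⊕ Fin N) ℤ))
    (fun _ => ((1, 0) : ℕ × ℕ)) (w := vW N)
    (fun a _ => by
      have := isWeightedHomogeneous_X ℤ (vW N) (Sum.inl a)
      simpa [vW] using this)
  rw [Finset.sum_const, (Finset.mem_powersetCard.1 ht).2] at h1
  simpa using h1

lemma rename_inr_esymm_isWeightedHomogeneous (N k : ℕ) :
    IsWeightedHomogeneous (vW N) (rename Sum.inr (esymm (Fin N) ℤ k) :
      MvPolynomial (Fin N ⊕ Fin N) ℤ) (0, k) := by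
  rw [esymm]
  simp only [map_sum, map_prod, rename_X]
  refine IsWeightedHomogeneous.sum _ _ _ fun t ht => ?_
  have h1 := IsWeightedHomogeneous.prod t
    (fun a : Fin N => (X (Sum.inr a) : MvPolynomial (Fin N ⊕ Fin N) ℤ))
    (fun _ => ((0, 1) : ℕ × ℕ)) (w := vW N)
    (fun a _ => by
      have := isWeightedHomogeneous_X ℤ (vW N) (Sum.inr a)
      simpa [vW] using this)
  rw [Finset.sum_const, (Finset.mem_powersetCard.1 ht).2] at h1
  simpa using h1

end MulGen

section Exists
open LambdaRing

/-- existence of the universal polynomial `P_n`. -/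
theorem exists_isMulPoly (n : ℕ) : ∃ P : MvPolynomial (Fin n ⊕ Fin n) ℤ, IsMulPoly n P := by
  obtain ⟨P₀, hP₀⟩ := Phi_surjective_of_bisymm ℤ n (mulGen n n) (rename_left_mulGen n n)
    (rename_right_mulGen n n)
  let w : Fin n ⊕ Fin n → ℕ × ℕ :=
    Sum.elim (fun k : Fin n => (((k : ℕ) + 1, 0) : ℕ × ℕ)) (fun k : Fin n => ((0, (k : ℕ) + 1) : ℕ × ℕ))
  let e : Fin n ⊕ Fin n → MvPolynomial (Fin n ⊕ Fin n) ℤ :=
    Sum.elim (fun k : Fin n => rename Sum.inl (esymm (Fin n) ℤ ((k : ℕ) + 1)))
      (fun k : Fin n => rename Sum.inr (esymm (Fin n) ℤ ((k : ℕ) + 1)))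
  have he : ∀ i, IsWeightedHomogeneous (vW n) (e i) (w i) := by
    rintro (k | k)
    · exact rename_inl_esymm_isWeightedHomogeneous n _
    · exact rename_inr_esymm_isWeightedHomogeneous n _
  refine ⟨weightedHomogeneousComponent w (n, n) P₀, ?_, weightedHomogeneousComponent_isWeightedHomogeneous _ _⟩
  have h1 := weightedHomogeneousComponent_aeval w (vW n) e he (n, n) P₀
  have h2 : aeval e P₀ = mulGen n n := hP₀
  rw [h2, weightedHomogeneousComponent_eq_self (mulGen_isWeightedHomogeneous n n)] at h1
  exact h1.symm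

end Exists

end Groth.Agent.Lib27.SymmPoly
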