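import Mathlib
import Groth.Agent.Lib27.SmoothPts

/-!
# Smooth schemes over a field (helper27)

* `isReduced_of_smooth`: a scheme smooth over a field is reduced.
* `exists_point_mem_of_smooth`: a nonempty open subset of a scheme smooth over `k` contains the image
  of a `K`-point, for `K` a separably closed extension of `k`.
* `isIso_of_forall_point_factors`: `K`-points are schematically dense.
-/

universe u

open CategoryTheory AlgebraicGeometry Limits

noncomputable section

namespace Groth.Agent.Lib27.SmoothSch

variable {k : Type u} [Field k]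

/-- The structure map of the coordinate ring of an affine open of a `k`-scheme. -/
def coordHom {X : Scheme.{u}} (f : X ⟶ Spec (CommRingCat.of k)) {V : X.Opens} (hV : IsAffineOpen V) :
    CommRingCat.of k ⟶ Γ(X, V) := Spec.preimage (hV.fromSpec ≫ f)

lemma map_coordHom {X : Scheme.{u}} (f : X ⟶ Spec (CommRingCat.of k)) {V : X.Opens}
    (hV : IsAffineOpen V) : Spec.map (coordHom f hV) = hV.fromSpec ≫ f := Spec.map_preimage _

lemma smooth_coordHom {X : Scheme.{u}} (f : X ⟶ Spec (CommRingCat.of k)) [Smooth f] {V : X.Opens}
    (hV : IsAffineOpen V) : (coordHom f hV).hom.Smooth := by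
  have : Smooth (Spec.map (coordHom f hV)) := by rw [map_coordHom]; infer_instance
  exact (HasRingHomProperty.Spec_iff (P := @Smooth)).mp this

/-- The coordinate ring of an affine open of a scheme smooth over a field is reduced. -/
theorem isReduced_sections_of_smooth {X : Scheme.{u}} (f : X ⟶ Spec (CommRingCat.of k)) [Smooth f]
    {V : X.Opens} (hV : IsAffineOpen V) : _root_.IsReduced Γ(X, V) := by
  have hφ := smooth_coordHom f hV
  let _ : Algebra k Γ(X, V) := (coordHom f hV).hom.toAlgebra
  have : Algebra.Smooth k Γ(X, V) := hφ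
  exact Groth.Agent.Lib27.SmoothField.isReduced_of_smooth_field k _

/-- A scheme smooth over a field is reduced. -/
theorem isReduced_of_smooth {X : Scheme.{u}} (f : X ⟶ Spec (CommRingCat.of k)) [Smooth f] :
    IsReduced X := by
  refine @IsReduced.of_openCover _ X.affineCover (fun i => ?_)
  have hsm : Smooth (X.affineCover.f i ≫ f) := inferInstance
  have := isReduced_sections_of_smooth (X.affineCover.f i ≫ f) (isAffineOpen_top _)
  exact isReduced_of_isAffine_isReduced _

/-- A nonempty open subset of a scheme smooth over `k` contains the image of a `K`-point, for `K` a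
separably closed extension of `k`. -/
theorem exists_point_mem_of_smooth (K : Type u) [Field K] [Algebra k K] [IsSepClosed K]
    {X : Scheme.{u}} (f : X ⟶ Spec (CommRingCat.of k)) [Smooth f] (U : X.Opens)
    (hU : (U : Set X).Nonempty) :
    ∃ x : Spec (CommRingCat.of K) ⟶ X,
      x ≫ f = Spec.map (CommRingCat.ofHom (algebraMap k K)) ∧ Set.range x ⊆ U := by
  obtain ⟨x₀, hx₀⟩ := hU
  obtain ⟨_, ⟨V, hV : IsAffineOpen V, rfl⟩, hxV, hVU⟩ :=
    X.isBasis_affineOpens.exists_subset_of_mem_open hx₀ U.2
  have hφ := smooth_coordHom f hV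
  let _ : Algebra k Γ(X, V) := (coordHom f hV).hom.toAlgebra
  have : Algebra.Smooth k Γ(X, V) := hφ
  have : Nonempty V := ⟨⟨x₀, hxV⟩⟩
  have : Nontrivial Γ(X, V) := inferInstance
  obtain ⟨ψ⟩ := Groth.Agent.Lib27.SmoothPts.exists_algHom_of_smooth_of_isSepClosed (k := k) K Γ(X, V)
  refine ⟨Spec.map (CommRingCat.ofHom ψ.toRingHom) ≫ hV.fromSpec, ?_, ?_⟩
  · rw [Category.assoc, ← map_coordHom, ← Spec.map_comp]
    congr 1
    ext c
    exact ψ.commutes c
  · rintro _ ⟨t, rfl⟩
    apply hVU
    rw [Scheme.Hom.comp_apply]
    have : hV.fromSpec (Spec.map (CommRingCat.ofHom ψ.toRingHom) t) ∈ Set.range hV.fromSpec :=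
      ⟨_, rfl⟩
    rwa [hV.range_fromSpec] at this

/-- The `K`-points of a scheme smooth over `k` are schematically dense, for `K` a separably closed
extension of `k`: a closed subscheme through which all `K`-points factor is everything. -/
theorem isIso_of_forall_point_factors (K : Type u) [Field K] [Algebra k K] [IsSepClosed K]
    (X : Over (Spec (CommRingCat.of k))) [Smooth X.hom] (Z : Over (Spec (CommRingCat.of k)))
    (c : Z ⟶ X) (hc : IsClosedImmersion c.left)
    (h : ∀ x : Over.mk (Spec.map (CommRingCat.ofHom (algebraMap k K))) ⟶ X,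
      ∃ z : Over.mk (Spec.map (CommRingCat.ofHom (algebraMap k K))) ⟶ Z, z ≫ c = x) :
    IsIso c := by
  have hred : IsReduced X.left := isReduced_of_smooth X.hom
  have hsurj : Surjective c.left := by
    constructor
    by_contra hns
    have hclosed : IsClosed (Set.range c.left) := c.left.isClosedEmbedding.isClosed_range
    let U : X.left.Opens := ⟨(Set.range c.left)ᶜ, hclosed.isOpen_compl⟩
    have hU : (U : Set X.left).Nonempty := by
      rw [← Set.range_eq_univ] at hns
      exact Set.nonempty_compl.mpr hns
    obtain ⟨x, hx, hxU⟩ := exists_point_mem_of_smooth K X.hom U hU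
    let x' : Over.mk (Spec.map (CommRingCat.ofHom (algebraMap k K))) ⟶ X := Over.homMk x hx
    obtain ⟨z, hz⟩ := h x'
    have hzL : z.left ≫ c.left = x := congrArg (fun φ => φ.left) hz
    have hne : Nonempty (Spec (CommRingCat.of K)) := inferInstance
    obtain ⟨t⟩ := hne
    have h1 : x t ∈ (U : Set X.left) := hxU ⟨t, rfl⟩
    apply h1
    refine ⟨z.left t, ?_⟩
    rw [← hzL, Scheme.Hom.comp_apply]
  have : IsIso c.left := isIso_of_isClosedImmersion_of_surjective c.left
  have : IsIso ((Over.forget (Spec (CommRingCat.of k))).map c) := this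
  exact isIso_of_reflects_iso c (Over.forget _)

/-- Smooth morphisms are geometrically reduced. -/
theorem geometricallyReduced_of_smooth {X Y : Scheme.{u}} (f : X ⟶ Y) [Smooth f] :
    GeometricallyReduced f := by
  refine ⟨fun K _ y Z fst snd h => ?_⟩
  have : Smooth snd := MorphismProperty.of_isPullback (P := @Smooth) h inferInstance
  exact isReduced_of_smooth snd

end Groth.Agent.Lib27.SmoothSch
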