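import Groth.Prelude.Def_W4c1zetahwZeta
import Mathlib.RingTheory.PowerSeries.Derivative
import Mathlib.RingTheory.PowerSeries.Inverse

/-!
# Formal identities for the zeta function `Zeta.zetaFun`

`Z = exp(L)` satisfies `Z' = L' Z`, `Z(0) = 1`; uniqueness of solutions of `F' = H F`.
-/

set_option autoImplicit false

universe u

open CategoryTheory AlgebraicGeometry PowerSeries

namespace Groth.Agent.Lib27.ZetaFormal

variable {k : Type u} [Field k] {X : Scheme.{u}} (f : X ⟶ Spec (CommRingCat.of k))

lemma constantCoeff_logZeta : constantCoeff (Zeta.logZeta f) = 0 := by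
  rw [← coeff_zero_eq_constantCoeff_apply, Zeta.logZeta, coeff_mk]
  simp

lemma hasSubst_logZeta : HasSubst (Zeta.logZeta f) :=
  HasSubst.of_constantCoeff_zero' (constantCoeff_logZeta f)

lemma derivative_zetaFun :
    derivative ℚ (Zeta.zetaFun f) = derivative ℚ (Zeta.logZeta f) * Zeta.zetaFun f := by
  rw [Zeta.zetaFun, derivative_subst (hasSubst_logZeta f), derivative_exp, mul_comm]

lemma constantCoeff_zetaFun : constantCoeff (Zeta.zetaFun f) = 1 := by
  have h := constantCoeff_subst (hasSubst_logZeta f) (exp ℚ)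
  rw [Zeta.zetaFun]
  erw [h]
  rw [finsum_eq_single _ 0]
  · simp
  · intro d hd
    rw [map_pow]
    erw [constantCoeff_logZeta f]
    rw [zero_pow hd, smul_zero]

lemma coeff_derivative_logZeta (m : ℕ) :
    coeff m (derivative ℚ (Zeta.logZeta f)) = (Zeta.nPts f (m + 1) : ℚ) := by
  rw [coeff_derivative, Zeta.logZeta, coeff_mk]
  have : ((m + 1 : ℕ) : ℚ) ≠ 0 := by positivity
  push_cast at this ⊢
  field_simp

/-- Uniqueness for the formal ODE `F' = H F` with given constant term. -/
lemma eq_of_derivative_eq_mul {H A B : PowerSeries ℚ}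
    (hA : derivative ℚ A = H * A) (hB : derivative ℚ B = H * B)
    (h0 : constantCoeff A = constantCoeff B) : A = B := by
  ext m
  induction m using Nat.strong_induction_on with
  | _ m ih =>
    cases m with
    | zero => simpa using h0
    | succ m =>
      have h1 := congrArg (coeff m) hA
      have h2 := congrArg (coeff m) hB
      rw [coeff_derivative, coeff_mul] at h1 h2
      have h3 : ∑ p ∈ Finset.antidiagonal m, coeff p.1 H * coeff p.2 A =
          ∑ p ∈ Finset.antidiagonal m, coeff p.1 H * coeff p.2 B := by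
        refine Finset.sum_congr rfl fun p hp => ?_
        rw [ih p.2 (by have := Finset.mem_antidiagonal.mp hp; omega)]
      rw [h3, ← h2] at h1
      have hm : ((m : ℚ) + 1) ≠ 0 := by positivity
      exact mul_right_cancel₀ hm h1

/-- If `F' = H F`, `F(0) = 1` and `H ≡ 0 mod t^n` then `F ≡ 1 mod t^{n+1}`. -/
lemma coeff_eq_zero_of_derivative_eq_mul {H F : PowerSeries ℚ} (n : ℕ)
    (hF : derivative ℚ F = H * F) (hH : ∀ i, i < n → coeff i H = 0)
    (m : ℕ) (hm1 : 1 ≤ m) (hmn : m ≤ n) : coeff m F = 0 := by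
  obtain ⟨m, rfl⟩ := Nat.exists_eq_succ_of_ne_zero (by omega : m ≠ 0)
  have h1 := congrArg (coeff m) hF
  rw [coeff_derivative, coeff_mul] at h1
  have h3 : ∑ p ∈ Finset.antidiagonal m, coeff p.1 H * coeff p.2 F = 0 := by
    refine Finset.sum_eq_zero fun p hp => ?_
    rw [hH p.1 (by have := Finset.mem_antidiagonal.mp hp; omega), zero_mul]
  rw [h3] at h1
  have hm : ((m : ℚ) + 1) ≠ 0 := by positivity
  exact (mul_eq_zero.mp h1).resolve_right hm

/-- Logarithmic derivative of a product of powers. -/
lemma derivative_prod_pow {ι : Type*} [DecidableEq ι] (s : Finset ι) (g c : ι → PowerSeries ℚ)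
    (a : ι → ℕ) (h : ∀ i ∈ s, derivative ℚ (g i) = c i * g i) :
    derivative ℚ (∏ i ∈ s, g i ^ a i) = (∑ i ∈ s, (a i : PowerSeries ℚ) * c i) * ∏ i ∈ s, g i ^ a i := by
  induction s using Finset.induction_on with
  | empty => simp
  | insert i s hi ih =>
    rw [Finset.prod_insert hi, Finset.sum_insert hi, Derivation.leibniz, smul_eq_mul, smul_eq_mul,
      ih (fun j hj => h j (Finset.mem_insert_of_mem hj)), derivative_pow,
      h i (Finset.mem_insert_self i s)]
    rcases Nat.eq_zero_or_pos (a i) with h0 | h0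
    · simp [h0]
    · have : g i ^ a i = g i ^ (a i - 1) * g i := by
        rw [← pow_succ, Nat.sub_add_cancel h0]
      rw [this]
      ring

end Groth.Agent.Lib27.ZetaFormal
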