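import Groth.Agent.Lib.Helper22.FibreDim
import Mathlib.RingTheory.NoetherNormalization
import Mathlib.LinearAlgebra.LinearIndependent.Basic
import Mathlib.LinearAlgebra.Dimension.Constructions
import Mathlib.LinearAlgebra.Dimension.Finite
import Mathlib.FieldTheory.Finite.Basic

/-!
# Counting algebra homomorphisms from a finite type algebra to a finite field

For a finite type `k`-algebra `A` of Krull dimension `≤ r` there is a constant `c` with
`#Hom_k(A, K) ≤ c · (#K)^r` for every finite field `K` over `k`.
-/

set_option autoImplicit false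

universe u

namespace Groth.Agent.Lib27.AlgHomCount

open MvPolynomial

/-- Homs out of a finite type algebra to a finite ring form a finite set. -/
theorem finite_algHom (k A K : Type*) [CommRing k] [CommRing A] [Algebra k A]
    [Algebra.FiniteType k A] [CommRing K] [Algebra k K] [Finite K] : Finite (A →ₐ[k] K) := by
  classical
  obtain ⟨s, hs⟩ := (Algebra.FiniteType.out : (⊤ : Subalgebra k A).FG)
  have hinj : Function.Injective (fun (φ : A →ₐ[k] K) (x : (s : Set A)) => φ x.1) := by
    intro φ ψ h
    refine AlgHom.ext_of_adjoin_eq_top hs ?_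
    intro x hx
    exact congrFun h ⟨x, hx⟩
  exact Finite.of_injective _ hinj

/-- The fibre of restriction along a module-finite `g : P → A` over a point `p : P → K`
has at most as many elements as a generating set of `A` over `P`. -/
theorem card_fibre_le {k P A K : Type*} [CommRing k] [CommRing P] [Algebra k P] [CommRing A]
    [Algebra k A] [Field K] [Algebra k K] (g : P →ₐ[k] A) (t : Finset A)
    (hgen : ∀ a : A, ∃ c : A → P, a = ∑ x ∈ t, g (c x) * x) (p : P →ₐ[k] K)
    [Finite {φ : A →ₐ[k] K // φ.comp g = p}] :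
    Nat.card {φ : A →ₐ[k] K // φ.comp g = p} ≤ t.card := by
  classical
  haveI : Fintype {φ : A →ₐ[k] K // φ.comp g = p} := Fintype.ofFinite _
  -- Dedekind independence
  have hD : LinearIndependent K (fun φ : {φ : A →ₐ[k] K // φ.comp g = p} =>
      ((φ.1 : A →* K) : A → K)) := by
    have := linearIndependent_monoidHom A K
    refine this.comp (fun φ : {φ : A →ₐ[k] K // φ.comp g = p} => (φ.1 : A →* K)) ?_
    intro φ ψ h
    apply Subtype.ext
    apply AlgHom.ext
    intro a
    exact DFunLike.congr_fun h a
  have hli : LinearIndependent K (fun (φ : {φ : A →ₐ[k] K // φ.comp g = p}) (x : (t : Set A)) =>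
      φ.1 x.1) := by
    rw [linearIndependent_iff']
    intro s c hc φ hφ
    refine linearIndependent_iff'.mp hD s c ?_ φ hφ
    funext a
    obtain ⟨d, hd⟩ := hgen a
    simp only [Finset.sum_apply, Pi.smul_apply, smul_eq_mul, Pi.zero_apply]
    have h1 : ∀ ψ : {φ : A →ₐ[k] K // φ.comp g = p}, (ψ.1 : A →* K) a =
        ∑ x ∈ t, p (d x) * ψ.1 x := by
      intro ψ
      change ψ.1 a = _
      conv_lhs => rw [hd]
      rw [map_sum]
      refine Finset.sum_congr rfl fun x _ => ?_
      rw [map_mul]
      congr 1
      exact DFunLike.congr_fun ψ.2 (d x)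
    simp_rw [h1, Finset.mul_sum]
    rw [Finset.sum_comm]
    refine Finset.sum_eq_zero fun x hx => ?_
    have h2 := congrFun hc ⟨x, hx⟩
    simp only [Finset.sum_apply, Pi.smul_apply, smul_eq_mul, Pi.zero_apply] at h2
    calc ∑ ψ ∈ s, c ψ * (p (d x) * ψ.1 x) = p (d x) * ∑ ψ ∈ s, c ψ * ψ.1 x := by
          rw [Finset.mul_sum]; refine Finset.sum_congr rfl fun ψ _ => by ring
      _ = 0 := by rw [h2, mul_zero]
  have h3 := hli.fintype_card_le_finrank
  rw [Nat.card_eq_fintype_card]
  refine h3.trans ?_
  rw [Module.finrank_fintype_fun_eq_card]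
  simp

theorem card_algHom_mvPolynomial_le (k K : Type*) [CommRing k] [CommRing K] [Algebra k K]
    [Finite K] (s : ℕ) : Nat.card (MvPolynomial (Fin s) k →ₐ[k] K) ≤ Nat.card K ^ s := by
  classical
  have hinj : Function.Injective (fun (φ : MvPolynomial (Fin s) k →ₐ[k] K) (i : Fin s) => φ (X i)) := by
    intro φ ψ h
    exact MvPolynomial.algHom_ext fun i => congrFun h i
  have := Nat.card_le_card_of_injective _ hinj
  refine this.trans ?_
  rw [Nat.card_fun]
  simp

/-- **Point count bound**: for a finite type algebra `A` over a field `k` of Krull dimension at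
most `r`, `#Hom_k(A, K) ≤ c (#K)^r` uniformly in finite fields `K` over `k`. -/
theorem exists_card_algHom_le (k A : Type u) [Field k] [CommRing A] [Algebra k A]
    [Algebra.FiniteType k A] (r : ℕ) (hr : ringKrullDim A ≤ r) :
    ∃ c : ℕ, ∀ (K : Type u) [Field K] [Algebra k K] [Finite K],
      Nat.card (A →ₐ[k] K) ≤ c * Nat.card K ^ r := by
  classical
  rcases subsingleton_or_nontrivial A with hA | hA
  · refine ⟨0, fun K _ _ _ => ?_⟩
    haveI : IsEmpty (A →ₐ[k] K) := by
      constructor
      intro φ
      have h1 : φ 1 = φ 0 := congrArg φ (Subsingleton.elim _ _)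
      rw [map_one, map_zero] at h1
      exact one_ne_zero h1
    simp
  obtain ⟨s, g, hinj, hfin⟩ := exists_finite_inj_algHom_of_fg k A
  have hint : ∀ a : A, g.toRingHom.IsIntegralElem a := fun a => hfin.to_isIntegral a
  have hdim := Groth.Agent.Lib.Helper22.ringKrullDim_eq_of_finite_inj s g hinj hint
  have hsr : s ≤ r := by
    rw [hdim] at hr
    exact_mod_cast hr
  -- generators of A as a P-module
  letI : Algebra (MvPolynomial (Fin s) k) A := g.toRingHom.toAlgebra
  have hfin' : Module.Finite (MvPolynomial (Fin s) k) A := hfin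
  obtain ⟨t, ht⟩ := hfin'.fg_top
  have hgen : ∀ a : A, ∃ c : A → MvPolynomial (Fin s) k, a = ∑ x ∈ t, g (c x) * x := by
    intro a
    have ha : a ∈ Submodule.span (MvPolynomial (Fin s) k) (t : Set A) := by rw [ht]; trivial
    obtain ⟨c, -, hc⟩ := Submodule.mem_span_finset.mp ha
    refine ⟨c, ?_⟩
    rw [← hc]
    refine Finset.sum_congr rfl fun x _ => ?_
    rw [Algebra.smul_def]
    rfl
  refine ⟨t.card, fun K _ _ _ => ?_⟩
  haveI := finite_algHom k A K
  haveI := finite_algHom k (MvPolynomial (Fin s) k) K
  haveI : Fintype (A →ₐ[k] K) := Fintype.ofFinite _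
  haveI : Fintype (MvPolynomial (Fin s) k →ₐ[k] K) := Fintype.ofFinite _
  have h1 : (Finset.univ : Finset (A →ₐ[k] K)).card ≤
      t.card * (Finset.univ : Finset (MvPolynomial (Fin s) k →ₐ[k] K)).card := by
    refine Finset.card_le_mul_card_image_of_maps_to (f := fun φ : A →ₐ[k] K => φ.comp g)
      (fun _ _ => Finset.mem_univ _) t.card ?_
    intro p _
    have h2 := card_fibre_le g t hgen p
    rw [Nat.card_eq_fintype_card, Fintype.card_subtype] at h2
    convert h2 using 2
  rw [Finset.card_univ, Finset.card_univ, ← Nat.card_eq_fintype_card, ← Nat.card_eq_fintype_card] at h1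
  refine h1.trans ?_
  refine Nat.mul_le_mul_left _ ((card_algHom_mvPolynomial_le k K s).trans ?_)
  exact Nat.pow_le_pow_right Nat.card_pos hsr

end Groth.Agent.Lib27.AlgHomCount
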