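import Groth.Agent.Lib27.IntNoether3
import Groth.Agent.Lib27.AlgHomCount
import Mathlib.Algebra.CharP.CharAndCard
import Mathlib.Algebra.Algebra.ZMod

/-!
# Part 4: per-prime bounds and the combined statement
-/

set_option autoImplicit false

universe u v w

open TensorProduct MvPolynomial

namespace Groth.Agent.Lib27.IntNoether

/-- Universe polymorphic version of `AlgHomCount.exists_card_algHom_le`. -/
theorem exists_card_algHom_le' (k : Type v) (A : Type u) [Field k] [CommRing A] [Algebra k A]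
    [Algebra.FiniteType k A] (r : ℕ) (hr : ringKrullDim A ≤ r) :
    ∃ c : ℕ, ∀ (K : Type w) [Field K] [Algebra k K] [Finite K],
      Nat.card (A →ₐ[k] K) ≤ c * Nat.card K ^ r := by
  classical
  rcases subsingleton_or_nontrivial A with hA | hA
  · refine ⟨0, fun K _ _ _ => ?_⟩
    haveI : IsEmpty (A →ₐ[k] K) := by
      constructor
      intro φ
      have h1 : φ 1 = φ 0 := congrArg φ (Subsingleton.elim _ _)
      rw [map_one, map_zero] at h1
      exact one_ne_zero h1
    simp
  obtain ⟨s, g, hinj, hfin⟩ := exists_finite_inj_algHom_of_fg k A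
  have hint : g.toRingHom.IsIntegral := fun a => hfin.to_isIntegral a
  have hdim := ringKrullDim_eq_of_integral_inj s g hinj hint
  have hsr : s ≤ r := by
    rw [hdim] at hr
    exact_mod_cast hr
  letI : Algebra (MvPolynomial (Fin s) k) A := g.toRingHom.toAlgebra
  have hfin' : Module.Finite (MvPolynomial (Fin s) k) A := hfin
  obtain ⟨t, ht⟩ := hfin'.fg_top
  have hgen : ∀ a : A, ∃ c : A → MvPolynomial (Fin s) k, a = ∑ x ∈ t, g (c x) * x := by
    intro a
    have ha : a ∈ Submodule.span (MvPolynomial (Fin s) k) (t : Set A) := by rw [ht]; trivial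
    obtain ⟨c, -, hc⟩ := Submodule.mem_span_finset.mp ha
    refine ⟨c, ?_⟩
    rw [← hc]
    refine Finset.sum_congr rfl fun x _ => ?_
    rw [Algebra.smul_def]
    rfl
  refine ⟨t.card, fun K _ _ _ => ?_⟩
  haveI := AlgHomCount.finite_algHom k A K
  haveI := AlgHomCount.finite_algHom k (MvPolynomial (Fin s) k) K
  haveI : Fintype (A →ₐ[k] K) := Fintype.ofFinite _
  haveI : Fintype (MvPolynomial (Fin s) k →ₐ[k] K) := Fintype.ofFinite _
  have h1 : (Finset.univ : Finset (A →ₐ[k] K)).card ≤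
      t.card * (Finset.univ : Finset (MvPolynomial (Fin s) k →ₐ[k] K)).card := by
    refine Finset.card_le_mul_card_image_of_maps_to (f := fun φ : A →ₐ[k] K => φ.comp g)
      (fun _ _ => Finset.mem_univ _) t.card ?_
    intro p _
    have h2 := AlgHomCount.card_fibre_le g t hgen p
    rw [Nat.card_eq_fintype_card, Fintype.card_subtype] at h2
    convert h2 using 2
  rw [Finset.card_univ, Finset.card_univ, ← Nat.card_eq_fintype_card, ← Nat.card_eq_fintype_card] at h1
  refine h1.trans ?_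
  refine Nat.mul_le_mul_left _ ((AlgHomCount.card_algHom_mvPolynomial_le k K s).trans ?_)
  exact Nat.pow_le_pow_right Nat.card_pos hsr

variable (A : Type u) [CommRing A]

/-- Bound in a fixed characteristic `p`. -/
theorem exists_bound_charP [Algebra.FiniteType ℤ A] (r : ℕ) (hr : ringKrullDim A ≤ r) (p : ℕ)
    [Fact p.Prime] : ∃ c : ℕ, ∀ (F : Type w) [Field F] [Finite F] [CharP F p],
      Nat.card (A →+* F) ≤ c * Nat.card F ^ r := by
  have hsurj : Function.Surjective
      (Algebra.TensorProduct.includeRight : A →ₐ[ℤ] ZMod p ⊗[ℤ] A) :=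
    Algebra.TensorProduct.includeRight_surjective A (ZMod.intCast_surjective)
  have hdim : ringKrullDim (ZMod p ⊗[ℤ] A) ≤ r :=
    (ringKrullDim_le_of_surjective
      (Algebra.TensorProduct.includeRight : A →ₐ[ℤ] ZMod p ⊗[ℤ] A).toRingHom hsurj).trans hr
  obtain ⟨c, hc⟩ := exists_card_algHom_le'.{_, _, w} (ZMod p) (ZMod p ⊗[ℤ] A) r hdim
  refine ⟨c, fun F _ _ _ => ?_⟩
  letI : Algebra (ZMod p) F := ZMod.algebra F p
  haveI := AlgHomCount.finite_algHom (ZMod p) (ZMod p ⊗[ℤ] A) F
  refine le_trans ?_ (hc F)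
  let Φ : (A →+* F) → (ZMod p ⊗[ℤ] A →ₐ[ZMod p] F) := fun φ =>
    Algebra.TensorProduct.lift (Algebra.ofId (ZMod p) F) φ.toIntAlgHom (fun _ _ => Commute.all _ _)
  refine Nat.card_le_card_of_injective Φ ?_
  intro φ ψ h
  ext x
  have h1 := DFunLike.congr_fun h ((1 : ZMod p) ⊗ₜ[ℤ] x)
  simpa [Φ] using h1

/-- Combined bounds for a finitely generated ring of dimension at most `r`. -/
theorem exists_bounds [Algebra.FiniteType ℤ A] (r : ℕ) (hr : ringKrullDim A ≤ r) :
    ∃ (c p₀ : ℕ), ∀ (p m : ℕ), p.Prime → 1 ≤ m → ∀ (F : Type w) [Field F], Nat.card F = p ^ m →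
      (p₀ ≤ p → (r = 0 → Nat.card (A →+* F) = 0) ∧ Nat.card (A →+* F) ≤ c * (p ^ m) ^ (r - 1)) ∧
      (p < p₀ → Nat.card (A →+* F) ≤ c * (p ^ m) ^ r) := by
  classical
  -- per-prime constants
  have hpp : ∀ p : ℕ, ∃ c : ℕ, p.Prime → ∀ (F : Type w) [Field F] [Finite F] [CharP F p],
      Nat.card (A →+* F) ≤ c * Nat.card F ^ r := by
    intro p
    by_cases hp : p.Prime
    · haveI : Fact p.Prime := ⟨hp⟩
      obtain ⟨c, hc⟩ := exists_bound_charP.{u, w} A r hr p
      exact ⟨c, fun _ => hc⟩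
    · exact ⟨0, fun h => absurd h hp⟩
  choose cp hcp using hpp
  -- uniform part
  have huni : ∃ (c N : ℕ), 0 < N ∧ ∀ (F : Type w) [Field F] [Finite F], (N : F) ≠ 0 →
      (r = 0 → Nat.card (A →+* F) = 0) ∧ Nat.card (A →+* F) ≤ c * Nat.card F ^ (r - 1) := by
    rcases subsingleton_or_nontrivial (ℚ ⊗[ℤ] A) with hB | hB
    · obtain ⟨N, hN, hemp⟩ := exists_isEmpty_of_subsingleton.{u, w} A
      refine ⟨0, N, hN, fun F _ _ hNF => ?_⟩
      haveI := hemp F hNF
      simp
    · obtain ⟨s, c, N, hN, hs, hb⟩ := exists_uniform_bound_of_nontrivial.{u, w} A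
      have h1 := (dim_succ_le A s hs).trans hr
      have hsr : s + 1 ≤ r := by exact_mod_cast h1
      refine ⟨c, N, hN, fun F _ _ hNF => ⟨fun h0 => by omega, ?_⟩⟩
      refine (hb F hNF).trans (Nat.mul_le_mul_left _ ?_)
      exact Nat.pow_le_pow_right Nat.card_pos (by omega)
  obtain ⟨c₁, N, hN, hb⟩ := huni
  refine ⟨c₁ + ∑ p ∈ Finset.range (N + 1), cp p, N + 1, ?_⟩
  intro p m hp hm F _ hF
  haveI : Finite F := Nat.finite_of_card_ne_zero (by rw [hF]; exact pow_ne_zero _ hp.ne_zero)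
  haveI : Fact p.Prime := ⟨hp⟩
  haveI : Fintype F := Fintype.ofFinite F
  haveI : CharP F p := charP_of_card_eq_prime_pow (f := m) (by rw [← Nat.card_eq_fintype_card, hF])
  constructor
  · intro hp0
    have hNF : (N : F) ≠ 0 := by
      intro h0
      have := (CharP.cast_eq_zero_iff F p N).mp h0
      have := Nat.le_of_dvd hN this
      omega
    obtain ⟨h1, h2⟩ := hb F hNF
    refine ⟨h1, ?_⟩
    rw [hF] at h2
    exact h2.trans (Nat.mul_le_mul_right _ (Nat.le_add_right _ _))
  · intro hp0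
    have h1 := hcp p hp F
    rw [hF] at h1
    refine h1.trans (Nat.mul_le_mul_right _ ?_)
    refine le_trans ?_ (Nat.le_add_left _ _)
    exact Finset.single_le_sum (f := cp) (fun _ _ => Nat.zero_le _) (Finset.mem_range.mpr hp0)

end Groth.Agent.Lib27.IntNoether
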