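import Groth.Prelude.Def_ARSys
import Mathlib.Algebra.Homology.ShortComplex.ShortExact
import Mathlib.Algebra.Homology.ShortComplex.ExactFunctor
import Mathlib.CategoryTheory.Abelian.Refinements
import Mathlib.CategoryTheory.Limits.FunctorCategory.EpiMono
import Mathlib.CategoryTheory.Localization.CalculusOfFractions
import Mathlib.CategoryTheory.Functor.OfSequence
import Mathlib.CategoryTheory.Limits.Preserves.FunctorCategory

/-! Basic lemmas on `ℕ`-indexed projective systems (helper27). -/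

set_option autoImplicit false
set_option linter.unusedSectionVars false
open CategoryTheory CategoryTheory.Limits Opposite
universe w v u

namespace Groth.Agent.Lib27.ARSys

open _root_.ARSys

variable {C : Type u} [Category.{v} C]

lemma tr_naturality {X Y : PS C} (f : X ⟶ Y) {n m : ℕ} (h : n ≤ m) :
    tr X h ≫ f.app (op n) = f.app (op m) ≫ tr Y h :=
  f.naturality _

lemma tr_comp (X : PS C) {n m k : ℕ} (h : n ≤ m) (h' : m ≤ k) :
    tr X h' ≫ tr X h = tr X (h.trans h') := by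
  dsimp only [tr]
  rw [← X.map_comp]
  rfl

lemma tr_refl (X : PS C) (n : ℕ) : tr X (le_refl n) = 𝟙 _ := by
  dsimp only [tr]
  exact X.map_id _

lemma shiftMap_naturality {X Y : PS C} (f : X ⟶ Y) (r n : ℕ) :
    shiftMap X r n ≫ f.app (op n) = f.app (op (n + r)) ≫ shiftMap Y r n :=
  f.naturality _

lemma map_congr (X : PS C) {a b : ℕᵒᵖ} (φ ψ : a ⟶ b) : X.map φ = X.map ψ := by
  rw [Subsingleton.elim φ ψ]

lemma map_comp_congr (X : PS C) {a b c b' : ℕᵒᵖ} (φ : a ⟶ b) (ψ : b ⟶ c) (φ' : a ⟶ b')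
    (ψ' : b' ⟶ c) : X.map φ ≫ X.map ψ = X.map φ' ≫ X.map ψ' := by
  rw [← X.map_comp, ← X.map_comp]; exact map_congr _ _ _

lemma map_comp_congr' (X : PS C) {a b c : ℕᵒᵖ} (φ : a ⟶ b) (ψ : b ⟶ c) (χ : a ⟶ c) :
    X.map φ ≫ X.map ψ = X.map χ := by
  rw [← X.map_comp]; exact map_congr _ _ _

/-- The canonical map `X[r] ⟶ X`. -/
def shiftNat (X : PS C) (r : ℕ) : (shift C r).obj X ⟶ X where
  app n := X.map (homOfLE (Nat.le_add_right n.unop r)).op
  naturality _ _ _ := map_comp_congr X _ _ _ _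

@[simp] lemma shiftNat_app (X : PS C) (r n : ℕ) :
    (shiftNat X r).app (op n) = shiftMap X r n := rfl

lemma shift_obj_map (X : PS C) (r : ℕ) {a b : ℕᵒᵖ} (φ : a ⟶ b) :
    ((shift C r).obj X).map φ = X.map ((addF r).op.map φ) := rfl

lemma shift_map_app {X Y : PS C} (f : X ⟶ Y) (r : ℕ) (n : ℕ) :
    ((shift C r).map f).app (op n) = f.app (op (n + r)) := rfl

lemma trClass_iff {X Y : PS C} (f : X ⟶ Y) :
    trClass f ↔ ∃ (r : ℕ) (e : X ≅ (shift C r).obj Y), f = e.hom ≫ shiftNat Y r := by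
  constructor
  · rintro ⟨r, e, h⟩
    refine ⟨r, e, ?_⟩
    ext ⟨n⟩
    exact h n
  · rintro ⟨r, e, rfl⟩
    exact ⟨r, e, fun n => rfl⟩

lemma trClass_shiftNat (X : PS C) (r : ℕ) : trClass (shiftNat X r) :=
  (trClass_iff _).2 ⟨r, Iso.refl _, (Category.id_comp _).symm⟩

/-- `X ≅ X[0]`. -/
def shiftZeroIso (X : PS C) : X ≅ (shift C 0).obj X :=
  NatIso.ofComponents (fun n => Iso.refl _) (fun {a b} φ => by
    change X.map _ ≫ 𝟙 _ = 𝟙 _ ≫ X.map _
    rw [Category.comp_id, Category.id_comp])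

/-- `(Z[r'])[r] ≅ Z[r + r']`. -/
def shiftShiftIso (Z : PS C) (r r' : ℕ) :
    (shift C r).obj ((shift C r').obj Z) ≅ (shift C (r + r')).obj Z :=
  NatIso.ofComponents (fun n => Z.mapIso (eqToIso (by
    show op (n.unop + r + r') = op (n.unop + (r + r'))
    rw [Nat.add_assoc]))) (fun {a b} φ => map_comp_congr Z _ _ _ _)

lemma shiftShiftIso_hom_app (Z : PS C) (r r' n : ℕ) :
    (shiftShiftIso Z r r').hom.app (op n) =
      Z.map (eqToHom (by rw [Nat.add_assoc]) : op (n + r + r') ⟶ op (n + (r + r'))) := rfl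

instance : (trClass (C := C)).IsMultiplicative where
  id_mem X := (trClass_iff _).2 ⟨0, shiftZeroIso X, by
    ext ⟨n⟩
    change 𝟙 _ = 𝟙 _ ≫ X.map _
    rw [Category.id_comp, ← X.map_id]
    exact map_congr _ _ _⟩
  comp_mem {X Y Z} f g hf hg := by
    obtain ⟨r, e, rfl⟩ := (trClass_iff _).1 hf
    obtain ⟨r', e', rfl⟩ := (trClass_iff _).1 hg
    refine (trClass_iff _).2 ⟨r + r', e ≪≫ (shift C r).mapIso e' ≪≫ shiftShiftIso Z r r', ?_⟩
    ext ⟨n⟩
    have h1 : tr Y (Nat.le_add_right n r) ≫ e'.hom.app (op n) =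
      e'.hom.app (op (n + r)) ≫
        Z.map (homOfLE (by omega : n + r' ≤ n + r + r')).op :=
      e'.hom.naturality (homOfLE (Nat.le_add_right n r)).op
    simp only [NatTrans.comp_app, Iso.trans_hom, Functor.mapIso_hom, Category.assoc]
    change e.hom.app (op n) ≫ tr Y (Nat.le_add_right n r) ≫ e'.hom.app (op n) ≫ Z.map _ =
      e.hom.app (op n) ≫ e'.hom.app (op (n + r)) ≫ Z.map _ ≫ Z.map _
    erw [reassoc_of% h1]
    exact congrArg (e.hom.app (op n) ≫ ·)
      ((Category.assoc _ _ _).trans (congrArg (_ ≫ ·) (map_comp_congr Z _ _ _ _)))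

lemma shiftNat_naturality {X Y : PS C} (f : X ⟶ Y) (r : ℕ) :
    shiftNat X r ≫ f = (shift C r).map f ≫ shiftNat Y r := by
  ext ⟨n⟩
  exact f.naturality _

lemma shiftNat_shift (Y : PS C) (r : ℕ) :
    shiftNat ((shift C r).obj Y) r = (shift C r).map (shiftNat Y r) := by
  ext ⟨n⟩
  exact map_congr Y _ _

lemma shiftZeroIso_hom_shiftNat (X : PS C) : (shiftZeroIso X).hom ≫ shiftNat X 0 = 𝟙 X := by
  ext ⟨n⟩
  change 𝟙 _ ≫ X.map _ = 𝟙 _
  rw [Category.id_comp, ← X.map_id]
  exact map_congr _ _ _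

lemma shiftNat_shiftZeroIso_hom (X : PS C) : shiftNat X 0 ≫ (shiftZeroIso X).hom = 𝟙 _ := by
  rw [← cancel_mono (shiftZeroIso X).inv, Category.assoc, Iso.hom_inv_id, Category.comp_id,
    Category.id_comp, ← cancel_epi (shiftZeroIso X).hom, shiftZeroIso_hom_shiftNat,
    Iso.hom_inv_id]

lemma shiftNat_succ (X : PS C) (r : ℕ) :
    shiftNat X (r + 1) =
      (shiftShiftIso X r 1).inv ≫ shiftNat ((shift C 1).obj X) r ≫ shiftNat X 1 := by
  rw [Iso.eq_inv_comp]
  ext ⟨n⟩
  exact map_comp_congr X _ _ _ _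

section Ext1

variable [HasZeroObject C] [HasZeroMorphisms C]

open ZeroObject

/-- objects of the extension by zero -/
noncomputable def ext1Obj (Y : PS C) : ℕ → C
  | 0 => 0
  | n + 1 => Y.obj (op n)

/-- transition maps of the extension by zero -/
noncomputable def ext1Map (Y : PS C) : ∀ n, ext1Obj Y (n + 1) ⟶ ext1Obj Y n
  | 0 => 0
  | n + 1 => Y.map (homOfLE (Nat.le_add_right n 1)).op

/-- `Y[-1]`, extended by zero. -/
noncomputable def ext1 (Y : PS C) : PS C := Functor.ofOpSequence (ext1Map Y)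

lemma ext1_map_zero (Y : PS C) :
    (ext1 Y).map (homOfLE (Nat.le_add_right 0 1)).op = 0 :=
  Functor.ofOpSequence_map_homOfLE_succ (ext1Map Y) 0

lemma ext1_map_succ (Y : PS C) (n : ℕ) :
    (ext1 Y).map (homOfLE (Nat.le_add_right (n + 1) 1)).op =
      Y.map (homOfLE (Nat.le_add_right n 1)).op :=
  Functor.ofOpSequence_map_homOfLE_succ (ext1Map Y) (n + 1)

/-- components of the canonical map `Y ⟶ Y[-1]` -/
noncomputable def tauApp (Y : PS C) : ∀ n : ℕ, Y.obj (op n) ⟶ (ext1 Y).obj (op n)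
  | 0 => 0
  | n + 1 => Y.map (homOfLE (Nat.le_add_right n 1)).op

/-- the canonical map `Y ⟶ Y[-1]` -/
noncomputable def tau (Y : PS C) : Y ⟶ ext1 Y :=
  NatTrans.ofOpSequence (tauApp Y) (fun n => by
    cases n with
    | zero =>
      rw [ext1_map_zero, comp_zero]
      exact comp_zero
    | succ n =>
      rw [ext1_map_succ]
      rfl)

/-- `Y ≅ (Y[-1])[1]` -/
noncomputable def ext1ShiftNatTrans (Y : PS C) : Y ⟶ (shift C 1).obj (ext1 Y) :=
  NatTrans.ofOpSequence (G := (shift C 1).obj (ext1 Y)) (fun n => 𝟙 (Y.obj (op n))) (fun n => by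
    refine (Category.comp_id _).trans (Eq.trans ?_ (Category.id_comp _).symm)
    exact (ext1_map_succ Y n).symm.trans (map_congr (ext1 Y) _ _))

instance (Y : PS C) : IsIso (ext1ShiftNatTrans Y) := by
  rw [NatTrans.isIso_iff_isIso_app]
  rintro ⟨n⟩
  exact inferInstanceAs (IsIso (𝟙 (Y.obj (op n))))

lemma trClass_tau (Y : PS C) : trClass (tau Y) := by
  refine ⟨1, asIso (ext1ShiftNatTrans Y), fun n => ?_⟩
  refine Eq.trans ?_ (Category.id_comp _).symm
  cases n with
  | zero =>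
    have : shiftMap (ext1 Y) 1 0 = 0 := ext1_map_zero Y
    rw [this]; rfl
  | succ n =>
    exact (ext1_map_succ Y n).symm

/-- components of the adjoint map -/
noncomputable def adjApp {Z Y : PS C} (g : (shift C 1).obj Z ⟶ Y) :
    ∀ n : ℕ, Z.obj (op n) ⟶ (ext1 Y).obj (op n)
  | 0 => 0
  | n + 1 => g.app (op n)

/-- the adjoint map `Z ⟶ Y[-1]` of `g : Z[1] ⟶ Y` -/
noncomputable def adj {Z Y : PS C} (g : (shift C 1).obj Z ⟶ Y) : Z ⟶ ext1 Y :=
  NatTrans.ofOpSequence (adjApp g) (fun n => by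
    cases n with
    | zero =>
      rw [ext1_map_zero, comp_zero]
      exact comp_zero
    | succ n =>
      rw [ext1_map_succ]
      exact (map_congr Z _ _ ▸ g.naturality (homOfLE (Nat.le_add_right n 1)).op))

lemma comp_tau {Z Y : PS C} (g : (shift C 1).obj Z ⟶ Y) :
    g ≫ tau Y = shiftNat Z 1 ≫ adj g := by
  ext ⟨n⟩
  cases n with
  | zero => exact comp_zero.trans comp_zero.symm
  | succ n =>
    exact (g.naturality (homOfLE (Nat.le_add_right n 1)).op).symm.trans
      (congrArg (· ≫ g.app (op n)) (map_congr Z _ _))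

lemma tau_ext {X Y : PS C} (f₁ f₂ : X ⟶ Y) (h : shiftNat X 1 ≫ f₁ = shiftNat X 1 ≫ f₂) :
    f₁ ≫ tau Y = f₂ ≫ tau Y := by
  ext ⟨n⟩
  cases n with
  | zero => exact comp_zero.trans comp_zero.symm
  | succ n =>
    have h' := congrArg (fun φ => φ.app (op n)) h
    exact ((f₁.naturality (homOfLE (Nat.le_add_right n 1)).op).symm.trans h').trans
      (f₂.naturality (homOfLE (Nat.le_add_right n 1)).op)

end Ext1

section Ore

variable [HasZeroObject C] [HasZeroMorphisms C]

lemma ore_aux (r : ℕ) : ∀ (X' Y : PS C) (f : (shift C r).obj X' ⟶ Y),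
    ∃ (Y' : PS C) (t : Y ⟶ Y') (_ : trClass t) (g : X' ⟶ Y'), f ≫ t = shiftNat X' r ≫ g := by
  induction r with
  | zero =>
    intro X' Y f
    refine ⟨Y, 𝟙 Y, MorphismProperty.id_mem _ _, (shiftZeroIso X').hom ≫ f, ?_⟩
    rw [Category.comp_id, ← Category.assoc, shiftNat_shiftZeroIso_hom, Category.id_comp]
  | succ r ih =>
    intro X' Y f
    obtain ⟨Y₁, t₁, ht₁, g₁, h₁⟩ := ih ((shift C 1).obj X') Y ((shiftShiftIso X' r 1).hom ≫ f)
    refine ⟨ext1 Y₁, t₁ ≫ tau Y₁, MorphismProperty.comp_mem _ _ _ ht₁ (trClass_tau Y₁),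
      adj g₁, ?_⟩
    rw [shiftNat_succ, Category.assoc, Category.assoc, ← comp_tau, ← Category.assoc _ g₁,
      ← h₁, Category.assoc, Category.assoc, Iso.inv_hom_id_assoc]

lemma ext_aux (r : ℕ) : ∀ (X Y : PS C) (f₁ f₂ : X ⟶ Y),
    shiftNat X r ≫ f₁ = shiftNat X r ≫ f₂ →
    ∃ (Y' : PS C) (t : Y ⟶ Y') (_ : trClass t), f₁ ≫ t = f₂ ≫ t := by
  induction r with
  | zero =>
    intro X Y f₁ f₂ h
    refine ⟨Y, 𝟙 Y, MorphismProperty.id_mem _ _, ?_⟩
    rw [Category.comp_id, Category.comp_id]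
    have := congrArg ((shiftZeroIso X).hom ≫ ·) h
    simpa only [← Category.assoc, shiftZeroIso_hom_shiftNat, Category.id_comp] using this
  | succ r ih =>
    intro X Y f₁ f₂ h
    rw [shiftNat_succ, Category.assoc, Category.assoc, Category.assoc, Category.assoc,
      cancel_epi] at h
    obtain ⟨Y₁, t₁, ht₁, h₁⟩ := ih _ _ _ _ h
    refine ⟨ext1 Y₁, t₁ ≫ tau Y₁, MorphismProperty.comp_mem _ _ _ ht₁ (trClass_tau Y₁), ?_⟩
    rw [← Category.assoc, ← Category.assoc]
    apply tau_ext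
    rw [← Category.assoc, ← Category.assoc]
    exact h₁

end Ore

lemma isARNull_iff [HasZeroMorphisms C] (X : PS C) :
    IsARNull X ↔ ∃ r : ℕ, ∀ n : ℕ, tr X (Nat.le_add_right n r) = 0 := Iff.rfl

lemma tr_eq_zero_of_le [HasZeroMorphisms C] (X : PS C) (r : ℕ)
    (hr : ∀ n : ℕ, tr X (Nat.le_add_right n r) = 0) {n m : ℕ} (h : n + r ≤ m) :
    tr X (le_trans (Nat.le_add_right n r) h) = 0 := by
  rw [← tr_comp X (Nat.le_add_right n r) h, hr, comp_zero]

section Lim
variable [HasLimitsOfShape ℕᵒᵖ C]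

/-- `lim Z ⟶ lim Z[r]` -/
noncomputable def limPre (Z : PS C) (r : ℕ) : limit Z ⟶ limit ((shift C r).obj Z) :=
  limit.pre Z (addF r).op

lemma limPre_π (Z : PS C) (r : ℕ) (n : ℕᵒᵖ) :
    limPre Z r ≫ limit.π ((shift C r).obj Z) n = limit.π Z ((addF r).op.obj n) :=
  limit.pre_π Z (addF r).op n

lemma limPre_shift (Z : PS C) (r : ℕ) : limPre Z r ≫ limMap (shiftNat Z r) = 𝟙 _ := by
  apply limit.hom_ext
  intro n
  rw [Category.assoc, limMap_π, Category.id_comp, ← Category.assoc, limPre_π]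
  exact limit.w Z _

lemma shift_limPre (Z : PS C) (r : ℕ) : limMap (shiftNat Z r) ≫ limPre Z r = 𝟙 _ := by
  apply limit.hom_ext
  intro n
  have h1 : limMap (shiftNat Z r) ≫ limit.π Z ((addF r).op.obj n) =
      limit.π ((shift C r).obj Z) ((addF r).op.obj n) ≫ (shiftNat Z r).app ((addF r).op.obj n) :=
    limMap_π (shiftNat Z r) ((addF r).op.obj n)
  have h2 : limit.π ((shift C r).obj Z) ((addF r).op.obj n) ≫
      ((shift C r).obj Z).map (homOfLE (Nat.le_add_right n.unop r)).op =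
      limit.π ((shift C r).obj Z) n :=
    limit.w ((shift C r).obj Z) (homOfLE (Nat.le_add_right n.unop r)).op
  have h3 : (shiftNat Z r).app ((addF r).op.obj n) =
      ((shift C r).obj Z).map (homOfLE (Nat.le_add_right n.unop r)).op := map_congr Z _ _
  exact (Category.assoc _ _ _).trans ((congrArg (limMap (shiftNat Z r) ≫ ·) (limPre_π Z r n)).trans
    (h1.trans ((congrArg (limit.π ((shift C r).obj Z) ((addF r).op.obj n) ≫ ·) h3).trans
      (h2.trans (Category.id_comp _).symm))))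

lemma limMap_limPre {X Y : PS C} (u : X ⟶ Y) (r : ℕ) :
    limMap u ≫ limPre Y r = limPre X r ≫ limMap ((shift C r).map u) := by
  apply limit.hom_ext
  intro n
  have h1 : limMap u ≫ limit.π Y ((addF r).op.obj n) =
      limit.π X ((addF r).op.obj n) ≫ u.app ((addF r).op.obj n) :=
    limMap_π u ((addF r).op.obj n)
  have h2 : limMap ((shift C r).map u) ≫ limit.π ((shift C r).obj Y) n =
      limit.π ((shift C r).obj X) n ≫ ((shift C r).map u).app n :=
    limMap_π ((shift C r).map u) n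
  exact (Category.assoc _ _ _).trans ((congrArg (limMap u ≫ ·) (limPre_π Y r n)).trans
    (h1.trans ((congrArg (· ≫ u.app ((addF r).op.obj n)) (limPre_π X r n).symm).trans
      ((Category.assoc _ _ _).trans ((congrArg (limPre X r ≫ ·) h2.symm).trans
        (Category.assoc _ _ _).symm)))))

lemma limMap_comp' {X Y Z : PS C} (f : X ⟶ Y) (g : Y ⟶ Z) :
    limMap (f ≫ g) = limMap f ≫ limMap g := by
  apply limit.hom_ext
  intro n
  simp

end Lim

section Abelian
variable [Abelian C]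

lemma evalSE (S : ShortComplex (PS C)) (hS : S.ShortExact) (n : ℕ) :
    (S.map ((evaluation ℕᵒᵖ C).obj (op n))).ShortExact :=
  hS.map_of_exact _

lemma mono_app (S : ShortComplex (PS C)) (hS : S.ShortExact) (n : ℕ) :
    Mono (S.f.app (op n)) := (evalSE S hS n).mono_f

lemma epi_app (S : ShortComplex (PS C)) (hS : S.ShortExact) (n : ℕ) :
    Epi (S.g.app (op n)) := (evalSE S hS n).epi_g

lemma exact_app_refine (S : ShortComplex (PS C)) (hS : S.ShortExact) (n : ℕ) {T : C}
    (x : T ⟶ S.X₂.obj (op n)) (hx : x ≫ S.g.app (op n) = 0) :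
    ∃ (T' : C) (π : T' ⟶ T) (_ : Epi π) (y : T' ⟶ S.X₁.obj (op n)),
      π ≫ x = y ≫ S.f.app (op n) :=
  (evalSE S hS n).exact.exact_up_to_refinements x hx

lemma zero_app (S : ShortComplex (PS C)) (n : ℕ) :
    S.f.app (op n) ≫ S.g.app (op n) = 0 := by
  rw [← NatTrans.comp_app, S.zero]; rfl

lemma imageSubobject_epi_comp {T A X : C} (π : T ⟶ A) [Epi π] (f : A ⟶ X) :
    imageSubobject (π ≫ f) = imageSubobject f := by
  refine le_antisymm (imageSubobject_comp_le π f) ?_
  have : IsIso (Subobject.ofLE _ _ (imageSubobject_comp_le π f)) :=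
    isIso_of_mono_of_epi _
  exact Subobject.le_of_comm (inv (Subobject.ofLE _ _ (imageSubobject_comp_le π f)))
    (by rw [IsIso.inv_comp_eq, Subobject.ofLE_arrow])

lemma imageSubobject_le_iff {A B X : C} (f : A ⟶ X) (g : B ⟶ X) :
    imageSubobject f ≤ imageSubobject g ↔
      ∃ (T : C) (π : T ⟶ A) (_ : Epi π) (b : T ⟶ B), π ≫ f = b ≫ g := by
  constructor
  · intro h
    obtain ⟨T, π, hπ, b, hb⟩ := surjective_up_to_refinements_of_epi
      (factorThruImageSubobject g) (factorThruImageSubobject f ≫ Subobject.ofLE _ _ h)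
    refine ⟨T, π, hπ, b, ?_⟩
    have := congrArg (· ≫ (imageSubobject g).arrow) hb
    simpa only [Category.assoc, Subobject.ofLE_arrow, imageSubobject_arrow_comp] using this
  · rintro ⟨T, π, hπ, b, h⟩
    rw [← imageSubobject_epi_comp π f, h]
    exact imageSubobject_comp_le b g

lemma imageSubobject_comp_mono {A B X Z : C} (a : A ⟶ X) (b : B ⟶ X) (g : X ⟶ Z)
    (h : imageSubobject a ≤ imageSubobject b) :
    imageSubobject (a ≫ g) ≤ imageSubobject (b ≫ g) := by
  rw [imageSubobject_le_iff] at h ⊢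
  obtain ⟨T, π, hπ, c, hc⟩ := h
  exact ⟨T, π, hπ, c, by rw [← Category.assoc, hc, Category.assoc]⟩

lemma imageSubobject_comp_congr {A B X Z : C} (a : A ⟶ X) (b : B ⟶ X) (g : X ⟶ Z)
    (h : imageSubobject a = imageSubobject b) :
    imageSubobject (a ≫ g) = imageSubobject (b ≫ g) :=
  le_antisymm (imageSubobject_comp_mono a b g h.le) (imageSubobject_comp_mono b a g h.ge)

lemma isMLAR_iff (X : PS C) : IsMLAR X ↔ ∃ r : ℕ, ∀ s : ℕ, r ≤ s → ∀ n : ℕ,
    imageSubobject (tr X (Nat.le_add_right n s)) = imageSubobject (tr X (Nat.le_add_right n r)) :=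
  Iff.rfl

lemma imageSubobject_tr_cast (X : PS C) {n k k' : ℕ} (hk : k = k') (h : n ≤ k) (h' : n ≤ k') :
    imageSubobject (tr X h) ≤ imageSubobject (tr X h') := by
  subst hk; exact le_rfl

lemma isARNull_of_isZero (K : PS C) (hK : IsZero K) : IsARNull K := by
  refine (isARNull_iff K).2 ⟨0, fun n => ?_⟩
  have h1 : (𝟙 K : K ⟶ K) = 0 := hK.eq_of_src _ _
  have h2 : 𝟙 (K.obj (op n)) = 0 := by
    have := congrArg (fun φ => φ.app (op n)) h1
    simpa using this
  rw [← Category.comp_id (tr K _), h2, comp_zero]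

lemma mlar_general (X : PS C) (r : ℕ)
    (hr : ∀ s : ℕ, r ≤ s → ∀ n : ℕ, imageSubobject (tr X (Nat.le_add_right n s)) =
      imageSubobject (tr X (Nat.le_add_right n r)))
    {n m m' : ℕ} (h : n + r ≤ m) (h' : n + r ≤ m') :
    imageSubobject (tr X (le_trans (Nat.le_add_right n r) h)) =
      imageSubobject (tr X (le_trans (Nat.le_add_right n r) h')) := by
  have key : ∀ {m : ℕ} (h : n + r ≤ m),
      imageSubobject (tr X (le_trans (Nat.le_add_right n r) h)) =
        imageSubobject (tr X (Nat.le_add_right n r)) := by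
    intro m h
    rw [← hr (m - n) (by omega) n]
    exact le_antisymm (imageSubobject_tr_cast X (by omega) _ _)
      (imageSubobject_tr_cast X (by omega) _ _)
  rw [key h, key h']

lemma lift_of_imageSubobject_le {A B X T : C} (f : A ⟶ X) (g : B ⟶ X)
    (h : imageSubobject f ≤ imageSubobject g) (t : T ⟶ A) :
    ∃ (T' : C) (π : T' ⟶ T) (_ : Epi π) (b : T' ⟶ B), π ≫ t ≫ f = b ≫ g := by
  obtain ⟨T₀, π₀, hπ₀, c, hc⟩ := (imageSubobject_le_iff f g).1 h
  obtain ⟨T', π, hπ, t', ht'⟩ := surjective_up_to_refinements_of_epi π₀ t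
  exact ⟨T', π, hπ, t' ≫ c, by rw [← Category.assoc, ht', Category.assoc, hc, Category.assoc]⟩

theorem mlar_forward' (X : PS C) (r : ℕ)
    (hr : ∀ s : ℕ, r ≤ s → ∀ n : ℕ, imageSubobject (tr X (Nat.le_add_right n s)) =
      imageSubobject (tr X (Nat.le_add_right n r))) :
    ∃ (Y : PS C) (u : Y ⟶ X), (Mono u ∧ ∀ n : ℕ, imageSubobject (u.app (op n)) =
      imageSubobject (tr X (Nat.le_add_right n r))) ∧ IsStrict Y ∧ IsARIso u := by
  let φ := shiftNat X r
  have key : ∃ e : ∀ k, X.obj (op (k + r)) ⟶ (image φ).obj (op k), (∀ k, Epi (e k)) ∧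
      (∀ k, e k ≫ (image.ι φ).app (op k) = tr X (Nat.le_add_right k r)) ∧
      (∀ n m (hnm : n ≤ m), e m ≫ tr (image φ) hnm = tr X (Nat.add_le_add_right hnm r) ≫ e n) :=
    ⟨fun k => (factorThruImage φ).app (op k),
      fun k => (inferInstance : Epi ((factorThruImage φ).app (op k))),
      fun k => congrArg (fun f : (shift C r).obj X ⟶ X => f.app (op k)) (image.fac φ),
      fun n m hnm => ((factorThruImage φ).naturality (homOfLE hnm).op).symm⟩
  obtain ⟨e, he, hfac, hnat⟩ := key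
  have hu : ∀ k, Mono ((image.ι φ).app (op k)) := fun k => inferInstance
  refine ⟨Limits.image φ, Limits.image.ι φ, ⟨inferInstance, fun n => ?_⟩, ?_, ?_, ?_⟩
  · have := he n
    rw [← hfac n, imageSubobject_epi_comp]
  · intro n m hnm
    suffices Epi (tr X (Nat.add_le_add_right hnm r) ≫ e n) by
      rw [← hnat] at this
      exact epi_of_epi (e m) _
    have hle : imageSubobject (e n ≫ (image.ι φ).app (op n)) ≤
        imageSubobject ((tr X (Nat.add_le_add_right hnm r) ≫ e n) ≫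
          (image.ι φ).app (op n)) := by
      rw [Category.assoc, hfac, tr_comp]
      have := hr (m + r - n) (by omega) n
      rw [← this]
      exact imageSubobject_tr_cast X (by omega) _ _
    obtain ⟨T, π, hπ, b, hb⟩ := (imageSubobject_le_iff _ _).1 hle
    rw [← Category.assoc, ← Category.assoc, cancel_mono] at hb
    have h3 : Epi (b ≫ tr X (Nat.add_le_add_right hnm r) ≫ e n) := by
      rw [← hb]; exact epi_comp _ _
    exact epi_of_epi b _
  · exact isARNull_of_isZero _ (isZero_kernel_of_mono _)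
  · refine (isARNull_iff _).2 ⟨r, fun n => ?_⟩
    have hc : Epi ((cokernel.π (image.ι φ)).app (op (n + r))) := inferInstance
    rw [← cancel_epi ((cokernel.π (image.ι φ)).app (op (n + r))), comp_zero, ← tr_naturality,
      ← hfac, Category.assoc, ← NatTrans.comp_app, cokernel.condition]
    exact comp_zero

theorem mlar_forward (X : PS C) (h : IsMLAR X) :
    ∃ (Y : PS C) (u : Y ⟶ X), IsStrict Y ∧ IsARIso u := by
  obtain ⟨r, hr⟩ := (isMLAR_iff X).1 h
  obtain ⟨Y, u, -, h2⟩ := mlar_forward' X r hr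
  exact ⟨Y, u, h2⟩

theorem image_tr_le_of_coker_null (X Y : PS C) (u : Y ⟶ X) (r : ℕ)
    (hr : ∀ n : ℕ, tr (cokernel u) (Nat.le_add_right n r) = 0) (s : ℕ) (hs : r ≤ s) (n : ℕ) :
    imageSubobject (tr X (Nat.le_add_right n s)) ≤ imageSubobject (u.app (op n)) := by
  rw [imageSubobject_le_iff]
  let S := ShortComplex.mk u (cokernel.π u) (cokernel.condition u)
  have hS : S.Exact := ShortComplex.exact_of_g_is_cokernel _ (cokernelIsCokernel u)
  have hSn : (S.map ((evaluation ℕᵒᵖ C).obj (op n))).Exact := hS.map _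
  have h0 : tr X (Nat.le_add_right n s) ≫ (cokernel.π u).app (op n) = 0 := by
    rw [tr_naturality]
    have : tr (cokernel u) (Nat.le_add_right n s) = 0 :=
      tr_eq_zero_of_le _ r hr (by omega)
    rw [this, comp_zero]
  obtain ⟨T, π, hπ, y, hy⟩ := hSn.exact_up_to_refinements (tr X (Nat.le_add_right n s)) h0
  exact ⟨T, π, hπ, y, hy⟩

theorem image_tr_eq_of_strict (X Y : PS C) (u : Y ⟶ X) (hY : IsStrict Y) (r : ℕ)
    (hr : ∀ n : ℕ, tr (cokernel u) (Nat.le_add_right n r) = 0) (s : ℕ) (hs : r ≤ s) (n : ℕ) :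
    imageSubobject (tr X (Nat.le_add_right n s)) = imageSubobject (u.app (op n)) := by
  apply le_antisymm (image_tr_le_of_coker_null X Y u r hr s hs n)
  rw [imageSubobject_le_iff]
  have := hY n (n + s) (Nat.le_add_right n s)
  exact ⟨_, tr Y (Nat.le_add_right n s), this, u.app (op (n + s)), tr_naturality u _⟩

theorem mlar_backward (X Y : PS C) (u : Y ⟶ X) (hY : IsStrict Y)
    (hQ : IsARNull (cokernel u)) : IsMLAR X := by
  obtain ⟨r, hr⟩ := (isARNull_iff _).1 hQ
  refine (isMLAR_iff X).2 ⟨r, fun s hs n => ?_⟩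
  rw [image_tr_eq_of_strict X Y u hY r hr s hs n, image_tr_eq_of_strict X Y u hY r hr r le_rfl n]

lemma isARNull_of_epi {K K' : PS C} (p : K ⟶ K') [Epi p] (h : IsARNull K) : IsARNull K' := by
  obtain ⟨r, hr⟩ := (isARNull_iff K).1 h
  refine (isARNull_iff K').2 ⟨r, fun n => ?_⟩
  have : Epi (p.app (op (n + r))) := inferInstance
  rw [← cancel_epi (p.app (op (n + r))), comp_zero, ← tr_naturality, hr, zero_comp]

lemma isARNull_of_mono {K K' : PS C} (p : K ⟶ K') [Mono p] (h : IsARNull K') : IsARNull K := by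
  obtain ⟨r, hr⟩ := (isARNull_iff K').1 h
  refine (isARNull_iff K).2 ⟨r, fun n => ?_⟩
  have : Mono (p.app (op n)) := inferInstance
  rw [← cancel_mono (p.app (op n)), zero_comp, tr_naturality, hr, comp_zero]

/-- if `s ≫ u = v` with `s` epi and `v` an AR-isomorphism, then `u` is an AR-isomorphism -/
lemma isARIso_of_epi_comp {X Y Z : PS C} (s : X ⟶ Y) [Epi s] (u : Y ⟶ Z) (v : X ⟶ Z)
    (h : s ≫ u = v) (hv : IsARIso v) : IsARIso u := by
  constructor
  · have w : (kernel.ι v ≫ s) ≫ u = 0 := by rw [Category.assoc, h, kernel.condition]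
    have : Epi (kernel.lift u (kernel.ι v ≫ s) w) := by
      rw [epi_iff_surjective_up_to_refinements]
      intro T t
      obtain ⟨T', π, hπ, y, hy⟩ := surjective_up_to_refinements_of_epi s (t ≫ kernel.ι u)
      have hy0 : y ≫ v = 0 := by
        rw [← h, ← Category.assoc, ← hy, Category.assoc, Category.assoc, kernel.condition,
          comp_zero, comp_zero]
      refine ⟨T', π, hπ, kernel.lift v y hy0, ?_⟩
      rw [← cancel_mono (kernel.ι u), Category.assoc, Category.assoc, kernel.lift_ι,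
        kernel.lift_ι_assoc, hy]
    exact isARNull_of_epi (kernel.lift u (kernel.ι v ≫ s) w) hv.1
  · have w : v ≫ cokernel.π u = 0 := by rw [← h, Category.assoc, cokernel.condition, comp_zero]
    have : Epi (cokernel.desc v (cokernel.π u) w) :=
      epi_of_epi_fac (cokernel.π_desc v (cokernel.π u) w)
    exact isARNull_of_epi (cokernel.desc v (cokernel.π u) w) hv.2

instance shift_additive (r : ℕ) : (shift C r).Additive :=
  inferInstanceAs ((Functor.whiskeringLeft ℕᵒᵖ ℕᵒᵖ C).obj (addF r).op).Additive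

instance shift_preservesFiniteLimits (r : ℕ) : PreservesFiniteLimits (shift C r) :=
  inferInstanceAs (PreservesFiniteLimits ((Functor.whiskeringLeft ℕᵒᵖ ℕᵒᵖ C).obj (addF r).op))

instance shift_preservesFiniteColimits (r : ℕ) : PreservesFiniteColimits (shift C r) :=
  inferInstanceAs (PreservesFiniteColimits ((Functor.whiskeringLeft ℕᵒᵖ ℕᵒᵖ C).obj (addF r).op))

lemma shiftNat_eq_zero_of_isARNull (K : PS C) (r : ℕ)
    (hr : ∀ n : ℕ, tr K (Nat.le_add_right n r) = 0) : shiftNat K r = 0 := by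
  ext ⟨n⟩
  exact hr n

/-- An AR-isomorphism has an inverse up to translation. -/
theorem exists_inverse_up_to_shift {X Y : PS C} (u : X ⟶ Y) (r₁ r₂ : ℕ)
    (h₁ : shiftNat (kernel u) r₁ = 0) (h₂ : shiftNat (cokernel u) r₂ = 0) :
    ∃ w : (shift C r₁).obj ((shift C r₂).obj Y) ⟶ X,
      w ≫ u = (shift C r₁).map (shiftNat Y r₂) ≫ shiftNat Y r₁ ∧
      (shift C r₁).map ((shift C r₂).map u) ≫ w =
        (shift C r₁).map (shiftNat X r₂) ≫ shiftNat X r₁ := by
  let m := Abelian.image.ι u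
  let e := Abelian.factorThruImage u
  have hem : e ≫ m = u := Abelian.image.fac u
  -- step a
  have wa : shiftNat Y r₂ ≫ cokernel.π u = 0 := by
    rw [shiftNat_naturality, h₂, comp_zero]
  let a : (shift C r₂).obj Y ⟶ Abelian.image u := kernel.lift (cokernel.π u) (shiftNat Y r₂) wa
  have ha : a ≫ m = shiftNat Y r₂ := kernel.lift_ι _ _ _
  -- step b
  have wS : kernel.ι u ≫ e = 0 := by
    rw [← cancel_mono m, Category.assoc, hem, kernel.condition, zero_comp]
  let S := ShortComplex.mk (kernel.ι u) e wS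
  have hS : S.Exact := by
    rw [ShortComplex.exact_iff_exact_up_to_refinements]
    intro T x hx
    have hx' : x ≫ u = 0 := by
      have hx'' : x ≫ e = 0 := hx
      rw [← hem, ← Category.assoc, hx'', zero_comp]
    exact ⟨T, 𝟙 T, inferInstance, kernel.lift u x hx', by
      rw [Category.id_comp]; exact (kernel.lift_ι u x hx').symm⟩
  have hSF : (S.map (shift C r₁)).Exact := hS.map _
  have : Epi (S.map (shift C r₁)).g := by
    show Epi ((shift C r₁).map e)
    infer_instance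
  have wb : (S.map (shift C r₁)).f ≫ shiftNat X r₁ = 0 := by
    show (shift C r₁).map (kernel.ι u) ≫ shiftNat X r₁ = 0
    rw [← shiftNat_naturality, h₁, zero_comp]
  let b : (shift C r₁).obj (Abelian.image u) ⟶ X := hSF.desc (shiftNat X r₁) wb
  have hb : (shift C r₁).map e ≫ b = shiftNat X r₁ := hSF.g_desc _ _
  have hbe : b ≫ e = shiftNat (Abelian.image u) r₁ := by
    have : Epi ((shift C r₁).map e) := by infer_instance
    rw [← cancel_epi ((shift C r₁).map e), ← Category.assoc, hb, shiftNat_naturality]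
  refine ⟨(shift C r₁).map a ≫ b, ?_, ?_⟩
  · have hbu : b ≫ u = shiftNat (Abelian.image u) r₁ ≫ m := by
      have h3 : (b ≫ e) ≫ m = b ≫ u := (Category.assoc _ _ _).trans (congrArg (b ≫ ·) hem)
      rw [← h3, hbe]
    rw [Category.assoc, hbu, shiftNat_naturality, ← Category.assoc,
      ← Functor.map_comp, ha]
  · have h1 : (shift C r₂).map u ≫ a = shiftNat X r₂ ≫ e := by
      rw [← cancel_mono m, Category.assoc, ha, ← shiftNat_naturality, Category.assoc]
      exact congrArg (shiftNat X r₂ ≫ ·) hem.symm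
    rw [← Category.assoc, ← Functor.map_comp, h1, Functor.map_comp, Category.assoc, hb]

theorem isIso_limMap_of_isARIso [HasLimitsOfShape ℕᵒᵖ C] {X Y : PS C} (u : X ⟶ Y)
    (hu : IsARIso u) : IsIso (limMap u) := by
  obtain ⟨r₁, h₁⟩ := (isARNull_iff _).1 hu.1
  obtain ⟨r₂, h₂⟩ := (isARNull_iff _).1 hu.2
  obtain ⟨w, hw1, hw2⟩ := exists_inverse_up_to_shift u r₁ r₂
    (shiftNat_eq_zero_of_isARNull _ _ h₁) (shiftNat_eq_zero_of_isARNull _ _ h₂)
  have key : ∀ Z : PS C, limPre Z r₂ ≫ limPre ((shift C r₂).obj Z) r₁ ≫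
      limMap ((shift C r₁).map (shiftNat Z r₂) ≫ shiftNat Z r₁) = 𝟙 _ := by
    intro Z
    rw [← shiftNat_naturality, limMap_comp', ← Category.assoc (limPre _ r₁), limPre_shift,
      Category.id_comp, limPre_shift]
  refine ⟨limPre Y r₂ ≫ limPre ((shift C r₂).obj Y) r₁ ≫ limMap w, ?_, ?_⟩
  · rw [← Category.assoc, limMap_limPre, Category.assoc, ← Category.assoc (limMap _),
      limMap_limPre, Category.assoc, ← limMap_comp', hw2]
    exact key X
  · rw [Category.assoc, Category.assoc, ← limMap_comp', hw1]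
    exact key Y

end Abelian

end Groth.Agent.Lib27.ARSys
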