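import Groth.Agent.Lib27.ARAbel
import Groth.Agent.S8639

/-! Extensions of systems that are adic up to translation (helper27). -/

set_option autoImplicit false
set_option linter.unusedSectionVars false
open CategoryTheory CategoryTheory.Limits Opposite
universe w v u

namespace Groth.Agent.Lib27.ARSys

open _root_.ARSys Groth.Agent.Lib27.PElem Groth.Agent.Lib27.NoethSerre

variable {C : Type u} [Category.{v} C] [Abelian C] {A : Type w} [CommRing A] [Linear A C]

/-- being adic up to translation descends along an isomorphism up to translation whose source is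
termwise killed -/
theorem isARAdic_of_isARIso_src (J : Ideal A) (hJ : J.FG ∨ HasCoproducts.{w} C) {K L : PS C}
    (w : K ⟶ L) (hw : IsARIso w) (hK : TermKilled J K) (hL : IsARAdic J L) : IsARAdic J K := by
  obtain ⟨-, N, g, hN, hg⟩ := hL
  obtain ⟨g', hg', -⟩ := existsUnique_lift_of_isARIso J hJ hN hK w hw g
  refine ⟨hK, N, g', hN, isARIso_of_postcomp g' w hw ?_⟩
  rw [hg']
  exact hg

/-- being adic up to translation ascends along an isomorphism up to translation whose target is
termwise killed -/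
theorem isARAdic_of_isARIso_tgt (J : Ideal A) {K L : PS C}
    (w : K ⟶ L) (hw : IsARIso w) (hL : TermKilled J L) (hK : IsARAdic J K) : IsARAdic J L := by
  obtain ⟨-, N, g, hN, hg⟩ := hK
  exact ⟨hL, N, g ≫ w, hN, isARIso_comp g w hg hw⟩

/-- extension of an adic system by a system adic up to translation, strict middle term -/
theorem isARAdic_X₂_of_strict (J : Ideal A) (hJ : J.FG ∨ HasCoproducts.{w} C)
    (S : ShortComplex (PS C)) (hS : S.ShortExact)
    (k₂ : TermKilled J S.X₂) (h₂ : IsStrict S.X₂) (h₁ : IsARAdic J S.X₁) (h₃ : IsAdic J S.X₃) :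
    IsARAdic J S.X₂ := by
  have hs₁ : IsStrict S.X₁ := Groth.Agent.S3153.result J hJ S hS k₂ h₂ h₃
  have k₁ : TermKilled J S.X₁ := h₁.1
  obtain ⟨r, hr, hF⟩ := (isARAdic_iff_fker J hJ S.X₁ hs₁ k₁).1 h₁
  refine (isARAdic_iff_fker J hJ S.X₂ h₂ k₂).2 ⟨r, hr, fun n W φ hφ => ?_⟩
  cases n with
  | zero =>
    have : φ = 0 := eq_zero_of_homKilledBy_pow_zero J φ (by simpa using hφ)
    rw [this, comp_zero]
  | succ k =>
    change (kernelSubobject (tr S.X₂ (Nat.le_succ k))).arrow ≫ φ = 0
    obtain ⟨G⟩ := nonempty_genFam (C := C) J hJ (k + 1)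
    have hm := mono_app S hS
    have he := epi_app S hS
    set y := (kernelSubobject (tr S.X₂ (Nat.le_succ k))).arrow with hy
    have hy0 : y ≫ tr S.X₂ (Nat.le_succ k) = 0 := kernelSubobject_arrow_comp _
    have q₃ := h₃.2 k (k + 1) (Nat.le_succ k)
    have hc : (y ≫ S.g.app (op (k + 1))) ≫ tr S.X₃ (Nat.le_succ k) = 0 := by
      rw [Category.assoc, ← tr_naturality, ← Category.assoc, hy0, zero_comp]
    obtain ⟨T₂, π₂, hπ₂, x, hx⟩ := G.exact_up_to_refinements q₃ _ hc
    have := he (k + 1)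
    obtain ⟨T₃, π₃, hπ₃, y', hy'⟩ :=
      surjective_up_to_refinements_of_epi (G.map (S.g.app (op (k + 1)))) x
    have hσt : G.σ _ ≫ tr S.X₂ (Nat.le_succ k) = 0 :=
      (G.homKilledBy_iff _).1 (GenFam.homKilledBy_of_killedBy_tgt _ (k₂ k))
    have hk2 : (y' ≫ G.σ _) ≫ S.g.app (op (k + 1)) = π₃ ≫ π₂ ≫ y ≫ S.g.app (op (k + 1)) := by
      rw [Category.assoc, G.σ_naturality, ← Category.assoc, ← hy', Category.assoc, ← hx]
    have hd : (π₃ ≫ π₂ ≫ y - y' ≫ G.σ _) ≫ S.g.app (op (k + 1)) = 0 := by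
      rw [Preadditive.sub_comp, hk2, Category.assoc, Category.assoc, sub_self]
    obtain ⟨T₄, π₄, hπ₄, i, hi⟩ := exact_app_refine S hS (k + 1) _ hd
    have hi0 : i ≫ tr S.X₁ (Nat.le_succ k) = 0 := by
      have := hm k
      rw [← cancel_mono (S.f.app (op k)), zero_comp, Category.assoc, tr_naturality,
        ← Category.assoc, ← hi]
      simp only [Category.assoc, Preadditive.sub_comp, Preadditive.comp_sub]
      rw [hy0, hσt]
      simp
    have hiφ : i ≫ S.f.app (op (k + 1)) ≫ φ = 0 := by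
      have h1 := hF (k + 1) W (S.f.app (op (k + 1)) ≫ φ) (homKilledBy_comp_left _ hφ)
      change (kernelSubobject (tr S.X₁ (Nat.le_succ k))).arrow ≫ _ = 0 at h1
      rw [← factorThruKernelSubobject_comp_arrow _ i hi0, Category.assoc, h1, comp_zero]
    have hσφ : G.σ _ ≫ φ = 0 :=
      (G.homKilledBy_iff φ).1 (homKilledBy_mono (Ideal.pow_le_pow_right (by omega)) hφ)
    have hfin : (π₄ ≫ π₃ ≫ π₂) ≫ y ≫ φ = 0 := by
      have h2 : π₄ ≫ π₃ ≫ π₂ ≫ y = i ≫ S.f.app (op (k + 1)) + π₄ ≫ y' ≫ G.σ _ := by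
        rw [← hi]
        simp only [Preadditive.comp_sub, Category.assoc]
        abel
      simp only [Category.assoc]
      rw [← Category.assoc π₂, ← Category.assoc π₃, ← Category.assoc π₄]
      simp only [Category.assoc] at h2 ⊢
      rw [reassoc_of% h2]
      simp only [Preadditive.add_comp, Category.assoc]
      rw [hiφ, hσφ]
      simp
    exact (cancel_epi (π₄ ≫ π₃ ≫ π₂)).1 (hfin.trans comp_zero.symm)

/-- a morphism to a strict system whose cokernel is null up to translation is an epimorphism -/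
lemma epi_of_isARNull_cokernel_of_isStrict {X Z : PS C} (g : X ⟶ Z) (hZ : IsStrict Z)
    (h : IsARNull (cokernel g)) : Epi g :=
  Preadditive.epi_of_isZero_cokernel g
    (isZero_of_isARNull_of_isStrict h (isStrict_of_epi (cokernel.π g) hZ))

/-- systems adic up to translation are closed under extensions with termwise killed middle term -/
theorem isARAdic_X₂_of_shortExact (J : Ideal A) (hJ : J.FG ∨ HasCoproducts.{w} C)
    (S : ShortComplex (PS C)) (hS : S.ShortExact)
    (k₂ : TermKilled J S.X₂) (h₁ : IsARAdic J S.X₁) (h₃ : IsARAdic J S.X₃) :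
    IsARAdic J S.X₂ := by
  have hM₂ : IsMLAR S.X₂ := Groth.Agent.S8639.result S hS (isMLAR_of_isARAdic J hJ _ h₁)
    (isMLAR_of_isARAdic J hJ _ h₃)
  obtain ⟨k₃, Z, u, hZ, hu⟩ := h₃
  have hZs : IsStrict Z := isStrict_of_isAdic J hJ Z hZ
  -- the pullback of the extension along `u`
  let P := pullback S.g u
  let p₁ : P ⟶ S.X₂ := pullback.fst S.g u
  let p₂ : P ⟶ Z := pullback.snd S.g u
  have hp₁ : IsARIso p₁ := isARIso_pullback_fst S.g u hu
  have kP : TermKilled J P := termKilled_pullback J S.g u k₂ hZ.1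
  have hMP : IsMLAR P := isMLAR_of_isARIso p₁ hp₁ hM₂
  obtain ⟨r, hr⟩ := (isMLAR_iff P).1 hMP
  obtain ⟨Y, v, ⟨hvm, -⟩, hYs, hv⟩ := mlar_forward' P r hr
  have kY : TermKilled J Y := termKilled_of_mono J v kP
  let ℓ : S.X₁ ⟶ P := pullback.lift S.f 0 (by rw [S.zero, zero_comp])
  have hℓ₁ : ℓ ≫ p₁ = S.f := pullback.lift_fst _ _ _
  have hℓ₂ : ℓ ≫ p₂ = 0 := pullback.lift_snd _ _ _
  have : Mono S.f := hS.mono_f
  have : Epi S.g := hS.epi_g
  have hℓm : Mono ℓ := mono_of_mono_fac hℓ₁
  let K := pullback v ℓ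
  let κ₁ : K ⟶ Y := pullback.fst v ℓ
  let κ₂ : K ⟶ S.X₁ := pullback.snd v ℓ
  have hκ₂ : IsARIso κ₂ := isARIso_pullback_snd v ℓ hv
  have hκ₁m : Mono κ₁ := inferInstance
  have kK : TermKilled J K := termKilled_of_mono J κ₁ kY
  have hK : IsARAdic J K := isARAdic_of_isARIso_src J hJ κ₂ hκ₂ kK h₁
  let g' : Y ⟶ Z := v ≫ p₂
  have hp₂ : Epi p₂ := inferInstance
  have hg' : Epi g' := by
    apply epi_of_isARNull_cokernel_of_isStrict _ hZs
    let c : cokernel v ⟶ cokernel g' := cokernel.desc v (p₂ ≫ cokernel.π g')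
      (by rw [← Category.assoc, cokernel.condition])
    have : Epi c := by
      have : Epi (cokernel.π v ≫ c) := by rw [cokernel.π_desc]; exact epi_comp _ _
      exact epi_of_epi (cokernel.π v) c
    exact isARNull_of_epi c hv.2
  have w' : κ₁ ≫ g' = 0 := by
    change κ₁ ≫ v ≫ p₂ = 0
    rw [← Category.assoc, pullback.condition, Category.assoc, hℓ₂, comp_zero]
  let S' := ShortComplex.mk κ₁ g' w'
  have hS' : S'.ShortExact := by
    refine ShortComplex.ShortExact.mk' ?_ hκ₁m hg'
    rw [ShortComplex.exact_iff_exact_up_to_refinements]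
    intro T x hx
    change x ≫ v ≫ p₂ = 0 at hx
    have h1 : (x ≫ v ≫ p₁) ≫ S.g = 0 := by
      rw [Category.assoc, Category.assoc, pullback.condition, ← Category.assoc v,
        ← Category.assoc x, hx, zero_comp]
    obtain ⟨T', π, hπ, x₁, hx₁⟩ := hS.exact.exact_up_to_refinements _ h1
    have h2 : (π ≫ x) ≫ v = x₁ ≫ ℓ := by
      apply pullback.hom_ext
      · rw [Category.assoc, Category.assoc, Category.assoc, hℓ₁]
        exact hx₁
      · rw [Category.assoc, Category.assoc, Category.assoc, hℓ₂, comp_zero]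
        change π ≫ x ≫ v ≫ p₂ = 0
        rw [hx, comp_zero]
    exact ⟨T', π, hπ, pullback.lift (π ≫ x) x₁ h2, (pullback.lift_fst _ _ _).symm⟩
  have hY : IsARAdic J Y := isARAdic_X₂_of_strict J hJ S' hS' kY hYs hK hZ
  exact isARAdic_of_isARIso_tgt J (v ≫ p₁) (isARIso_comp v p₁ hv hp₁) k₂ hY

/-- componentwise Noetherian middle term of a short exact sequence of systems -/
lemma isNoetherianObject_X₂_app (S : ShortComplex (PS C)) (hS : S.ShortExact)
    (h₁ : ∀ n : ℕ, IsNoetherianObject (S.X₁.obj (op n)))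
    (h₃ : ∀ n : ℕ, IsNoetherianObject (S.X₃.obj (op n))) (n : ℕ) :
    IsNoetherianObject (S.X₂.obj (op n)) := by
  have i₁ : IsNoetherianObject (S.map ((evaluation ℕᵒᵖ C).obj (op n))).X₁ := h₁ n
  have i₃ : IsNoetherianObject (S.map ((evaluation ℕᵒᵖ C).obj (op n))).X₃ := h₃ n
  exact isNoetherianObject.is_of_prop
    ((isNoetherianObject (C := C)).prop_X₂_of_shortExact (evalSE S hS n)
      (isNoetherianObject.prop_of_is _) (isNoetherianObject.prop_of_is _))

/-- componentwise Artinian middle term of a short exact sequence of systems -/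
lemma isArtinianObject_X₂_app (S : ShortComplex (PS C)) (hS : S.ShortExact)
    (h₁ : ∀ n : ℕ, IsArtinianObject (S.X₁.obj (op n)))
    (h₃ : ∀ n : ℕ, IsArtinianObject (S.X₃.obj (op n))) (n : ℕ) :
    IsArtinianObject (S.X₂.obj (op n)) := by
  have i₁ : IsArtinianObject (S.map ((evaluation ℕᵒᵖ C).obj (op n))).X₁ := h₁ n
  have i₃ : IsArtinianObject (S.map ((evaluation ℕᵒᵖ C).obj (op n))).X₃ := h₃ n
  exact isArtinianObject.is_of_prop
    ((isArtinianObject (C := C)).prop_X₂_of_shortExact (evalSE S hS n)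
      (isArtinianObject.prop_of_is _) (isArtinianObject.prop_of_is _))

/-- the identity is an isomorphism up to translation -/
lemma isARIso_id (X : PS C) : IsARIso (𝟙 X) :=
  ⟨isARNull_of_isZero _ (isZero_kernel_of_mono _), isARNull_of_isZero _ (isZero_cokernel_of_epi _)⟩

lemma isARAdic_of_isAdic (J : Ideal A) (X : PS C) (hX : IsAdic J X) : IsARAdic J X :=
  ⟨hX.1, X, 𝟙 X, hX, isARIso_id X⟩

/-- four term exact sequence version -/
theorem isARAdic_of_four_term (J : Ideal A) (hJ : J.FG ∨ HasCoproducts.{w} C)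
    {T X Y Z : PS C} (a : T ⟶ X) (b : X ⟶ Y) (c : Y ⟶ Z) [Mono a] [Epi c]
    (wab : a ≫ b = 0) (wbc : b ≫ c = 0)
    (hab : (ShortComplex.mk a b wab).Exact) (hbc : (ShortComplex.mk b c wbc).Exact)
    (hT : IsARNull T) (hX : IsAdic J X) (hY : TermKilled J Y)
    (hZ : IsAdic J Z) : IsARAdic J Y := by
  -- the image of `b`, as the kernel of `c`
  let b' : X ⟶ kernel c := kernel.lift c b wbc
  have hb' : b' ≫ kernel.ι c = b := kernel.lift_ι _ _ _
  have hb'epi : Epi b' := by
    rw [epi_iff_surjective_up_to_refinements]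
    intro W z
    have hz : (z ≫ kernel.ι c) ≫ c = 0 := by rw [Category.assoc, kernel.condition, comp_zero]
    obtain ⟨W', π, hπ, x, hx⟩ := hbc.exact_up_to_refinements _ hz
    refine ⟨W', π, hπ, x, ?_⟩
    rw [← cancel_mono (kernel.ι c), Category.assoc, Category.assoc, hb']
    exact hx
  have hker : IsARNull (kernel b') := by
    have h0 : kernel.ι b' ≫ b = 0 := by
      rw [← hb', ← Category.assoc, kernel.condition, zero_comp]
    let t : kernel b' ⟶ T := hab.lift (kernel.ι b') h0
    have ht : t ≫ a = kernel.ι b' := hab.lift_f _ _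
    have : Mono t := mono_of_mono_fac ht
    exact isARNull_of_mono t hT
  have hI : IsARAdic J (kernel c) :=
    ⟨termKilled_of_mono J (kernel.ι c) hY, X, b', hX, isARIso_of_epi b' hker⟩
  let S := ShortComplex.mk (kernel.ι c) c (kernel.condition c)
  have hS : S.ShortExact :=
    ShortComplex.ShortExact.mk' (ShortComplex.exact_of_f_is_kernel _ (kernelIsKernel c))
      (inferInstance : Mono (kernel.ι c)) ‹Epi c›
  exact isARAdic_X₂_of_shortExact J hJ S hS hY hI (isARAdic_of_isAdic J Z hZ)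

end Groth.Agent.Lib27.ARSys
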