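import Groth.Agent.Lib27.ARSys
import Mathlib.RingTheory.Finiteness.Ideal
import Mathlib.CategoryTheory.Limits.Shapes.FiniteProducts

/-! `I · X` in a linear abelian category, via a generating family (helper27). -/

set_option autoImplicit false
set_option linter.unusedSectionVars false
open CategoryTheory CategoryTheory.Limits Opposite
universe w v u

namespace Groth.Agent.Lib27.ARSys

open _root_.ARSys

variable {C : Type u} [Category.{v} C] [Abelian C] {A : Type w} [CommRing A] [Linear A C]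

/-- A generating family of the ideal `I`, indexed by a type for which coproducts exist. -/
structure GenFam (C : Type u) [Category.{v} C] {A : Type w} [CommRing A] (I : Ideal A) where
  ι : Type w
  a : ι → A
  span_eq : Ideal.span (Set.range a) = I
  has : HasCoproductsOfShape ι C

lemma nonempty_genFam (J : Ideal A) (hJ : J.FG ∨ HasCoproducts.{w} C) (p : ℕ) :
    Nonempty (GenFam C (J ^ p)) := by
  rcases hJ with hJ | hJ
  · obtain ⟨s, hs⟩ := Ideal.FG.pow (n := p) hJ
    refine ⟨⟨↥s, Subtype.val, ?_, inferInstance⟩⟩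
    rw [Subtype.range_coe_subtype]
    exact hs
  · refine ⟨⟨↥(J ^ p : Ideal A), Subtype.val, ?_, hJ _⟩⟩
    rw [Subtype.range_coe_subtype]
    exact Ideal.span_eq _

namespace GenFam

variable {I : Ideal A} (G : GenFam C I)

lemma mem (i : G.ι) : G.a i ∈ I := by
  have h : G.a i ∈ Ideal.span (Set.range G.a) := Ideal.subset_span ⟨i, rfl⟩
  exact G.span_eq.le h

/-- the object `⨁_i X` -/
noncomputable def sum (X : C) : C :=
  haveI := G.has
  ∐ (fun _ : G.ι => X)

/-- the map `⨁_i X ⟶ X` given by the generators of `I` -/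
noncomputable def σ (X : C) : G.sum X ⟶ X :=
  haveI := G.has
  Sigma.desc (fun i => G.a i • 𝟙 X)

/-- the inclusions -/
noncomputable def inj (X : C) (i : G.ι) : X ⟶ G.sum X :=
  haveI := G.has
  Sigma.ι (fun _ : G.ι => X) i

@[reassoc (attr := simp)]
lemma inj_σ (X : C) (i : G.ι) : G.inj X i ≫ G.σ X = G.a i • 𝟙 X := by
  have := G.has
  exact Sigma.ι_desc _ _

lemma hom_ext {X Z : C} (f g : G.sum X ⟶ Z) (h : ∀ i, G.inj X i ≫ f = G.inj X i ≫ g) : f = g := by
  have := G.has
  exact Sigma.hom_ext _ _ h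

/-- functoriality of `⨁_i X` -/
noncomputable def map {X Y : C} (f : X ⟶ Y) : G.sum X ⟶ G.sum Y :=
  haveI := G.has
  Limits.Sigma.map (f := fun _ : G.ι => X) (g := fun _ : G.ι => Y) (fun _ => f)

@[reassoc (attr := simp)]
lemma inj_map {X Y : C} (f : X ⟶ Y) (i : G.ι) : G.inj X i ≫ G.map f = f ≫ G.inj Y i := by
  have := G.has
  exact Limits.Sigma.ι_map (f := fun _ : G.ι => X) (g := fun _ : G.ι => Y) (fun _ => f) i

instance {X Y : C} (f : X ⟶ Y) [Epi f] : Epi (G.map f) := by
  have := G.has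
  exact Limits.Sigma.map_epi (f := fun _ : G.ι => X) (g := fun _ : G.ι => Y) (fun _ => f)

@[reassoc]
lemma σ_naturality {X Y : C} (f : X ⟶ Y) : G.σ X ≫ f = G.map f ≫ G.σ Y := by
  apply G.hom_ext
  intro i
  rw [inj_σ_assoc, inj_map_assoc, inj_σ, Linear.smul_comp, Linear.comp_smul, Category.id_comp,
    Category.comp_id]

lemma homKilledBy_iff {X Z : C} (φ : X ⟶ Z) : HomKilledBy I φ ↔ G.σ X ≫ φ = 0 := by
  constructor
  · intro h
    apply G.hom_ext
    intro i
    rw [inj_σ_assoc, Linear.smul_comp, Category.id_comp, comp_zero]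
    exact h _ (G.mem i)
  · intro h a ha
    have ha' : a ∈ Ideal.span (Set.range G.a) := G.span_eq.ge ha
    clear ha
    induction ha' using Submodule.span_induction with
    | mem x hx =>
      obtain ⟨i, rfl⟩ := hx
      have := congrArg (G.inj X i ≫ ·) h
      simpa only [inj_σ_assoc, Linear.smul_comp, Category.id_comp, comp_zero] using this
    | zero => exact zero_smul _ _
    | add x y _ _ hx hy => rw [add_smul, hx, hy, add_zero]
    | smul c x _ hx => rw [smul_eq_mul, mul_smul, hx, smul_zero]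

lemma homKilledBy_of_killedBy_tgt {X Q : C} (p : X ⟶ Q) (hQ : KilledBy I Q) : HomKilledBy I p := by
  intro a ha
  rw [← Category.comp_id p, ← Linear.comp_smul, hQ a ha, comp_zero]

lemma homKilledBy_of_killedBy_src {X Q : C} (p : X ⟶ Q) (hX : KilledBy I X) : HomKilledBy I p := by
  intro a ha
  rw [← Category.id_comp p, ← Linear.smul_comp, hX a ha, zero_comp]

lemma σ_comp_of_isQuot {X Q : C} {p : X ⟶ Q} (hp : IsQuot I p) : G.σ X ≫ p = 0 :=
  (G.homKilledBy_iff p).1 (homKilledBy_of_killedBy_tgt p hp.1)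

lemma epi_of_isQuot {X Q : C} {p : X ⟶ Q} (hp : IsQuot I p) : Epi p := by
  constructor
  intro Z g h e
  have hk : HomKilledBy I (p ≫ g) := by
    intro a ha
    rw [← Linear.smul_comp, homKilledBy_of_killedBy_tgt p hp.1 a ha, zero_comp]
  obtain ⟨ψ, _, hu⟩ := hp.2 Z (p ≫ g) hk
  rw [hu g rfl, hu h e.symm]

/-- the short complex `⨁ X ⟶ X ⟶ Q` attached to a quotient map -/
noncomputable def sc {X Q : C} {p : X ⟶ Q} (hp : IsQuot I p) : ShortComplex C :=
  ShortComplex.mk (G.σ X) p (G.σ_comp_of_isQuot hp)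

lemma sc_exact {X Q : C} {p : X ⟶ Q} (hp : IsQuot I p) : (G.sc hp).Exact := by
  have := epi_of_isQuot hp
  apply ShortComplex.exact_of_g_is_cokernel
  refine CokernelCofork.IsColimit.ofπ _ _
    (fun {Z} g hg => (hp.2 Z g ((G.homKilledBy_iff g).2 hg)).choose)
    (fun {Z} g hg => (hp.2 Z g ((G.homKilledBy_iff g).2 hg)).choose_spec.1)
    (fun {Z} g hg m hm => (hp.2 Z g ((G.homKilledBy_iff g).2 hg)).choose_spec.2 m hm)

lemma exact_up_to_refinements {X Q : C} {p : X ⟶ Q} (hp : IsQuot I p) {T : C} (x : T ⟶ X)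
    (hx : x ≫ p = 0) :
    ∃ (T' : C) (π : T' ⟶ T) (_ : Epi π) (y : T' ⟶ G.sum X), π ≫ x = y ≫ G.σ X :=
  (G.sc_exact hp).exact_up_to_refinements x hx

lemma isQuot_of_exact {X Q : C} (p : X ⟶ Q) [Epi p] (w : G.σ X ≫ p = 0)
    (h : (ShortComplex.mk (G.σ X) p w).Exact) : IsQuot I p := by
  have hk : HomKilledBy I p := (G.homKilledBy_iff p).2 w
  refine ⟨fun a ha => ?_, fun Z φ hφ => ?_⟩
  · rw [← cancel_epi p, comp_zero, Linear.comp_smul, Category.comp_id]
    exact hk a ha
  · have hφ' : (ShortComplex.mk (G.σ X) p w).f ≫ φ = 0 := (G.homKilledBy_iff φ).1 hφ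
    have : Epi (ShortComplex.mk (G.σ X) p w).g := ‹Epi p›
    refine ⟨h.desc φ hφ', h.g_desc φ hφ', fun ψ hψ => ?_⟩
    rw [← cancel_epi p]
    exact hψ.trans (h.g_desc φ hφ').symm

end GenFam

lemma map_eq_tr (X : PS C) {a b : ℕᵒᵖ} (φ : a ⟶ b) :
    X.map φ = tr X (leOfHom φ.unop) := map_congr X _ _

/-- Factorization of `f : X[r] ⟶ Y` through `X[r] ⟶ X` for `X` adic and `Y` term-killed. -/
theorem exists_factor (J : Ideal A) (X Y : PS C) (hX : IsAdic J X) (hY : TermKilled J Y) (r : ℕ)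
    (f : (shift C r).obj X ⟶ Y) : ∃ g : X ⟶ Y, shiftNat X r ≫ g = f := by
  obtain ⟨f', hf'nat, hf'eq⟩ : ∃ f' : ∀ n, X.obj (op (n + r)) ⟶ Y.obj (op n),
      (∀ n m (h : n ≤ m), f' m ≫ tr Y h = tr X (Nat.add_le_add_right h r) ≫ f' n) ∧
      (∀ n, f.app (op n) = f' n) :=
    ⟨fun n => f.app (op n), fun n m h => (f.naturality (homOfLE h).op).symm, fun n => rfl⟩
  have hq : ∀ n, IsQuot (J ^ (n + 1)) (tr X (Nat.le_add_right n r)) := fun n => hX.2 n _ _
  have hepi : ∀ n, Epi (tr X (Nat.le_add_right n r)) := fun n => GenFam.epi_of_isQuot (hq n)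
  have hf : ∀ n, ∃ g : X.obj (op n) ⟶ Y.obj (op n), tr X (Nat.le_add_right n r) ≫ g = f' n :=
    fun n => ((hq n).2 _ (f' n)
      (GenFam.homKilledBy_of_killedBy_tgt _ (hY n))).exists
  choose g hg using hf
  have hnat : ∀ (n m : ℕ) (h : n ≤ m), tr X h ≫ g n = g m ≫ tr Y h := by
    intro n m h
    have := hepi m
    rw [← cancel_epi (tr X (Nat.le_add_right m r)), ← Category.assoc, tr_comp,
      ← Category.assoc, hg m, hf'nat n m h, ← hg n, ← Category.assoc, tr_comp]
  refine ⟨{ app := fun a => g a.unop, naturality := fun a b φ => ?_ }, ?_⟩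
  · rw [map_eq_tr, map_eq_tr]
    exact hnat _ _ _
  · ext ⟨n⟩
    exact (hg n).trans (hf'eq n).symm

lemma epi_shiftNat_of_isAdic (J : Ideal A) (Y : PS C) (hY : IsAdic J Y) (r : ℕ) :
    Epi (shiftNat Y r) := by
  have : ∀ a : ℕᵒᵖ, Epi ((shiftNat Y r).app a) := fun a =>
    GenFam.epi_of_isQuot (hY.2 a.unop _ (Nat.le_add_right a.unop r))
  exact NatTrans.epi_of_epi_app _

lemma termKilled_of_mono (J : Ideal A) {X Y : PS C} (f : X ⟶ Y) [Mono f] (hY : TermKilled J Y) :
    TermKilled J X := by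
  intro n a ha
  have : Mono (f.app (op n)) := inferInstance
  rw [← cancel_mono (f.app (op n)), zero_comp, Linear.smul_comp, Category.id_comp,
    ← Category.comp_id (f.app (op n)), ← Linear.comp_smul, hY n a ha, comp_zero]

lemma termKilled_of_epi (J : Ideal A) {X Y : PS C} (f : X ⟶ Y) [Epi f] (hX : TermKilled J X) :
    TermKilled J Y := by
  intro n a ha
  have : Epi (f.app (op n)) := inferInstance
  rw [← cancel_epi (f.app (op n)), comp_zero, Linear.comp_smul, Category.comp_id,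
    ← Category.id_comp (f.app (op n)), ← Linear.smul_comp, hX n a ha, zero_comp]

lemma termKilled_pullback (J : Ideal A) {X Y Z : PS C} (f : X ⟶ Z) (g : Y ⟶ Z)
    (hX : TermKilled J X) (hY : TermKilled J Y) : TermKilled J (pullback f g) := by
  intro n a ha
  have sq := (IsPullback.of_hasPullback f g).map ((evaluation ℕᵒᵖ C).obj (op n))
  apply sq.hom_ext
  · show (a • 𝟙 _) ≫ (pullback.fst f g).app (op n) = 0 ≫ (pullback.fst f g).app (op n)
    rw [zero_comp, Linear.smul_comp, Category.id_comp,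
      ← Category.comp_id ((pullback.fst f g).app (op n)), ← Linear.comp_smul, hX n a ha,
      comp_zero]
  · show (a • 𝟙 _) ≫ (pullback.snd f g).app (op n) = 0 ≫ (pullback.snd f g).app (op n)
    rw [zero_comp, Linear.smul_comp, Category.id_comp,
      ← Category.comp_id ((pullback.snd f g).app (op n)), ← Linear.comp_smul, hY n a ha,
      comp_zero]

end Groth.Agent.Lib27.ARSys
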