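import Groth.Agent.Lib27.ARSys
import Mathlib.CategoryTheory.Abelian.SerreClass.MorphismProperty

/-! AR-null systems form a Serre class; consequences for AR-isomorphisms (helper27). -/

set_option autoImplicit false
set_option linter.unusedSectionVars false
open CategoryTheory CategoryTheory.Limits Opposite
universe w v u

namespace Groth.Agent.Lib27.ARSys

open _root_.ARSys ZeroObject

variable {C : Type u} [Category.{v} C] [Abelian C]

theorem isARNull_of_shortExact (S : ShortComplex (PS C)) (hS : S.ShortExact)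
    (h₁ : IsARNull S.X₁) (h₃ : IsARNull S.X₃) : IsARNull S.X₂ := by
  obtain ⟨r₁, h₁⟩ := (isARNull_iff _).1 h₁
  obtain ⟨r₃, h₃⟩ := (isARNull_iff _).1 h₃
  refine (isARNull_iff _).2 ⟨r₁ + r₃, fun n => ?_⟩
  have hle : n + r₁ ≤ n + (r₁ + r₃) := by omega
  have hsplit : tr S.X₂ (Nat.le_add_right n (r₁ + r₃)) =
      tr S.X₂ hle ≫ tr S.X₂ (Nat.le_add_right n r₁) := by rw [tr_comp]
  rw [hsplit]
  have h0 : tr S.X₂ hle ≫ S.g.app (op (n + r₁)) = 0 := by
    rw [tr_naturality]
    have : tr S.X₃ hle = 0 := tr_eq_zero_of_le S.X₃ r₃ h₃ (n := n + r₁) (by omega)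
    rw [this, comp_zero]
  have hex' := (evalSE S hS (n + r₁)).exact
  have : Mono (S.map ((evaluation ℕᵒᵖ C).obj (op (n + r₁)))).f := mono_app S hS (n + r₁)
  obtain ⟨l, hl⟩ : ∃ l : S.X₂.obj (op (n + (r₁ + r₃))) ⟶ S.X₁.obj (op (n + r₁)),
      l ≫ S.f.app (op (n + r₁)) = tr S.X₂ hle :=
    ⟨hex'.lift (tr S.X₂ hle) h0, hex'.lift_f _ _⟩
  rw [← hl, Category.assoc, ← tr_naturality, ← Category.assoc, h₁ n, comp_zero, zero_comp]

/-- AR-null systems, as an object property. -/
def arNull : ObjectProperty (PS C) := fun X => IsARNull X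

instance : (arNull (C := C)).IsSerreClass where
  exists_zero := ⟨0, isZero_zero _, isARNull_of_isZero _ (isZero_zero _)⟩
  prop_of_mono f _ h := isARNull_of_mono f h
  prop_of_epi f _ h := isARNull_of_epi f h
  prop_X₂_of_shortExact hS h₁ h₃ := isARNull_of_shortExact _ hS h₁ h₃

lemma isARIso_iff {X Y : PS C} (u : X ⟶ Y) : IsARIso u ↔ arNull.isoModSerre u := Iff.rfl

lemma isARIso_comp {X Y Z : PS C} (f : X ⟶ Y) (g : Y ⟶ Z) (hf : IsARIso f) (hg : IsARIso g) :
    IsARIso (f ≫ g) :=
  (isARIso_iff _).2 (MorphismProperty.comp_mem _ f g hf hg)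

lemma isARIso_of_postcomp {X Y Z : PS C} (f : X ⟶ Y) (g : Y ⟶ Z) (hg : IsARIso g)
    (hfg : IsARIso (f ≫ g)) : IsARIso f :=
  (isARIso_iff _).2 (MorphismProperty.of_postcomp (W := arNull.isoModSerre) (W' := arNull.isoModSerre) f g
    ((isARIso_iff _).1 hg) ((isARIso_iff _).1 hfg))

lemma isARIso_of_precomp {X Y Z : PS C} (f : X ⟶ Y) (g : Y ⟶ Z) (hf : IsARIso f)
    (hfg : IsARIso (f ≫ g)) : IsARIso g :=
  (isARIso_iff _).2 (MorphismProperty.of_precomp (W := arNull.isoModSerre) (W' := arNull.isoModSerre) f g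
    ((isARIso_iff _).1 hf) ((isARIso_iff _).1 hfg))

lemma isARIso_of_mono {X Y : PS C} (f : X ⟶ Y) [Mono f] (h : IsARNull (cokernel f)) :
    IsARIso f := (isARIso_iff _).2 (arNull.isoModSerre_of_mono f h)

lemma isARIso_of_epi {X Y : PS C} (f : X ⟶ Y) [Epi f] (h : IsARNull (kernel f)) :
    IsARIso f := (isARIso_iff _).2 (arNull.isoModSerre_of_epi f h)

lemma isARIso_pullback_fst {X Y Z : PS C} (f : X ⟶ Z) (g : Y ⟶ Z) (hg : IsARIso g) :
    IsARIso (pullback.fst f g) :=
  (isARIso_iff _).2 (MorphismProperty.pullback_fst f g hg)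

lemma isARIso_pullback_snd {X Y Z : PS C} (f : X ⟶ Z) (g : Y ⟶ Z) (hf : IsARIso f) :
    IsARIso (pullback.snd f g) :=
  (isARIso_iff _).2 (MorphismProperty.pullback_snd f g hf)

lemma isARIso_shiftNat (X : PS C) (r : ℕ) : IsARIso (shiftNat X r) := by
  constructor
  · refine (isARNull_iff _).2 ⟨r, fun n => ?_⟩
    have : Mono ((kernel.ι (shiftNat X r)).app (op n)) := inferInstance
    rw [← cancel_mono ((kernel.ι (shiftNat X r)).app (op n)), zero_comp, tr_naturality]
    have h1 : tr ((shift C r).obj X) (Nat.le_add_right n r) =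
        (shiftNat X r).app (op (n + r)) := map_congr X _ _
    rw [h1]
    exact congrArg (fun φ => φ.app (op (n + r))) (kernel.condition (shiftNat X r))
  · refine (isARNull_iff _).2 ⟨r, fun n => ?_⟩
    have : Epi ((cokernel.π (shiftNat X r)).app (op (n + r))) := inferInstance
    rw [← cancel_epi ((cokernel.π (shiftNat X r)).app (op (n + r))), comp_zero,
      ← tr_naturality]
    have h1 : tr X (Nat.le_add_right n r) = (shiftNat X r).app (op n) := rfl
    rw [h1]
    exact congrArg (fun φ => φ.app (op n)) (cokernel.condition (shiftNat X r))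

lemma isARNull_shift (X : PS C) (r : ℕ) (h : IsARNull X) : IsARNull ((shift C r).obj X) := by
  obtain ⟨s, hs⟩ := (isARNull_iff _).1 h
  refine (isARNull_iff _).2 ⟨s, fun n => ?_⟩
  have h1 : tr ((shift C r).obj X) (Nat.le_add_right n s) =
      tr X (Nat.add_le_add_right (Nat.le_add_right n s) r) := rfl
  rw [h1]
  exact tr_eq_zero_of_le X s hs (n := n + r) (by omega)

lemma isARIso_shift_map {X Y : PS C} (u : X ⟶ Y) (r : ℕ) (h : IsARIso u) :
    IsARIso ((shift C r).map u) := by
  constructor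
  · have e : kernel ((shift C r).map u) ≅ (shift C r).obj (kernel u) :=
      (PreservesKernel.iso (shift C r) u).symm
    exact isARNull_of_mono e.hom (isARNull_shift _ r h.1)
  · have e : cokernel ((shift C r).map u) ≅ (shift C r).obj (cokernel u) :=
      (PreservesCokernel.iso (shift C r) u).symm
    exact isARNull_of_mono e.hom (isARNull_shift _ r h.2)

lemma isStrict_shift (X : PS C) (r : ℕ) (h : IsStrict X) : IsStrict ((shift C r).obj X) :=
  fun n m hnm => h (n + r) (m + r) (Nat.add_le_add_right hnm r)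

/-- The uniform Mittag-Leffler condition is invariant under AR-isomorphism (source side). -/
theorem isMLAR_of_isARIso {K X : PS C} (f : K ⟶ X) (hf : IsARIso f) (hX : IsMLAR X) :
    IsMLAR K := by
  obtain ⟨S, s, hS, hs⟩ := mlar_forward X hX
  obtain ⟨r₁, h₁⟩ := (isARNull_iff _).1 hf.1
  obtain ⟨r₂, h₂⟩ := (isARNull_iff _).1 hf.2
  obtain ⟨w, hw, -⟩ := exists_inverse_up_to_shift f r₁ r₂
    (shiftNat_eq_zero_of_isARNull _ _ h₁) (shiftNat_eq_zero_of_isARNull _ _ h₂)
  let t := (shift C r₁).map ((shift C r₂).map s) ≫ w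
  have ht : IsARIso (t ≫ f) := by
    show IsARIso (((shift C r₁).map ((shift C r₂).map s) ≫ w) ≫ f)
    rw [Category.assoc, hw]
    refine isARIso_comp _ _ (isARIso_shift_map _ r₁ (isARIso_shift_map _ r₂ hs)) ?_
    exact isARIso_comp _ _ (isARIso_shift_map _ r₁ (isARIso_shiftNat X r₂)) (isARIso_shiftNat X r₁)
  have ht' : IsARIso t := isARIso_of_postcomp t f hf ht
  exact mlar_backward K _ t (isStrict_shift _ r₁ (isStrict_shift _ r₂ hS)) ht'.2

end Groth.Agent.Lib27.ARSys
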