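import Groth.Agent.Lib27.ARStrictSub
import Groth.Agent.S3156
import Groth.Agent.S3155
import Groth.Agent.S8638

/-! Kernels of morphisms of systems that are adic up to translation with Noetherian components
(helper27). -/

set_option autoImplicit false
set_option linter.unusedSectionVars false
open CategoryTheory CategoryTheory.Limits Opposite
universe w v u

namespace Groth.Agent.Lib27.ARSys

open _root_.ARSys Groth.Agent.Lib27.PElem Groth.Agent.Lib27.NoethSerre Groth.Agent.Lib27.AHB

variable {C : Type u} [Category.{v} C] [Abelian C] {A : Type w} [CommRing A] [Linear A C]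

lemma Fsub_factors_map {Z Y : PS C} (m : Z ⟶ Y) (s n : ℕ) {T : C} (x : T ⟶ Z.obj (op n))
    (hx : (Fsub Z s n).Factors x) : (Fsub Y s n).Factors (x ≫ m.app (op n)) := by
  cases s with
  | zero => rw [Fsub_zero]; exact Subobject.top_factors _
  | succ k =>
    by_cases hkn : k ≤ n
    · rw [Fsub_succ_factors_iff Z hkn] at hx
      rw [Fsub_succ_factors_iff Y hkn, Category.assoc, ← tr_naturality, ← Category.assoc, hx,
        zero_comp]
    · have h0 : Fsub Z (k + 1) n = ⊥ := by simp only [Fsub, dif_neg hkn]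
      rw [h0] at hx
      have : x = 0 := by
        rw [← Subobject.factorThru_arrow _ x hx, Subobject.bot_arrow, comp_zero]
      rw [this, zero_comp]
      exact Subobject.factors_zero

lemma isAdapted_of_mono (J : Ideal A) {Z Y : PS C} (m : Z ⟶ Y) [Mono m] (hY : IsAdapted J Y) :
    IsAdapted J Z := by
  intro n p hp a ha
  have : Mono (m.app (op n)) := inferInstance
  rw [← cancel_mono (m.app (op n)), zero_comp, Category.assoc, smul_id_comp, ← Category.assoc]
  exact adapted_kills J Y hY (n := n) (s := n + 1 - p) (p := p) (by omega) a ha _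
    (Fsub_factors_map m _ n _ (Subobject.factors_self _))

lemma isStrict_iff_mlar_self (Z : PS C) (hZ : IsStrict Z) : IsMLAR Z := by
  refine mlar_backward Z Z (𝟙 Z) hZ (isARNull_of_isZero _ (isZero_cokernel_of_epi (𝟙 Z)))

/-- a strict subsystem of an adic Noetherian system is adic up to translation -/
theorem isARAdic_of_strict_mono [IsNoetherianRing A] (J : Ideal A) (Y : PS C)
    (hY : IsAdicNoeth J Y) (Z : PS C) (hZ : IsStrict Z) (m : Z ⟶ Y) [Mono m] : IsARAdic J Z := by
  have hJ : J.FG := IsNoetherian.noetherian J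
  have hAY : IsAdapted J Y := isAdapted_of_isAdic J (Or.inl hJ) Y hY.1
  have hAZ : IsAdapted J Z := isAdapted_of_mono J m hAY
  have hmono : ∀ n, Mono (m.app (op n)) := fun n => inferInstance
  refine isARAdic_of_grsFiniteType J Z (Or.inl hJ) hZ hAZ ?_
  intro M hM hmon hlub
  -- push forward to `Y`
  let M' : ℕ → (q : ℕ) → Subobject (Y.obj (op q)) := fun i q => im (m.app (op q)) (M i q)
  have hM' : ∀ i, IsGrSub J Y (M' i) := by
    intro i
    refine ⟨fun q => ?_, fun p q a ha => ?_⟩
    · rw [im_le_iff, le_iff_forall_factors]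
      intro T x hx
      rw [NoethSerre.pullback_factors_iff]
      exact Fsub_factors_map m q q x (Subobject.factors_of_le _ ((hM i).1 q) hx)
    · apply imageSubobject_le_of_factors
      set P := (Subobject.pullback (tr Y (Nat.le_add_left q p))).obj (M' i q) with hP
      have hPf : (M' i q).Factors (P.arrow ≫ tr Y (Nat.le_add_left q p)) :=
        (NoethSerre.pullback_factors_iff _ _ _).1 (Subobject.factors_self P)
      obtain ⟨T₁, π₁, hπ₁, x, hx, hx'⟩ := (factors_im_iff _ _ _).1 hPf
      have := hZ q (p + q) (Nat.le_add_left q p)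
      obtain ⟨T₂, π₂, hπ₂, z, hz⟩ :=
        surjective_up_to_refinements_of_epi (tr Z (Nat.le_add_left q p)) x
      have hd : (Fsub Y (q + 1) (p + q)).Factors
          (π₂ ≫ π₁ ≫ P.arrow - z ≫ m.app (op (p + q))) := by
        rw [Fsub_succ_factors_iff Y (Nat.le_add_left q p), Preadditive.sub_comp]
        simp only [Category.assoc]
        rw [hx', ← tr_naturality, ← Category.assoc z, ← hz, Category.assoc, sub_self]
      have hd0 := adapted_kills J Y hAY (n := p + q) (s := q + 1) (p := p) (by omega) a ha _ hd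
      rw [Preadditive.sub_comp, sub_eq_zero] at hd0
      have hz' : (M i (p + q)).Factors (z ≫ (a • 𝟙 (Z.obj (op (p + q))))) :=
        isGrSub_smul J Z (hM i) p q (p + q) rfl (Nat.le_add_left q p) a ha z (by
          rw [← hz]; exact Subobject.factors_of_factors_right π₂ hx)
      apply factors_of_epi_comp _ (π₂ ≫ π₁)
      have e : (π₂ ≫ π₁) ≫ P.arrow ≫ (a • 𝟙 (Y.obj (op (p + q)))) =
          (z ≫ (a • 𝟙 (Z.obj (op (p + q))))) ≫ m.app (op (p + q)) := by
        simp only [Category.assoc] at hd0 ⊢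
        rw [hd0, smul_id_comp]
      rw [e]
      exact (factors_im_iff _ _ _).2 ⟨_, 𝟙 _, inferInstance, _, hz', by rw [Category.id_comp]⟩
  obtain ⟨i₀, hi₀⟩ := isGrSub_chain_stationary J Y hY M' hM'
    (fun i i' h q => im_mono _ (hmon h q))
  refine ⟨i₀, fun q => le_antisymm ((hM i₀).1 q) ?_⟩
  refine (hlub q).2 ?_
  rintro _ ⟨i, rfl⟩
  dsimp only
  by_cases hi : i ≤ i₀
  · exact hmon hi q
  · have h1 : M' i q = M' i₀ q := congrFun (hi₀ i (by omega)) q
    rw [le_iff_forall_factors]
    intro T x hx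
    have h2 : (M' i₀ q).Factors (x ≫ m.app (op q)) := by
      rw [← h1]
      exact (factors_im_iff _ _ _).2 ⟨_, 𝟙 _, inferInstance, x, hx, by rw [Category.id_comp]⟩
    obtain ⟨T', π, hπ, x₀, hx₀, e⟩ := (factors_im_iff _ _ _).1 h2
    apply factors_of_epi_comp _ π
    have : π ≫ x = x₀ := by
      rw [← cancel_mono (m.app (op q)), Category.assoc, e]
    rw [this]
    exact hx₀

/-- an adic system mapping to a system with Noetherian components with kernel null up to
translation has Noetherian components -/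
theorem isNoetherianObject_of_isARNull_kernel [IsNoetherianRing A] (J : Ideal A) {Y X : PS C}
    (u : Y ⟶ X) (hY : IsAdic J Y) (hK : IsARNull (kernel u))
    (hX : ∀ n, IsNoetherianObject (X.obj (op n))) (n : ℕ) : IsNoetherianObject (Y.obj (op n)) := by
  have hJ : J.FG := IsNoetherian.noetherian J
  obtain ⟨r, hr⟩ := (isARNull_iff _).1 hK
  suffices h0 : IsNoetherianObject (Y.obj (op 0)) by
    have h := Groth.Agent.Lib27.AdicSerre.prop_of_isAdic (C := C) isNoetherianObject J
      (fun k => IsNoetherian.noetherian (J ^ k)) Y hY (isNoetherianObject.prop_of_is _) n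
    exact isNoetherianObject.is_of_prop h
  -- the coimage of `u`
  let S' : ShortComplex (PS C) := ShortComplex.mk (kernel.ι u) (cokernel.π (kernel.ι u))
    (cokernel.condition _)
  have hS' : S'.ShortExact :=
    ShortComplex.ShortExact.mk' (ShortComplex.exact_of_g_is_cokernel _ (cokernelIsCokernel _))
      (inferInstanceAs (Mono (kernel.ι u))) (inferInstanceAs (Epi (cokernel.π (kernel.ι u))))
  have hSr := evalSE S' hS' r
  -- the coimage embeds in `X`
  have hmono : Mono (Abelian.factorThruCoimage u) := inferInstance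
  have hmono' : Mono ((Abelian.factorThruCoimage u).app (op r)) := inferInstance
  have : IsNoetherianObject (X.obj (op r)) := hX r
  have hN : IsNoetherianObject ((Abelian.coimage u).obj (op r)) :=
    isNoetherianObject_of_mono ((Abelian.factorThruCoimage u).app (op r))
  -- the transition map kills the kernel
  have hkill : (kernel.ι u).app (op r) ≫ tr Y (Nat.zero_le r) = 0 := by
    rw [← tr_naturality]
    have := hr 0
    have e : tr (kernel u) (Nat.zero_le r) = 0 := by
      have h2 := tr_eq_zero_of_le (kernel u) r hr (n := 0) (m := r) (by omega)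
      exact h2
    rw [e, zero_comp]
  have hepi : Epi (tr Y (Nat.zero_le r)) := isStrict_of_isAdic J (Or.inl hJ) Y hY 0 r _
  have hge : Epi (S'.map ((evaluation ℕᵒᵖ C).obj (op r))).g := hSr.epi_g
  let φ : (Abelian.coimage u).obj (op r) ⟶ Y.obj (op 0) := hSr.exact.desc (tr Y (Nat.zero_le r)) hkill
  have hφ : (cokernel.π (kernel.ι u)).app (op r) ≫ φ = tr Y (Nat.zero_le r) :=
    hSr.exact.g_desc _ _
  have : Epi ((cokernel.π (kernel.ι u)).app (op r)) := hSr.epi_g
  have : Epi φ := epi_of_epi_fac hφ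
  exact isNoetherianObject.is_of_prop
    ((isNoetherianObject (C := C)).prop_of_epi φ (isNoetherianObject.prop_of_is _))

lemma isMLAR_of_isARAdic (J : Ideal A) (hJ : J.FG ∨ HasCoproducts.{w} C) (X : PS C)
    (h : IsARAdic J X) : IsMLAR X := by
  obtain ⟨-, Y, u, hY, hu⟩ := h
  exact mlar_backward X Y u (isStrict_of_isAdic J hJ Y hY) hu.2

/-- the first term of a short exact sequence whose other terms are adic up to translation with
Noetherian components -/
theorem isARAdicNoeth_X₁ [IsNoetherianRing A] (J : Ideal A) (S : ShortComplex (PS C))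
    (hS : S.ShortExact) (h₂ : IsARAdicNoeth J S.X₂) (h₃ : IsARAdicNoeth J S.X₃) :
    IsARAdicNoeth J S.X₁ := by
  have hJ : J.FG := IsNoetherian.noetherian J
  have := hS.mono_f
  have k₂ := h₂.1.1
  have k₃ := h₃.1.1
  have k₁ : TermKilled J S.X₁ := termKilled_of_mono J S.f k₂
  have hml₁ : IsMLAR S.X₁ := Groth.Agent.S3156.result J (Or.inl hJ) S hS k₁ k₂ k₃
    (isMLAR_of_isARAdic J (Or.inl hJ) _ h₂.1) h₃.1
  obtain ⟨r, hr⟩ := (isMLAR_iff _).1 hml₁
  obtain ⟨Z₁, ι, ⟨hι, -⟩, hZ₁s, hιar⟩ := mlar_forward' S.X₁ r hr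
  obtain ⟨-, Y₂, u₂, hY₂, hu₂⟩ := h₂.1
  have hY₂n : ∀ n, IsNoetherianObject (Y₂.obj (op n)) :=
    isNoetherianObject_of_isARNull_kernel J u₂ hY₂ hu₂.1 h₂.2
  have hmf : Mono (ι ≫ S.f) := mono_comp _ _
  let p₁ : pullback (ι ≫ S.f) u₂ ⟶ Z₁ := pullback.fst _ _
  let p₂ : pullback (ι ≫ S.f) u₂ ⟶ Y₂ := pullback.snd _ _
  have hp₁ : IsARIso p₁ := isARIso_pullback_fst (ι ≫ S.f) u₂ hu₂
  have hp₂ : Mono p₂ := inferInstance
  have hPml : IsMLAR (pullback (ι ≫ S.f) u₂) :=
    isMLAR_of_isARIso p₁ hp₁ (isStrict_iff_mlar_self Z₁ hZ₁s)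
  obtain ⟨r', hr'⟩ := (isMLAR_iff _).1 hPml
  obtain ⟨P', ι', ⟨hι', -⟩, hP's, hι'ar⟩ := mlar_forward' (pullback (ι ≫ S.f) u₂) r' hr'
  have hm' : Mono (ι' ≫ p₂) := mono_comp _ _
  have hP'ar : IsARAdic J P' := isARAdic_of_strict_mono J Y₂ ⟨hY₂, hY₂n⟩ P' hP's (ι' ≫ p₂)
  obtain ⟨-, Y', v, hY', hv⟩ := hP'ar
  refine ⟨⟨k₁, Y', v ≫ ι' ≫ p₁ ≫ ι, hY', ?_⟩, fun n => ?_⟩
  · exact isARIso_comp _ _ hv (isARIso_comp _ _ hι'ar (isARIso_comp _ _ hp₁ hιar))
  · have : Mono (S.f.app (op n)) := mono_app S hS n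
    have : IsNoetherianObject (S.X₂.obj (op n)) := h₂.2 n
    exact isNoetherianObject_of_mono (S.f.app (op n))

/-- epi-mono factorisation and the two associated short exact sequences -/
lemma exists_epi_mono_ses {D : Type*} [Category D] [Abelian D] {X Y : D} (u : X ⟶ Y) :
    ∃ (I : D) (e : X ⟶ I) (m : I ⟶ Y) (_ : Epi e) (_ : Mono m) (_ : e ≫ m = u)
      (w₁ : kernel.ι u ≫ e = 0) (w₂ : m ≫ cokernel.π u = 0),
      (ShortComplex.mk (kernel.ι u) e w₁).ShortExact ∧
        (ShortComplex.mk m (cokernel.π u) w₂).ShortExact := by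
  have hfac : Abelian.coimage.π u ≫ Abelian.factorThruCoimage u = u := Abelian.coimage.fac u
  have w₁ : kernel.ι u ≫ Abelian.coimage.π u = 0 := cokernel.condition _
  have w₂ : Abelian.factorThruCoimage u ≫ cokernel.π u = 0 := by
    rw [← cancel_epi (Abelian.coimage.π u), ← Category.assoc, hfac, cokernel.condition, comp_zero]
  refine ⟨Abelian.coimage u, Abelian.coimage.π u, Abelian.factorThruCoimage u, inferInstance,
    inferInstance, hfac, w₁, w₂, ?_, ?_⟩
  · exact ShortComplex.ShortExact.mk'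
      (ShortComplex.exact_of_g_is_cokernel _ (cokernelIsCokernel _))
      (inferInstanceAs (Mono (kernel.ι u))) (inferInstanceAs (Epi (cokernel.π (kernel.ι u))))
  · refine ShortComplex.ShortExact.mk' ?_ (inferInstanceAs (Mono (Abelian.factorThruCoimage u)))
      (inferInstanceAs (Epi (cokernel.π u)))
    rw [ShortComplex.exact_iff_exact_up_to_refinements]
    intro T x₂ hx₂
    have hex : (ShortComplex.mk u (cokernel.π u) (cokernel.condition u)).Exact :=
      ShortComplex.exact_of_g_is_cokernel _ (cokernelIsCokernel _)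
    obtain ⟨T', π, hπ, y, hy⟩ := hex.exact_up_to_refinements x₂ hx₂
    refine ⟨T', π, hπ, y ≫ Abelian.coimage.π u, ?_⟩
    dsimp at hy ⊢
    rw [hy, Category.assoc, hfac]

/-- kernels and cokernels of morphisms between systems that are adic up to translation with
Noetherian components -/
theorem isARAdicNoeth_kernel_cokernel [IsNoetherianRing A] (J : Ideal A) {X Y : PS C} (u : X ⟶ Y)
    (hX : IsARAdicNoeth J X) (hY : IsARAdicNoeth J Y) :
    IsARAdicNoeth J (kernel u) ∧ IsARAdicNoeth J (cokernel u) := by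
  have hJ : J.FG := IsNoetherian.noetherian J
  obtain ⟨I, e, m, he, hm, hfac, w₁, w₂, hS₁, hS₂⟩ := exists_epi_mono_ses u
  have kI : TermKilled J I := termKilled_of_mono J m hY.1.1
  have kQ : TermKilled J (cokernel u) := termKilled_of_epi J (cokernel.π u) hY.1.1
  have hImlar : IsMLAR I :=
    Groth.Agent.S8638.result _ hS₁ (isMLAR_of_isARAdic J (Or.inl hJ) X hX.1)
  have hQ : IsARAdicNoeth J (cokernel u) := by
    refine ⟨Groth.Agent.S3155.result J (Or.inl hJ) _ hS₂ kI hY.1.1 kQ hImlar hY.1, fun n => ?_⟩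
    have : Epi ((cokernel.π u).app (op n)) := epi_app _ hS₂ n
    have : IsNoetherianObject (Y.obj (op n)) := hY.2 n
    exact isNoetherianObject.is_of_prop
      ((isNoetherianObject (C := C)).prop_of_epi ((cokernel.π u).app (op n))
        (isNoetherianObject.prop_of_is _))
  have hI : IsARAdicNoeth J I := isARAdicNoeth_X₁ J _ hS₂ hY hQ
  exact ⟨isARAdicNoeth_X₁ J _ hS₁ hX hI, hQ⟩

end Groth.Agent.Lib27.ARSys
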