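import Groth.Agent.Lib27.ARNoethCat
import Groth.Agent.S3152
import Groth.Agent.S3153
import Mathlib.CategoryTheory.Abelian.Subcategory
import Mathlib.CategoryTheory.ObjectProperty.ContainsZero

/-! The abelian category of adic systems with Noetherian components (helper27). -/

set_option autoImplicit false
set_option linter.unusedSectionVars false
open CategoryTheory CategoryTheory.Limits Opposite
universe w v u

namespace Groth.Agent.Lib27.ARSys

open _root_.ARSys Groth.Agent.Lib27.PElem Groth.Agent.Lib27.NoethSerre Groth.Agent.Lib27.AHB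

variable {C : Type u} [Category.{v} C] [Abelian C] {A : Type w} [CommRing A] [Linear A C]

/-! ### Transport along isomorphisms -/

lemma isQuot_of_iso (I : Ideal A) {X Q X' Q' : C} (p : X ⟶ Q) (p' : X' ⟶ Q') (eX : X ≅ X')
    (eQ : Q ≅ Q') (h : eX.hom ≫ p' = p ≫ eQ.hom) (hp : IsQuot I p) : IsQuot I p' := by
  refine ⟨fun a ha => ?_, fun Y φ hφ => ?_⟩
  · rw [← cancel_epi eQ.hom, comp_zero, ← smul_id_comp, hp.1 a ha, zero_comp]
  · have hφ' : HomKilledBy I (eX.hom ≫ φ) := homKilledBy_comp_left _ hφ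
    obtain ⟨ψ, hψ, hu⟩ := hp.2 Y _ hφ'
    refine ⟨eQ.inv ≫ ψ, ?_, fun ψ' hψ' => ?_⟩
    · dsimp only
      rw [← cancel_epi eX.hom, ← Category.assoc, h, Category.assoc, Iso.hom_inv_id_assoc]
      exact hψ
    · have := hu (eQ.hom ≫ ψ') (by
        dsimp only
        rw [← Category.assoc, ← h, Category.assoc, hψ'])
      rw [← this, Iso.inv_hom_id_assoc]

lemma isAdic_of_iso (J : Ideal A) {X Y : PS C} (e : X ≅ Y) (hX : IsAdic J X) : IsAdic J Y := by
  refine ⟨fun n a ha => ?_, fun n m h => ?_⟩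
  · rw [← cancel_epi (e.hom.app (op n)), comp_zero, ← smul_id_comp, hX.1 n a ha, zero_comp]
  · exact isQuot_of_iso _ (tr X h) (tr Y h) (e.app (op m)) (e.app (op n))
      (by simp [tr]) (hX.2 n m h)

lemma isAdicNoeth_of_iso (J : Ideal A) {X Y : PS C} (e : X ≅ Y) (hX : IsAdicNoeth J X) :
    IsAdicNoeth J Y := by
  refine ⟨isAdic_of_iso J e hX.1, fun n => ?_⟩
  have := hX.2 n
  have : Mono ((e.inv).app (op n)) := inferInstance
  exact isNoetherianObject_of_mono ((e.inv).app (op n))

/-! ### The universal property of isomorphisms up to translation -/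

theorem existsUnique_lift_of_isARIso (J : Ideal A) (hJ : J.FG ∨ HasCoproducts.{w} C) {N K L : PS C}
    (hN : IsAdic J N) (hK : TermKilled J K) (w : K ⟶ L) (hw : IsARIso w) (g : N ⟶ L) :
    ∃! g' : N ⟶ K, g' ≫ w = g := by
  obtain ⟨r₁, h₁⟩ := (isARNull_iff _).1 hw.1
  obtain ⟨r₂, h₂⟩ := (isARNull_iff _).1 hw.2
  obtain ⟨w', hw1, -⟩ := exists_inverse_up_to_shift w r₁ r₂
    (shiftNat_eq_zero_of_isARNull _ _ h₁) (shiftNat_eq_zero_of_isARNull _ _ h₂)
  have hepi : ∀ r, Epi (shiftNat N r) := fun r => epi_shiftNat_of_isAdic J N hN r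
  have hα : (shiftShiftIso N r₁ r₂).hom ≫ shiftNat N (r₁ + r₂) =
      (shift C r₁).map (shiftNat N r₂) ≫ shiftNat N r₁ := by
    ext ⟨n⟩
    exact map_comp_congr N _ _ _ _
  have huniq : ∀ g₁ g₂ : N ⟶ K, g₁ ≫ w = g₂ ≫ w → g₁ = g₂ := by
    intro g₁ g₂ h
    have hd : (g₁ - g₂) ≫ w = 0 := by rw [Preadditive.sub_comp, h, sub_self]
    have h3 : shiftNat N r₁ ≫ (g₁ - g₂) = 0 := by
      rw [← kernel.lift_ι w _ hd, ← Category.assoc, shiftNat_naturality, Category.assoc,
        shiftNat_eq_zero_of_isARNull _ _ h₁]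
      simp only [zero_comp, comp_zero]
    have := hepi r₁
    have h4 : g₁ - g₂ = 0 := by rw [← cancel_epi (shiftNat N r₁), h3, comp_zero]
    exact sub_eq_zero.1 h4
  obtain ⟨g', hg'⟩ := exists_factor J N K hN hK (r₁ + r₂)
    ((shiftShiftIso N r₁ r₂).inv ≫ (shift C r₁).map ((shift C r₂).map g) ≫ w')
  have key : (shiftShiftIso N r₁ r₂).inv ≫ (shift C r₁).map ((shift C r₂).map g) ≫ w' ≫ w =
      shiftNat N (r₁ + r₂) ≫ g := by
    rw [hw1, Iso.inv_comp_eq, ← Category.assoc (shiftShiftIso N r₁ r₂).hom, hα,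
      ← Category.assoc, ← Functor.map_comp, ← shiftNat_naturality g r₂, Functor.map_comp,
      Category.assoc, ← shiftNat_naturality g r₁, Category.assoc]
  have hfirst : g' ≫ w = g := by
    have := hepi (r₁ + r₂)
    rw [← cancel_epi (shiftNat N (r₁ + r₂)), ← Category.assoc, hg']
    simp only [Category.assoc]
    exact key
  exact ⟨g', hfirst, fun g'' hg'' => huniq _ _ (hg''.trans hfirst.symm)⟩

/-! ### Closure properties of adic systems with Noetherian components -/

lemma isStrict_of_epi {X I : PS C} (e : X ⟶ I) [Epi e] (hX : IsStrict X) : IsStrict I := by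
  intro n m h
  have := hX n m h
  have h1 : Epi (e.app (op m) ≫ tr I h) := by
    rw [← tr_naturality]; exact epi_comp _ _
  exact epi_of_epi (e.app (op m)) (tr I h)

theorem isAdicNoeth_cokernel [IsNoetherianRing A] (J : Ideal A) {X Y : PS C} (f : X ⟶ Y)
    (hX : IsAdicNoeth J X) (hY : IsAdicNoeth J Y) : IsAdicNoeth J (cokernel f) := by
  have hJ : J.FG := IsNoetherian.noetherian J
  obtain ⟨I, e, m, he, hm, hfac, w₁, w₂, hS₁, hS₂⟩ := exists_epi_mono_ses f
  have hI : IsStrict I := isStrict_of_epi e (isStrict_of_isAdic J (Or.inl hJ) X hX.1)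
  refine ⟨Groth.Agent.S3152.result J (Or.inl hJ) _ hS₂ hI hY.1, fun n => ?_⟩
  have : Epi ((cokernel.π f).app (op n)) := epi_app _ hS₂ n
  have : IsNoetherianObject (Y.obj (op n)) := hY.2 n
  exact isNoetherianObject.is_of_prop
    ((isNoetherianObject (C := C)).prop_of_epi ((cokernel.π f).app (op n))
      (isNoetherianObject.prop_of_is _))

theorem isAdicNoeth_biprod (J : Ideal A) {X Y : PS C}
    (hX : IsAdicNoeth J X) (hY : IsAdicNoeth J Y) : IsAdicNoeth J (X ⊞ Y) := by
  -- pointwise biproduct structure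
  let i₁ : ∀ n, X.obj (op n) ⟶ (X ⊞ Y).obj (op n) := fun n => (biprod.inl : X ⟶ X ⊞ Y).app (op n)
  let i₂ : ∀ n, Y.obj (op n) ⟶ (X ⊞ Y).obj (op n) := fun n => (biprod.inr : Y ⟶ X ⊞ Y).app (op n)
  let p₁ : ∀ n, (X ⊞ Y).obj (op n) ⟶ X.obj (op n) := fun n => (biprod.fst : X ⊞ Y ⟶ X).app (op n)
  let p₂ : ∀ n, (X ⊞ Y).obj (op n) ⟶ Y.obj (op n) := fun n => (biprod.snd : X ⊞ Y ⟶ Y).app (op n)
  have h11 : ∀ n, i₁ n ≫ p₁ n = 𝟙 _ := fun n => by
    have := congrArg (fun φ => φ.app (op n)) (biprod.inl_fst : (biprod.inl : X ⟶ X ⊞ Y) ≫ _ = _)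
    exact this
  have h22 : ∀ n, i₂ n ≫ p₂ n = 𝟙 _ := fun n => by
    have := congrArg (fun φ => φ.app (op n)) (biprod.inr_snd : (biprod.inr : Y ⟶ X ⊞ Y) ≫ _ = _)
    exact this
  have h12 : ∀ n, i₁ n ≫ p₂ n = 0 := fun n => by
    have := congrArg (fun φ => φ.app (op n)) (biprod.inl_snd : (biprod.inl : X ⟶ X ⊞ Y) ≫ _ = _)
    exact this.trans (NatTrans.app_zero _)
  have htot : ∀ n, p₁ n ≫ i₁ n + p₂ n ≫ i₂ n = 𝟙 _ := fun n => by
    have := congrArg (fun φ => φ.app (op n)) (biprod.total : _ = 𝟙 (X ⊞ Y))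
    rw [NatTrans.app_add] at this
    exact this
  have hnat1 : ∀ n m (h : n ≤ m), tr (X ⊞ Y) h ≫ p₁ n = p₁ m ≫ tr X h := fun n m h =>
    (tr_naturality (biprod.fst : X ⊞ Y ⟶ X) h)
  have hnat2 : ∀ n m (h : n ≤ m), tr (X ⊞ Y) h ≫ p₂ n = p₂ m ≫ tr Y h := fun n m h =>
    (tr_naturality (biprod.snd : X ⊞ Y ⟶ Y) h)
  have hnat1' : ∀ n m (h : n ≤ m), tr X h ≫ i₁ n = i₁ m ≫ tr (X ⊞ Y) h := fun n m h =>
    (tr_naturality (biprod.inl : X ⟶ X ⊞ Y) h)
  have hnat2' : ∀ n m (h : n ≤ m), tr Y h ≫ i₂ n = i₂ m ≫ tr (X ⊞ Y) h := fun n m h =>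
    (tr_naturality (biprod.inr : Y ⟶ X ⊞ Y) h)
  have hkill : TermKilled J (X ⊞ Y) := by
    intro n a ha
    have e : a • 𝟙 ((X ⊞ Y).obj (op n)) = (a • 𝟙 _) ≫ (p₁ n ≫ i₁ n + p₂ n ≫ i₂ n) := by
      rw [htot, Category.comp_id]
    rw [e, Preadditive.comp_add, ← Category.assoc, ← Category.assoc, smul_id_comp (p₁ n),
      smul_id_comp (p₂ n), hX.1.1 n a ha, hY.1.1 n a ha]
    simp
  refine ⟨⟨hkill, fun n m h => ⟨hkill n, fun Z φ hφ => ?_⟩⟩, fun n => ?_⟩
  · obtain ⟨ψ₁, hψ₁, -⟩ := (hX.1.2 n m h).2 Z (i₁ m ≫ φ) (homKilledBy_comp_left _ hφ)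
    obtain ⟨ψ₂, hψ₂, -⟩ := (hY.1.2 n m h).2 Z (i₂ m ≫ φ) (homKilledBy_comp_left _ hφ)
    have hψ₁' : tr X h ≫ ψ₁ = i₁ m ≫ φ := hψ₁
    have hψ₂' : tr Y h ≫ ψ₂ = i₂ m ≫ φ := hψ₂
    have e1 : Epi (tr X h) := GenFam.epi_of_isQuot (hX.1.2 n m h)
    have e2 : Epi (tr Y h) := GenFam.epi_of_isQuot (hY.1.2 n m h)
    refine ⟨p₁ n ≫ ψ₁ + p₂ n ≫ ψ₂, ?_, fun ψ' hψ' => ?_⟩
    · dsimp only
      rw [Preadditive.comp_add, ← Category.assoc, ← Category.assoc, hnat1, hnat2, Category.assoc,
        Category.assoc, hψ₁', hψ₂', ← Category.assoc, ← Category.assoc, ← Preadditive.add_comp,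
        htot, Category.id_comp]
    · have hψ'' : tr (X ⊞ Y) h ≫ ψ' = φ := hψ'
      have a1 : i₁ n ≫ ψ' = ψ₁ := by
        rw [← cancel_epi (tr X h), ← Category.assoc, hnat1', Category.assoc, hψ'', hψ₁']
      have a2 : i₂ n ≫ ψ' = ψ₂ := by
        rw [← cancel_epi (tr Y h), ← Category.assoc, hnat2', Category.assoc, hψ'', hψ₂']
      rw [← Category.id_comp ψ', ← htot n, Preadditive.add_comp, Category.assoc, Category.assoc,
        a1, a2]
  · -- Noetherian: extension
    have hS : (ShortComplex.mk (i₁ n) (p₂ n) (h12 n)).Exact := by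
      rw [ShortComplex.exact_iff_exact_up_to_refinements]
      intro T x hx
      refine ⟨T, 𝟙 T, inferInstance, x ≫ p₁ n, ?_⟩
      dsimp at hx ⊢
      rw [Category.id_comp, Category.assoc]
      have : x = x ≫ (p₁ n ≫ i₁ n + p₂ n ≫ i₂ n) := by rw [htot, Category.comp_id]
      conv_lhs => rw [this]
      rw [Preadditive.comp_add, ← Category.assoc x (p₂ n), hx, zero_comp, add_zero]
    have := hX.2 n
    have := hY.2 n
    exact isNoetherianObject.is_of_prop
      ((isNoetherianObject (C := C)).prop_X₂_of_exact hS (isNoetherianObject.prop_of_is _)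
        (isNoetherianObject.prop_of_is _))

theorem isAdicNoeth_of_isZero (J : Ideal A) {X : PS C} (hX : IsZero X) : IsAdicNoeth J X := by
  have hz : ∀ n, IsZero (X.obj (op n)) := fun n => by
    have h1 : 𝟙 X = 0 := hX.eq_of_src _ _
    have h2 : 𝟙 (X.obj (op n)) = 0 := by
      have := congrArg (fun φ => φ.app (op n)) h1
      simpa using this
    exact (IsZero.iff_id_eq_zero _).2 h2
  have hkill : TermKilled J X := fun n a ha => (hz n).eq_of_src _ _
  refine ⟨⟨hkill, fun n m h => ⟨hkill n, fun Z φ hφ => ?_⟩⟩, fun n => ?_⟩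
  · exact ⟨0, (hz m).eq_of_src _ _, fun ψ' _ => (hz n).eq_of_src _ _⟩
  · rw [isNoetherianObject_iff_monotone_chain_condition]
    intro f
    refine ⟨0, fun m _ => ?_⟩
    have : ∀ S S' : Subobject (X.obj (op n)), S = S' := by
      intro S S'
      apply le_antisymm
      · apply Subobject.le_of_factors
        rw [(hz n).eq_of_tgt S.arrow 0]
        exact Subobject.factors_zero
      · apply Subobject.le_of_factors
        rw [(hz n).eq_of_tgt S'.arrow 0]
        exact Subobject.factors_zero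
    exact this _ _

/-! ### The category of adic systems with Noetherian components -/

section Cat

variable [IsNoetherianRing A] (J : Ideal A)

/-- the property of being adic with Noetherian components -/
abbrev adicNoeth (C : Type u) [Category.{v} C] [Abelian C] {A : Type w} [CommRing A] [Linear A C]
    (J : Ideal A) : ObjectProperty (PS C) := fun X : PS C => IsAdicNoeth J X

/-- the category of adic systems with Noetherian components -/
abbrev AN (C : Type u) [Category.{v} C] [Abelian C] {A : Type w} [CommRing A] [Linear A C]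
    (J : Ideal A) : Type _ := (adicNoeth C J).FullSubcategory

instance : (adicNoeth C J).IsClosedUnderIsomorphisms where
  of_iso e hX := isAdicNoeth_of_iso J e hX

instance : (adicNoeth C J).ContainsZero where
  exists_zero := by
    open ZeroObject in
    exact ⟨(0 : PS C), isZero_zero _, isAdicNoeth_of_isZero J (isZero_zero _)⟩

instance : (adicNoeth C J).IsClosedUnderCokernels where
  cokernels_le := by
    rintro Q ⟨f, k, hk, hf⟩
    exact isAdicNoeth_of_iso J (IsColimit.coconePointUniqueUpToIso (cokernelIsCokernel f) hk)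
      (isAdicNoeth_cokernel J f hf.1 hf.2)

instance : HasBinaryBiproducts (AN C J) where
  has_binary_biproduct X Y := hasBinaryBiproduct_of_total
    { pt := ⟨X.obj ⊞ Y.obj, isAdicNoeth_biprod J X.property Y.property⟩
      fst := ObjectProperty.homMk biprod.fst
      snd := ObjectProperty.homMk biprod.snd
      inl := ObjectProperty.homMk biprod.inl
      inr := ObjectProperty.homMk biprod.inr
      inl_fst := by ext : 1; exact biprod.inl_fst
      inl_snd := by ext : 1; exact biprod.inl_snd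
      inr_fst := by ext : 1; exact biprod.inr_fst
      inr_snd := by ext : 1; exact biprod.inr_snd }
    (by ext : 1; exact biprod.total)

instance : HasFiniteProducts (AN C J) := hasFiniteProducts_of_has_binary_and_terminal

/-- the kernel of a morphism in the category of adic Noetherian systems -/
lemma exists_kernel_AN {X Y : AN C J} (f : X ⟶ Y) :
    ∃ (K : AN C J) (k : K ⟶ X) (w : k ≫ f = 0) (v : K.obj ⟶ kernel f.hom),
      IsARIso v ∧ k.hom = v ≫ kernel.ι f.hom ∧ Nonempty (IsLimit (KernelFork.ofι k w)) := by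
  have hJ : J.FG := IsNoetherian.noetherian J
  have hXar : IsARAdicNoeth J X.obj :=
    ⟨⟨X.property.1.1, X.obj, 𝟙 _, X.property.1, isARIso_of_mono (𝟙 X.obj)
      (isARNull_of_isZero _ (isZero_cokernel_of_epi (𝟙 X.obj)))⟩, X.property.2⟩
  have hYar : IsARAdicNoeth J Y.obj :=
    ⟨⟨Y.property.1.1, Y.obj, 𝟙 _, Y.property.1, isARIso_of_mono (𝟙 Y.obj)
      (isARNull_of_isZero _ (isZero_cokernel_of_epi (𝟙 Y.obj)))⟩, Y.property.2⟩
  obtain ⟨⟨⟨hKk, K', v, hK', hv⟩, hKn⟩, -⟩ := isARAdicNoeth_kernel_cokernel J f.hom hXar hYar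
  have hK'n : ∀ n, IsNoetherianObject (K'.obj (op n)) :=
    isNoetherianObject_of_isARNull_kernel J v hK' hv.1 hKn
  let K : AN C J := ⟨K', ⟨hK', hK'n⟩⟩
  let k : K ⟶ X := ObjectProperty.homMk (v ≫ kernel.ι f.hom)
  have w : k ≫ f = 0 := by
    ext : 1
    change (v ≫ kernel.ι f.hom) ≫ f.hom = 0
    rw [Category.assoc, kernel.condition, comp_zero]
  have hlift : ∀ {W : AN C J} (g : W ⟶ X) (hg : g ≫ f = 0),
      ∃! g' : W.obj ⟶ K', g' ≫ v = kernel.lift f.hom g.hom
        (by have := congrArg (fun φ => φ.hom) hg; exact this) := fun {W} g hg =>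
    existsUnique_lift_of_isARIso J (Or.inl hJ) W.property.1 hK'.1 v hv _
  refine ⟨K, k, w, v, hv, rfl, ⟨KernelFork.IsLimit.ofι k w
    (fun {W} g hg => ObjectProperty.homMk (hlift g hg).choose) ?_ ?_⟩⟩
  · intro W g hg
    ext : 1
    change (hlift g hg).choose ≫ v ≫ kernel.ι f.hom = g.hom
    rw [← Category.assoc, (hlift g hg).choose_spec.1, kernel.lift_ι]
  · intro W g hg m hm
    ext : 1
    change m.hom = (hlift g hg).choose
    apply (hlift g hg).choose_spec.2
    rw [← cancel_mono (kernel.ι f.hom), Category.assoc, kernel.lift_ι]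
    have := congrArg (fun φ => φ.hom) hm
    exact this

instance : HasKernels (AN C J) where
  has_limit f := by
    obtain ⟨K, k, w, v, -, -, ⟨h⟩⟩ := exists_kernel_AN J f
    exact ⟨⟨⟨_, h⟩⟩⟩

/-- monomorphisms of the category have kernels that are null up to translation -/
lemma isARNull_kernel_of_mono {X Y : AN C J} (f : X ⟶ Y) [Mono f] : IsARNull (kernel f.hom) := by
  obtain ⟨K, k, w, v, hv, hk, -⟩ := exists_kernel_AN J f
  have hk0 : k = 0 := by rw [← cancel_mono f, w, zero_comp]
  have hv0 : v = 0 := by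
    have h1 : k.hom = 0 := by rw [hk0]; rfl
    rw [hk] at h1
    rw [← cancel_mono (kernel.ι f.hom), h1, zero_comp]
  have h2 : IsARNull (cokernel (0 : K.obj ⟶ kernel f.hom)) := hv0 ▸ hv.2
  exact isARNull_of_mono (cokernel.π (0 : K.obj ⟶ kernel f.hom)) h2

lemma isZero_of_isARNull_of_isStrict {E : PS C} (h₁ : IsARNull E) (h₂ : IsStrict E) : IsZero E := by
  obtain ⟨r, hr⟩ := (isARNull_iff _).1 h₁
  apply Functor.isZero
  rintro ⟨n⟩
  have := h₂ n (n + r) (Nat.le_add_right n r)
  exact IsZero.of_epi_eq_zero _ (hr n)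

end Cat

section Cat2

variable [IsNoetherianRing A] (J : Ideal A)

/-- every monomorphism is a kernel -/
lemma nonempty_normalMono_AN {X Y : AN C J} (f : X ⟶ Y) [Mono f] : Nonempty (NormalMono f) := by
  have hJ : J.FG := IsNoetherian.noetherian J
  obtain ⟨I, e, m, he, hm, hfac, w₁, w₂, hS₁, hS₂⟩ := exists_epi_mono_ses f.hom
  -- `e` is an isomorphism up to translation
  have hKe : IsARNull (kernel e) := by
    have hp : kernel.ι e ≫ f.hom = 0 := by
      rw [← hfac, ← Category.assoc, kernel.condition, zero_comp]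
    have : Mono (kernel.lift f.hom (kernel.ι e) hp) :=
      mono_of_mono_fac (kernel.lift_ι f.hom (kernel.ι e) hp)
    exact isARNull_of_mono (kernel.lift f.hom (kernel.ι e) hp) (isARNull_kernel_of_mono J f)
  have heAR : IsARIso e := isARIso_of_epi e hKe
  let Z : AN C J := ⟨cokernel f.hom, isAdicNoeth_cokernel J f.hom X.property Y.property⟩
  let g : Y ⟶ Z := ObjectProperty.homMk (cokernel.π f.hom)
  have w : f ≫ g = 0 := by
    ext : 1
    exact cokernel.condition f.hom
  have hlift : ∀ {W : AN C J} (h : W ⟶ Y) (hh : h ≫ g = 0),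
      ∃ h' : W.obj ⟶ X.obj, h' ≫ f.hom = h.hom := by
    intro W h hh
    have hh' : h.hom ≫ cokernel.π f.hom = 0 := congrArg (fun φ => φ.hom) hh
    have hx : ∃ h₁ : W.obj ⟶ I, h₁ ≫ m = h.hom :=
      ⟨hS₂.fIsKernel.lift (KernelFork.ofι h.hom hh'),
        hS₂.fIsKernel.fac (KernelFork.ofι h.hom hh') WalkingParallelPair.zero⟩
    obtain ⟨h₁, hh₁⟩ := hx
    obtain ⟨h', hh', -⟩ := existsUnique_lift_of_isARIso J (Or.inl hJ) W.property.1
      X.property.1.1 e heAR h₁
    exact ⟨h', by rw [← hfac, ← Category.assoc, hh', hh₁]⟩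
  exact ⟨{ Z := Z, g := g, w := w,
           isLimit := KernelFork.IsLimit.ofι f w
            (fun {W} h hh => ObjectProperty.homMk (hlift h hh).choose)
            (fun {W} h hh => by ext : 1; exact (hlift h hh).choose_spec)
            (fun {W} h hh m' hm' => by
              rw [← cancel_mono f, hm']
              ext : 1
              exact (hlift h hh).choose_spec.symm) }⟩

/-- every epimorphism is a cokernel -/
lemma nonempty_normalEpi_AN {X Y : AN C J} (f : X ⟶ Y) [Epi f] : Nonempty (NormalEpi f) := by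
  have hJ : J.FG := IsNoetherian.noetherian J
  -- `f.hom` is an epimorphism
  have hepi : Epi f.hom := by
    let Q : AN C J := ⟨cokernel f.hom, isAdicNoeth_cokernel J f.hom X.property Y.property⟩
    let q : Y ⟶ Q := ObjectProperty.homMk (cokernel.π f.hom)
    have hq : f ≫ q = 0 := by ext : 1; exact cokernel.condition f.hom
    have hq0 : q = 0 := by rw [← cancel_epi f, hq, comp_zero]
    have : cokernel.π f.hom = 0 := congrArg (fun φ => φ.hom) hq0
    exact Abelian.epi_of_cokernel_π_eq_zero _ this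
  obtain ⟨K, k, w, v, hv, hk, -⟩ := exists_kernel_AN J f
  -- the kernel of `f.hom` is strict
  have hS : (ShortComplex.mk (kernel.ι f.hom) f.hom (kernel.condition _)).ShortExact :=
    ShortComplex.ShortExact.mk' (ShortComplex.exact_of_f_is_kernel _ (kernelIsKernel _))
      (inferInstanceAs (Mono (kernel.ι f.hom))) hepi
  have hKs : IsStrict (kernel f.hom) :=
    Groth.Agent.S3153.result J (Or.inl hJ) _ hS X.property.1.1
      (isStrict_of_isAdic J (Or.inl hJ) _ X.property.1) Y.property.1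
  have hvepi : Epi v := by
    have hz : IsZero (cokernel v) :=
      isZero_of_isARNull_of_isStrict hv.2 (isStrict_of_epi (cokernel.π v) hKs)
    exact Preadditive.epi_of_isZero_cokernel v hz
  have hdesc : ∀ {W : AN C J} (g : X ⟶ W) (hg : k ≫ g = 0), kernel.ι f.hom ≫ g.hom = 0 := by
    intro W g hg
    have h1 : k.hom ≫ g.hom = 0 := congrArg (fun φ => φ.hom) hg
    rw [hk, Category.assoc] at h1
    rw [← cancel_epi v, h1, comp_zero]
  exact ⟨{ W := K, g := k, w := w,
           isColimit := CokernelCofork.IsColimit.ofπ f w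
            (fun {W} g hg => ObjectProperty.homMk (Abelian.epiDesc f.hom g.hom (hdesc g hg)))
            (fun {W} g hg => by ext : 1; exact Abelian.comp_epiDesc f.hom g.hom (hdesc g hg))
            (fun {W} g hg m' hm' => by
              rw [← cancel_epi f, hm']
              ext : 1
              exact (Abelian.comp_epiDesc f.hom g.hom (hdesc g hg)).symm) }⟩

/-- the abelian category structure -/
noncomputable def abelianAN : Abelian (AN C J) :=
  { (inferInstance : Preadditive (AN C J)) with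
    normalMonoOfMono := fun f _ => nonempty_normalMono_AN J f
    normalEpiOfEpi := fun f _ => nonempty_normalEpi_AN J f
    has_finite_products := inferInstance
    has_kernels := inferInstance
    has_cokernels := inferInstance }

end Cat2

section Noeth

variable [IsNoetherianRing A] (J : Ideal A)

/-- the image in the category of all systems of a subobject in the category of adic
Noetherian systems -/
noncomputable abbrev imSub (Y : AN C J) (P : Subobject Y) : Subobject Y.obj :=
  imageSubobject (P.arrow.hom)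

lemma imSub_mono (Y : AN C J) {P Q : Subobject Y} (h : P ≤ Q) : imSub J Y P ≤ imSub J Y Q := by
  have : P.arrow.hom = (Subobject.ofLE P Q h).hom ≫ Q.arrow.hom := by
    rw [← ObjectProperty.FullSubcategory.comp_hom, Subobject.ofLE_arrow]
  exact (imageSubobject_le_iff _ _).2
    ⟨_, 𝟙 _, inferInstance, (Subobject.ofLE P Q h).hom, by rw [Category.id_comp, this]⟩

lemma isStrict_imSub (Y : AN C J) (P : Subobject Y) :
    IsStrict ((Subobject.underlying.obj (imSub J Y P) : PS C)) := by
  have hJ : J.FG := IsNoetherian.noetherian J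
  have hepi : Epi (factorThruImageSubobject P.arrow.hom) := inferInstance
  exact isStrict_of_epi (factorThruImageSubobject P.arrow.hom)
    (isStrict_of_isAdic J (Or.inl hJ) _ (Subobject.underlying.obj P).property.1)

lemma le_of_imSub_le (Y : AN C J) {P Q : Subobject Y} (h : imSub J Y P ≤ imSub J Y Q) : P ≤ Q := by
  have hJ : J.FG := IsNoetherian.noetherian J
  let eQ := factorThruImageSubobject Q.arrow.hom
  have e : eQ ≫ (imageSubobject Q.arrow.hom).arrow = Q.arrow.hom := imageSubobject_arrow_comp _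
  have hKe : IsARNull (kernel eQ) := by
    have hp : kernel.ι eQ ≫ Q.arrow.hom = 0 := by
      calc kernel.ι eQ ≫ Q.arrow.hom
          = (kernel.ι eQ ≫ eQ) ≫ (imageSubobject Q.arrow.hom).arrow := by
            rw [Category.assoc, e]
        _ = 0 := by rw [kernel.condition, zero_comp]
    have : Mono (kernel.lift Q.arrow.hom (kernel.ι eQ) hp) :=
      mono_of_mono_fac (kernel.lift_ι Q.arrow.hom (kernel.ι eQ) hp)
    exact isARNull_of_mono (kernel.lift Q.arrow.hom (kernel.ι eQ) hp)
      (isARNull_kernel_of_mono J Q.arrow)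
  have heAR : IsARIso eQ := isARIso_of_epi eQ hKe
  obtain ⟨g', hg', -⟩ := existsUnique_lift_of_isARIso J (Or.inl hJ)
    (Subobject.underlying.obj P).property.1 (Subobject.underlying.obj Q).property.1.1 eQ heAR
    (factorThruImageSubobject P.arrow.hom ≫ Subobject.ofLE _ _ h)
  refine Subobject.le_of_comm (ObjectProperty.homMk g') ?_
  ext : 1
  change g' ≫ Q.arrow.hom = P.arrow.hom
  calc g' ≫ Q.arrow.hom = (g' ≫ eQ) ≫ (imageSubobject Q.arrow.hom).arrow := by
        rw [Category.assoc, e]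
    _ = P.arrow.hom := by
        rw [hg', Category.assoc, Subobject.ofLE_arrow, imageSubobject_arrow_comp]

theorem isNoetherianObject_AN (Y : AN C J) : IsNoetherianObject Y := by
  rw [isNoetherianObject_iff_monotone_chain_condition]
  intro f
  obtain ⟨k₀, hk₀⟩ := strict_subobject_chain_stabilizes J Y.obj Y.property
    ⟨fun k => imSub J Y (f k), fun k l hkl => imSub_mono J Y (f.monotone hkl)⟩
    (fun k => isStrict_imSub J Y (f k))
  refine ⟨k₀, fun k hk => le_antisymm (f.monotone hk) ?_⟩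
  exact le_of_imSub_le J Y (hk₀ k hk).le

end Noeth

end Groth.Agent.Lib27.ARSys
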