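import Groth.Agent.Lib27.CMReg4
import Groth.Agent.Lib.Helper11.GrLCOrdB
import Groth.Agent.Lib.Helper16.LocCohDepth
import Groth.Agent.Lib.Helper16.DTUnitIdeal

/-!
# Graded Auslander–Buchsbaum over the polynomial ring
-/

set_option autoImplicit false
set_option linter.unusedSectionVars false
set_option linter.unusedVariables false
set_option linter.style.haveILetI false

universe u

namespace Groth.Agent.Lib27.ABGr

open Groth.Agent.Lib27.GrMin Groth.Agent.Lib27.Syz Groth.Agent.Lib27.RegA Matrix MvPolynomial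
  GrLC Groth.Agent.Lib.Helper11.GrConv Groth.Agent.Lib27.LD Groth.Agent.Lib27.CMReg
  Groth.Agent.Lib.Helper11.GrLCLib

variable {k : Type u} [Field k] {r : ℕ}
  {M : Type u} [AddCommGroup M] [Module k M] [Module (MvPolynomial (Fin (r + 1)) k) M]
  {ℳ : ℤ → Submodule k M} [DirectSum.Decomposition ℳ]
  [SetLike.GradedSMul (GrSyz.stdGr k (Fin (r + 1))) ℳ]

/-- cohomology of the dual complex vanishes beyond the length. -/
lemma coVan_of_rk_zero (F : GrSyz.FreeRes (GrSyz.stdGr k (Fin (r + 1))) ℳ) (p : ℕ)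
    (hp : F.rk (p + 1) = 0) (e : ℤ) : CoVan (toCo F) (p + 1) e := by
  intro v hv _
  refine ⟨0, fun b => zero_mem _, ?_⟩
  funext b
  have : (toCo F).rk (p + 1) = 0 := hp
  exact absurd b.2 (by omega)

/-- the top of a minimal resolution gives a nonvanishing class. -/
lemma not_coVan_top (F : GrSyz.FreeRes (GrSyz.stdGr k (Fin (r + 1))) ℳ)
    (hF : F.IsMinimal (GrSyz.irrel (GrSyz.stdGr k (Fin (r + 1)))).toIdeal) (ℓ : ℕ)
    (hℓ : F.rk (ℓ + 1) = 0) (b : Fin (F.rk ℓ)) : ¬ CoVan (toCo F) ℓ (-F.deg ℓ b) := by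
  classical
  intro hvan
  set v : Fin (F.rk ℓ) → MvPolynomial (Fin (r + 1)) k := Pi.single b 1 with hv
  have hvco : IsCo (GrSyz.stdGr k (Fin (r + 1))) (F.deg ℓ) (-F.deg ℓ b) v := by
    intro b'
    by_cases hb : b' = b
    · subst hb
      rw [hv, Pi.single_eq_same, neg_add_cancel]
      exact SetLike.GradedOne.one_mem
    · rw [hv, Pi.single_eq_of_ne hb]
      exact zero_mem _
  have hcyc : v ᵥ* F.d ℓ = 0 := by
    funext b''
    exact absurd b''.2 (by omega)
  have hvb : v b = 1 := by rw [hv, Pi.single_eq_same]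
  cases ℓ with
  | zero =>
    have h0 : v = 0 := hvan v hvco hcyc
    rw [h0] at hvb
    exact zero_ne_one hvb
  | succ p' =>
    obtain ⟨w, _, hwv⟩ := hvan v hvco hcyc
    apply one_notMem_irrel k r
    rw [← hvb, ← hwv]
    show ∑ a, w a * F.d p' a b ∈ _
    refine Ideal.sum_mem _ fun a _ => ?_
    exact Ideal.mul_mem_left _ _ (hF p' a b)

/-- a graded cohomology module all of whose pieces vanish is trivial. -/
lemma subsingleton_H_of_Hgr (E : StarInjRes (GrSyz.stdGr k (Fin (r + 1))) ℳ)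
    (a : HomogeneousIdeal (GrSyz.stdGr k (Fin (r + 1)))) (i : ℕ)
    (h : ∀ (j : ℤ) x, x ∈ E.Hgr a i j → x = 0) : Subsingleton (E.H a i) := by
  letI : DirectSum.Decomposition (conv ℳ) := convDecomposition ℳ
  letI : SetLike.GradedSMul (stdC k r) (conv ℳ) := convGradedSMul (GrSyz.stdGr k (Fin (r + 1))) ℳ
  have hint : DirectSum.IsInternal (E.Hgr a i) :=
    Hgr_isInternal (stdC k r) (conv ℳ) (resConv (GrSyz.stdGr k (Fin (r + 1))) ℳ E)
      (hidealConv (GrSyz.stdGr k (Fin (r + 1))) a) i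
  have hz : ∀ x : E.H a i, x = 0 := by
    intro x
    obtain ⟨z, rfl⟩ := hint.2 x
    have hz0 : z = 0 := by
      refine DFinsupp.ext fun j => Subtype.ext ?_
      exact h j _ (z j).2
    rw [hz0, map_zero]
  exact ⟨fun x y => by rw [hz x, hz y]⟩

/-- the comparison with ungraded local cohomology, for `Submodule` gradings. -/
lemma nonempty_H_equiv_std (E : StarInjRes (GrSyz.stdGr k (Fin (r + 1))) ℳ)
    (a : HomogeneousIdeal (GrSyz.stdGr k (Fin (r + 1)))) (i : ℕ) :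
    Nonempty (E.H a i ≃ₗ[MvPolynomial (Fin (r + 1)) k] LocCoh.H a.toIdeal i M) := by
  letI : DirectSum.Decomposition (conv ℳ) := convDecomposition ℳ
  letI : SetLike.GradedSMul (stdC k r) (conv ℳ) := convGradedSMul (GrSyz.stdGr k (Fin (r + 1))) ℳ
  exact Groth.Agent.Lib.Helper11.GrLCOrd.nonempty_H_equiv
    (resConv (GrSyz.stdGr k (Fin (r + 1))) ℳ E) (hidealConv (GrSyz.stdGr k (Fin (r + 1))) a) i

/-- **Graded Auslander–Buchsbaum** over the polynomial ring. -/
theorem main [Module.Finite (MvPolynomial (Fin (r + 1)) k) M]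
    (F : GrSyz.FreeRes (GrSyz.stdGr k (Fin (r + 1))) ℳ)
    (hF : F.IsMinimal (GrSyz.irrel (GrSyz.stdGr k (Fin (r + 1)))).toIdeal)
    (ℓ : ℕ) (hℓ : F.HasLengthLE ℓ) (hℓ' : F.rk ℓ ≠ 0) :
    (ℓ : ℕ∞) + LocCoh.idealDepth (GrSyz.irrel (GrSyz.stdGr k (Fin (r + 1)))).toIdeal M =
      ((r + 1 : ℕ) : ℕ∞) := by
  classical
  obtain ⟨I, hI⟩ : ∃ I : Ideal (MvPolynomial (Fin (r + 1)) k),
      I = (GrSyz.irrel (GrSyz.stdGr k (Fin (r + 1)))).toIdeal := ⟨_, rfl⟩
  rw [← hI]
  obtain ⟨E⟩ := nonempty_starInjRes_std k r ℳ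
  have hlen := hasLengthLE_of_isMinimal k r ℳ F hF
  have hℓle : ℓ ≤ r + 1 := by
    by_contra hlt
    push Not at hlt
    exact hℓ' (hlen ℓ hlt)
  obtain ⟨t, ht⟩ : ∃ t, ℓ + t = r + 1 := ⟨r + 1 - ℓ, by omega⟩
  -- vanishing below `t`
  have hvan : ∀ i, i < t → Subsingleton (LocCoh.H I i M) := by
    intro i hi
    obtain ⟨e⟩ := nonempty_H_equiv_std E (GrSyz.irrel (GrSyz.stdGr k (Fin (r + 1)))) i
    have hs : Subsingleton (E.H (GrSyz.irrel (GrSyz.stdGr k (Fin (r + 1)))) i) := by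
      apply subsingleton_H_of_Hgr
      intro j
      obtain ⟨p, hp⟩ : ∃ p, p + 1 + i = r + 1 := ⟨r - i, by omega⟩
      exact (ld_poly F E (p + 1) i hp j (-j - ((r + 1 : ℕ) : ℤ)) (by ring)).2
        (coVan_of_rk_zero F p (hℓ _ (by omega)) _)
    rw [hI]
    exact e.symm.toEquiv.subsingleton
  -- nonvanishing at `t`
  have hnt : Nontrivial (LocCoh.H I t M) := by
    obtain ⟨e⟩ := nonempty_H_equiv_std E (GrSyz.irrel (GrSyz.stdGr k (Fin (r + 1)))) t
    have hb : 0 < F.rk ℓ := Nat.pos_of_ne_zero hℓ'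
    have h1 := not_coVan_top F hF ℓ (hℓ _ (Nat.lt_succ_self ℓ)) ⟨0, hb⟩
    rw [← ld_poly F E ℓ t ht (F.deg ℓ ⟨0, hb⟩ - ((r + 1 : ℕ) : ℤ)) (-F.deg ℓ ⟨0, hb⟩)
      (by ring)] at h1
    push Not at h1
    obtain ⟨x, hx, hx0⟩ := h1
    have hn : Nontrivial (E.H (GrSyz.irrel (GrSyz.stdGr k (Fin (r + 1)))) t) := ⟨⟨x, 0, hx0⟩⟩
    rw [hI]
    exact e.symm.toEquiv.nontrivial
  -- `I M ≠ M`
  have hIM : I • (⊤ : Submodule (MvPolynomial (Fin (r + 1)) k) M) ≠ ⊤ := by
    intro h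
    have hs : Subsingleton (LocCoh.H I t M) := by
      apply Groth.Agent.Lib.Helper16.LC.subsingleton_H_of_forall
      intro k'
      exact Groth.Agent.Lib.Helper16.Depth.subsingleton_ext_of_smul_top_eq_top (I ^ k') M
        (Groth.Agent.Lib.Helper16.DTL.pow_smul_top_eq_top I h k') t
    exact not_subsingleton _ hs
  -- the depth is `t`
  have hle : LocCoh.idealDepth I M < ((t + 1 : ℕ) : ℕ∞) := by
    by_contra hge
    push Not at hge
    have hs := Groth.Agent.Lib.Helper16.LC.subsingleton_H_of_lt_idealDepth I M hIM (t + 1) hge t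
      (Nat.lt_succ_self t)
    exact not_subsingleton _ hs
  obtain ⟨n', hn'⟩ : ∃ n' : ℕ, LocCoh.idealDepth I M = n' := by
    have hne : LocCoh.idealDepth I M ≠ ⊤ := ne_top_of_lt hle
    exact ⟨(LocCoh.idealDepth I M).toNat, (ENat.coe_toNat hne).symm⟩
  have hn't : n' = t := by
    have h1 : n' < t + 1 := by
      rw [hn'] at hle
      exact_mod_cast hle
    have h2 : ¬ n' < t := by
      intro hlt
      have hs := hvan n' hlt
      have hnt' := Groth.Agent.Lib.Helper16.LC.nontrivial_H_of_idealDepth_eq I M hIM n' hn'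
      exact not_subsingleton _ hs
    omega
  rw [hn', hn't]
  exact_mod_cast ht

end Groth.Agent.Lib27.ABGr
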