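import Groth.Agent.Lib27.PElem

/-! An abstract Hilbert basis theorem for graded objects with commuting degree one operators
in an abelian category (helper27). -/

set_option autoImplicit false
set_option linter.unusedSectionVars false
open CategoryTheory CategoryTheory.Limits Opposite
universe v u

namespace Groth.Agent.Lib27.AHB

open Groth.Agent.Lib27.PElem Groth.Agent.Lib27.NoethSerre

/-! ### An order-theoretic lemma -/

lemma diag_stabilize {P : Type*} [PartialOrder P] (S : Set P)
    (hacc : ∀ f : ℕ → P, Monotone f → (∀ k, f k ∈ S) → ∃ k₀, ∀ k, k₀ ≤ k → f k = f k₀)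
    (g : ℕ → ℕ → P) (hg₁ : ∀ k, Monotone (fun e => g e k)) (hg₂ : ∀ e, Monotone (fun k => g e k))
    (hgS : ∀ e k, g e k ∈ S) : ∃ K, ∀ k, K ≤ k → ∀ e, g e k = g e K := by
  obtain ⟨k₀, hk₀⟩ := hacc (fun k => g k k)
    (fun k l hkl => (hg₁ k hkl).trans (hg₂ l hkl)) (fun k => hgS k k)
  have hcol : ∀ e, ∃ ke, ∀ k, ke ≤ k → g e k = g e ke := fun e => hacc (fun k => g e k) (hg₂ e)
    (fun k => hgS e k)
  choose ke hke using hcol
  let K : ℕ := max k₀ ((Finset.range k₀).sup ke)
  have hK : k₀ ≤ K := le_max_left _ _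
  refine ⟨K, fun k hk e => ?_⟩
  by_cases he : e < k₀
  · have h1 : ke e ≤ K :=
      le_trans (Finset.le_sup (f := ke) (Finset.mem_range.mpr he)) (le_max_right _ _)
    rw [hke e k (h1.trans hk), hke e K h1]
  · push Not at he
    have hconst : ∀ k, k₀ ≤ k → g e k = g k₀ k₀ := by
      intro k hk
      apply le_antisymm
      · have h1 : g e k ≤ g (max e k) (max e k) :=
          (hg₁ k (le_max_left e k)).trans (hg₂ _ (le_max_right e k))
        have h2 : g (max e k) (max e k) = g k₀ k₀ := hk₀ (max e k) (hk.trans (le_max_right e k))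
        rwa [h2] at h1
      · exact (hg₁ k₀ he).trans (hg₂ e hk)
    rw [hconst k (hK.trans hk), hconst K hK]

variable {C : Type u} [Category.{v} C] [Abelian C] {ι : Type*}

/-- A graded object with commuting operators of degree one. -/
structure GrMod (C : Type u) [Category.{v} C] (ι : Type*) where
  N : ℕ → C
  t : ι → ∀ q, N q ⟶ N (q + 1)
  comm : ∀ i j q, t i q ≫ t j (q + 1) = t j q ≫ t i (q + 1)

namespace GrMod

variable (G : GrMod C ι)

/-- families of subobjects -/
abbrev Fam : Type (max u v) := ∀ q, Subobject (G.N q)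

/-- stability under the operators in `s` -/
def IsSub (s : Finset ι) (M : G.Fam) : Prop :=
  ∀ i ∈ s, ∀ (q : ℕ) (T : C) (x : T ⟶ G.N q), (M q).Factors x → (M (q + 1)).Factors (x ≫ G.t i q)

/-- the ascending chain condition on `s`-stable families containing `S` -/
def ACCAbove (s : Finset ι) (S : G.Fam) : Prop :=
  ∀ M : ℕ → G.Fam, (∀ k, G.IsSub s (M k)) → (∀ k, S ≤ M k) → Monotone M →
    ∃ k₀, ∀ k, k₀ ≤ k → M k = M k₀

lemma IsSub.mono {s s' : Finset ι} (h : s' ⊆ s) {M : G.Fam} (hM : G.IsSub s M) : G.IsSub s' M :=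
  fun i hi => hM i (h hi)

/-! ### Powers of one operator -/

/-- the `e`-th power of `t j`, from degree `a` to degree `b = a + e` -/
noncomputable def pw (j : ι) : ∀ (e a b : ℕ), a + e = b → (G.N a ⟶ G.N b)
  | 0, _, _, h => eqToHom (by rw [← h]; rfl)
  | e + 1, a, b, h => G.t j a ≫ pw j e (a + 1) b (by omega)

lemma pw_zero (j : ι) (a : ℕ) : G.pw j 0 a a rfl = 𝟙 _ := by
  simp [pw]

lemma pw_succ (j : ι) (e a b : ℕ) (h : a + (e + 1) = b) :
    G.pw j (e + 1) a b h = G.t j a ≫ G.pw j e (a + 1) b (by omega) := rfl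

lemma pw_comm (i j : ι) : ∀ (e a b : ℕ) (h : a + e = b),
    G.pw j e a b h ≫ G.t i b = G.t i a ≫ G.pw j e (a + 1) (b + 1) (by omega) := by
  intro e
  induction e with
  | zero =>
    intro a b h
    obtain rfl : a = b := by omega
    rw [pw_zero, pw_zero, Category.id_comp, Category.comp_id]
  | succ e ih =>
    intro a b h
    rw [pw_succ, pw_succ, Category.assoc, ih (a + 1) b (by omega), ← Category.assoc,
      ← Category.assoc, G.comm j i a]

lemma pw_succ' (j : ι) (e a b : ℕ) (h : a + e = b) :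
    G.pw j (e + 1) a (b + 1) (by omega) = G.pw j e a b h ≫ G.t j b := by
  rw [pw_succ, pw_comm]

lemma pw_one (j : ι) (a : ℕ) : G.pw j 1 a (a + 1) rfl = G.t j a := by
  rw [pw_succ, pw_zero, Category.comp_id]

lemma pw_add (j : ι) : ∀ (e e' a b c : ℕ) (h : a + e = b) (h' : b + e' = c),
    G.pw j e a b h ≫ G.pw j e' b c h' = G.pw j (e + e') a c (by omega) := by
  intro e
  induction e with
  | zero =>
    intro e' a b c h h'
    obtain rfl : a = b := by omega
    rw [pw_zero, Category.id_comp]
    congr 1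
    omega
  | succ e ih =>
    intro e' a b c h h'
    have e1 : e + 1 + e' = (e + e') + 1 := by omega
    have : G.pw j (e + 1 + e') a c (by omega) = G.pw j ((e + e') + 1) a c (by omega) := by
      congr 1
    rw [this, pw_succ, pw_succ, Category.assoc, ih e' (a + 1) b c (by omega) h']

lemma IsSub.pw_factors {s : Finset ι} {M : G.Fam} (hM : G.IsSub s M) {j : ι} (hj : j ∈ s) :
    ∀ (e a b : ℕ) (h : a + e = b) (T : C) (x : T ⟶ G.N a), (M a).Factors x →
      (M b).Factors (x ≫ G.pw j e a b h) := by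
  intro e
  induction e with
  | zero =>
    intro a b h T x hx
    obtain rfl : a = b := by omega
    rwa [pw_zero, Category.comp_id]
  | succ e ih =>
    intro a b h T x hx
    rw [pw_succ, ← Category.assoc]
    exact ih (a + 1) b (by omega) T _ (hM j hj a T x hx)

/-! ### The subobjects `t_j^e N` -/

/-- `t_j^e N_{q-e}` as a subobject of `N_q` -/
noncomputable def Tj (j : ι) (e q : ℕ) : Subobject (G.N q) :=
  if h : e ≤ q then imageSubobject (G.pw j e (q - e) q (by omega)) else ⊥

lemma Tj_of_lt (j : ι) {e q : ℕ} (h : q < e) : G.Tj j e q = ⊥ := by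
  unfold Tj; rw [dif_neg (by omega)]

lemma factors_Tj_iff (j : ι) (e q : ℕ) {T : C} (y : T ⟶ G.N q) :
    (G.Tj j e q).Factors y ↔ (e ≤ q ∧
      ∃ (T' : C) (π : T' ⟶ T) (_ : Epi π) (d : ℕ) (h : d + e = q) (x : T' ⟶ G.N d),
        π ≫ y = x ≫ G.pw j e d q h) ∨ (q < e ∧ y = 0) := by
  by_cases heq : e ≤ q
  · unfold Tj
    rw [dif_pos heq, factors_image_iff]
    constructor
    · rintro ⟨T', π, hπ, x, hx⟩
      exact Or.inl ⟨heq, T', π, hπ, q - e, by omega, x, hx⟩
    · rintro (⟨-, T', π, hπ, d, h, x, hx⟩ | ⟨h, -⟩)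
      · obtain rfl : d = q - e := by omega
        exact ⟨T', π, hπ, x, hx⟩
      · omega
  · rw [G.Tj_of_lt j (by omega : q < e)]
    constructor
    · intro h
      refine Or.inr ⟨by omega, ?_⟩
      rw [← Subobject.factorThru_arrow _ y h, Subobject.bot_arrow, comp_zero]
    · rintro (⟨h, -⟩ | ⟨-, rfl⟩)
      · omega
      · exact Subobject.factors_zero

lemma Tj_factors_pw (j : ι) (e d q : ℕ) (h : d + e = q) {T : C} (x : T ⟶ G.N d) :
    (G.Tj j e q).Factors (x ≫ G.pw j e d q h) :=
  (G.factors_Tj_iff j e q _).2 (Or.inl ⟨by omega, T, 𝟙 T, inferInstance, d, h, x, by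
    rw [Category.id_comp]⟩)

lemma Tj_zero (j : ι) (q : ℕ) : G.Tj j 0 q = ⊤ := by
  rw [eq_top_iff, le_iff_forall_factors]
  intro T x _
  have := G.Tj_factors_pw j 0 q q rfl x
  rwa [pw_zero, Category.comp_id] at this

/-- `t_j^e N` is stable under every operator -/
lemma Tj_stable (i j : ι) (e q : ℕ) {T : C} (y : T ⟶ G.N q) (hy : (G.Tj j e q).Factors y) :
    (G.Tj j e (q + 1)).Factors (y ≫ G.t i q) := by
  rcases (G.factors_Tj_iff j e q y).1 hy with ⟨-, T', π, hπ, d, h, x, hx⟩ | ⟨-, rfl⟩
  · apply factors_of_epi_comp _ π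
    rw [← Category.assoc, hx, Category.assoc, pw_comm, ← Category.assoc]
    exact G.Tj_factors_pw j e (d + 1) (q + 1) (by omega) _
  · rw [zero_comp]; exact Subobject.factors_zero

/-- `t_j (t_j^e N) ⊆ t_j^{e+1} N` -/
lemma Tj_succ (j : ι) (e q : ℕ) {T : C} (y : T ⟶ G.N q) (hy : (G.Tj j e q).Factors y) :
    (G.Tj j (e + 1) (q + 1)).Factors (y ≫ G.t j q) := by
  rcases (G.factors_Tj_iff j e q y).1 hy with ⟨-, T', π, hπ, d, h, x, hx⟩ | ⟨-, rfl⟩
  · apply factors_of_epi_comp _ π
    rw [← Category.assoc, hx, Category.assoc, ← G.pw_succ' j e d q h]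
    exact G.Tj_factors_pw j (e + 1) d (q + 1) (by omega) _
  · rw [zero_comp]; exact Subobject.factors_zero

/-! ### Leading parts -/

/-- the `e`-th leading part of `M` with respect to the operator `t j` -/
noncomputable def Lj (j : ι) (M : G.Fam) (e : ℕ) : G.Fam := fun d =>
  (Subobject.pullback (G.pw j e d (d + e) rfl)).obj (M (d + e) ⊔ G.Tj j (e + 1) (d + e))

lemma factors_Lj_iff (j : ι) (M : G.Fam) (e d b : ℕ) (h : d + e = b) {T : C} (x : T ⟶ G.N d) :
    (G.Lj j M e d).Factors x ↔ (M b ⊔ G.Tj j (e + 1) b).Factors (x ≫ G.pw j e d b h) := by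
  subst h
  exact NoethSerre.pullback_factors_iff _ _ _

lemma Lj_mono_right (j : ι) {M M' : G.Fam} (h : M ≤ M') (e : ℕ) : G.Lj j M e ≤ G.Lj j M' e := by
  intro d
  rw [le_iff_forall_factors]
  intro T x hx
  rw [G.factors_Lj_iff j _ e d (d + e) rfl] at hx ⊢
  exact Subobject.factors_of_le _ (sup_le_sup_right (h (d + e)) _) hx

lemma Lj_mono_left (j : ι) {s : Finset ι} (hj : j ∈ s) {M : G.Fam} (hM : G.IsSub s M) {e e' : ℕ}
    (h : e ≤ e') : G.Lj j M e ≤ G.Lj j M e' := by
  induction h with
  | refl => exact le_rfl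
  | step h ih =>
    rename_i e''
    refine ih.trans ?_
    intro d
    rw [le_iff_forall_factors]
    intro T x hx
    rw [G.factors_Lj_iff j _ e'' d (d + e'') rfl] at hx
    rw [G.factors_Lj_iff j _ (e'' + 1) d (d + e'' + 1) rfl, G.pw_succ' j e'' d (d + e'') rfl,
      ← Category.assoc]
    obtain ⟨T', π, hπ, y, y', hy, hy', e⟩ := (factors_sup_iff _ _ _).1 hx
    apply factors_of_epi_comp _ π
    rw [← Category.assoc, e, Preadditive.add_comp]
    exact Subobject.factors_add _ _
      (Subobject.factors_of_le _ le_sup_left (hM j hj _ _ y hy))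
      (Subobject.factors_of_le _ le_sup_right (G.Tj_succ j (e'' + 1) _ y' hy'))

lemma isSub_Lj (j : ι) {s s' : Finset ι} (hs : s' ⊆ s) {M : G.Fam} (hM : G.IsSub s M) (e : ℕ) :
    G.IsSub s' (G.Lj j M e) := by
  intro i hi d T x hx
  rw [G.factors_Lj_iff j _ e d (d + e) rfl] at hx
  rw [G.factors_Lj_iff j _ e (d + 1) (d + e + 1) (by omega), Category.assoc, ← G.pw_comm i j e d
    (d + e) rfl, ← Category.assoc]
  obtain ⟨T', π, hπ, y, y', hy, hy', e'⟩ := (factors_sup_iff _ _ _).1 hx
  apply factors_of_epi_comp _ π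
  rw [← Category.assoc, e', Preadditive.add_comp]
  exact Subobject.factors_add _ _
    (Subobject.factors_of_le _ le_sup_left (hM i (hs hi) _ _ y hy))
    (Subobject.factors_of_le _ le_sup_right (G.Tj_stable i j (e + 1) _ y' hy'))

/-- the family `S + t_j N` -/
noncomputable def addT (j : ι) (S : G.Fam) : G.Fam := fun q => S q ⊔ G.Tj j 1 q

lemma addT_le_Lj (j : ι) {s : Finset ι} (hj : j ∈ s) {S M : G.Fam} (hM : G.IsSub s M)
    (hSM : S ≤ M) (e : ℕ) : G.addT j S ≤ G.Lj j M e := by
  intro d
  apply sup_le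
  · rw [le_iff_forall_factors]
    intro T x hx
    rw [G.factors_Lj_iff j _ e d (d + e) rfl]
    exact Subobject.factors_of_le _ le_sup_left
      (hM.pw_factors G hj e d (d + e) rfl T x (Subobject.factors_of_le _ (hSM d) hx))
  · rw [le_iff_forall_factors]
    intro T x hx
    rw [G.factors_Lj_iff j _ e d (d + e) rfl]
    apply Subobject.factors_of_le _ le_sup_right
    rcases (G.factors_Tj_iff j 1 d x).1 hx with ⟨-, T', π, hπ, d', h, x', hx'⟩ | ⟨-, rfl⟩
    · apply factors_of_epi_comp _ π
      rw [← Category.assoc, hx', Category.assoc, G.pw_add j 1 e d' d (d + e) h rfl]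
      have : G.pw j (1 + e) d' (d + e) (by omega) = G.pw j (e + 1) d' (d + e) (by omega) := by
        congr 1; omega
      rw [this]
      exact G.Tj_factors_pw j (e + 1) d' (d + e) (by omega) _
    · rw [zero_comp]; exact Subobject.factors_zero

lemma isSub_addT (j : ι) {s : Finset ι} {S : G.Fam} (hS : G.IsSub s S) : G.IsSub s (G.addT j S) := by
  intro i hi q T x hx
  obtain ⟨T', π, hπ, y, y', hy, hy', e⟩ := (factors_sup_iff _ _ _).1 hx
  apply factors_of_epi_comp _ π
  rw [← Category.assoc, e, Preadditive.add_comp]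
  exact Subobject.factors_add _ _
    (Subobject.factors_of_le _ le_sup_left (hS i hi _ _ y hy))
    (Subobject.factors_of_le _ le_sup_right (G.Tj_stable i j 1 _ y' hy'))

/-- strictness: the leading parts determine the family -/
lemma le_of_Lj_le (j : ι) {M M' : G.Fam} (hMM' : M ≤ M') (hL : ∀ e, G.Lj j M' e ≤ G.Lj j M e) :
    M' ≤ M := by
  intro q
  -- downward induction on `e`
  have key : ∀ e : ℕ, e ≤ q + 1 → M' q ⊓ G.Tj j (q + 1 - e) q ≤ M q := by
    intro e
    induction e with
    | zero =>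
      intro _
      rw [G.Tj_of_lt j (by omega : q < q + 1 - 0)]
      simp
    | succ e ih =>
      intro he
      have ih' := ih (by omega)
      rw [le_iff_forall_factors] at ih' ⊢
      intro T y hy
      rw [Subobject.inf_factors] at hy
      obtain ⟨hy1, hy2⟩ := hy
      have he' : q + 1 - e = (q + 1 - (e + 1)) + 1 := by omega
      rcases (G.factors_Tj_iff j _ q y).1 hy2 with ⟨-, T', π, hπ, d, h, x, hx⟩ | ⟨h, -⟩
      · -- `x` lies in the leading part of `M'`
        have hxL : (G.Lj j M' (q + 1 - (e + 1)) d).Factors x := by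
          rw [G.factors_Lj_iff j _ _ d q h, ← hx]
          exact Subobject.factors_of_le _ le_sup_left (Subobject.factors_of_factors_right π hy1)
        have hxL' := Subobject.factors_of_le _ (hL _ d) hxL
        rw [G.factors_Lj_iff j _ _ d q h, ← hx] at hxL'
        obtain ⟨T'', π', hπ', m, τ, hm, hτ, e'⟩ := (factors_sup_iff _ _ _).1 hxL'
        -- `τ` lies in `M' ⊓ T^{(e+1)}`
        have hτ' : (M' q ⊓ G.Tj j (q + 1 - e) q).Factors τ := by
          rw [Subobject.inf_factors]
          refine ⟨?_, by rw [he']; exact hτ⟩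
          have : τ = π' ≫ π ≫ y - m := by rw [e']; abel
          rw [this]
          exact factors_sub _ _ _ (Subobject.factors_of_factors_right _
            (Subobject.factors_of_factors_right _ hy1)) (Subobject.factors_of_le _ (hMM' q) hm)
        have hτM := ih' _ τ hτ'
        apply factors_of_epi_comp _ (π' ≫ π)
        rw [Category.assoc, e']
        exact Subobject.factors_add _ _ hm hτM
      · omega
  have := key (q + 1) le_rfl
  rw [Nat.sub_self, G.Tj_zero, inf_top_eq] at this
  exact this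

/-! ### The theorem -/

theorem accAbove [IsNoetherianObject (G.N 0)] (s : Finset ι) :
    ∀ (S : G.Fam), G.IsSub s S →
      (∀ q, S (q + 1) ⊔ s.sup (fun i => imageSubobject (G.t i q)) = ⊤) → G.ACCAbove s S := by
  classical
  induction s using Finset.induction_on with
  | empty =>
    intro S _ hgen M _ hSM hmono
    have htop : ∀ k q, M k (q + 1) = ⊤ := by
      intro k q
      have := hgen q
      rw [Finset.sup_empty, sup_bot_eq] at this
      exact top_unique (this ▸ hSM k (q + 1))
    obtain ⟨k₀, hk₀⟩ := monotone_chain_condition_of_isNoetherianObject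
      (⟨fun k => M k 0, fun k l hkl => hmono hkl 0⟩ : ℕ →o Subobject (G.N 0))
    refine ⟨k₀, fun k hk => ?_⟩
    funext q
    cases q with
    | zero => exact (hk₀ k hk).symm
    | succ q => rw [htop, htop]
  | insert j s' hj ih =>
    intro S hS hgen M hM hSM hmono
    have hjmem : j ∈ insert j s' := Finset.mem_insert_self j s'
    have hsub : s' ⊆ insert j s' := Finset.subset_insert j s'
    -- the induction hypothesis applies to `S + t_j N`
    have hgen' : ∀ q, G.addT j S (q + 1) ⊔ s'.sup (fun i => imageSubobject (G.t i q)) = ⊤ := by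
      intro q
      have h1 : G.Tj j 1 (q + 1) = imageSubobject (G.t j q) := by
        apply le_antisymm
        · rw [le_iff_forall_factors]
          intro T x hx
          rcases (G.factors_Tj_iff j 1 (q + 1) x).1 hx with ⟨-, T', π, hπ, d, h, x', hx'⟩ | ⟨h, -⟩
          · obtain rfl : d = q := by omega
            apply factors_of_epi_comp _ π
            rw [hx', G.pw_one]
            exact imageSubobject_factors_comp_self _ _
          · omega
        · refine imageSubobject_le _ ((G.Tj j 1 (q + 1)).factorThru (G.t j q) ?_)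
            (Subobject.factorThru_arrow _ _ _)
          have := G.Tj_factors_pw j 1 q (q + 1) rfl (𝟙 _)
          rwa [Category.id_comp, G.pw_one] at this
      have := hgen q
      rw [Finset.sup_insert] at this
      rw [← this]
      unfold addT
      rw [h1, sup_assoc]
    have hacc := ih (G.addT j S) (G.isSub_addT j (hS.mono G hsub)) hgen'
    -- the doubly indexed family of leading parts
    obtain ⟨K, hK⟩ := diag_stabilize
      {L : G.Fam | G.IsSub s' L ∧ G.addT j S ≤ L}
      (fun f hf hfS => hacc f (fun k => (hfS k).1) (fun k => (hfS k).2) hf)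
      (fun e k => G.Lj j (M k) e)
      (fun k e e' hee' => G.Lj_mono_left j hjmem (hM k) hee')
      (fun e k k' hkk' => G.Lj_mono_right j (hmono hkk') e)
      (fun e k => ⟨G.isSub_Lj j hsub (hM k) e, G.addT_le_Lj j hjmem (hM k) (hSM k) e⟩)
    refine ⟨K, fun k hk => le_antisymm ?_ (hmono hk)⟩
    exact G.le_of_Lj_le j (hmono hk) (fun e => (hK k hk e).le)

end GrMod

end Groth.Agent.Lib27.AHB
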