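import Groth.Agent.Lib27.ARSerre
import Groth.Agent.Lib27.ARAdic

/-! Strict systems that are adic up to translation (helper27). -/

set_option autoImplicit false
set_option linter.unusedSectionVars false
open CategoryTheory CategoryTheory.Limits Opposite
universe w v u

namespace Groth.Agent.Lib27.ARSys

open _root_.ARSys

variable {C : Type u} [Category.{v} C] [Abelian C] {A : Type w} [CommRing A] [Linear A C]

lemma homKilledBy_mono {I I' : Ideal A} (h : I' ≤ I) {X Y : C} {φ : X ⟶ Y}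
    (hφ : HomKilledBy I φ) : HomKilledBy I' φ := fun a ha => hφ a (h ha)

lemma homKilledBy_comp_left {I : Ideal A} {X Y Z : C} (f : X ⟶ Y) {φ : Y ⟶ Z}
    (hφ : HomKilledBy I φ) : HomKilledBy I (f ≫ φ) := fun a ha => by
  rw [← Linear.comp_smul, hφ a ha, comp_zero]

lemma homKilledBy_of_epi_comp {I : Ideal A} {X Y Z : C} (f : X ⟶ Y) [Epi f] {φ : Y ⟶ Z}
    (hφ : HomKilledBy I (f ≫ φ)) : HomKilledBy I φ := fun a ha => by
  rw [← cancel_epi f, comp_zero, Linear.comp_smul]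
  exact hφ a ha

/-- Lemma Q: termwise truncation `Y_n = Z_n / J^{n+1} Z_n`. -/
theorem exists_termwise_quot (J : Ideal A) (hJ : J.FG ∨ HasCoproducts.{w} C) (Z : PS C) :
    ∃ (Y : PS C) (q : Z ⟶ Y), ∀ n : ℕ, IsQuot (J ^ (n + 1)) (q.app (op n)) := by
  have hG : ∀ n : ℕ, Nonempty (GenFam C (J ^ (n + 1))) := fun n => nonempty_genFam J hJ (n + 1)
  let G : ∀ n : ℕ, GenFam C (J ^ (n + 1)) := fun n => (hG n).some
  let Yo : ℕ → C := fun n => cokernel ((G n).σ (Z.obj (op n)))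
  let qo : ∀ n, Z.obj (op n) ⟶ Yo n := fun n => cokernel.π _
  have hq : ∀ n, IsQuot (J ^ (n + 1)) (qo n) := fun n =>
    (G n).isQuot_of_exact (qo n) (cokernel.condition _)
      (ShortComplex.exact_of_g_is_cokernel _ (cokernelIsCokernel _))
  have hφ : ∀ n, ∃ φ : Yo (n + 1) ⟶ Yo n, qo (n + 1) ≫ φ = tr Z (Nat.le_add_right n 1) ≫ qo n := by
    intro n
    have hk : HomKilledBy (J ^ (n + 1 + 1)) (tr Z (Nat.le_add_right n 1) ≫ qo n) :=
      homKilledBy_comp_left _ (homKilledBy_mono (Ideal.pow_le_pow_right (Nat.le_succ _))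
        (GenFam.homKilledBy_of_killedBy_tgt _ (hq n).1))
    exact ((hq (n + 1)).2 _ _ hk).exists
  choose φ hφ using hφ
  refine ⟨Functor.ofOpSequence φ, NatTrans.ofOpSequence (G := Functor.ofOpSequence φ) qo ?_, ?_⟩
  · intro n
    rw [Functor.ofOpSequence_map_homOfLE_succ]
    exact (hφ n).symm
  · intro n
    exact hq n

/-- Lemma K: the kernel condition implies that the termwise truncation is adic. -/
theorem isAdic_of_kernel_condition (J : Ideal A) (Z Y : PS C) (hZ : IsStrict Z) (q : Z ⟶ Y)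
    (hq : ∀ n : ℕ, IsQuot (J ^ (n + 1)) (q.app (op n)))
    (hker : ∀ (n m : ℕ) (h : n ≤ m) (W : C) (ψ : Z.obj (op m) ⟶ W),
      HomKilledBy (J ^ (n + 1)) ψ → kernel.ι (tr Z h) ≫ ψ = 0) : IsAdic J Y := by
  have hqe : ∀ n, Epi (q.app (op n)) := fun n => GenFam.epi_of_isQuot (hq n)
  have hYe : ∀ (n m : ℕ) (h : n ≤ m), Epi (tr Y h) := by
    intro n m h
    have := hZ n m h
    have := hqe n
    have : Epi (q.app (op m) ≫ tr Y h) := by rw [← tr_naturality]; exact epi_comp _ _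
    exact epi_of_epi (q.app (op m)) _
  refine ⟨fun n => (hq n).1, fun n m h => ⟨(hq n).1, fun W φ hφ => ?_⟩⟩
  have := hZ n m h
  have := hqe n
  have := hqe m
  have := hYe n m h
  have hψ : HomKilledBy (J ^ (n + 1)) (q.app (op m) ≫ φ) := homKilledBy_comp_left _ hφ
  have h0 := hker n m h W _ hψ
  have hψ' : HomKilledBy (J ^ (n + 1)) (Abelian.epiDesc (tr Z h) _ h0) := by
    apply homKilledBy_of_epi_comp (tr Z h)
    rw [Abelian.comp_epiDesc]
    exact hψ
  obtain ⟨ψ'', hψ'', -⟩ := (hq n).2 W _ hψ'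
  have hψ''' : q.app (op n) ≫ ψ'' = Abelian.epiDesc (tr Z h) _ h0 := hψ''
  refine ⟨ψ'', ?_, fun ψ₂ hψ₂ => ?_⟩
  · show tr Y h ≫ ψ'' = φ
    rw [← cancel_epi (q.app (op m)), ← Category.assoc, ← tr_naturality, Category.assoc, hψ''',
      Abelian.comp_epiDesc]
  · have e1 : tr Y h ≫ ψ₂ = φ := hψ₂
    rw [← cancel_epi (tr Y h), e1]
    rw [← cancel_epi (q.app (op m)), ← Category.assoc, ← tr_naturality, Category.assoc, hψ''',
      Abelian.comp_epiDesc]

/-- Lemma B: a strict term-killed system with an adic termwise truncation of a translate is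
adic up to translation. -/
theorem isARAdic_of_quot (J : Ideal A) (X : PS C) (hX : IsStrict X) (kX : TermKilled J X) (r : ℕ)
    (Y : PS C) (q : (shift C r).obj X ⟶ Y)
    (hq : ∀ n : ℕ, IsQuot (J ^ (n + 1)) (q.app (op n))) (hY : IsAdic J Y) : IsARAdic J X := by
  obtain ⟨q', hq'nat, hq'eq⟩ : ∃ q' : ∀ n, X.obj (op (n + r)) ⟶ Y.obj (op n),
      (∀ n m (h : n ≤ m), q' m ≫ tr Y h = tr X (Nat.add_le_add_right h r) ≫ q' n) ∧
      (∀ n, q.app (op n) = q' n) :=
    ⟨fun n => q.app (op n), fun n m h => (q.naturality (homOfLE h).op).symm, fun n => rfl⟩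
  have hq'Q : ∀ n, IsQuot (J ^ (n + 1)) (q' n) := fun n => hq'eq n ▸ hq n
  have hqe : ∀ n, Epi (q' n) := fun n => GenFam.epi_of_isQuot (hq'Q n)
  have hu : ∀ n, ∃ u : Y.obj (op n) ⟶ X.obj (op n), q' n ≫ u = tr X (Nat.le_add_right n r) :=
    fun n => ((hq'Q n).2 _ _ (GenFam.homKilledBy_of_killedBy_tgt _ (kX n))).exists
  choose u hu using hu
  have hnat : ∀ (n m : ℕ) (h : n ≤ m), tr Y h ≫ u n = u m ≫ tr X h := by
    intro n m h
    have := hqe m
    rw [← cancel_epi (q' m), ← Category.assoc, hq'nat n m h, Category.assoc, hu n,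
      ← Category.assoc, hu m, tr_comp, tr_comp]
  have hnat' : ∀ (a b : ℕᵒᵖ) (φ : a ⟶ b), Y.map φ ≫ u b.unop = u a.unop ≫ X.map φ := by
    intro a b φ
    rw [map_eq_tr, map_eq_tr]
    exact hnat _ _ _
  let U : Y ⟶ X := { app := fun a => u a.unop, naturality := hnat' }
  have hUe : Epi U := by
    have : ∀ a : ℕᵒᵖ, Epi (U.app a) := by
      rintro ⟨n⟩
      have := hX n (n + r) (Nat.le_add_right n r)
      have : Epi (q' n ≫ u n) := by rw [hu n]; infer_instance
      exact epi_of_epi (q' n) (u n)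
    exact NatTrans.epi_of_epi_app _
  refine ⟨kX, Y, U, hY, ?_, isARNull_of_isZero _ (isZero_cokernel_of_epi U)⟩
  -- the kernel is killed by the translation by `r`
  refine (isARNull_iff _).2 ⟨r, fun n => ?_⟩
  have key : tr Y (Nat.le_add_right n r) = u (n + r) ≫ q' n := by
    have := hqe (n + r)
    rw [← cancel_epi (q' (n + r)), hq'nat n (n + r) (Nat.le_add_right n r), ← Category.assoc,
      hu (n + r)]
  have : Mono ((kernel.ι U).app (op n)) := inferInstance
  rw [← cancel_mono ((kernel.ι U).app (op n)), zero_comp, tr_naturality, key, ← Category.assoc]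
  have h0 : (kernel.ι U).app (op (n + r)) ≫ u (n + r) = 0 :=
    congrArg (fun φ => φ.app (op (n + r))) (kernel.condition U)
  rw [h0, zero_comp]

/-- Lemma A -/
theorem kernel_condition_of_isARAdic (J : Ideal A) (X : PS C) (hX : IsStrict X) (Y' : PS C)
    (u' : Y' ⟶ X) (hY' : IsAdic J Y') (hu' : IsARIso u') :
    ∃ r₁ : ℕ, ∀ (n M : ℕ) (h : n + r₁ ≤ M) (W : C) (ψ : X.obj (op M) ⟶ W),
      HomKilledBy (J ^ (n + 1)) ψ → ∀ (T : C) (k : T ⟶ X.obj (op M)), k ≫ tr X h = 0 →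
        k ≫ ψ = 0 := by
  obtain ⟨r₁, hr₁⟩ := (isARNull_iff _).1 hu'.1
  obtain ⟨r₂, hr₂⟩ := (isARNull_iff _).1 hu'.2
  -- exactness of `Y' → X → Q`
  let S₂ := ShortComplex.mk u' (cokernel.π u') (cokernel.condition u')
  have hS₂ : S₂.Exact := ShortComplex.exact_of_g_is_cokernel _ (cokernelIsCokernel u')
  have hue : ∀ n, Epi (u'.app (op n)) := by
    intro n
    have hc : (cokernel.π u').app (op n) = 0 := by
      have := hX n (n + r₂) (Nat.le_add_right n r₂)
      rw [← cancel_epi (tr X (Nat.le_add_right n r₂)), tr_naturality, hr₂ n, comp_zero, comp_zero]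
    have hSn : (S₂.map ((evaluation ℕᵒᵖ C).obj (op n))).Exact := hS₂.map _
    rw [epi_iff_surjective_up_to_refinements]
    intro T x
    have hx0 : x ≫ (cokernel.π u').app (op n) = 0 := by rw [hc, comp_zero]
    obtain ⟨T', π, hπ, y, hy⟩ := hSn.exact_up_to_refinements x hx0
    exact ⟨T', π, hπ, y, hy⟩
  -- exactness of `K → Y' → X`
  let S₁ := ShortComplex.mk (kernel.ι u') u' (kernel.condition u')
  have hS₁ : S₁.Exact := ShortComplex.exact_of_f_is_kernel _ (kernelIsKernel u')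
  refine ⟨r₁, fun n M h W ψ hψ T k hk => ?_⟩
  have hnM : n ≤ M := le_trans (Nat.le_add_right n r₁) h
  have := hue M
  obtain ⟨T₁, π₁, hπ₁, y, hy⟩ := surjective_up_to_refinements_of_epi (u'.app (op M)) k
  have h2 : (y ≫ tr Y' h) ≫ u'.app (op (n + r₁)) = 0 := by
    rw [Category.assoc, tr_naturality, ← Category.assoc, ← hy, Category.assoc, hk, comp_zero]
  have hSn : (S₁.map ((evaluation ℕᵒᵖ C).obj (op (n + r₁)))).Exact := hS₁.map _
  have hex : ∃ (T₂ : C) (π₂ : T₂ ⟶ T₁) (_ : Epi π₂) (κ : T₂ ⟶ (kernel u').obj (op (n + r₁))),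
      π₂ ≫ y ≫ tr Y' h = κ ≫ (kernel.ι u').app (op (n + r₁)) :=
    hSn.exact_up_to_refinements (y ≫ tr Y' h) h2
  obtain ⟨T₂, π₂, hπ₂, κ, hκ'⟩ := hex
  have h3 : π₂ ≫ y ≫ tr Y' hnM = 0 := by
    rw [← tr_comp Y' (Nat.le_add_right n r₁) h, ← Category.assoc y, ← Category.assoc π₂, hκ',
      Category.assoc, ← tr_naturality, hr₁ n, zero_comp, comp_zero]
  have h4 : HomKilledBy (J ^ (n + 1)) (u'.app (op M) ≫ ψ) := homKilledBy_comp_left _ hψ
  obtain ⟨ψ₀, hψ₀, -⟩ := (hY'.2 n M hnM).2 W _ h4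
  have hψ₀' : tr Y' hnM ≫ ψ₀ = u'.app (op M) ≫ ψ := hψ₀
  have h5 : (π₂ ≫ π₁) ≫ k ≫ ψ = 0 := by
    rw [Category.assoc, ← Category.assoc π₁, hy, Category.assoc, ← hψ₀', ← Category.assoc y,
      ← Category.assoc π₂, h3, zero_comp]
  exact (cancel_epi (π₂ ≫ π₁)).1 (h5.trans comp_zero.symm)

lemma eq_zero_of_homKilledBy_pow_zero (J : Ideal A) {X Y : C} (φ : X ⟶ Y)
    (h : HomKilledBy (J ^ 0) φ) : φ = 0 := by
  have h1 : (1 : A) ∈ J ^ 0 := by rw [pow_zero, Ideal.one_eq_top]; trivial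
  have := h 1 h1
  rwa [one_smul] at this

/-- Lemma K' -/
theorem kernel_condition_of_fker (J : Ideal A) (hJ : J.FG ∨ HasCoproducts.{w} C) (X : PS C)
    (hX : IsStrict X) (r : ℕ) (hF : ∀ n : ℕ, SubLEIdeal (J ^ (n - r)) (Fker X n)) (N : ℕ) :
    ∀ (M : ℕ) (h : N ≤ M) (T : C) (k : T ⟶ X.obj (op M)), k ≫ tr X h = 0 →
      ∀ (W : C) (ψ : X.obj (op M) ⟶ W), HomKilledBy (J ^ (N + 1 - r)) ψ → k ≫ ψ = 0 := by
  intro M h
  induction M, h using Nat.le_induction with
  | base =>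
    intro T k hk W ψ _
    rw [tr_refl, Category.comp_id] at hk
    rw [hk, zero_comp]
  | succ M h ih =>
    intro T k hk W ψ hψ
    obtain ⟨G⟩ := nonempty_genFam (C := C) J hJ (N + 1 - r)
    have hk' : (k ≫ tr X (Nat.le_succ M)) ≫ tr X h = 0 := by
      rw [Category.assoc, tr_comp]; exact hk
    have h1 := ih T _ hk' _ (cokernel.π (G.σ (X.obj (op M))))
      ((G.homKilledBy_iff _).2 (cokernel.condition _))
    have hex : (ShortComplex.mk (G.σ (X.obj (op M))) (cokernel.π (G.σ (X.obj (op M))))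
        (cokernel.condition _)).Exact :=
      ShortComplex.exact_of_g_is_cokernel _ (cokernelIsCokernel _)
    obtain ⟨T₁, π₁, hπ₁, z, hz⟩ := hex.exact_up_to_refinements _ h1
    have hz' : π₁ ≫ k ≫ tr X (Nat.le_succ M) = z ≫ G.σ (X.obj (op M)) := hz
    have := hX M (M + 1) (Nat.le_succ M)
    obtain ⟨T₂, π₂, hπ₂, z', hz''⟩ :=
      surjective_up_to_refinements_of_epi (G.map (tr X (Nat.le_succ M))) z
    -- the difference lies in the kernel of the transition map
    have hd : (π₂ ≫ π₁ ≫ k - z' ≫ G.σ (X.obj (op (M + 1)))) ≫ tr X (Nat.le_succ M) = 0 := by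
      simp only [Preadditive.sub_comp, Category.assoc]
      rw [hz', G.σ_naturality, ← Category.assoc z', ← hz'', Category.assoc, sub_self]
    have hfac : (Fker X (M + 1)).Factors (π₂ ≫ π₁ ≫ k - z' ≫ G.σ (X.obj (op (M + 1)))) :=
      kernelSubobject_factors _ _ hd
    have hψ' : HomKilledBy (J ^ (M + 1 - r)) ψ :=
      homKilledBy_mono (Ideal.pow_le_pow_right (by omega)) hψ
    have h2 : (π₂ ≫ π₁ ≫ k - z' ≫ G.σ (X.obj (op (M + 1)))) ≫ ψ = 0 := by
      rw [← Subobject.factorThru_arrow _ _ hfac, Category.assoc, hF (M + 1) W ψ hψ', comp_zero]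
    have h3 : (z' ≫ G.σ (X.obj (op (M + 1)))) ≫ ψ = 0 := by
      rw [Category.assoc, (G.homKilledBy_iff ψ).1 hψ, comp_zero]
    rw [Preadditive.sub_comp, h3, sub_zero] at h2
    have h4 : (π₂ ≫ π₁) ≫ k ≫ ψ = 0 := by
      simpa only [Category.assoc] using h2
    exact (cancel_epi (π₂ ≫ π₁)).1 (h4.trans comp_zero.symm)

theorem isARAdic_iff_fker (J : Ideal A) (hJ : J.FG ∨ HasCoproducts.{w} C) (X : PS C)
    (hX : IsStrict X) (kX : TermKilled J X) :
    IsARAdic J X ↔ ∃ r : ℕ, 0 < r ∧ ∀ n : ℕ, SubLEIdeal (J ^ (n - r)) (Fker X n) := by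
  constructor
  · rintro ⟨-, Y', u', hY', hu'⟩
    obtain ⟨r₁, hA⟩ := kernel_condition_of_isARAdic J X hX Y' u' hY' hu'
    refine ⟨r₁ + 1, Nat.succ_pos _, fun n W φ hφ => ?_⟩
    by_cases he : n - (r₁ + 1) = 0
    · rw [he] at hφ
      rw [eq_zero_of_homKilledBy_pow_zero J φ hφ, comp_zero]
    · obtain ⟨k, rfl⟩ : ∃ k, n = k + 1 := ⟨n - 1, by omega⟩
      have hle : (k - r₁) + r₁ ≤ k + 1 := by omega
      have hφ' : HomKilledBy (J ^ (k - r₁ + 1)) φ :=
        homKilledBy_mono (Ideal.pow_le_pow_right (by omega)) hφ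
      refine hA (k - r₁) (k + 1) hle W φ hφ' _ (Fker X (k + 1)).arrow ?_
      have hk : k - r₁ + r₁ ≤ k := by omega
      rw [← tr_comp X hk (Nat.le_succ k), ← Category.assoc]
      have : (Fker X (k + 1)).arrow ≫ tr X (Nat.le_succ k) = 0 := kernelSubobject_arrow_comp _
      rw [this, zero_comp]
  · rintro ⟨r, -, hF⟩
    obtain ⟨Y, q, hq⟩ := exists_termwise_quot J hJ ((shift C r).obj X)
    refine isARAdic_of_quot J X hX kX r Y q hq ?_
    refine isAdic_of_kernel_condition J _ Y (isStrict_shift X r hX) q hq ?_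
    intro n m h W ψ hψ
    refine kernel_condition_of_fker J hJ X hX r hF (n + r) (m + r) (Nat.add_le_add_right h r) _ _
      (kernel.condition (tr X (Nat.add_le_add_right h r))) W ψ ?_
    have e : n + r + 1 - r = n + 1 := by omega
    rw [e]
    exact hψ

end Groth.Agent.Lib27.ARSys
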