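import Groth.Agent.Lib27.NoethSerre

/-! Membership in subobjects of an abelian category, up to refinements (helper27). -/

set_option autoImplicit false
set_option linter.unusedSectionVars false
open CategoryTheory CategoryTheory.Limits Opposite
universe v u

namespace Groth.Agent.Lib27.PElem

open Groth.Agent.Lib27.ARSys Groth.Agent.Lib27.NoethSerre

variable {C : Type u} [Category.{v} C] [Abelian C]

lemma le_iff_forall_factors {B : C} (S S' : Subobject B) :
    S ≤ S' ↔ ∀ (T : C) (x : T ⟶ B), S.Factors x → S'.Factors x :=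
  ⟨fun h _ x hx => Subobject.factors_of_le x h hx,
    fun h => Subobject.le_of_factors (h _ _ (Subobject.factors_self S))⟩

lemma factors_image_iff {A B T : C} (f : A ⟶ B) (x : T ⟶ B) :
    (imageSubobject f).Factors x ↔
      ∃ (T' : C) (π : T' ⟶ T) (_ : Epi π) (y : T' ⟶ A), π ≫ x = y ≫ f := by
  constructor
  · intro h
    obtain ⟨T', π, hπ, y, hy⟩ := surjective_up_to_refinements_of_epi
      (factorThruImageSubobject f) (Subobject.factorThru _ x h)
    refine ⟨T', π, hπ, y, ?_⟩
    have := congrArg (· ≫ (imageSubobject f).arrow) hy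
    simpa only [Category.assoc, Subobject.factorThru_arrow, imageSubobject_arrow_comp] using this
  · rintro ⟨T', π, hπ, y, h⟩
    apply factors_of_epi_comp _ π
    rw [h]
    exact imageSubobject_factors_comp_self f y

lemma sup_eq_image {B : C} (S S' : Subobject B) :
    S ⊔ S' = imageSubobject (biprod.desc S.arrow S'.arrow) := by
  apply le_antisymm
  · apply sup_le
    · apply Subobject.le_of_factors
      have h := imageSubobject_factors_comp_self (f := biprod.desc S.arrow S'.arrow) biprod.inl
      rwa [biprod.inl_desc] at h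
    · apply Subobject.le_of_factors
      have h := imageSubobject_factors_comp_self (f := biprod.desc S.arrow S'.arrow) biprod.inr
      rwa [biprod.inr_desc] at h
  · refine imageSubobject_le _ (biprod.desc (Subobject.ofLE S (S ⊔ S') le_sup_left)
      (Subobject.ofLE S' (S ⊔ S') le_sup_right)) ?_
    apply biprod.hom_ext' <;> simp

lemma factors_sup_iff {B T : C} (S S' : Subobject B) (x : T ⟶ B) :
    (S ⊔ S').Factors x ↔
      ∃ (T' : C) (π : T' ⟶ T) (_ : Epi π) (y y' : T' ⟶ B),
        S.Factors y ∧ S'.Factors y' ∧ π ≫ x = y + y' := by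
  rw [sup_eq_image, factors_image_iff]
  constructor
  · rintro ⟨T', π, hπ, y, h⟩
    refine ⟨T', π, hπ, (y ≫ biprod.fst) ≫ S.arrow, (y ≫ biprod.snd) ≫ S'.arrow,
      Subobject.factors_comp_arrow _, Subobject.factors_comp_arrow _, ?_⟩
    rw [h]
    have : biprod.desc S.arrow S'.arrow = biprod.fst ≫ S.arrow + biprod.snd ≫ S'.arrow := by
      apply biprod.hom_ext' <;> simp
    rw [this, Preadditive.comp_add]
    simp only [Category.assoc]
  · rintro ⟨T', π, hπ, y, y', hy, hy', h⟩
    refine ⟨T', π, hπ, biprod.lift (S.factorThru y hy) (S'.factorThru y' hy'), ?_⟩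
    rw [h]
    have : biprod.desc S.arrow S'.arrow = biprod.fst ≫ S.arrow + biprod.snd ≫ S'.arrow := by
      apply biprod.hom_ext' <;> simp
    rw [this, Preadditive.comp_add]
    simp

lemma factors_neg {B T : C} (S : Subobject B) (x : T ⟶ B) (h : S.Factors x) : S.Factors (-x) := by
  have : -x = (-(S.factorThru x h)) ≫ S.arrow := by
    rw [Preadditive.neg_comp, Subobject.factorThru_arrow]
  rw [this]
  exact Subobject.factors_comp_arrow _

lemma factors_sub {B T : C} (S : Subobject B) (x y : T ⟶ B) (hx : S.Factors x)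
    (hy : S.Factors y) : S.Factors (x - y) := by
  rw [sub_eq_add_neg]
  exact Subobject.factors_add _ _ hx (factors_neg S y hy)

lemma factors_sum {B T : C} (S : Subobject B) {ι : Type*} (s : Finset ι) (y : ι → (T ⟶ B))
    (h : ∀ i ∈ s, S.Factors (y i)) : S.Factors (∑ i ∈ s, y i) := by
  classical
  induction s using Finset.induction_on with
  | empty => simpa using Subobject.factors_zero
  | insert a s ha ih =>
    rw [Finset.sum_insert ha]
    exact Subobject.factors_add _ _ (h a (Finset.mem_insert_self a s))
      (ih fun i hi => h i (Finset.mem_insert_of_mem hi))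

lemma factors_comp_of_factors {B T T' : C} (S : Subobject B) (π : T' ⟶ T) (x : T ⟶ B)
    (h : S.Factors x) : S.Factors (π ≫ x) :=
  Subobject.factors_of_factors_right π h

lemma factors_finset_sup_iff {B T : C} {ι : Type*} (s : Finset ι) (f : ι → Subobject B)
    (x : T ⟶ B) :
    (s.sup f).Factors x ↔
      ∃ (T' : C) (π : T' ⟶ T) (_ : Epi π) (y : ι → (T' ⟶ B)),
        (∀ i ∈ s, (f i).Factors (y i)) ∧ π ≫ x = ∑ i ∈ s, y i := by
  classical
  induction s using Finset.induction_on generalizing T x with
  | empty =>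
    simp only [Finset.sup_empty, Finset.sum_empty]
    constructor
    · intro h
      refine ⟨T, 𝟙 T, inferInstance, fun _ => 0, by simp, ?_⟩
      rw [Category.id_comp, ← Subobject.factorThru_arrow _ x h, Subobject.bot_arrow, comp_zero]
    · rintro ⟨T', π, hπ, y, -, h⟩
      apply factors_of_epi_comp _ π
      rw [h]
      exact Subobject.factors_zero
  | insert a s ha ih =>
    rw [Finset.sup_insert, factors_sup_iff]
    constructor
    · rintro ⟨T₁, π₁, hπ₁, y₁, y₂, hy₁, hy₂, h⟩
      obtain ⟨T₂, π₂, hπ₂, z, hz, hz'⟩ := (ih y₂).1 hy₂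
      refine ⟨T₂, π₂ ≫ π₁, epi_comp _ _, fun i => if i = a then π₂ ≫ y₁ else z i, ?_, ?_⟩
      · intro i hi
        dsimp only
        rcases Finset.mem_insert.1 hi with rfl | hi
        · rw [if_pos rfl]
          exact Subobject.factors_of_factors_right π₂ hy₁
        · have : i ≠ a := fun e => ha (e ▸ hi)
          rw [if_neg this]
          exact hz i hi
      · rw [Finset.sum_insert ha, if_pos rfl, Category.assoc, h, Preadditive.comp_add, hz']
        congr 1
        apply Finset.sum_congr rfl
        intro i hi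
        have : i ≠ a := fun e => ha (e ▸ hi)
        rw [if_neg this]
    · rintro ⟨T', π, hπ, y, hy, h⟩
      refine ⟨T', π, hπ, y a, ∑ i ∈ s, y i, hy a (Finset.mem_insert_self a s), ?_, ?_⟩
      · refine (ih _).2 ⟨T', 𝟙 T', inferInstance, y,
          fun i hi => hy i (Finset.mem_insert_of_mem hi), by rw [Category.id_comp]⟩
      · rw [h, Finset.sum_insert ha]

lemma factors_kernel_iff {B B' T : C} (f : B ⟶ B') (x : T ⟶ B) :
    (kernelSubobject f).Factors x ↔ x ≫ f = 0 :=
  kernelSubobject_factors_iff f x

/-- image of a subobject under a morphism -/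
noncomputable def im {B B' : C} (f : B ⟶ B') (S : Subobject B) : Subobject B' :=
  imageSubobject (S.arrow ≫ f)

lemma factors_im_iff {B B' T : C} (f : B ⟶ B') (S : Subobject B) (x : T ⟶ B') :
    (im f S).Factors x ↔
      ∃ (T' : C) (π : T' ⟶ T) (_ : Epi π) (y : T' ⟶ B), S.Factors y ∧ π ≫ x = y ≫ f := by
  rw [im, factors_image_iff]
  constructor
  · rintro ⟨T', π, hπ, y, h⟩
    exact ⟨T', π, hπ, y ≫ S.arrow, Subobject.factors_comp_arrow _, by rw [h, Category.assoc]⟩
  · rintro ⟨T', π, hπ, y, hy, h⟩
    exact ⟨T', π, hπ, S.factorThru y hy, by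
      rw [h, ← Category.assoc, Subobject.factorThru_arrow]⟩

lemma im_mono {B B' : C} (f : B ⟶ B') {S S' : Subobject B} (h : S ≤ S') : im f S ≤ im f S' :=
  imageSubobject_arrow_comp_mono f h

lemma im_le_iff {B B' : C} (f : B ⟶ B') (S : Subobject B) (S' : Subobject B') :
    im f S ≤ S' ↔ S ≤ (Subobject.pullback f).obj S' := by
  rw [le_iff_forall_factors, le_iff_forall_factors]
  constructor
  · intro h T x hx
    rw [NoethSerre.pullback_factors_iff]
    exact h T _ ((factors_im_iff f S _).2 ⟨T, 𝟙 T, inferInstance, x, hx, by rw [Category.id_comp]⟩)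
  · intro h T x hx
    obtain ⟨T', π, hπ, y, hy, e⟩ := (factors_im_iff f S x).1 hx
    apply factors_of_epi_comp _ π
    rw [e]
    exact (NoethSerre.pullback_factors_iff f S' y).1 (h T' y hy)

end Groth.Agent.Lib27.PElem
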