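import Groth.Agent.Lib27.ARAdic2
import Groth.Agent.Lib27.PElem

/-! The strict graded object of a projective system: finite type criterion (helper27). -/

set_option autoImplicit false
set_option linter.unusedSectionVars false
open CategoryTheory CategoryTheory.Limits Opposite
universe w v u

namespace Groth.Agent.Lib27.ARSys

open _root_.ARSys Groth.Agent.Lib27.PElem Groth.Agent.Lib27.NoethSerre

variable {C : Type u} [Category.{v} C] [Abelian C] {A : Type w} [CommRing A] [Linear A C]

lemma smul_id_comp {Y Z : C} (f : Y ⟶ Z) (a : A) : (a • 𝟙 Y) ≫ f = f ≫ (a • 𝟙 Z) := by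
  rw [Linear.smul_comp, Linear.comp_smul, Category.id_comp, Category.comp_id]

namespace GenFam

variable {I I' : Ideal A}

/-- multiplication by an element of the ideal factors through `σ` -/
lemma exists_factor_smul (G : GenFam C I) (X : C) (a : A) (ha : a ∈ I) :
    ∃ y : X ⟶ G.sum X, y ≫ G.σ X = a • 𝟙 X := by
  have ha' : a ∈ Ideal.span (Set.range G.a) := G.span_eq.ge ha
  clear ha
  induction ha' using Submodule.span_induction with
  | mem x hx =>
    obtain ⟨i, rfl⟩ := hx
    exact ⟨G.inj X i, G.inj_σ X i⟩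
  | zero => exact ⟨0, by rw [zero_comp, zero_smul]⟩
  | add x y _ _ hx hy =>
    obtain ⟨u, hu⟩ := hx
    obtain ⟨v, hv⟩ := hy
    exact ⟨u + v, by rw [Preadditive.add_comp, hu, hv, add_smul]⟩
  | smul c x _ hx =>
    obtain ⟨u, hu⟩ := hx
    exact ⟨c • u, by rw [Linear.smul_comp, hu, smul_eq_mul, mul_smul]⟩

/-- `σ` followed by multiplication by `a` factors through `σ` of an ideal containing `I · a` -/
lemma exists_factor_σ_smul (G : GenFam C I) (G' : GenFam C I') (a : A)
    (h : ∀ b ∈ I, b * a ∈ I') (X : C) :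
    ∃ z : G.sum X ⟶ G'.sum X, z ≫ G'.σ X = G.σ X ≫ (a • 𝟙 X) := by
  have hz : ∀ i : G.ι, ∃ y : X ⟶ G'.sum X, y ≫ G'.σ X = (G.a i * a) • 𝟙 X :=
    fun i => G'.exists_factor_smul X _ (h _ (G.mem i))
  choose y hy using hz
  haveI := G.has
  refine ⟨Sigma.desc y, ?_⟩
  apply G.hom_ext
  intro i
  have e : G.inj X i ≫ Sigma.desc y = y i := Sigma.ι_desc _ _
  rw [← Category.assoc, e, hy, inj_σ_assoc, Linear.smul_comp, Category.id_comp, smul_smul]

lemma exists_factor_σ_of_le (G : GenFam C I) (G' : GenFam C I') (h : I ≤ I') (X : C) :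
    ∃ z : G.sum X ⟶ G'.sum X, z ≫ G'.σ X = G.σ X := by
  obtain ⟨z, hz⟩ := G.exists_factor_σ_smul G' 1 (fun b hb => by rw [mul_one]; exact h hb) X
  exact ⟨z, by rw [hz, one_smul, Category.comp_id]⟩

/-- the subobject `I · X` -/
noncomputable def sub (G : GenFam C I) (X : C) : Subobject X := imageSubobject (G.σ X)

lemma sub_mono (G : GenFam C I) (G' : GenFam C I') (h : I ≤ I') (X : C) : G.sub X ≤ G'.sub X := by
  obtain ⟨z, hz⟩ := G.exists_factor_σ_of_le G' h X
  exact (imageSubobject_le_iff _ _).2 ⟨_, 𝟙 _, inferInstance, z, by rw [Category.id_comp, hz]⟩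

lemma sub_arrow_comp_eq_zero (G : GenFam C I) {X W : C} (φ : X ⟶ W) (hφ : HomKilledBy I φ) :
    (G.sub X).arrow ≫ φ = 0 := by
  change (imageSubobject (G.σ X)).arrow ≫ φ = 0
  rw [← cancel_epi (factorThruImageSubobject (G.σ X)), comp_zero, ← Category.assoc,
    imageSubobject_arrow_comp]
  exact (G.homKilledBy_iff φ).1 hφ

lemma factors_sub_iff (G : GenFam C I) {X T : C} (x : T ⟶ X) :
    (G.sub X).Factors x ↔
      ∃ (T' : C) (π : T' ⟶ T) (_ : Epi π) (y : T' ⟶ G.sum X), π ≫ x = y ≫ G.σ X :=
  factors_image_iff _ _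

lemma smul_factors_sub (G : GenFam C I) {X T : C} (x : T ⟶ X) (a : A) (ha : a ∈ I) :
    (G.sub X).Factors (x ≫ (a • 𝟙 X)) := by
  obtain ⟨y, hy⟩ := G.exists_factor_smul X a ha
  rw [← hy, ← Category.assoc]
  exact imageSubobject_factors_comp_self _ _

end GenFam

/-! ### The subobjects `F^q(X_n)` -/

lemma Fsub_zero (X : PS C) (n : ℕ) : Fsub X 0 n = ⊤ := rfl

lemma Fsub_succ_of_le (X : PS C) {k n : ℕ} (h : k ≤ n) :
    Fsub X (k + 1) n = kernelSubobject (tr X h) := by
  simp only [Fsub, dif_pos h]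

lemma Fsub_succ_factors_iff (X : PS C) {k n : ℕ} (h : k ≤ n) {T : C} (x : T ⟶ X.obj (op n)) :
    (Fsub X (k + 1) n).Factors x ↔ x ≫ tr X h = 0 := by
  rw [Fsub_succ_of_le X h]
  exact kernelSubobject_factors_iff _ _

lemma Fker_eq_Fsub (X : PS C) (n : ℕ) : Fker X n = Fsub X n n := by
  cases n with
  | zero => rfl
  | succ k => rw [Fsub_succ_of_le X (Nat.le_succ k)]; rfl

/-- elements of `F^q(X_n)` map into `F^q(X_k)` -/
lemma Fsub_factors_tr (X : PS C) {q k n : ℕ} (hqk : q ≤ k + 1) (hkn : k ≤ n) {T : C}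
    (x : T ⟶ X.obj (op n)) (hx : (Fsub X q n).Factors x) : (Fsub X q k).Factors (x ≫ tr X hkn) := by
  cases q with
  | zero => rw [Fsub_zero]; exact Subobject.top_factors _
  | succ q' =>
    have hq'k : q' ≤ k := by omega
    rw [Fsub_succ_factors_iff X (hq'k.trans hkn)] at hx
    rw [Fsub_succ_factors_iff X hq'k, Category.assoc, tr_comp]
    exact hx

lemma adapted_kills (J : Ideal A) (X : PS C) (hA : IsAdapted J X) {n p s : ℕ} (hs : s + p = n + 1)
    (a : A) (ha : a ∈ J ^ p) {T : C} (x : T ⟶ X.obj (op n)) (hx : (Fsub X s n).Factors x) :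
    x ≫ (a • 𝟙 (X.obj (op n))) = 0 := by
  have h1 := hA n p (by omega) a ha
  have e : n + 1 - p = s := by omega
  rw [e] at h1
  rw [← Subobject.factorThru_arrow _ x hx, Category.assoc, h1, comp_zero]

lemma termKilled_of_isAdapted (J : Ideal A) (X : PS C) (hA : IsAdapted J X) : TermKilled J X := by
  intro n a ha
  have := adapted_kills J X hA (n := n) (s := 0) (p := n + 1) (by omega) a ha (𝟙 _)
    (by rw [Fsub_zero]; exact Subobject.top_factors _)
  rwa [Category.id_comp] at this

section FiniteType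

variable (J : Ideal A) (X : PS C) (G : ∀ p : ℕ, GenFam C (J ^ p))

/-- the graded submodule generated in degrees `≤ i` (contained in it) -/
noncomputable def genSub (i q : ℕ) : Subobject (X.obj (op q)) :=
  if q ≤ i then Fsub X q q else Fsub X q q ⊓ (G (q - i)).sub (X.obj (op q))

lemma genSub_le (i q : ℕ) : genSub J X G i q ≤ Fsub X q q := by
  unfold genSub
  split_ifs
  · exact le_rfl
  · exact inf_le_left

lemma genSub_of_le {i q : ℕ} (h : q ≤ i) : genSub J X G i q = Fsub X q q := by
  unfold genSub; rw [if_pos h]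

lemma genSub_mono {i i' : ℕ} (h : i ≤ i') (q : ℕ) : genSub J X G i q ≤ genSub J X G i' q := by
  by_cases h' : q ≤ i'
  · rw [genSub_of_le J X G h']
    exact genSub_le J X G i q
  · have h'' : ¬ q ≤ i := by omega
    unfold genSub
    rw [if_neg h', if_neg h'']
    exact inf_le_inf le_rfl
      (GenFam.sub_mono _ _ (Ideal.pow_le_pow_right (by omega)) _)

lemma imageSubobject_le_of_factors {B B' : C} (f : B ⟶ B') (S : Subobject B')
    (h : S.Factors f) : imageSubobject f ≤ S :=
  imageSubobject_le f (S.factorThru f h) (Subobject.factorThru_arrow _ _ _)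

/-- multiplication by `J^p` on lifts maps the degree `q` part into the degree `p + q` part -/
lemma genSub_smul (hX : IsStrict X) (hA : IsAdapted J X) (i : ℕ) (n p q : ℕ) (hn : p + q = n)
    (hqn : q ≤ n) (a : A) (ha : a ∈ J ^ p) {T : C} (x : T ⟶ X.obj (op n))
    (hx : (genSub J X G i q).Factors (x ≫ tr X hqn)) :
    (genSub J X G i n).Factors (x ≫ (a • 𝟙 (X.obj (op n)))) := by
  have hxF : (Fsub X q q).Factors (x ≫ tr X hqn) :=
    Subobject.factors_of_le _ (genSub_le J X G i q) hx
  -- first part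
  have h1 : (Fsub X n n).Factors (x ≫ (a • 𝟙 (X.obj (op n)))) := by
    cases n with
    | zero => rw [Fsub_zero]; exact Subobject.top_factors _
    | succ k =>
      rw [Fsub_succ_factors_iff X (Nat.le_succ k), Category.assoc, smul_id_comp, ← Category.assoc]
      rcases Nat.eq_zero_or_pos p with hp0 | hppos
      · obtain rfl : q = k + 1 := by omega
        rw [tr_refl, Category.comp_id, Fsub_succ_factors_iff X (Nat.le_succ k)] at hxF
        rw [hxF, zero_comp]
      · have hqk : q ≤ k := by omega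
        refine adapted_kills J X hA (n := k) (s := q) (p := p) (by omega) a ha _ ?_
        cases q with
        | zero => rw [Fsub_zero]; exact Subobject.top_factors _
        | succ q' =>
          have hq'k : q' ≤ k := by omega
          rw [Fsub_succ_factors_iff X hq'k, Category.assoc, tr_comp]
          rw [Fsub_succ_factors_iff X (Nat.le_succ q'), Category.assoc, tr_comp] at hxF
          exact hxF
  by_cases hni : n ≤ i
  · rw [genSub_of_le J X G hni]; exact h1
  · unfold genSub
    rw [if_neg hni, Subobject.inf_factors]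
    refine ⟨h1, ?_⟩
    by_cases hqi : q ≤ i
    · exact GenFam.smul_factors_sub _ x a (Ideal.pow_le_pow_right (by omega) ha)
    · unfold genSub at hx
      rw [if_neg hqi, Subobject.inf_factors] at hx
      obtain ⟨T₁, π₁, hπ₁, y, hy⟩ := ((G (q - i)).factors_sub_iff _).1 hx.2
      have := hX q n hqn
      obtain ⟨T₂, π₂, hπ₂, y', hy'⟩ :=
        surjective_up_to_refinements_of_epi ((G (q - i)).map (tr X hqn)) y
      have hd : (π₂ ≫ π₁ ≫ x - y' ≫ (G (q - i)).σ (X.obj (op n))) ≫ tr X hqn = 0 := by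
        simp only [Preadditive.sub_comp, Category.assoc]
        rw [hy, (G (q - i)).σ_naturality, ← Category.assoc y', ← hy', Category.assoc, sub_self]
      have hdF : (Fsub X (q + 1) n).Factors (π₂ ≫ π₁ ≫ x - y' ≫ (G (q - i)).σ (X.obj (op n))) :=
        (Fsub_succ_factors_iff X hqn _).2 hd
      have hd0 := adapted_kills J X hA (n := n) (s := q + 1) (p := p) (by omega) a ha _ hdF
      obtain ⟨z, hz⟩ := (G (q - i)).exists_factor_σ_smul (G (n - i)) a (fun b hb => by
        have : b * a ∈ J ^ (q - i) * J ^ p := Ideal.mul_mem_mul hb ha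
        rw [← pow_add] at this
        have e : q - i + p = n - i := by omega
        rwa [e] at this) (X.obj (op n))
      apply factors_of_epi_comp _ (π₂ ≫ π₁)
      have e : (π₂ ≫ π₁) ≫ x ≫ (a • 𝟙 (X.obj (op n))) =
          (y' ≫ z) ≫ (G (n - i)).σ (X.obj (op n)) := by
        rw [Preadditive.sub_comp, sub_eq_zero] at hd0
        simp only [Category.assoc] at hd0 ⊢
        rw [hd0, hz]
      rw [e]
      exact imageSubobject_factors_comp_self _ _

lemma isGrSub_genSub (hX : IsStrict X) (hA : IsAdapted J X) (i : ℕ) :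
    IsGrSub J X (genSub J X G i) := by
  refine ⟨genSub_le J X G i, fun p q a ha => ?_⟩
  apply imageSubobject_le_of_factors
  refine genSub_smul J X G hX hA i (p + q) p q rfl (Nat.le_add_left q p) a ha _ ?_
  exact (NoethSerre.pullback_factors_iff _ _ _).1 (Subobject.factors_self _)

theorem isARAdic_of_grsFiniteType (hJ : J.FG ∨ HasCoproducts.{w} C) (hX : IsStrict X)
    (hA : IsAdapted J X) (hft : GrsFiniteType J X) : IsARAdic J X := by
  let G : ∀ p : ℕ, GenFam C (J ^ p) := fun p => (nonempty_genFam J hJ p).some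
  obtain ⟨i₀, hi₀⟩ := hft (genSub J X G) (isGrSub_genSub J X G hX hA)
    (fun i i' h q => genSub_mono J X G h q) (fun q => by
      refine ⟨?_, fun B hB => ?_⟩
      · rintro _ ⟨i, rfl⟩
        exact genSub_le J X G i q
      · have := hB ⟨q, rfl⟩
        dsimp only at this
        rwa [genSub_of_le J X G le_rfl] at this)
  refine (isARAdic_iff_fker J hJ X hX (termKilled_of_isAdapted J X hA)).2
    ⟨i₀ + 1, Nat.succ_pos _, fun n W φ hφ => ?_⟩
  by_cases hn : n - (i₀ + 1) = 0
  · rw [hn] at hφ
    rw [eq_zero_of_homKilledBy_pow_zero J φ hφ, comp_zero]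
  · have hni : ¬ n ≤ i₀ := by omega
    have h1 : Fker X n ≤ (G (n - i₀)).sub (X.obj (op n)) := by
      rw [Fker_eq_Fsub, ← hi₀ n]
      unfold genSub
      rw [if_neg hni]
      exact inf_le_right
    have hφ' : HomKilledBy (J ^ (n - i₀)) φ :=
      homKilledBy_mono (Ideal.pow_le_pow_right (by omega)) hφ
    rw [← Subobject.ofLE_arrow h1, Category.assoc, GenFam.sub_arrow_comp_eq_zero _ φ hφ',
      comp_zero]

end FiniteType

end Groth.Agent.Lib27.ARSys
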