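import Groth.Agent.Lib27.ARAdic
import Groth.Agent.Lib27.NoethSerre

/-! Terms of an adic system lie in any Serre class containing the degree-zero term (helper27). -/

set_option autoImplicit false
set_option linter.unusedSectionVars false
open CategoryTheory CategoryTheory.Limits Opposite
universe w v u

namespace Groth.Agent.Lib27.AdicSerre

open _root_.ARSys Groth.Agent.Lib27.ARSys Groth.Agent.Lib27.NoethSerre

variable {C : Type u} [Category.{v} C] [Abelian C] {A : Type w} [CommRing A] [Linear A C]

/-- the subobject `a B` -/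
noncomputable def smulSub (a : A) (B : C) : Subobject B := imageSubobject (a • 𝟙 B)

/-- the subobject `Σ_{a ∈ l} a B` -/
noncomputable def K (B : C) : List A → Subobject B
  | [] => ⊥
  | a :: l => imageSubobject (biprod.desc (smulSub a B).arrow (K B l).arrow)

lemma le_K_cons_left (B : C) (a : A) (l : List A) : smulSub a B ≤ K B (a :: l) := by
  have h : imageSubobject (biprod.inl ≫ biprod.desc (smulSub a B).arrow (K B l).arrow) ≤
      K B (a :: l) := imageSubobject_comp_le _ _
  rwa [biprod.inl_desc, imageSubobject_arrow_eq] at h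

lemma le_K_cons_right (B : C) (a : A) (l : List A) : K B l ≤ K B (a :: l) := by
  have h : imageSubobject (biprod.inr ≫ biprod.desc (smulSub a B).arrow (K B l).arrow) ≤
      K B (a :: l) := imageSubobject_comp_le _ _
  rwa [biprod.inr_desc, imageSubobject_arrow_eq] at h

lemma smulSub_le_K (B : C) (l : List A) (a : A) (ha : a ∈ l) : smulSub a B ≤ K B l := by
  induction l with
  | nil => simp at ha
  | cons b l ih =>
    rcases List.mem_cons.1 ha with rfl | h
    · exact le_K_cons_left B a l
    · exact (ih h).trans (le_K_cons_right B b l)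

lemma K_prop (P : ObjectProperty C) [P.IsSerreClass] (B : C) (l : List A)
    (h : ∀ a ∈ l, P (smulSub a B : C)) : P (K B l : C) := by
  induction l with
  | nil =>
    exact P.prop_of_isZero (IsZero.of_iso (isZero_zero C) Subobject.botCoeIsoZero)
  | cons a l ih =>
    have h1 : P (smulSub a B : C) := h a (List.mem_cons_self)
    have h2 : P (K B l : C) := ih (fun b hb => h b (List.mem_cons_of_mem a hb))
    have h3 : P ((smulSub a B : C) ⊞ (K B l : C)) := by
      let S : ShortComplex C := ShortComplex.mk (biprod.inl : (smulSub a B : C) ⟶ _)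
        (biprod.snd : _ ⟶ (K B l : C)) biprod.inl_snd
      have hS : S.Exact := by
        rw [ShortComplex.exact_iff_exact_up_to_refinements]
        intro T x hx
        refine ⟨T, 𝟙 T, inferInstance, x ≫ biprod.fst, ?_⟩
        have hx' : x ≫ biprod.snd = 0 := hx
        rw [Category.id_comp]
        apply biprod.hom_ext
        · simp [S]
        · simp [S, hx']
      exact P.prop_X₂_of_exact hS h1 h2
    show P (imageSubobject (biprod.desc (smulSub a B).arrow (K B l).arrow) : C)
    exact P.prop_of_epi (factorThruImageSubobject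
      (biprod.desc (smulSub a B).arrow (K B l).arrow)) h3

lemma K_arrow_comp_eq_zero (B : C) (l : List A) {Q : C} (t : B ⟶ Q)
    (h : ∀ a ∈ l, (a • 𝟙 B) ≫ t = 0) : (K B l).arrow ≫ t = 0 := by
  induction l with
  | nil =>
    have : (K B ([] : List A)).arrow = 0 := Subobject.bot_arrow
    rw [this, zero_comp]
  | cons a l ih =>
    have h1 : (smulSub a B).arrow ≫ t = 0 := by
      have := h a (List.mem_cons_self)
      rw [← imageSubobject_arrow_comp (a • 𝟙 B), Category.assoc] at this
      show (imageSubobject (a • 𝟙 B)).arrow ≫ t = 0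
      exact (cancel_epi (factorThruImageSubobject (a • 𝟙 B))).1 (this.trans comp_zero.symm)
    have h2 : (K B l).arrow ≫ t = 0 := ih (fun b hb => h b (List.mem_cons_of_mem a hb))
    have h3 : biprod.desc (smulSub a B).arrow (K B l).arrow ≫ t = 0 := by
      apply biprod.hom_ext' <;> simp [h1, h2]
    have h4 := imageSubobject_arrow_comp (biprod.desc (smulSub a B).arrow (K B l).arrow)
    have h5 : factorThruImageSubobject (biprod.desc (smulSub a B).arrow (K B l).arrow) ≫
        (imageSubobject (biprod.desc (smulSub a B).arrow (K B l).arrow)).arrow ≫ t = 0 := by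
      rw [← Category.assoc]
      exact (congrArg (· ≫ t) h4).trans h3
    show (imageSubobject (biprod.desc (smulSub a B).arrow (K B l).arrow)).arrow ≫ t = 0
    exact (cancel_epi (factorThruImageSubobject
      (biprod.desc (smulSub a B).arrow (K B l).arrow))).1 (h5.trans comp_zero.symm)

theorem prop_of_isQuot (P : ObjectProperty C) [P.IsSerreClass] (I : Ideal A) (l : List A)
    (hl : Ideal.span {a | a ∈ l} = I) {B Q : C} (t : B ⟶ Q) (ht : IsQuot I t) (hQ : P Q)
    (ha : ∀ a ∈ l, P (smulSub a B : C)) : P B := by
  have hmem : ∀ a ∈ l, a ∈ I := fun a h => hl.le (Ideal.subset_span h)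
  have ht0 : HomKilledBy I t := GenFam.homKilledBy_of_killedBy_tgt t ht.1
  have w : (K B l).arrow ≫ t = 0 := K_arrow_comp_eq_zero B l t (fun a h => by
    rw [Linear.smul_comp, Category.id_comp]; exact ht0 a (hmem a h))
  have hS : (ShortComplex.mk (K B l).arrow t w).Exact := by
    rw [ShortComplex.exact_iff_exact_up_to_refinements]
    intro T x hx
    have hx' : x ≫ t = 0 := hx
    have hψ : HomKilledBy I (cokernel.π (K B l).arrow) := by
      intro a ha'
      have ha'' : a ∈ Ideal.span {a | a ∈ l} := hl.ge ha'
      clear ha'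
      induction ha'' using Submodule.span_induction with
      | mem b hb =>
        have hb' : b ∈ l := hb
        have e1 : b • cokernel.π (K B l).arrow = (b • 𝟙 B) ≫ cokernel.π (K B l).arrow := by
          rw [Linear.smul_comp, Category.id_comp]
        rw [e1, ← imageSubobject_arrow_comp (b • 𝟙 B), Category.assoc]
        have e2 : (imageSubobject (b • 𝟙 B)).arrow ≫ cokernel.π (K B l).arrow = 0 := by
          have e3 : Subobject.ofLE (imageSubobject (b • 𝟙 B)) (K B l) (smulSub_le_K B l b hb') ≫
              (K B l).arrow = (imageSubobject (b • 𝟙 B)).arrow := Subobject.ofLE_arrow _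
          rw [← e3, Category.assoc, cokernel.condition, comp_zero]
        rw [e2, comp_zero]
      | zero => exact zero_smul _ _
      | add x y _ _ hx hy => rw [add_smul, hx, hy, add_zero]
      | smul c x _ hx => rw [smul_eq_mul, mul_smul, hx, smul_zero]
    obtain ⟨ψ', hψ', -⟩ := ht.2 _ _ hψ
    have hx0 : x ≫ cokernel.π (K B l).arrow = 0 := by
      have hψ'' : t ≫ ψ' = cokernel.π (K B l).arrow := hψ'
      rw [← hψ'', ← Category.assoc, hx', zero_comp]
    exact ⟨T, 𝟙 T, inferInstance, Abelian.monoLift (K B l).arrow x hx0, by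
      rw [Category.id_comp]; exact (Abelian.monoLift_comp (K B l).arrow x hx0).symm⟩
  exact P.prop_X₂_of_exact hS (K_prop P B l ha) hQ

/-- All terms of a `J`-adic system lie in a Serre class containing the degree-zero term,
provided the powers of `J` are finitely generated. -/
theorem prop_of_isAdic (P : ObjectProperty C) [P.IsSerreClass] (J : Ideal A)
    (hfg : ∀ k : ℕ, (J ^ k).FG) (X : PS C) (hX : IsAdic J X) (h0 : P (X.obj (op 0))) (n : ℕ) :
    P (X.obj (op n)) := by
  induction n with
  | zero => exact h0
  | succ n ih =>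
    obtain ⟨s, hs⟩ := hfg (n + 1)
    have hl : Ideal.span {a | a ∈ s.toList} = J ^ (n + 1) := by
      rw [← hs]; congr 1; ext a; simp
    refine prop_of_isQuot P (J ^ (n + 1)) s.toList hl (tr X (Nat.le_succ n))
      (hX.2 n (n + 1) (Nat.le_succ n)) ih (fun a ha => ?_)
    have haI : a ∈ J ^ (n + 1) := hl.le (Ideal.subset_span ha)
    have q₀ : IsQuot (J ^ (0 + 1)) (tr X (Nat.zero_le (n + 1))) := hX.2 0 (n + 1) _
    have hk : HomKilledBy (J ^ (0 + 1)) (a • 𝟙 (X.obj (op (n + 1)))) := by
      intro b hb
      rw [smul_smul]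
      apply hX.1 (n + 1)
      have : b * a ∈ J ^ (0 + 1) * J ^ (n + 1) := Ideal.mul_mem_mul hb haI
      rwa [← pow_add, Nat.add_comm (0 + 1) (n + 1)] at this
    obtain ⟨d, hd, -⟩ := q₀.2 _ _ hk
    have hd' : tr X (Nat.zero_le (n + 1)) ≫ d = a • 𝟙 (X.obj (op (n + 1))) := hd
    have : Epi (tr X (Nat.zero_le (n + 1))) := GenFam.epi_of_isQuot q₀
    have e : smulSub a (X.obj (op (n + 1))) = imageSubobject d := by
      rw [← imageSubobject_epi_comp (tr X (Nat.zero_le (n + 1))) d]
      unfold smulSub
      congr 1
      exact hd'.symm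
    have h1 : P (imageSubobject d : C) := P.prop_of_epi (factorThruImageSubobject d) h0
    exact P.prop_of_iso (Subobject.isoOfEq _ _ e.symm) h1

end Groth.Agent.Lib27.AdicSerre
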