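import Groth.Agent.Lib27.ARGr
import Groth.Agent.Lib27.AHB
import Groth.Agent.Lib27.AdicSerre

/-! The strict graded object of an adic Noetherian system is Noetherian (helper27). -/

set_option autoImplicit false
set_option linter.unusedSectionVars false
open CategoryTheory CategoryTheory.Limits Opposite
universe w v u

namespace Groth.Agent.Lib27.ARSys

open _root_.ARSys Groth.Agent.Lib27.PElem Groth.Agent.Lib27.NoethSerre Groth.Agent.Lib27.AHB

variable {C : Type u} [Category.{v} C] [Abelian C] {A : Type w} [CommRing A] [Linear A C]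

lemma isStrict_of_isAdic (J : Ideal A) (hJ : J.FG ∨ HasCoproducts.{w} C) (X : PS C)
    (hX : IsAdic J X) : IsStrict X := fun n m h =>
  GenFam.epi_of_isQuot (hX.2 n m h)

lemma isAdapted_of_isAdic (J : Ideal A) (hJ : J.FG ∨ HasCoproducts.{w} C) (X : PS C)
    (hX : IsAdic J X) : IsAdapted J X := by
  intro n p hp a ha
  have hkill : ∀ b ∈ J ^ (n + 1), b • 𝟙 (X.obj (op n)) = 0 := hX.1 n
  rcases Nat.eq_zero_or_pos (n + 1 - p) with h0 | hpos
  · rw [h0, Fsub_zero]
    have : a ∈ J ^ (n + 1) := Ideal.pow_le_pow_right (by omega) ha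
    rw [hkill a this, comp_zero]
  · obtain ⟨k, hk⟩ : ∃ k, n + 1 - p = k + 1 := ⟨n - p, by omega⟩
    rw [hk]
    have hkn : k ≤ n := by omega
    obtain ⟨G⟩ := nonempty_genFam (C := C) J hJ (k + 1)
    obtain ⟨G'⟩ := nonempty_genFam (C := C) J hJ (n + 1)
    have h1 : (Fsub X (k + 1) n).arrow ≫ tr X hkn = 0 :=
      (Fsub_succ_factors_iff X hkn _).1 (Subobject.factors_self _)
    obtain ⟨T', π, hπ, y, hy⟩ := G.exact_up_to_refinements (hX.2 k n hkn) _ h1
    obtain ⟨z, hz⟩ := G.exists_factor_σ_smul G' a (fun b hb => by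
      have : b * a ∈ J ^ (k + 1) * J ^ p := Ideal.mul_mem_mul hb ha
      rw [← pow_add] at this
      exact Ideal.pow_le_pow_right (by omega) this) (X.obj (op n))
    have hσ0 : G'.σ (X.obj (op n)) = 0 := by
      have := (G'.homKilledBy_iff (𝟙 (X.obj (op n)))).1 (fun b hb => hkill b hb)
      rwa [Category.comp_id] at this
    rw [← cancel_epi π, comp_zero, ← Category.assoc, hy, Category.assoc, ← hz, hσ0, comp_zero,
      comp_zero]

lemma isGrSub_smul (J : Ideal A) (X : PS C) {M : (q : ℕ) → Subobject (X.obj (op q))}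
    (hM : IsGrSub J X M) (p q n : ℕ) (hn : p + q = n) (hqn : q ≤ n) (a : A) (ha : a ∈ J ^ p)
    {T : C} (x' : T ⟶ X.obj (op n)) (hx : (M q).Factors (x' ≫ tr X hqn)) :
    (M n).Factors (x' ≫ (a • 𝟙 (X.obj (op n)))) := by
  subst hn
  have h1 := hM.2 p q a ha
  have h2 : ((Subobject.pullback (tr X (Nat.le_add_left q p))).obj (M q)).Factors x' :=
    (NoethSerre.pullback_factors_iff _ _ _).2 hx
  rw [← Subobject.factorThru_arrow _ x' h2, Category.assoc]
  exact Subobject.factors_of_le _ h1 (imageSubobject_factors_comp_self _ _)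

/-- the kernel of a quotient map modulo `I` is the sum of the images of the generators -/
lemma kernelSubobject_eq_sup_of_isQuot {I : Ideal A} (s : Finset A) (hs : Ideal.span (s : Set A) = I)
    {X Q : C} (p : X ⟶ Q) (hp : IsQuot I p) :
    kernelSubobject p = s.sup (fun g => imageSubobject (g • 𝟙 X)) := by
  apply le_antisymm
  · set SS := s.sup (fun g => imageSubobject (g • 𝟙 X)) with hSS
    have hk : HomKilledBy I (cokernel.π SS.arrow) := by
      intro a ha
      have ha' : a ∈ Ideal.span (s : Set A) := hs.ge ha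
      clear ha
      induction ha' using Submodule.span_induction with
      | mem x hx =>
        have h1 : imageSubobject (x • 𝟙 X) ≤ SS := Finset.le_sup (f := fun g => imageSubobject (g • 𝟙 X)) hx
        have h2 : SS.Factors (x • 𝟙 X) := Subobject.factors_of_le _ h1 (by
          have := imageSubobject_factors_comp_self (x • 𝟙 X) (𝟙 X)
          rwa [Category.id_comp] at this)
        rw [← Category.id_comp (cokernel.π SS.arrow), ← Linear.smul_comp,
          ← Subobject.factorThru_arrow _ _ h2, Category.assoc, cokernel.condition, comp_zero]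
      | zero => exact zero_smul _ _
      | add x y _ _ hx hy => rw [add_smul, hx, hy, add_zero]
      | smul c x _ hx => rw [smul_eq_mul, mul_smul, hx, smul_zero]
    obtain ⟨ψ, hψ, -⟩ := hp.2 _ _ hk
    have h0 : (kernelSubobject p).arrow ≫ cokernel.π SS.arrow = 0 := by
      rw [← hψ, ← Category.assoc, kernelSubobject_arrow_comp, zero_comp]
    apply Subobject.le_of_factors
    rw [← Abelian.monoLift_comp SS.arrow _ h0]
    exact Subobject.factors_comp_arrow _
  · apply Finset.sup_le
    intro g hg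
    apply imageSubobject_le_of_factors
    rw [kernelSubobject_factors_iff, smul_id_comp]
    have hgI : g ∈ I := hs.le (Ideal.subset_span hg)
    rw [hp.1 g hgI, comp_zero]

section Gr

variable (J : Ideal A) (hJ : J.FG ∨ HasCoproducts.{w} C) (X : PS C) (hX : IsAdic J X)

/-- the graded pieces -/
noncomputable abbrev grN (q : ℕ) : C := ((Fsub X q q : Subobject (X.obj (op q))) : C)

/-- the inclusion of the graded piece -/
noncomputable abbrev grι (q : ℕ) : grN X q ⟶ X.obj (op q) := (Fsub X q q).arrow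


lemma grι_tr (q : ℕ) : grι X (q + 1) ≫ tr X (Nat.le_succ q) = 0 :=
  (Fsub_succ_factors_iff X (Nat.le_succ q) _).1 (Subobject.factors_self _)

lemma exists_lift_gr (hS : IsStrict X) (q : ℕ) {T : C} (x : T ⟶ grN X q) :
    ∃ (T' : C) (π : T' ⟶ T) (_ : Epi π) (x' : T' ⟶ X.obj (op (q + 1))),
      x' ≫ tr X (Nat.le_succ q) = π ≫ x ≫ grι X q := by
  have := hS q (q + 1) (Nat.le_succ q)
  obtain ⟨T', π, hπ, x', hx'⟩ := surjective_up_to_refinements_of_epi (tr X (Nat.le_succ q))
    (x ≫ grι X q)
  exact ⟨T', π, hπ, x', hx'.symm⟩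

/-- existence of the multiplication maps on graded pieces -/
lemma exists_grt (hS : IsStrict X) (hA : IsAdapted J X) (a : A) (ha : a ∈ J) (q : ℕ) :
    ∃ t : grN X q ⟶ grN X (q + 1), ∀ (T : C) (x : T ⟶ grN X q) (x' : T ⟶ X.obj (op (q + 1))),
      x' ≫ tr X (Nat.le_succ q) = x ≫ grι X q →
        x ≫ t ≫ grι X (q + 1) = x' ≫ (a • 𝟙 (X.obj (op (q + 1)))) := by
  have ha1 : a ∈ J ^ 1 := by rwa [pow_one]
  -- the preimage of the graded piece
  let K : Subobject (X.obj (op (q + 1))) := Fsub X q (q + 1)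
  have hρ : (Fsub X q q).Factors (K.arrow ≫ tr X (Nat.le_succ q)) :=
    Fsub_factors_tr X (by omega) (Nat.le_succ q) _ (Subobject.factors_self _)
  let ρ : (K : C) ⟶ grN X q := (Fsub X q q).factorThru _ hρ
  have hρι : ρ ≫ grι X q = K.arrow ≫ tr X (Nat.le_succ q) := Subobject.factorThru_arrow _ _ hρ
  have hKfac : ∀ (T : C) (x : T ⟶ grN X q) (x' : T ⟶ X.obj (op (q + 1))),
      x' ≫ tr X (Nat.le_succ q) = x ≫ grι X q → K.Factors x' := by
    intro T x x' hx'
    cases q with
    | zero => exact Subobject.top_factors _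
    | succ q' =>
      have : q' ≤ q' + 1 + 1 := by omega
      rw [Fsub_succ_factors_iff X this, ← tr_comp X (Nat.le_succ q') (Nat.le_succ (q' + 1)),
        ← Category.assoc, hx', Category.assoc, grι_tr, comp_zero]
  have hρepi : Epi ρ := by
    rw [epi_iff_surjective_up_to_refinements]
    intro T x
    obtain ⟨T', π, hπ, x', hx'⟩ := exists_lift_gr X hS q x
    have hK' : K.Factors x' := hKfac T' (π ≫ x) x' (by rw [hx', Category.assoc])
    refine ⟨T', π, hπ, K.factorThru x' hK', ?_⟩
    rw [← cancel_mono (grι X q)]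
    calc (π ≫ x) ≫ grι X q = x' ≫ tr X (Nat.le_succ q) := by rw [Category.assoc]; exact hx'.symm
      _ = (K.factorThru x' hK' ≫ K.arrow) ≫ tr X (Nat.le_succ q) := by
        rw [Subobject.factorThru_arrow]
      _ = (K.factorThru x' hK' ≫ ρ) ≫ grι X q := by rw [Category.assoc, Category.assoc, hρι]
  have hα : (Fsub X (q + 1) (q + 1)).Factors (K.arrow ≫ (a • 𝟙 (X.obj (op (q + 1))))) := by
    rw [Fsub_succ_factors_iff X (Nat.le_succ q), Category.assoc, smul_id_comp, ← Category.assoc,
      ← hρι, Category.assoc]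
    rw [adapted_kills J X hA (n := q) (s := q) (p := 1) rfl a ha1 (grι X q)
      (Subobject.factors_self _), comp_zero]
  let α : (K : C) ⟶ grN X (q + 1) := (Fsub X (q + 1) (q + 1)).factorThru _ hα
  have hαι : α ≫ grι X (q + 1) = K.arrow ≫ (a • 𝟙 (X.obj (op (q + 1)))) :=
    Subobject.factorThru_arrow _ _ hα
  have hker : kernel.ι ρ ≫ α = 0 := by
    rw [← cancel_mono (grι X (q + 1)), zero_comp, Category.assoc, hαι, ← Category.assoc]
    refine adapted_kills J X hA (n := q + 1) (s := q + 1) (p := 1) rfl a ha1 _ ?_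
    rw [Fsub_succ_factors_iff X (Nat.le_succ q), Category.assoc, ← hρι, ← Category.assoc,
      kernel.condition, zero_comp]
  refine ⟨Abelian.epiDesc ρ α hker, fun T x x' hx' => ?_⟩
  have hf := hKfac T x x' hx'
  have e1 : K.factorThru x' hf ≫ ρ = x := by
    rw [← cancel_mono (grι X q), Category.assoc, hρι, ← Category.assoc,
      Subobject.factorThru_arrow, hx']
  rw [← e1, Category.assoc, ← Category.assoc ρ, Abelian.comp_epiDesc, hαι, ← Category.assoc,
    Subobject.factorThru_arrow]

end Gr

/-- membership in a finite sum of images, up to refinements -/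
lemma factors_finset_sup_image_iff {B A₀ T : C} {ι : Type*} (s : Finset ι) (f : ι → (A₀ ⟶ B))
    (x : T ⟶ B) :
    (s.sup (fun i => imageSubobject (f i))).Factors x ↔
      ∃ (T' : C) (π : T' ⟶ T) (_ : Epi π) (y : ι → (T' ⟶ A₀)), π ≫ x = ∑ i ∈ s, y i ≫ f i := by
  classical
  constructor
  · intro h
    induction s using Finset.induction_on generalizing T x with
    | empty =>
      refine ⟨T, 𝟙 T, inferInstance, fun _ => 0, ?_⟩
      rw [Finset.sup_empty] at h
      rw [Category.id_comp, Finset.sum_empty, ← Subobject.factorThru_arrow _ x h,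
        Subobject.bot_arrow, comp_zero]
    | insert a s ha ih =>
      rw [Finset.sup_insert, factors_sup_iff] at h
      obtain ⟨T₁, π₁, hπ₁, y₁, y₂, hy₁, hy₂, h⟩ := h
      obtain ⟨T₂, π₂, hπ₂, z, hz⟩ := ih y₂ hy₂
      obtain ⟨T₃, π₃, hπ₃, w, hw⟩ := (factors_image_iff _ _).1 hy₁
      refine ⟨pullback π₂ π₃, pullback.fst π₂ π₃ ≫ π₂ ≫ π₁, inferInstance,
        fun i => if i = a then pullback.snd π₂ π₃ ≫ w else pullback.fst π₂ π₃ ≫ z i, ?_⟩
      rw [Finset.sum_insert ha]
      dsimp only
      rw [if_pos rfl]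
      simp only [Category.assoc]
      rw [h, Preadditive.comp_add, Preadditive.comp_add, hz, ← hw, ← pullback.condition_assoc,
        add_comm, add_comm (pullback.fst π₂ π₃ ≫ π₂ ≫ y₁), Preadditive.comp_sum]
      congr 1
      apply Finset.sum_congr rfl
      intro i hi
      have : i ≠ a := fun e => ha (e ▸ hi)
      rw [if_neg this, Category.assoc]
  · rintro ⟨T', π, hπ, y, h⟩
    apply factors_of_epi_comp _ π
    rw [h]
    apply factors_sum
    intro i hi
    exact Subobject.factors_of_le _ (Finset.le_sup (f := fun i => imageSubobject (f i)) hi)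
      (imageSubobject_factors_comp_self _ _)

section Main

variable (J : Ideal A) (X : PS C) (hS : IsStrict X) (hA : IsAdapted J X)
  {ι : Type*} (g : ι → A) (hg : ∀ i, g i ∈ J)

/-- multiplication on graded pieces -/
noncomputable def grt (i : ι) (q : ℕ) : grN X q ⟶ grN X (q + 1) :=
  (exists_grt J X hS hA (g i) (hg i) q).choose

lemma grt_spec (i : ι) (q : ℕ) {T : C} (x : T ⟶ grN X q) (x' : T ⟶ X.obj (op (q + 1)))
    (h : x' ≫ tr X (Nat.le_succ q) = x ≫ grι X q) :
    x ≫ grt J X hS hA g hg i q ≫ grι X (q + 1) = x' ≫ (g i • 𝟙 (X.obj (op (q + 1)))) :=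
  (exists_grt J X hS hA (g i) (hg i) q).choose_spec T x x' h

lemma grt_comm (i j : ι) (q : ℕ) :
    grt J X hS hA g hg i q ≫ grt J X hS hA g hg j (q + 1) =
      grt J X hS hA g hg j q ≫ grt J X hS hA g hg i (q + 1) := by
  obtain ⟨T', π, hπ, x', hx'⟩ := exists_lift_gr X hS q (𝟙 (grN X q))
  have := hS (q + 1) (q + 2) (Nat.le_succ (q + 1))
  obtain ⟨T'', π₂, hπ₂, x'', hx''⟩ :=
    surjective_up_to_refinements_of_epi (tr X (Nat.le_succ (q + 1))) x'
  have key : ∀ i j : ι, (π₂ ≫ π) ≫ grt J X hS hA g hg i q ≫ grt J X hS hA g hg j (q + 1) ≫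
      grι X (q + 2) = x'' ≫ (g i • 𝟙 _) ≫ (g j • 𝟙 _) := by
    intro i j
    have h1 : (π₂ ≫ π) ≫ grt J X hS hA g hg i q ≫ grι X (q + 1) = (π₂ ≫ x') ≫ (g i • 𝟙 _) := by
      apply grt_spec
      rw [Category.assoc, hx', Category.assoc, Category.id_comp]
    have h2 := grt_spec J X hS hA g hg j (q + 1) ((π₂ ≫ π) ≫ grt J X hS hA g hg i q)
      (x'' ≫ (g i • 𝟙 _)) (by
        rw [Category.assoc, smul_id_comp, ← Category.assoc, ← hx'']
        simp only [Category.assoc] at h1 ⊢
        rw [h1])
    simp only [Category.assoc] at h2 ⊢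
    rw [h2]
  rw [← cancel_mono (grι X (q + 2)), ← cancel_epi (π₂ ≫ π)]
  simp only [Category.assoc] at key ⊢
  rw [key i j, key j i, smul_id_comp]

/-- the graded object with operators attached to an adapted strict system -/
noncomputable def grMod : GrMod C ι where
  N := grN X
  t i q := grt J X hS hA g hg i q
  comm i j q := grt_comm J X hS hA g hg i j q

/-- the family of subobjects of the graded pieces attached to a family of subobjects of `X` -/
noncomputable def toFam (M : (q : ℕ) → Subobject (X.obj (op q))) : ∀ q, Subobject (grN X q) :=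
  fun q => (Subobject.pullback (grι X q)).obj (M q)

lemma factors_toFam_iff (M : (q : ℕ) → Subobject (X.obj (op q))) (q : ℕ) {T : C}
    (x : T ⟶ grN X q) :
    (toFam X M q).Factors x ↔ (M q).Factors (x ≫ grι X q) :=
  NoethSerre.pullback_factors_iff _ _ _

lemma isSub_toFam {M : (q : ℕ) → Subobject (X.obj (op q))} (hM : IsGrSub J X M) (s : Finset ι) :
    (grMod J X hS hA g hg).IsSub s (toFam X M) := by
  intro i _ q T x hx
  change T ⟶ grN X q at x
  change (toFam X M (q + 1)).Factors (x ≫ grt J X hS hA g hg i q)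
  replace hx : @Subobject.Factors C _ T (grN X q) (toFam X M q) x := hx
  rw [factors_toFam_iff] at hx ⊢
  obtain ⟨T', π, hπ, x', hx'⟩ := exists_lift_gr X hS q x
  apply factors_of_epi_comp _ π
  have e : π ≫ (x ≫ grt J X hS hA g hg i q) ≫ grι X (q + 1) =
      x' ≫ (g i • 𝟙 (X.obj (op (q + 1)))) := by
    have := grt_spec J X hS hA g hg i q (π ≫ x) x' (by rw [hx', Category.assoc])
    simpa only [Category.assoc] using this
  rw [e]
  refine isGrSub_smul J X hM 1 q (q + 1) (by omega) (Nat.le_succ q) (g i)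
    (by rw [pow_one]; exact hg i) x' ?_
  rw [hx']
  exact Subobject.factors_of_factors_right π hx

/-- generators of the powers of `J` -/
noncomputable def gens (s : Finset ι) : ℕ → Finset A
  | 0 => {1}
  | q + 1 => by
    classical
    exact (s ×ˢ gens s q).image (fun p => g p.1 * p.2)

lemma span_gens (s : Finset ι) (hs : Ideal.span (g '' (s : Set ι)) = J) (q : ℕ) :
    Ideal.span (gens g s q : Set A) = J ^ q := by
  classical
  induction q with
  | zero =>
    simp [gens]
  | succ q ih =>
    rw [pow_succ', ← ih, ← hs, Ideal.span_mul_span]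
    congr 1
    ext x
    simp only [gens, Finset.coe_image, Finset.coe_product, Set.mem_image, Set.mem_prod,
      Finset.mem_coe, Prod.exists, Set.mem_iUnion, Set.mem_singleton_iff, exists_prop]
    constructor
    · rintro ⟨i, b, ⟨hi, hb⟩, rfl⟩
      exact ⟨g i, ⟨i, hi, rfl⟩, b, hb, rfl⟩
    · rintro ⟨_, ⟨i, hi, rfl⟩, b, hb, rfl⟩
      exact ⟨i, b, ⟨hi, hb⟩, rfl⟩

include hg in
lemma gens_mem (s : Finset ι) (q : ℕ) {b : A} (hb : b ∈ gens g s q) : b ∈ J ^ q := by
  classical
  induction q generalizing b with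
  | zero =>
    simp only [gens, Finset.mem_singleton] at hb
    rw [hb, pow_zero, Ideal.one_eq_top]; trivial
  | succ q ih =>
    simp only [gens, Finset.mem_image, Finset.mem_product, Prod.exists] at hb
    obtain ⟨i, b', ⟨-, hb'⟩, rfl⟩ := hb
    rw [pow_succ']
    exact Ideal.mul_mem_mul (hg i) (ih hb')

lemma gen_grMod (hX : IsAdic J X) (s : Finset ι) (hs : Ideal.span (g '' (s : Set ι)) = J) (q : ℕ) :
    s.sup (fun i => imageSubobject ((grMod J X hS hA g hg).t i q)) = ⊤ := by
  classical
  rw [eq_top_iff, le_iff_forall_factors]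
  intro T x _
  change T ⟶ grN X (q + 1) at x
  change (s.sup (fun i => imageSubobject (grt J X hS hA g hg i q))).Factors x
  have hx : (kernelSubobject (tr X (Nat.le_succ q))).Factors (x ≫ grι X (q + 1)) := by
    rw [kernelSubobject_factors_iff, Category.assoc, grι_tr, comp_zero]
  rw [kernelSubobject_eq_sup_of_isQuot (gens g s (q + 1)) (span_gens J g s hs (q + 1)) _
    (hX.2 q (q + 1) (Nat.le_succ q))] at hx
  have hx' : ((s ×ˢ gens g s q).sup (fun p => imageSubobject
      ((g p.1 * p.2) • 𝟙 (X.obj (op (q + 1)))))).Factors (x ≫ grι X (q + 1)) := by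
    have e : gens g s (q + 1) = (s ×ˢ gens g s q).image (fun p => g p.1 * p.2) := by
      simp only [gens]
    rw [e, Finset.sup_image] at hx
    exact hx
  obtain ⟨T', π, hπ, y, hy⟩ := (factors_finset_sup_image_iff _ _ _).1 hx'
  -- the elements of the graded piece of degree `q`
  have hu : ∀ p ∈ s ×ˢ gens g s q, ∃ u : T' ⟶ grN X q,
      u ≫ grι X q = (y p ≫ (p.2 • 𝟙 (X.obj (op (q + 1))))) ≫ tr X (Nat.le_succ q) := by
    intro p hp
    have hb : p.2 ∈ J ^ q := gens_mem J g hg s q (Finset.mem_product.1 hp).2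
    have hf : (Fsub X q q).Factors
        ((y p ≫ (p.2 • 𝟙 (X.obj (op (q + 1))))) ≫ tr X (Nat.le_succ q)) := by
      cases q with
      | zero => exact Subobject.top_factors _
      | succ q' =>
        rw [Fsub_succ_factors_iff X (Nat.le_succ q')]
        simp only [Category.assoc]
        rw [tr_comp, smul_id_comp, hX.1 q' p.2 hb, comp_zero, comp_zero]
    exact ⟨(Fsub X q q).factorThru _ hf, Subobject.factorThru_arrow _ _ hf⟩
  let u : ι × A → (T' ⟶ grN X q) := fun p =>
    if hp : p ∈ s ×ˢ gens g s q then (hu p hp).choose else 0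
  have huι : ∀ p ∈ s ×ˢ gens g s q,
      u p ≫ grι X q = (y p ≫ (p.2 • 𝟙 (X.obj (op (q + 1))))) ≫ tr X (Nat.le_succ q) := by
    intro p hp
    simp only [u, dif_pos hp]
    exact (hu p hp).choose_spec
  have hsum : π ≫ x = ∑ p ∈ s ×ˢ gens g s q, u p ≫ grt J X hS hA g hg p.1 q := by
    rw [← cancel_mono (grι X (q + 1)), Category.assoc, hy, Preadditive.sum_comp]
    apply Finset.sum_congr rfl
    intro p hp
    have := grt_spec J X hS hA g hg p.1 q (u p) (y p ≫ (p.2 • 𝟙 (X.obj (op (q + 1)))))
      (huι p hp).symm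
    rw [Category.assoc, this, Category.assoc, mul_comm, mul_smul]
    congr 1
    rw [Linear.smul_comp, Category.id_comp]
  apply factors_of_epi_comp _ π
  rw [hsum]
  apply factors_sum
  intro p hp
  exact Subobject.factors_of_le _
    (Finset.le_sup (f := fun i => imageSubobject (grt J X hS hA g hg i q))
      (Finset.mem_product.1 hp).1)
    (imageSubobject_factors_comp_self _ _)

end Main

/-- the strict graded object of an adic system with Noetherian components is Noetherian -/
theorem isGrSub_chain_stationary [IsNoetherianRing A] (J : Ideal A) (X : PS C)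
    (hX : IsAdicNoeth J X) (M : ℕ → (q : ℕ) → Subobject (X.obj (op q)))
    (hM : ∀ i : ℕ, IsGrSub J X (M i)) (hmono : Monotone M) :
    ∃ i₀ : ℕ, ∀ i : ℕ, i₀ ≤ i → M i = M i₀ := by
  classical
  have hJ : J.FG := IsNoetherian.noetherian J
  obtain ⟨s₀, hs₀⟩ := hJ
  have hS : IsStrict X := isStrict_of_isAdic J (Or.inl ⟨s₀, hs₀⟩) X hX.1
  have hA : IsAdapted J X := isAdapted_of_isAdic J (Or.inl ⟨s₀, hs₀⟩) X hX.1
  let g : ↥s₀ → A := Subtype.val
  have hg : ∀ i, g i ∈ J := fun i => hs₀ ▸ Ideal.subset_span i.2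
  have hs : Ideal.span (g '' ((Finset.univ : Finset ↥s₀) : Set ↥s₀)) = J := by
    rw [← hs₀]
    congr 1
    ext x
    simp [g]
  let G := grMod J X hS hA g hg
  have : IsNoetherianObject (X.obj (op 0)) := hX.2 0
  have hN0' : IsNoetherianObject (grN X 0) := isNoetherianObject_of_mono (Fsub X 0 0).arrow
  have hN0 : IsNoetherianObject (G.N 0) := hN0'
  have hacc := G.accAbove Finset.univ (fun _ => ⊥)
    (fun i _ q T x hx => by
      have : x = 0 := by
        rw [← Subobject.factorThru_arrow _ x hx, Subobject.bot_arrow, comp_zero]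
      rw [this, zero_comp]
      exact Subobject.factors_zero)
    (fun q => by
      rw [bot_sup_eq]
      exact gen_grMod J X hS hA g hg hX.1 Finset.univ hs q)
  obtain ⟨k₀, hk₀⟩ := hacc (fun k => toFam X (M k))
    (fun k => isSub_toFam J X hS hA g hg (hM k) Finset.univ)
    (fun k q => bot_le)
    (fun k k' hkk' q => (Subobject.pullback (grι X q)).monotone (hmono hkk' q))
  refine ⟨k₀, fun k hk => le_antisymm ?_ (hmono hk)⟩
  intro q
  rw [le_iff_forall_factors]
  intro T x hx
  have hxF : (Fsub X q q).Factors x := Subobject.factors_of_le _ ((hM k).1 q) hx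
  have h1 : (toFam X (M k) q).Factors ((Fsub X q q).factorThru x hxF) := by
    rw [factors_toFam_iff, Subobject.factorThru_arrow]
    exact hx
  have h2 := congrFun (hk₀ k hk) q
  rw [h2, factors_toFam_iff, Subobject.factorThru_arrow] at h1
  exact h1

end Groth.Agent.Lib27.ARSys
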