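import Groth.Agent.Lib27.ARGrNoeth

/-! Strict subsystems of an adic Noetherian system (helper27). -/

set_option autoImplicit false
set_option linter.unusedSectionVars false
open CategoryTheory CategoryTheory.Limits Opposite
universe w v u

namespace Groth.Agent.Lib27.ARSys

open _root_.ARSys Groth.Agent.Lib27.PElem Groth.Agent.Lib27.NoethSerre Groth.Agent.Lib27.AHB

variable {C : Type u} [Category.{v} C] [Abelian C] {A : Type w} [CommRing A] [Linear A C]

/-- evaluation of a subobject of a projective system -/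
noncomputable def evS (X : PS C) (n : ℕ) (Z : Subobject X) : Subobject (X.obj (op n)) :=
  Subobject.mk (Z.arrow.app (op n))

lemma factors_evS_iff (X : PS C) (n : ℕ) (Z : Subobject X) {T : C} (x : T ⟶ X.obj (op n)) :
    (evS X n Z).Factors x ↔ ∃ w : T ⟶ (Z : PS C).obj (op n), w ≫ Z.arrow.app (op n) = x :=
  Subobject.mk_factors_iff _ _

lemma evS_mono (X : PS C) (n : ℕ) {Z Z' : Subobject X} (h : Z ≤ Z') : evS X n Z ≤ evS X n Z' := by
  refine Subobject.mk_le_mk_of_comm ((Subobject.ofLE Z Z' h).app (op n)) ?_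
  rw [← NatTrans.comp_app, Subobject.ofLE_arrow]

lemma le_of_evS_le (X : PS C) {Z Z' : Subobject X} (h : ∀ n, evS X n Z ≤ evS X n Z') : Z ≤ Z' := by
  have hfac : ∀ a : ℕᵒᵖ, ∃ φ : (Z : PS C).obj a ⟶ (Z' : PS C).obj a,
      φ ≫ Z'.arrow.app a = Z.arrow.app a := by
    rintro ⟨n⟩
    exact ⟨Subobject.ofMkLEMk _ _ (h n), Subobject.ofMkLEMk_comp (h n)⟩
  choose φ hφ using hfac
  let α : (Z : PS C) ⟶ (Z' : PS C) :=
    { app := φ
      naturality := by
        intro n m f
        rw [← cancel_mono (Z'.arrow.app m), Category.assoc, Category.assoc, hφ, Z'.arrow.naturality,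
          ← Category.assoc, hφ, Z.arrow.naturality] }
  refine Subobject.le_of_comm α ?_
  ext n
  exact hφ n

lemma evS_tr (X : PS C) (Z : Subobject X) {n m : ℕ} (h : n ≤ m) {T : C} (x : T ⟶ X.obj (op m))
    (hx : (evS X m Z).Factors x) : (evS X n Z).Factors (x ≫ tr X h) := by
  obtain ⟨w, rfl⟩ := (factors_evS_iff X m Z x).1 hx
  refine (factors_evS_iff X n Z _).2 ⟨w ≫ tr (Z : PS C) h, ?_⟩
  rw [Category.assoc, Category.assoc, tr_naturality]

lemma evS_smul (X : PS C) (Z : Subobject X) (a : A) {n : ℕ} {T : C} (x : T ⟶ X.obj (op n))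
    (hx : (evS X n Z).Factors x) : (evS X n Z).Factors (x ≫ (a • 𝟙 (X.obj (op n)))) := by
  obtain ⟨w, rfl⟩ := (factors_evS_iff X n Z x).1 hx
  refine (factors_evS_iff X n Z _).2 ⟨w ≫ (a • 𝟙 _), ?_⟩
  rw [Category.assoc, Category.assoc, smul_id_comp]

/-- lifting elements of a strict subsystem -/
lemma exists_lift_evS (X : PS C) (Z : Subobject X) (hZ : IsStrict (Z : PS C)) {n m : ℕ} (h : n ≤ m)
    {T : C} (x : T ⟶ X.obj (op n)) (hx : (evS X n Z).Factors x) :
    ∃ (T' : C) (π : T' ⟶ T) (_ : Epi π) (z : T' ⟶ X.obj (op m)),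
      (evS X m Z).Factors z ∧ z ≫ tr X h = π ≫ x := by
  obtain ⟨w, rfl⟩ := (factors_evS_iff X n Z x).1 hx
  have := hZ n m h
  obtain ⟨T', π, hπ, w', hw'⟩ := surjective_up_to_refinements_of_epi (tr (Z : PS C) h) w
  refine ⟨T', π, hπ, w' ≫ Z.arrow.app (op m), (factors_evS_iff X m Z _).2 ⟨w', rfl⟩, ?_⟩
  rw [Category.assoc, ← tr_naturality, ← Category.assoc, ← hw', Category.assoc]

lemma Fsub_smul (J : Ideal A) (X : PS C) (hA : IsAdapted J X) (n p q : ℕ) (hn : p + q = n)
    (hqn : q ≤ n) (a : A) (ha : a ∈ J ^ p) {T : C} (x : T ⟶ X.obj (op n))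
    (hxF : (Fsub X q q).Factors (x ≫ tr X hqn)) :
    (Fsub X n n).Factors (x ≫ (a • 𝟙 (X.obj (op n)))) := by
  cases n with
  | zero => rw [Fsub_zero]; exact Subobject.top_factors _
  | succ k =>
    rw [Fsub_succ_factors_iff X (Nat.le_succ k), Category.assoc, smul_id_comp, ← Category.assoc]
    rcases Nat.eq_zero_or_pos p with hp0 | hppos
    · obtain rfl : q = k + 1 := by omega
      rw [tr_refl, Category.comp_id, Fsub_succ_factors_iff X (Nat.le_succ k)] at hxF
      rw [hxF, zero_comp]
    · have hqk : q ≤ k := by omega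
      refine adapted_kills J X hA (n := k) (s := q) (p := p) (by omega) a ha _ ?_
      cases q with
      | zero => rw [Fsub_zero]; exact Subobject.top_factors _
      | succ q' =>
        have hq'k : q' ≤ k := by omega
        rw [Fsub_succ_factors_iff X hq'k, Category.assoc, tr_comp]
        rw [Fsub_succ_factors_iff X (Nat.le_succ q'), Category.assoc, tr_comp] at hxF
        exact hxF

/-- the graded submodule attached to a subsystem -/
noncomputable def grOf (X : PS C) (Z : Subobject X) : (q : ℕ) → Subobject (X.obj (op q)) :=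
  fun q => evS X q Z ⊓ Fsub X q q

lemma grOf_mono (X : PS C) {Z Z' : Subobject X} (h : Z ≤ Z') : grOf X Z ≤ grOf X Z' :=
  fun q => inf_le_inf (evS_mono X q h) le_rfl

lemma isGrSub_grOf (J : Ideal A) (X : PS C) (hA : IsAdapted J X) (Z : Subobject X)
    (hZ : IsStrict (Z : PS C)) : IsGrSub J X (grOf X Z) := by
  refine ⟨fun q => inf_le_right, fun p q a ha => ?_⟩
  apply imageSubobject_le_of_factors
  set P := (Subobject.pullback (tr X (Nat.le_add_left q p))).obj (grOf X Z q) with hP
  have hPf : (grOf X Z q).Factors (P.arrow ≫ tr X (Nat.le_add_left q p)) :=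
    (NoethSerre.pullback_factors_iff _ _ _).1 (Subobject.factors_self P)
  unfold grOf at hPf ⊢
  rw [Subobject.inf_factors] at hPf ⊢
  refine ⟨?_, Fsub_smul J X hA (p + q) p q rfl _ a ha _ hPf.2⟩
  obtain ⟨T', π, hπ, z, hz, hz'⟩ := exists_lift_evS X Z hZ (Nat.le_add_left q p) _ hPf.1
  have hd : (Fsub X (q + 1) (p + q)).Factors (π ≫ P.arrow - z) := by
    rw [Fsub_succ_factors_iff X (Nat.le_add_left q p), Preadditive.sub_comp, hz', Category.assoc,
      sub_self]
  have hd0 := adapted_kills J X hA (n := p + q) (s := q + 1) (p := p) (by omega) a ha _ hd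
  rw [Preadditive.sub_comp, sub_eq_zero] at hd0
  apply factors_of_epi_comp _ π
  rw [← Category.assoc, hd0]
  exact evS_smul X Z a z hz

/-- a strict subsystem is determined by its graded submodule -/
lemma le_of_grOf_le (X : PS C) {Z Z' : Subobject X} (hZZ' : Z ≤ Z') (hZ : IsStrict (Z : PS C))
    (h : grOf X Z' ≤ grOf X Z) : Z' ≤ Z := by
  apply le_of_evS_le
  intro n
  induction n with
  | zero =>
    have := h 0
    unfold grOf at this
    rw [Fsub_zero, inf_top_eq, inf_top_eq] at this
    exact this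
  | succ n ih =>
    rw [le_iff_forall_factors]
    intro T x hx
    have h1 : (evS X n Z).Factors (x ≫ tr X (Nat.le_succ n)) :=
      Subobject.factors_of_le _ ih (evS_tr X Z' (Nat.le_succ n) x hx)
    obtain ⟨T', π, hπ, z, hz, hz'⟩ := exists_lift_evS X Z hZ (Nat.le_succ n) _ h1
    have hd : (grOf X Z' (n + 1)).Factors (π ≫ x - z) := by
      unfold grOf
      rw [Subobject.inf_factors]
      refine ⟨factors_sub _ _ _ (Subobject.factors_of_factors_right π hx)
        (Subobject.factors_of_le _ (evS_mono X (n + 1) hZZ') hz), ?_⟩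
      rw [Fsub_succ_factors_iff X (Nat.le_succ n), Preadditive.sub_comp, hz', Category.assoc,
        sub_self]
    have hd' : (evS X (n + 1) Z).Factors (π ≫ x - z) :=
      Subobject.factors_of_le _ ((h (n + 1)).trans inf_le_left) hd
    apply factors_of_epi_comp _ π
    have : π ≫ x = (π ≫ x - z) + z := by abel
    rw [this]
    exact Subobject.factors_add _ _ hd' hz

/-- increasing sequences of strict subsystems of an adic Noetherian system are stationary -/
theorem strict_subobject_chain_stabilizes [IsNoetherianRing A] (J : Ideal A) (X : PS C)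
    (hX : IsAdicNoeth J X) (Z : ℕ →o Subobject X)
    (hZ : ∀ k : ℕ, IsStrict ((Subobject.underlying.obj (Z k) : PS C))) :
    ∃ k₀ : ℕ, ∀ k : ℕ, k₀ ≤ k → Z k = Z k₀ := by
  have hJ : J.FG := IsNoetherian.noetherian J
  have hA : IsAdapted J X := isAdapted_of_isAdic J (Or.inl hJ) X hX.1
  obtain ⟨k₀, hk₀⟩ := isGrSub_chain_stationary J X hX (fun k => grOf X (Z k))
    (fun k => isGrSub_grOf J X hA (Z k) (hZ k)) (fun k k' h => grOf_mono X (Z.monotone h))
  refine ⟨k₀, fun k hk => le_antisymm ?_ (Z.monotone hk)⟩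
  exact le_of_grOf_le X (Z.monotone hk) (hZ k₀) (hk₀ k hk).le

end Groth.Agent.Lib27.ARSys
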