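import Groth.Prelude.Def_ArtFun2
import Mathlib
set_option autoImplicit false
universe u v
open CategoryTheory CategoryTheory.Limits
open ArtFun ArtFun.Art

namespace Groth.Agent.Lib27.ArtFunL

variable {Λ k : Type u} [CommRing Λ] [Field k] [Algebra Λ k]

lemma isSmoothFunctor_of_iso {F F' : ArtFun.Art Λ k ⥤ Type v} (e : F ≅ F')
    (h : ArtFun.IsSmoothFunctor F') : ArtFun.IsSmoothFunctor F := by
  intro B A μ hμ z
  obtain ⟨w, hw⟩ := h μ hμ (e.hom.app A z)
  refine ⟨e.inv.app B w, ?_⟩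
  have h1 := NatTrans.naturality_apply e.inv μ w
  rw [← h1, hw]
  simp

lemma isSmoothFunctor_prod' {F G : ArtFun.Art Λ k ⥤ Type v}
    (sF : ArtFun.IsSmoothFunctor F) (sG : ArtFun.IsSmoothFunctor G) :
    ArtFun.IsSmoothFunctor (FunctorToTypes.prod F G) := by
  intro B A μ hμ z
  obtain ⟨a, ha⟩ := sF μ hμ z.1
  obtain ⟨b, hb⟩ := sG μ hμ z.2
  exact ⟨(a, b), Prod.ext ha hb⟩

theorem isSmoothFunctor_prod {F G : ArtFun.Art Λ k ⥤ Type v}
    (sF : ArtFun.IsSmoothFunctor F) (sG : ArtFun.IsSmoothFunctor G) :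
    ArtFun.IsSmoothFunctor (F ⨯ G) :=
  isSmoothFunctor_of_iso (FunctorToTypes.binaryProductIso F G) (isSmoothFunctor_prod' sF sG)

theorem isSmoothFunctor_iff_of_isSmooth {F G : ArtFun.Art Λ k ⥤ Type v} (η : F ⟶ G)
    (hη : ArtFun.IsSmooth η) (hF : ArtFun.H0 F) (hG : ArtFun.H0 G) :
    ArtFun.IsSmoothFunctor F ↔ ArtFun.IsSmoothFunctor G := by
  have hsurj : ∀ A : ArtFun.Art Λ k, Function.Surjective (η.app A) := by
    intro A y
    obtain ⟨x₀⟩ := hF.1
    have := hG.2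
    obtain ⟨z, hz⟩ := hη (toBase A) A.res_surjective
      ⟨(x₀, y), Subsingleton.elim _ _⟩
    exact ⟨z, congrArg (fun t => t.1.2) hz⟩
  constructor
  · intro sF B A μ hμ y
    obtain ⟨x, rfl⟩ := hsurj A y
    obtain ⟨x', hx'⟩ := sF μ hμ x
    refine ⟨η.app B x', ?_⟩
    rw [← NatTrans.naturality_apply η μ x', hx']
  · intro sG B A μ hμ x
    obtain ⟨y', hy'⟩ := sG μ hμ (η.app A x)
    obtain ⟨z, hz⟩ := hη μ hμ ⟨(x, y'), hy'.symm⟩
    exact ⟨z, congrArg (fun t => t.1.1) hz⟩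

theorem isSmooth_pullback_snd {F G H : ArtFun.Art Λ k ⥤ Type v} (η : F ⟶ G) (θ : H ⟶ G)
    (hη : ArtFun.IsSmooth η) : ArtFun.IsSmooth (pullback.snd η θ) := by
  intro B A μ hμ ⟨⟨p, h'⟩, hp⟩
  have hpbA := (IsPullback.of_hasPullback η θ).map ((evaluation (ArtFun.Art Λ k) (Type v)).obj A)
  have hpbB := (IsPullback.of_hasPullback η θ).map ((evaluation (ArtFun.Art Λ k) (Type v)).obj B)
  simp only [evaluation_obj_obj, evaluation_obj_map] at hpbA hpbB
  have hp' : (pullback.snd η θ).app A p = H.map μ h' := hp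
  set x := (pullback.fst η θ).app A p with hx
  have hxη : η.app A x = G.map μ (θ.app B h') := by
    have h1 : η.app A x = θ.app A ((pullback.snd η θ).app A p) :=
      types_congr_hom hpbA.w p
    rw [h1, hp', NatTrans.naturality_apply θ μ h']
  obtain ⟨x', hx'⟩ := hη μ hμ ⟨(x, θ.app B h'), hxη⟩
  have hx'1 : F.map μ x' = x := congrArg (fun t => t.1.1) hx'
  have hx'2 : η.app B x' = θ.app B h' := congrArg (fun t => t.1.2) hx'
  obtain ⟨z, hz1, hz2⟩ := Types.exists_of_isPullback hpbB x' h' hx'2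
  refine ⟨z, ?_⟩
  have hz : (pullback η θ).map μ z = p := by
    apply Types.ext_of_isPullback hpbA
    · rw [NatTrans.naturality_apply (pullback.fst η θ) μ z, hz1, hx'1]
    · rw [NatTrans.naturality_apply (pullback.snd η θ) μ z, hz2, hp']
  apply Subtype.ext
  exact Prod.ext hz hz2

end Groth.Agent.Lib27.ArtFunL
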