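import Groth.Prelude.Def_ArtFun5
import Mathlib

/-!
# Maps out of / into complete local coefficient rings and universal families (helper27)

* `exists_factor_trunc`: every `ψ ∈ h_T(A)` factors through a truncation `T/m^(n+1)`.
* `liftOfCompat`: a compatible system `f n ∈ h_R(T/m^(n+1))` lifts uniquely to `R → T`.
* `existsUnique_classifying`: for a universal family `ξ` over `R` and any family `ω` over a coefficient ring `T`
  there is a unique augmentation compatible `e : R → T` with `ξ.along e = ω`.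
-/

universe u v

open CategoryTheory

namespace Groth.Agent.Lib27.ArtPro

open ArtFun

variable {Λ : Type u} {k : Type u} [CommRing Λ] [Field k] [Algebra Λ k]

lemma Family.ext' {R : Type u} [CommRing R] [Algebra Λ R] {resR : R →ₐ[Λ] k} {F : Art Λ k ⥤ Type v}
    {ξ ω : Family R resR F} (h : ∀ A φ, ξ.app A φ = ω.app A φ) : ξ = ω := by
  cases ξ; cases ω
  congr
  funext A φ
  exact h A φ

/-- The maximal ideal of an object of `Art Λ k` is nilpotent. -/
lemma exists_maximalIdeal_pow_eq_bot (A : Art Λ k) : ∃ N : ℕ, IsLocalRing.maximalIdeal A ^ N = ⊥ := by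
  have h := IsArtinianRing.isNilpotent_jacobson_bot (R := A)
  rw [IsLocalRing.jacobson_eq_maximalIdeal ⊥ bot_ne_top] at h
  obtain ⟨N, hN⟩ := h
  exact ⟨N, hN⟩

/-- Every augmentation compatible map from a coefficient ring to an Artinian object factors through a truncation. -/
lemma exists_factor_trunc (T : CRing Λ k) (A : Art Λ k) (ψ : HomSet T.carrier T.res A) :
    ∃ (n : ℕ) (ψ' : T.trunc n ⟶ A), HomSet.map ψ' (T.truncHom n) = ψ := by
  obtain ⟨N, hN⟩ := exists_maximalIdeal_pow_eq_bot A
  have hres : ∀ a : T.carrier, A.res (ψ.1 a) = T.res a := fun a =>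
    congrArg (fun g : T.carrier →ₐ[Λ] k => g a) ψ.2
  have hle : IsLocalRing.maximalIdeal T.carrier ≤ (IsLocalRing.maximalIdeal A).comap ψ.1 := by
    intro a ha
    rw [Ideal.mem_comap, Art.mem_maximalIdeal_iff, hres]
    exact (T.mem_maximalIdeal_iff a).1 ha
  have hker : ∀ a : T.carrier, a ∈ T.mpow N → ψ.1 a = 0 := by
    intro a ha
    have h1 : T.mpow N ≤ (IsLocalRing.maximalIdeal A ^ (N + 1)).comap ψ.1 := by
      rw [← Ideal.map_le_iff_le_comap, CRing.mpow, Ideal.map_pow]
      exact Ideal.pow_right_mono (Ideal.map_le_iff_le_comap.2 hle) _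
    have h2 := h1 ha
    rw [Ideal.mem_comap, pow_succ, hN, Ideal.bot_mul, Ideal.mem_bot] at h2
    exact h2
  refine ⟨N, ⟨Ideal.Quotient.liftₐ (T.mpow N) ψ.1 hker, ?_⟩, ?_⟩
  · apply AlgHom.ext
    intro x
    obtain ⟨a, rfl⟩ := Ideal.Quotient.mk_surjective (I := T.mpow N) x
    exact hres a
  · exact Subtype.ext (AlgHom.ext fun _ => rfl)

section Lift

variable (T : CRing Λ k) {R : Type u} [CommRing R] [Algebra Λ R] {resR : R →ₐ[Λ] k}
  (f : ∀ n, HomSet R resR (T.trunc n))
  (hf : ∀ n, HomSet.map (T.truncMap n) (f (n + 1)) = f n)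

include hf in
lemma compat_mk (x : R) (t : T.carrier) : ∀ n m : ℕ, m ≤ n →
    (f n).1 x = Ideal.Quotient.mk (T.mpow n) t → (f m).1 x = Ideal.Quotient.mk (T.mpow m) t := by
  intro n
  induction n with
  | zero =>
    intro m hm h
    obtain rfl : m = 0 := Nat.le_zero.1 hm
    exact h
  | succ n ih =>
    intro m hm h
    rcases Nat.lt_or_ge m (n + 1) with hlt | hge
    · refine ih m (Nat.lt_succ_iff.1 hlt) ?_
      have h1 := congrArg (fun φ : HomSet R resR (T.trunc n) => φ.1 x) (hf n)
      change (T.truncMap n) ((f (n + 1)).1 x) = (f n).1 x at h1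
      rw [← h1, h]
      rfl
    · obtain rfl : m = n + 1 := le_antisymm hm hge
      exact h

/-- The approximations `R → T/m^n` (shifted index). -/
noncomputable def approx (n : ℕ) : R →ₐ[Λ] T.carrier ⧸ IsLocalRing.maximalIdeal T.carrier ^ n :=
  (Ideal.Quotient.factorₐ Λ (Ideal.pow_le_pow_right (Nat.le_succ n))).comp
    ((f n).1 : R →ₐ[Λ] T.carrier ⧸ T.mpow n)

lemma approx_apply_of_mk (n : ℕ) (x : R) (t : T.carrier)
    (h : (f n).1 x = Ideal.Quotient.mk (T.mpow n) t) :
    approx T f n x = Ideal.Quotient.mk (IsLocalRing.maximalIdeal T.carrier ^ n) t := by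
  unfold approx
  rw [AlgHom.comp_apply]
  erw [h]
  exact Ideal.Quotient.factorₐ_apply_mk _ _ _

include hf in
lemma approx_compat {m n : ℕ} (hle : m ≤ n) :
    (Ideal.Quotient.factorₐ Λ (Ideal.pow_le_pow_right (I := IsLocalRing.maximalIdeal T.carrier) hle)).comp
      (approx T f n) = approx T f m := by
  apply AlgHom.ext
  intro x
  obtain ⟨t, ht⟩ := Ideal.Quotient.mk_surjective (I := T.mpow n) ((f n).1 x)
  have hm := compat_mk T f hf x t n m hle ht.symm
  rw [AlgHom.comp_apply, approx_apply_of_mk T f n x t ht.symm, approx_apply_of_mk T f m x t hm]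
  exact Ideal.Quotient.factorₐ_apply_mk _ _ _

/-- The lift `R → T` of a compatible system of maps `R → T/m^(n+1)`. -/
noncomputable def liftOfCompat : R →ₐ[Λ] T.carrier :=
  haveI := T.isAdicComplete
  IsAdicComplete.liftAlgHom (IsLocalRing.maximalIdeal T.carrier) (approx T f)
    (fun hle => approx_compat T f hf hle)

lemma truncHom_comp_liftOfCompat (n : ℕ) : (T.truncHom n).1.comp (liftOfCompat T f hf) = (f n).1 := by
  have := T.isAdicComplete
  apply AlgHom.ext
  intro x
  have h1 := IsAdicComplete.mk_liftAlgHom (IsLocalRing.maximalIdeal T.carrier) (approx T f)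
    (fun hle => approx_compat T f hf hle) (n + 1) x
  change Ideal.Quotient.mk (T.mpow n) (liftOfCompat T f hf x) = (f n).1 x
  obtain ⟨t, ht⟩ := Ideal.Quotient.mk_surjective (I := T.mpow (n + 1)) ((f (n + 1)).1 x)
  have hm := compat_mk T f hf x t (n + 1) n (Nat.le_succ n) ht.symm
  rw [hm]
  exact Eq.trans h1 (approx_apply_of_mk T f (n + 1) x t ht.symm)

lemma res_comp_liftOfCompat : T.res.comp (liftOfCompat T f hf) = resR := by
  have h0 := truncHom_comp_liftOfCompat T f hf 0
  have h1 : (T.trunc 0).res.comp (T.truncHom 0).1 = T.res := (T.truncHom 0).2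
  rw [← h1, AlgHom.comp_assoc, h0]
  exact (f 0).2

/-- Maps into a coefficient ring are determined by their truncations. -/
lemma algHom_ext_trunc {g₁ g₂ : R →ₐ[Λ] T.carrier}
    (h : ∀ n, (T.truncHom n).1.comp g₁ = (T.truncHom n).1.comp g₂) : g₁ = g₂ := by
  have := T.isAdicComplete
  apply IsAdicComplete.algHom_ext (IsLocalRing.maximalIdeal T.carrier)
  intro n
  apply AlgHom.ext
  intro x
  have h1 := congrArg (fun φ : R →ₐ[Λ] T.trunc n => φ x) (h n)
  change Ideal.Quotient.mk (T.mpow n) (g₁ x) = Ideal.Quotient.mk (T.mpow n) (g₂ x) at h1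
  change Ideal.Quotient.mk (IsLocalRing.maximalIdeal T.carrier ^ n) (g₁ x) =
    Ideal.Quotient.mk (IsLocalRing.maximalIdeal T.carrier ^ n) (g₂ x)
  rw [Ideal.Quotient.eq] at h1 ⊢
  exact Ideal.pow_le_pow_right (Nat.le_succ n) h1

end Lift

section Classify

variable {F : Art Λ k ⥤ Type v} (R : CRing Λ k) (ξ : Family R.carrier R.res F)

/-- Two maps of coefficient rings inducing the same family from an objectwise injective family agree. -/
theorem classifying_unique (hinj : ∀ A, Function.Injective (ξ.app A)) (T : CRing Λ k)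
    (e₁ e₂ : R.carrier →ₐ[Λ] T.carrier) (he₁ : T.res.comp e₁ = R.res) (he₂ : T.res.comp e₂ = R.res)
    (h : ξ.along e₁ he₁ = ξ.along e₂ he₂) : e₁ = e₂ := by
  apply algHom_ext_trunc T
  intro n
  have h1 := congrArg (fun ω : Family T.carrier T.res F => ω.app (T.trunc n) (T.truncHom n)) h
  have h2 := hinj _ h1
  exact congrArg Subtype.val h2

/-- The classifying map of a family `ω` over `T` with respect to a universal family `ξ` over `R`. -/
theorem exists_classifying (hξ : IsUniversal ξ) (T : CRing Λ k) (ω : Family T.carrier T.res F) :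
    ∃ (e : R.carrier →ₐ[Λ] T.carrier) (he : T.res.comp e = R.res), ξ.along e he = ω := by
  choose f hf using fun n => (hξ (T.trunc n)).2 (ω.app (T.trunc n) (T.truncHom n))
  have hcompat : ∀ n, HomSet.map (T.truncMap n) (f (n + 1)) = f n := by
    intro n
    apply (hξ (T.trunc n)).1
    rw [ξ.natural, hf, hf, ← ω.natural, CRing.truncMap_truncHom]
  refine ⟨liftOfCompat T f hcompat, res_comp_liftOfCompat T f hcompat, ?_⟩
  apply Family.ext'
  intro A ψ
  obtain ⟨n, ψ', rfl⟩ := exists_factor_trunc T A ψ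
  rw [ω.natural, ← hf n, ← ξ.natural]
  change ξ.app A _ = _
  congr 1
  apply Subtype.ext
  change (ψ'.toAlgHom.comp (T.truncHom n).1).comp (liftOfCompat T f hcompat) = ψ'.toAlgHom.comp (f n).1
  rw [AlgHom.comp_assoc, truncHom_comp_liftOfCompat]

theorem existsUnique_classifying (hξ : IsUniversal ξ) (T : CRing Λ k) (ω : Family T.carrier T.res F) :
    ∃! e : R.carrier →ₐ[Λ] T.carrier, ∃ he : T.res.comp e = R.res, ξ.along e he = ω := by
  obtain ⟨e, he, h⟩ := exists_classifying R ξ hξ T ω
  refine ⟨e, ⟨he, h⟩, ?_⟩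
  rintro e' ⟨he', h'⟩
  exact classifying_unique R ξ (fun A => (hξ A).1) T e' e he' he (h'.trans h.symm)

lemma along_id : ξ.along (AlgHom.id Λ R.carrier) (AlgHom.comp_id _) = ξ :=
  Family.ext' fun _ _ => rfl

lemma along_along (S T : CRing Λ k) (e : R.carrier →ₐ[Λ] S.carrier) (he : S.res.comp e = R.res)
    (e' : S.carrier →ₐ[Λ] T.carrier) (he' : T.res.comp e' = S.res) :
    (ξ.along e he).along e' he' =
      ξ.along (e'.comp e) (by rw [← AlgHom.comp_assoc, he', he]) :=
  Family.ext' fun _ _ => rfl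

/-- Two pro-representing pairs are uniquely isomorphic. -/
theorem existsUnique_algEquiv (P Q : ProRep F) :
    ∃! e : P.ring.carrier ≃ₐ[Λ] Q.ring.carrier,
      ∃ he : Q.ring.res.comp e.toAlgHom = P.ring.res, P.family.along e.toAlgHom he = Q.family := by
  obtain ⟨e, he, h⟩ := exists_classifying P.ring P.family P.universal Q.ring Q.family
  obtain ⟨e', he', h'⟩ := exists_classifying Q.ring Q.family Q.universal P.ring P.family
  have h1 : e'.comp e = AlgHom.id Λ _ := by
    refine classifying_unique P.ring P.family (fun A => (P.universal A).1) P.ring _ _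
      (by rw [← AlgHom.comp_assoc, he', he]) (AlgHom.comp_id _) ?_
    rw [along_id, ← along_along P.ring P.family Q.ring P.ring e he e' he', h, h']
  have h2 : e.comp e' = AlgHom.id Λ _ := by
    refine classifying_unique Q.ring Q.family (fun A => (Q.universal A).1) Q.ring _ _
      (by rw [← AlgHom.comp_assoc, he, he']) (AlgHom.comp_id _) ?_
    rw [along_id, ← along_along Q.ring Q.family P.ring Q.ring e' he' e he, h', h]
  refine ⟨AlgEquiv.ofAlgHom e e' h2 h1, ⟨he, h⟩, ?_⟩
  rintro ε ⟨hε, hε'⟩
  apply AlgEquiv.ext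
  intro x
  have := classifying_unique P.ring P.family (fun A => (P.universal A).1) Q.ring ε.toAlgHom e hε he
    (hε'.trans h.symm)
  exact congrArg (fun g : P.ring.carrier →ₐ[Λ] Q.ring.carrier => g x) this

end Classify

end Groth.Agent.Lib27.ArtPro
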