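import Groth.Prelude.Def_ArtFun5
import Mathlib

/-!
# Tangent vectors of augmented `k`-algebras as maps to the dual numbers (helper27)

For an augmented `k`-algebra `(R, res)` and a `k`-linear functional `ℓ₀ : R → k` vanishing on products of
elements of the augmentation ideal, `dualOfFunctional res ℓ₀ h : R →ₐ[k] k[ε]`, `x ↦ res x + ℓ₀ (x - res x) ε`.
-/

universe u v

open CategoryTheory

namespace Groth.Agent.Lib27.ArtTan

open ArtFun

variable {k : Type u} [Field k]

section Functional

variable {R : Type u} [CommRing R] [Algebra k R] (res : R →ₐ[k] k)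

/-- `x ↦ (res x, ℓ₀ (x - res x))`. -/
noncomputable def dualOfFunctional (ℓ₀ : R →ₗ[k] k)
    (h : ∀ x y, res x = 0 → res y = 0 → ℓ₀ (x * y) = 0) : R →ₐ[k] DualNumber k where
  toFun x := (res x, ℓ₀ (x - algebraMap k R (res x)))
  map_one' := by
    refine TrivSqZeroExt.ext (by simp) ?_
    change ℓ₀ (1 - algebraMap k R (res 1)) = 0
    simp
  map_zero' := by
    refine TrivSqZeroExt.ext (by simp) ?_
    change ℓ₀ (0 - algebraMap k R (res 0)) = 0
    simp
  map_add' x y := by
    refine TrivSqZeroExt.ext (by simp) ?_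
    change ℓ₀ (x + y - algebraMap k R (res (x + y))) =
      ℓ₀ (x - algebraMap k R (res x)) + ℓ₀ (y - algebraMap k R (res y))
    rw [← map_add]
    congr 1
    rw [map_add, map_add]
    ring
  map_mul' x y := by
    refine TrivSqZeroExt.ext (by simp) ?_
    change ℓ₀ (x * y - algebraMap k R (res (x * y))) =
      res x • ℓ₀ (y - algebraMap k R (res y)) + MulOpposite.op (res y) • ℓ₀ (x - algebraMap k R (res x))
    have hm : res (x - algebraMap k R (res x)) = 0 := by simp
    have hn : res (y - algebraMap k R (res y)) = 0 := by simp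
    have key : x * y - algebraMap k R (res (x * y)) =
        res x • (y - algebraMap k R (res y)) + res y • (x - algebraMap k R (res x)) +
          (x - algebraMap k R (res x)) * (y - algebraMap k R (res y)) := by
      rw [map_mul, map_mul, Algebra.smul_def, Algebra.smul_def]
      ring
    rw [key, map_add, map_add, h _ _ hm hn, add_zero, map_smul, map_smul]
    simp [mul_comm]
  commutes' c := by
    refine TrivSqZeroExt.ext ?_ ?_
    · change res (algebraMap k R c) = _
      rw [TrivSqZeroExt.algebraMap_eq_inl, TrivSqZeroExt.fst_inl]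
      simp
    · change ℓ₀ (algebraMap k R c - algebraMap k R (res (algebraMap k R c))) = _
      rw [TrivSqZeroExt.algebraMap_eq_inl, TrivSqZeroExt.snd_inl]
      simp

@[simp] lemma fst_dualOfFunctional (ℓ₀ : R →ₗ[k] k)
    (h : ∀ x y, res x = 0 → res y = 0 → ℓ₀ (x * y) = 0) (x : R) :
    (dualOfFunctional res ℓ₀ h x).fst = res x := rfl

@[simp] lemma snd_dualOfFunctional (ℓ₀ : R →ₗ[k] k)
    (h : ∀ x y, res x = 0 → res y = 0 → ℓ₀ (x * y) = 0) (x : R) :
    (dualOfFunctional res ℓ₀ h x).snd = ℓ₀ (x - algebraMap k R (res x)) := rfl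

lemma res_comp_dualOfFunctional (ℓ₀ : R →ₗ[k] k)
    (h : ∀ x y, res x = 0 → res y = 0 → ℓ₀ (x * y) = 0) :
    (Art.dual k k).res.comp (dualOfFunctional res ℓ₀ h) = res :=
  AlgHom.ext fun _ => rfl

/-- The element of `h_R(k[ε])` attached to a functional. -/
noncomputable def homOfFunctional (ℓ₀ : R →ₗ[k] k)
    (h : ∀ x y, res x = 0 → res y = 0 → ℓ₀ (x * y) = 0) : HomSet R res (Art.dual k k) :=
  ⟨dualOfFunctional res ℓ₀ h, res_comp_dualOfFunctional res ℓ₀ h⟩

/-- The morphism `A ⟶ k[ε]` of `Art k k` attached to a functional on `A`. -/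
noncomputable def artHomOfFunctional (A : Art k k) (ℓ₀ : A →ₗ[k] k)
    (h : ∀ x y : A, A.res x = 0 → A.res y = 0 → ℓ₀ (x * y) = 0) : A ⟶ Art.dual k k :=
  Art.homMk (dualOfFunctional A.res ℓ₀ h) (res_comp_dualOfFunctional A.res ℓ₀ h)

lemma snd_artHomOfFunctional (A : Art k k) (ℓ₀ : A →ₗ[k] k)
    (h : ∀ x y : A, A.res x = 0 → A.res y = 0 → ℓ₀ (x * y) = 0) (x : A) :
    TrivSqZeroExt.snd (artHomOfFunctional A ℓ₀ h x) = ℓ₀ (x - algebraMap k A (A.res x)) := rfl

/-- If the augmentation ideal of `A` has square zero, maps to `k[ε]` separate the elements with the same residue. -/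
lemma eq_of_forall_hom_dual_eq (A : Art k k)
    (hsq : ∀ x y : A, A.res x = 0 → A.res y = 0 → x * y = 0) (a b : A)
    (hab : ∀ τ : A ⟶ Art.dual k k, τ a = τ b) : a = b := by
  have hres : A.res a = A.res b := by
    have := hab (artHomOfFunctional A 0 (by simp))
    exact congrArg TrivSqZeroExt.fst this
  by_contra hne
  have hne' : a - b ≠ 0 := sub_ne_zero.2 hne
  obtain ⟨ℓ₀, hℓ⟩ : ∃ ℓ₀ : Module.Dual k A, ℓ₀ (a - b) ≠ 0 := by
    by_contra hcon
    push Not at hcon
    exact hne' ((Module.forall_dual_apply_eq_zero_iff k (a - b)).1 hcon)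
  have h0 : ∀ x y : A, A.res x = 0 → A.res y = 0 → ℓ₀ (x * y) = 0 := fun x y hx hy => by
    rw [hsq x y hx hy, map_zero]
  have := congrArg TrivSqZeroExt.snd (hab (artHomOfFunctional A ℓ₀ h0))
  rw [snd_artHomOfFunctional, snd_artHomOfFunctional, hres] at this
  apply hℓ
  have e : a - b = (a - algebraMap k A (A.res b)) - (b - algebraMap k A (A.res b)) := by ring
  rw [e, map_sub, this, sub_self]

end Functional

section Trunc

variable {Λ : Type u} [CommRing Λ] [Algebra Λ k]

/-- In `S/m^2`, a product of two elements of the augmentation ideal vanishes. -/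
lemma trunc_one_mul_eq_zero (S : CRing Λ k) (x y : S.trunc 1)
    (hx : (S.trunc 1).res x = 0) (hy : (S.trunc 1).res y = 0) : x * y = 0 := by
  obtain ⟨a, rfl⟩ := Ideal.Quotient.mk_surjective (I := S.mpow 1) x
  obtain ⟨b, rfl⟩ := Ideal.Quotient.mk_surjective (I := S.mpow 1) y
  have ha : a ∈ IsLocalRing.maximalIdeal S.carrier := (S.mem_maximalIdeal_iff a).2 hx
  have hb : b ∈ IsLocalRing.maximalIdeal S.carrier := (S.mem_maximalIdeal_iff b).2 hy
  have hab : a * b ∈ S.mpow 1 := by
    change a * b ∈ IsLocalRing.maximalIdeal S.carrier ^ (1 + 1)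
    rw [pow_succ, pow_one]
    exact Ideal.mul_mem_mul ha hb
  have := Ideal.Quotient.eq_zero_iff_mem.2 hab
  rw [map_mul] at this
  exact this

end Trunc

section Hull

/-- A tangent functional detecting an element of `m \ m²`. -/
lemma exists_functional_of_not_mem_sq (R : CRing k k) (x : R.carrier)
    (hx : x ∉ IsLocalRing.maximalIdeal R.carrier ^ 2) :
    ∃ ℓ₀ : R.carrier →ₗ[k] k,
      (∀ a b, R.res a = 0 → R.res b = 0 → ℓ₀ (a * b) = 0) ∧ ℓ₀ x ≠ 0 := by
  set I : Ideal R.carrier := IsLocalRing.maximalIdeal R.carrier ^ 2 with hI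
  let π : R.carrier →ₗ[k] (R.carrier ⧸ I) := (Ideal.Quotient.mkₐ k I).toLinearMap
  have hπx : π x ≠ 0 := fun h0 => hx (Ideal.Quotient.eq_zero_iff_mem.1 h0)
  obtain ⟨f, hf⟩ : ∃ f : Module.Dual k (R.carrier ⧸ I), f (π x) ≠ 0 := by
    by_contra hcon
    push Not at hcon
    exact hπx ((Module.forall_dual_apply_eq_zero_iff k (π x)).1 hcon)
  refine ⟨f.comp π, ?_, hf⟩
  intro a b ha hb
  have hab : a * b ∈ I := by
    rw [hI, pow_two]
    exact Ideal.mul_mem_mul ((R.mem_maximalIdeal_iff a).2 ha) ((R.mem_maximalIdeal_iff b).2 hb)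
  have : π (a * b) = 0 := Ideal.Quotient.eq_zero_iff_mem.2 hab
  rw [LinearMap.comp_apply, this, map_zero]

/-- If `h_R(k[ε])` has at most one element then `m_R = 0`. -/
lemma maximalIdeal_eq_bot_of_subsingleton (R : CRing k k)
    (hs : Subsingleton (HomSet R.carrier R.res (Art.dual k k))) :
    IsLocalRing.maximalIdeal R.carrier = ⊥ := by
  have hle : IsLocalRing.maximalIdeal R.carrier ≤
      IsLocalRing.maximalIdeal R.carrier • IsLocalRing.maximalIdeal R.carrier := by
    intro x hx
    by_contra hx2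
    rw [smul_eq_mul, ← pow_two] at hx2
    obtain ⟨ℓ₀, h0, hℓ⟩ := exists_functional_of_not_mem_sq R x hx2
    have e := hs.elim (homOfFunctional R.res ℓ₀ h0) (homOfFunctional R.res 0 (by simp))
    have e2 := congrArg (fun φ : HomSet R.carrier R.res (Art.dual k k) => TrivSqZeroExt.snd (φ.1 x)) e
    change ℓ₀ (x - algebraMap k R.carrier (R.res x)) =
      (0 : R.carrier →ₗ[k] k) (x - algebraMap k R.carrier (R.res x)) at e2
    rw [(R.mem_maximalIdeal_iff x).1 hx, map_zero, sub_zero] at e2
    exact hℓ e2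
  exact Submodule.eq_bot_of_le_smul_of_le_jacobson_bot _ _
    (IsNoetherian.noetherian _) hle (IsLocalRing.jacobson_eq_maximalIdeal ⊥ bot_ne_top).ge

/-- If `m_R = 0` then `h_R(A)` is a single point for every `A`. -/
lemma homSet_unique_of_maximalIdeal_eq_bot (R : CRing k k)
    (hm : IsLocalRing.maximalIdeal R.carrier = ⊥) (A : Art k k) :
    Nonempty (HomSet R.carrier R.res A) ∧ Subsingleton (HomSet R.carrier R.res A) := by
  have hr : ∀ r : R.carrier, r = algebraMap k R.carrier (R.res r) := by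
    intro r
    have : r - algebraMap k R.carrier (R.res r) ∈ IsLocalRing.maximalIdeal R.carrier := by
      rw [R.mem_maximalIdeal_iff]
      simp
    rw [hm, Ideal.mem_bot, sub_eq_zero] at this
    exact this
  refine ⟨⟨⟨(Algebra.ofId k A).comp R.res, ?_⟩⟩, ⟨fun φ ψ => ?_⟩⟩
  · apply AlgHom.ext
    intro r
    change A.res (algebraMap k A (R.res r)) = R.res r
    simp
  · apply Subtype.ext
    apply AlgHom.ext
    intro r
    rw [hr r, AlgHom.commutes, AlgHom.commutes]

/-- A versal family over a functor with `F(k)` a point is objectwise surjective. -/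
lemma surjective_of_isVersal {F : Art k k ⥤ Type v} (h0 : H0 F) (R : CRing k k)
    (ξ : Family R.carrier R.res F) (hξ : IsVersal ξ) (A : Art k k) :
    Function.Surjective (ξ.app A) := by
  intro y
  let φ₀ : HomSet R.carrier R.res (Art.base k k) := ⟨R.res, AlgHom.ext fun _ => rfl⟩
  obtain ⟨ψ, -, hψ⟩ := hξ (Art.toBase A) A.res_surjective φ₀ y (h0.2.elim _ _)
  exact ⟨ψ, hψ⟩

end Hull

end Groth.Agent.Lib27.ArtTan
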