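import Mathlib

/-!
# Coproducts of distinguished triangles are distinguished
-/

set_option autoImplicit false
universe v u

open CategoryTheory CategoryTheory.Limits CategoryTheory.Pretriangulated
open scoped ZeroObject

namespace Groth.Agent.Lib27.CoprodTri

variable {C : Type u} [Category.{v} C] [Preadditive C] [HasZeroObject C] [HasShift C ℤ]
  [∀ n : ℤ, (shiftFunctor C n).Additive] [Pretriangulated C]

section

variable {J : Type*} (Y : J → C) [HasCoproduct Y]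

/-- the shifted cofan is a colimit -/
noncomputable def shiftCofanIsColimit :
    IsColimit (Cofan.mk ((shiftFunctor C (1 : ℤ)).obj (∐ Y))
      (fun j => (shiftFunctor C (1 : ℤ)).map (Sigma.ι Y j))) :=
  isColimitOfHasCoproductOfPreservesColimit (shiftFunctor C (1 : ℤ)) Y

/-- descent out of the shift of a coproduct -/
noncomputable def shiftDesc {A : C} (a : ∀ j, (shiftFunctor C (1 : ℤ)).obj (Y j) ⟶ A) :
    (shiftFunctor C (1 : ℤ)).obj (∐ Y) ⟶ A :=
  Cofan.IsColimit.desc (shiftCofanIsColimit Y) a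

@[reassoc (attr := simp)]
lemma ι_shiftDesc {A : C} (a : ∀ j, (shiftFunctor C (1 : ℤ)).obj (Y j) ⟶ A) (j : J) :
    (shiftFunctor C (1 : ℤ)).map (Sigma.ι Y j) ≫ shiftDesc Y a = a j :=
  Cofan.IsColimit.fac (shiftCofanIsColimit Y) a j

lemma shift_hom_ext {A : C} (f g : (shiftFunctor C (1 : ℤ)).obj (∐ Y) ⟶ A)
    (h : ∀ j, (shiftFunctor C (1 : ℤ)).map (Sigma.ι Y j) ≫ f =
      (shiftFunctor C (1 : ℤ)).map (Sigma.ι Y j) ≫ g) : f = g :=
  Cofan.IsColimit.hom_ext (shiftCofanIsColimit Y) f g h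

end

variable {J : Type*} {X₁ X₂ X₃ : J → C} (u : ∀ j, X₁ j ⟶ X₂ j) (v : ∀ j, X₂ j ⟶ X₃ j)
  (w : ∀ j, X₃ j ⟶ (shiftFunctor C (1 : ℤ)).obj (X₁ j))
  [HasCoproduct X₁] [HasCoproduct X₂] [HasCoproduct X₃]
  [HasCoproduct (fun j => (shiftFunctor C (1 : ℤ)).obj (X₁ j))]

/-- the third map of the coproduct of a family of triangles -/
noncomputable def sigmaMor₃ : (∐ X₃) ⟶ (shiftFunctor C (1 : ℤ)).obj (∐ X₁) :=
  Limits.Sigma.map w ≫ sigmaComparison (shiftFunctor C (1 : ℤ)) X₁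

@[reassoc]
lemma ι_sigmaMor₃ (j : J) :
    Sigma.ι X₃ j ≫ sigmaMor₃ w = w j ≫ (shiftFunctor C (1 : ℤ)).map (Sigma.ι X₁ j) := by
  rw [sigmaMor₃, Sigma.ι_map_assoc, ι_comp_sigmaComparison]

theorem coproductTriangle_distinguished
    (hT : ∀ j, Triangle.mk (u j) (v j) (w j) ∈ distTriang C) :
    Triangle.mk (Limits.Sigma.map u) (Limits.Sigma.map v) (sigmaMor₃ w) ∈ distTriang C := by
  let f₁ : (∐ X₁) ⟶ ∐ X₂ := Limits.Sigma.map u
  obtain ⟨Z, f₂, f₃, hT'⟩ := distinguished_cocone_triangle f₁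
  have hφ : ∀ j, ∃ cj : X₃ j ⟶ Z, v j ≫ cj = Sigma.ι X₂ j ≫ f₂ ∧
      w j ≫ (shiftFunctor C (1 : ℤ)).map (Sigma.ι X₁ j) = cj ≫ f₃ := fun j =>
    complete_distinguished_triangle_morphism _ _ (hT j) hT' (Sigma.ι X₁ j) (Sigma.ι X₂ j)
      (by
        change u j ≫ Sigma.ι X₂ j = Sigma.ι X₁ j ≫ Limits.Sigma.map u
        rw [Sigma.ι_map])
  choose cj hcj₂ hcj₃ using hφ
  let c : (∐ X₃) ⟶ Z := Sigma.desc cj
  have hιc : ∀ j, Sigma.ι X₃ j ≫ c = cj j := fun j => by simp [c]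
  have hc₂ : Limits.Sigma.map v ≫ c = f₂ := by
    apply Sigma.hom_ext
    intro j
    rw [Sigma.ι_map_assoc, hιc, hcj₂]
  have hc₃ : c ≫ f₃ = sigmaMor₃ w := by
    apply Sigma.hom_ext
    intro j
    rw [ι_sigmaMor₃, ← Category.assoc, hιc, hcj₃]
  suffices hcc : IsIso c by
    refine isomorphic_distinguished _ hT' _ ?_
    let e₃ : (∐ X₃) ≅ Z := @asIso _ _ _ _ c hcc
    exact Triangle.isoMk (Triangle.mk (Limits.Sigma.map u) (Limits.Sigma.map v) (sigmaMor₃ w))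
      (Triangle.mk f₁ f₂ f₃) (Iso.refl _) (Iso.refl _) e₃
      (show Limits.Sigma.map u ≫ 𝟙 (∐ X₂) = 𝟙 (∐ X₁) ≫ f₁ by
        rw [Category.comp_id, Category.id_comp])
      (show Limits.Sigma.map v ≫ c = 𝟙 (∐ X₂) ≫ f₂ by rw [Category.id_comp, hc₂])
      (show sigmaMor₃ w ≫ (shiftFunctor C (1 : ℤ)).map (𝟙 (∐ X₁)) = c ≫ f₃ by
        rw [CategoryTheory.Functor.map_id, Category.comp_id, hc₃])
  refine isIso_of_coyoneda_map_bijective _ (fun A => ⟨?_, ?_⟩)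
  · -- injective
    intro g₁ g₂ hg
    dsimp at hg
    rw [← sub_eq_zero] at hg ⊢
    rw [← Preadditive.comp_sub] at hg
    generalize g₁ - g₂ = g at hg
    have h1 : f₂ ≫ g = 0 := by rw [← hc₂, Category.assoc, hg, comp_zero]
    obtain ⟨g', hg'⟩ : ∃ g' : (shiftFunctor C (1 : ℤ)).obj (∐ X₁) ⟶ A, g = f₃ ≫ g' :=
      Triangle.yoneda_exact₃ _ hT' g h1
    have h2 : ∀ j, w j ≫ ((shiftFunctor C (1 : ℤ)).map (Sigma.ι X₁ j) ≫ g') = 0 := by
      intro j
      rw [← Category.assoc, hcj₃, Category.assoc, ← hg', ← hιc, Category.assoc, hg, comp_zero]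
    have h4 : ∀ j, ∃ α : (shiftFunctor C (1 : ℤ)).obj (X₂ j) ⟶ A,
        (shiftFunctor C (1 : ℤ)).map (Sigma.ι X₁ j) ≫ g' =
          (shiftFunctor C (1 : ℤ)).map (u j) ≫ α := by
      intro j
      obtain ⟨α, hα⟩ : ∃ α : (shiftFunctor C (1 : ℤ)).obj (X₂ j) ⟶ A,
          (shiftFunctor C (1 : ℤ)).map (Sigma.ι X₁ j) ≫ g' =
            (-(shiftFunctor C (1 : ℤ)).map (u j)) ≫ α :=
        Triangle.yoneda_exact₃ _ (rot_of_distTriang _ (hT j)) _ (h2 j)
      refine ⟨-α, ?_⟩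
      rw [hα]
      simp
    choose α hα using h4
    have h5 : g' = (shiftFunctor C (1 : ℤ)).map f₁ ≫ shiftDesc X₂ α := by
      apply shift_hom_ext
      intro j
      rw [hα j, ← Functor.map_comp_assoc]
      have : Sigma.ι X₁ j ≫ f₁ = u j ≫ Sigma.ι X₂ j := by simp [f₁]
      rw [this, Functor.map_comp, Category.assoc, ι_shiftDesc]
    rw [hg', h5, ← Category.assoc]
    have : f₃ ≫ (shiftFunctor C (1 : ℤ)).map f₁ = 0 := comp_distTriang_mor_zero₃₁ _ hT'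
    rw [this, zero_comp]
  · -- surjective
    intro a
    have h0 : f₁ ≫ Limits.Sigma.map v = 0 := by
      apply Sigma.hom_ext
      intro j
      have huv : u j ≫ v j = 0 := comp_distTriang_mor_zero₁₂ _ (hT j)
      simp only [f₁, Sigma.ι_map_assoc, Sigma.ι_map, comp_zero]
      rw [← Category.assoc, huv, zero_comp]
    obtain ⟨a', ha'⟩ : ∃ a' : Z ⟶ A, Limits.Sigma.map v ≫ a = f₂ ≫ a' :=
      Triangle.yoneda_exact₂ _ hT' _ (by
        change f₁ ≫ _ = 0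
        rw [← Category.assoc, h0, zero_comp])
    have h1 : Limits.Sigma.map v ≫ (a - c ≫ a') = 0 := by
      rw [Preadditive.comp_sub, ← Category.assoc, hc₂, ha', sub_self]
    have h2 : ∀ j, ∃ b : (shiftFunctor C (1 : ℤ)).obj (X₁ j) ⟶ A,
        Sigma.ι X₃ j ≫ (a - c ≫ a') = w j ≫ b := by
      intro j
      apply Triangle.yoneda_exact₃ _ (hT j)
      have := Sigma.ι X₂ j ≫= h1
      rw [comp_zero, Sigma.ι_map_assoc] at this
      exact this
    choose b hb using h2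
    have h3 : a - c ≫ a' = c ≫ f₃ ≫ shiftDesc X₁ b := by
      rw [← Category.assoc, hc₃]
      apply Sigma.hom_ext
      intro j
      rw [hb j, ι_sigmaMor₃_assoc, ι_shiftDesc]
    refine ⟨a' + f₃ ≫ shiftDesc X₁ b, ?_⟩
    dsimp
    rw [Preadditive.comp_add, ← h3]
    abel

/-- the relation lemma: a map into a coproduct killed by a diagonal map factors through the
coproduct of the fibres. -/
theorem exists_factor_of_comp_sigmaMap_eq_zero
    (hT : ∀ j, Triangle.mk (u j) (v j) (w j) ∈ distTriang C) {W : C}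
    (Ω : W ⟶ ∐ X₂) (hΩ : Ω ≫ Limits.Sigma.map v = 0) :
    ∃ Ω' : W ⟶ ∐ X₁, Ω = Ω' ≫ Limits.Sigma.map u :=
  Triangle.coyoneda_exact₂ _ (coproductTriangle_distinguished u v w hT) Ω hΩ

end Groth.Agent.Lib27.CoprodTri
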