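import Mathlib

/-!
# Calculus for cohomological functors `Dᵒᵖ ⥤ Ab`
-/

set_option autoImplicit false
universe w v u

open CategoryTheory CategoryTheory.Limits CategoryTheory.Pretriangulated Opposite
open scoped ZeroObject

namespace Groth.Agent.Lib27.HFun

section Basic

variable {D : Type u} [Category.{v} D] (H : Dᵒᵖ ⥤ AddCommGrpCat.{w})

/-- pullback of classes along a morphism -/
def pb {Y' Y : D} (f : Y' ⟶ Y) : H.obj (op Y) →+ H.obj (op Y') := (H.map f.op).hom

@[simp]
lemma pb_id (Y : D) (a : H.obj (op Y)) : pb H (𝟙 Y) a = a := by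
  simp [pb]

lemma pb_comp {Y'' Y' Y : D} (f : Y'' ⟶ Y') (g : Y' ⟶ Y) (a : H.obj (op Y)) :
    pb H (f ≫ g) a = pb H f (pb H g a) := by
  simp [pb]

lemma pb_iso_bijective {Y' Y : D} (e : Y' ≅ Y) : Function.Bijective (pb H e.hom) := by
  refine ⟨fun a b hab => ?_, fun a => ⟨pb H e.inv a, ?_⟩⟩
  · have := congrArg (pb H e.inv) hab
    rwa [← pb_comp, ← pb_comp, e.inv_hom_id, pb_id, pb_id] at this
  · rw [← pb_comp, e.hom_inv_id, pb_id]

end Basic

section Additive

variable {D : Type u} [Category.{v} D] [Preadditive D] (H : Dᵒᵖ ⥤ AddCommGrpCat.{w}) [H.Additive]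

lemma pb_add_hom {Y' Y : D} (f g : Y' ⟶ Y) (a : H.obj (op Y)) :
    pb H (f + g) a = pb H f a + pb H g a := by
  simp [pb, H.map_add]

lemma pb_zero_hom {Y' Y : D} (a : H.obj (op Y)) : pb H (0 : Y' ⟶ Y) a = 0 := by
  simp [pb]

lemma pb_neg_hom {Y' Y : D} (f : Y' ⟶ Y) (a : H.obj (op Y)) :
    pb H (-f) a = - pb H f a := by
  simp [pb, H.map_neg]

lemma pb_sub_hom {Y' Y : D} (f g : Y' ⟶ Y) (a : H.obj (op Y)) :
    pb H (f - g) a = pb H f a - pb H g a := by
  simp [pb, H.map_sub]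

end Additive

section Product

variable {D : Type u} [Category.{v} D] (H : Dᵒᵖ ⥤ AddCommGrpCat.{w})

/-- `H` turns the coproduct of `Y` into a product. -/
def HasProdProp {J : Type*} (Y : J → D) [HasCoproduct Y] : Prop :=
  ∀ t : ∀ j, H.obj (op (Y j)), ∃! a : H.obj (op (∐ Y)), ∀ j, pb H (Sigma.ι Y j) a = t j

lemma hasProdProp_of_preserves {J : Type*} (Y : J → D) [HasCoproduct Y]
    [PreservesLimit (Discrete.functor (fun j => op (Y j))) H] : HasProdProp H Y := by
  intro t
  let c := Cofan.mk (∐ Y) (Sigma.ι Y)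
  have hl : IsLimit c.op := Cofan.IsColimit.op (coproductIsCoproduct Y)
  have hl' := isLimitOfPreserves H hl
  have hl'' := isLimitOfPreserves (forget AddCommGrpCat) hl'
  let e := Types.isLimitEquivSections hl''
  let s : (Discrete.functor (fun j => op (Y j)) ⋙ H ⋙ forget AddCommGrpCat).sections :=
    ⟨fun j => t j.as, by
      rintro ⟨j⟩ ⟨j'⟩ ⟨⟨h⟩⟩
      dsimp at h
      subst h
      simp⟩
  refine ⟨e.symm s, fun j => ?_, fun b hb => ?_⟩
  · exact Types.isLimitEquivSections_symm_apply hl'' s ⟨j⟩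
  · apply e.injective
    rw [Equiv.apply_symm_apply]
    ext ⟨j⟩
    exact hb j

end Product

section Exact

variable {D : Type u} [Category.{v} D] [Preadditive D] [HasZeroObject D] [HasShift D ℤ]
  [∀ n : ℤ, (shiftFunctor D n).Additive] [Pretriangulated D]
  (H : Dᵒᵖ ⥤ AddCommGrpCat.{w}) [H.IsHomological]

lemma exists_of_pb_eq_zero (T : Triangle D) (hT : T ∈ distTriang D) (a : H.obj (op T.obj₂))
    (ha : pb H T.mor₁ a = 0) : ∃ b : H.obj (op T.obj₃), pb H T.mor₂ b = a := by
  have hex := H.map_distinguished_exact _ (Pretriangulated.op_distinguished T hT)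
  rw [ShortComplex.ab_exact_iff] at hex
  exact hex a ha

end Exact

end Groth.Agent.Lib27.HFun
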