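import Mathlib
import Groth.Prelude.Def_DerLim
import Groth.Agent.Lib27.HFun
import Groth.Agent.Lib27.CoprodTri

/-!
# Towers and homotopy colimits: the key lemma for Brown representability
-/

set_option autoImplicit false
universe w v u

open CategoryTheory CategoryTheory.Limits CategoryTheory.Pretriangulated Opposite
open scoped ZeroObject

namespace Groth.Agent.Lib27.Tower

open Groth.Agent.Lib27.HFun Groth.Agent.Lib27.CoprodTri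

section Const

variable {D : Type u} [Category.{v} D] [Preadditive D] [HasColimitsOfShape (Discrete ℕ) D]
  (X₀ : D)

/-- the shift on the constant tower -/
noncomputable def T0 : (∐ fun _ : ℕ => X₀) ⟶ ∐ fun _ : ℕ => X₀ :=
  Sigma.desc (fun n => Sigma.ι (fun _ : ℕ => X₀) (n + 1))

@[reassoc (attr := simp)]
lemma ι_T0 (n : ℕ) : Sigma.ι (fun _ : ℕ => X₀) n ≫ T0 X₀ = Sigma.ι (fun _ : ℕ => X₀) (n + 1) := by
  simp [T0]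

/-- the retraction of `1 - T0` -/
noncomputable def rho : (∐ fun _ : ℕ => X₀) ⟶ ∐ fun _ : ℕ => X₀ :=
  Sigma.desc (fun n => -∑ i ∈ Finset.range n, Sigma.ι (fun _ : ℕ => X₀) i)

@[reassoc (attr := simp)]
lemma ι_rho (n : ℕ) : Sigma.ι (fun _ : ℕ => X₀) n ≫ rho X₀ =
    -∑ i ∈ Finset.range n, Sigma.ι (fun _ : ℕ => X₀) i := by
  simp [rho]

lemma one_sub_T0_rho : (𝟙 _ - T0 X₀) ≫ rho X₀ = 𝟙 _ := by
  apply Sigma.hom_ext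
  intro n
  rw [Preadditive.sub_comp, Preadditive.comp_sub, Category.id_comp, ι_T0_assoc, ι_rho, ι_rho,
    Finset.sum_range_succ, Category.comp_id]
  abel

end Const

section Tow

variable {D : Type u} [Category.{v} D] [Preadditive D] [HasColimitsOfShape (Discrete ℕ) D]
  (X : ℕ → D) (φ : ∀ n, X n ⟶ X (n + 1))

/-- the composite `X 0 ⟶ X n` -/
def phi0 : ∀ n, X 0 ⟶ X n
  | 0 => 𝟙 _
  | (n + 1) => phi0 n ≫ φ n

@[simp] lemma phi0_zero : phi0 X φ 0 = 𝟙 _ := rfl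
lemma phi0_succ (n : ℕ) : phi0 X φ (n + 1) = phi0 X φ n ≫ φ n := rfl

lemma comp_phi0_succ_eq_zero {W : D} (ω : W ⟶ X 0) (h : ω ≫ φ 0 = 0) (i : ℕ) :
    ω ≫ phi0 X φ (i + 1) = 0 := by
  induction i with
  | zero => rw [phi0_succ, phi0_zero, Category.id_comp, h]
  | succ i ih => rw [phi0_succ, ← Category.assoc, ih, zero_comp]

/-- the shift map of the tower -/
noncomputable abbrev sg : (∐ X) ⟶ ∐ X := DerLim.shiftMap X φ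

@[reassoc]
lemma ι_sg (n : ℕ) : Sigma.ι X n ≫ sg X φ = φ n ≫ Sigma.ι X (n + 1) := by
  simp [sg, DerLim.shiftMap]

/-- the diagonal map from the constant tower -/
noncomputable def BB : (∐ fun _ : ℕ => X 0) ⟶ ∐ X := Limits.Sigma.map (phi0 X φ)

@[reassoc]
lemma ι_BB (n : ℕ) : Sigma.ι (fun _ : ℕ => X 0) n ≫ BB X φ = phi0 X φ n ≫ Sigma.ι X n := by
  simp [BB]

lemma T0_BB : T0 (X 0) ≫ BB X φ = BB X φ ≫ sg X φ := by
  apply Sigma.hom_ext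
  intro n
  rw [ι_T0_assoc, ι_BB, ι_BB_assoc, ι_sg, phi0_succ, Category.assoc]

@[reassoc]
lemma ι_rho_BB (n : ℕ) : Sigma.ι (fun _ : ℕ => X 0) n ≫ rho (X 0) ≫ BB X φ =
    -∑ i ∈ Finset.range n, phi0 X φ i ≫ Sigma.ι X i := by
  rw [ι_rho_assoc, Preadditive.neg_comp, Preadditive.sum_comp]
  congr 1
  apply Finset.sum_congr rfl
  intro i _
  rw [ι_BB]

end Tow

section Main

variable {D : Type u} [Category.{v} D] [Preadditive D] [HasZeroObject D] [HasShift D ℤ]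
  [∀ n : ℤ, (shiftFunctor D n).Additive] [Pretriangulated D]
  [HasColimitsOfShape (Discrete ℕ) D]
  (H : Dᵒᵖ ⥤ AddCommGrpCat.{w}) [H.IsHomological]
  {ι : Type*} (E : ι → D)

/-- the factorization property (2) -/
def FactorProp : Prop :=
  ∀ (Y : ℕ → D) (i : ι) (α : E i ⟶ ∐ Y), ∃ (j : ℕ → ι) (β : ∀ n, E (j n) ⟶ Y n)
    (γ : E i ⟶ ∐ (fun n => E (j n))), α = γ ≫ Limits.Sigma.map β

variable {E} in
/-- the relation lemma: with (2), a map killed by a diagonal map is a combination of maps killed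
componentwise. -/
lemma FactorProp.relations (h2 : FactorProp E) {A B : ℕ → D} (u : ∀ n, A n ⟶ B n) (i : ι)
    (Ω : E i ⟶ ∐ A) (hΩ : Ω ≫ Limits.Sigma.map u = 0) :
    ∃ (j : ℕ → ι) (ω : ∀ n, E (j n) ⟶ A n) (ε : E i ⟶ ∐ (fun n => E (j n))),
      Ω = ε ≫ Limits.Sigma.map ω ∧ ∀ n, ω n ≫ u n = 0 := by
  have hW : ∀ n, ∃ (W : D) (w : W ⟶ A n) (d : B n ⟶ (shiftFunctor D (1 : ℤ)).obj W),
      Triangle.mk w (u n) d ∈ distTriang D := fun n => distinguished_cocone_triangle₁ (u n)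
  choose W w d hT using hW
  obtain ⟨Ω', hΩ'⟩ := exists_factor_of_comp_sigmaMap_eq_zero w u d hT Ω hΩ
  obtain ⟨j, ν, ε, hε⟩ := h2 W i Ω'
  refine ⟨j, fun n => ν n ≫ w n, ε, ?_, fun n => ?_⟩
  · rw [hΩ', hε, Category.assoc]
    congr 1
    apply Sigma.hom_ext
    intro n
    simp
  · have : w n ≫ u n = 0 := comp_distTriang_mor_zero₁₂ _ (hT n)
    rw [Category.assoc, this, comp_zero]

/-- the data of a tower with compatible classes, surjective at level 0 and killing kernels. -/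
structure TowerData where
  /-- objects -/
  X : ℕ → D
  /-- transition maps -/
  φ : ∀ n, X n ⟶ X (n + 1)
  /-- classes -/
  s : ∀ n, H.obj (op (X n))
  hs : ∀ n, pb H (φ n) (s (n + 1)) = s n
  surj : ∀ i (a : H.obj (op (E i))), ∃ f : E i ⟶ X 0, pb H f (s 0) = a
  kill : ∀ n i (f : E i ⟶ X n), pb H f (s n) = 0 → f ≫ φ n = 0

variable {H E} (𝒯 : TowerData H E)

namespace TowerData

lemma pb_phi0 (n : ℕ) : pb H (phi0 𝒯.X 𝒯.φ n) (𝒯.s n) = 𝒯.s 0 := by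
  induction n with
  | zero => simp
  | succ n ih => rw [phi0_succ, pb_comp, 𝒯.hs, ih]

/-- key relation -/
lemma comp_phi_eq (n : ℕ) (i : ι) (β : E i ⟶ 𝒯.X n) (f : E i ⟶ 𝒯.X 0)
    (h : pb H f (𝒯.s 0) = pb H β (𝒯.s n)) :
    β ≫ 𝒯.φ n = f ≫ phi0 𝒯.X 𝒯.φ (n + 1) := by
  have h1 : pb H (β - f ≫ phi0 𝒯.X 𝒯.φ n) (𝒯.s n) = 0 := by
    rw [pb_sub_hom, pb_comp, pb_phi0, h, sub_self]
  have h2 := 𝒯.kill n i _ h1
  rw [Preadditive.sub_comp, sub_eq_zero, Category.assoc] at h2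
  rw [h2, phi0_succ]

/-- choice of level-0 representatives -/
lemma exists_lifts {j : ℕ → ι} (β : ∀ n, E (j n) ⟶ 𝒯.X n) :
    ∃ f : ∀ n, E (j n) ⟶ 𝒯.X 0, ∀ n, pb H (f n) (𝒯.s 0) = pb H (β n) (𝒯.s n) := by
  have : ∀ n, ∃ f : E (j n) ⟶ 𝒯.X 0, pb H f (𝒯.s 0) = pb H (β n) (𝒯.s n) :=
    fun n => 𝒯.surj (j n) _
  choose f hf using this
  exact ⟨f, hf⟩

lemma sigmaMap_sg {j : ℕ → ι} (β : ∀ n, E (j n) ⟶ 𝒯.X n) (f : ∀ n, E (j n) ⟶ 𝒯.X 0)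
    (hf : ∀ n, pb H (f n) (𝒯.s 0) = pb H (β n) (𝒯.s n)) :
    Limits.Sigma.map β ≫ sg 𝒯.X 𝒯.φ =
      Limits.Sigma.map f ≫ T0 (𝒯.X 0) ≫ BB 𝒯.X 𝒯.φ := by
  apply Sigma.hom_ext
  intro n
  rw [Sigma.ι_map_assoc, ι_sg, Sigma.ι_map_assoc, ι_T0_assoc, ι_BB, ← Category.assoc,
    ← Category.assoc, 𝒯.comp_phi_eq n (j n) (β n) (f n) (hf n)]

/-- Step A': fixed points of the shift on `E`-points vanish. -/
theorem eq_zero_of_comp_sg_eq (h2 : FactorProp E) (i : ι) (θ : E i ⟶ ∐ 𝒯.X)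
    (hθ : θ ≫ sg 𝒯.X 𝒯.φ = θ) : θ = 0 := by
  obtain ⟨j, β, γ, hγ⟩ := h2 𝒯.X i θ
  obtain ⟨f, hf⟩ := 𝒯.exists_lifts β
  let Ψ : E i ⟶ ∐ fun _ : ℕ => 𝒯.X 0 := γ ≫ Limits.Sigma.map f ≫ T0 (𝒯.X 0)
  have hΨ : θ = Ψ ≫ BB 𝒯.X 𝒯.φ := by
    conv_lhs => rw [← hθ, hγ, Category.assoc, 𝒯.sigmaMap_sg β f hf]
    simp only [Ψ, Category.assoc]
  let Ω : E i ⟶ ∐ fun _ : ℕ => 𝒯.X 0 := Ψ ≫ (𝟙 _ - T0 (𝒯.X 0))
  have hΩ : Ω ≫ Limits.Sigma.map (phi0 𝒯.X 𝒯.φ) = 0 := by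
    change Ω ≫ BB 𝒯.X 𝒯.φ = 0
    simp only [Ω, Category.assoc, Preadditive.sub_comp, Category.id_comp, Preadditive.comp_sub]
    rw [T0_BB, ← Category.assoc Ψ, ← hΨ, hθ, sub_self]
  obtain ⟨j', ω, ε, hε, hω⟩ := h2.relations (phi0 𝒯.X 𝒯.φ) i Ω hΩ
  have hΨΩ : Ψ = Ω ≫ rho (𝒯.X 0) := by
    simp only [Ω, Category.assoc]
    rw [one_sub_T0_rho, Category.comp_id]
  have hω0 : ∀ n k, ω n ≫ phi0 𝒯.X 𝒯.φ (k + 1) = 0 := by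
    intro n k
    apply comp_phi0_succ_eq_zero
    apply 𝒯.kill 0 (j' n)
    rw [← 𝒯.pb_phi0 n, ← pb_comp, hω n, pb_zero_hom]
  have hzero : Limits.Sigma.map ω ≫ rho (𝒯.X 0) ≫ BB 𝒯.X 𝒯.φ ≫ sg 𝒯.X 𝒯.φ = 0 := by
    apply Sigma.hom_ext
    intro n
    have h3 : Sigma.ι (fun _ : ℕ => 𝒯.X 0) n ≫ rho (𝒯.X 0) ≫ BB 𝒯.X 𝒯.φ ≫ sg 𝒯.X 𝒯.φ =
        -∑ k ∈ Finset.range n, phi0 𝒯.X 𝒯.φ (k + 1) ≫ Sigma.ι 𝒯.X (k + 1) := by
      rw [ι_rho_BB_assoc, Preadditive.neg_comp, Preadditive.sum_comp]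
      congr 1
      apply Finset.sum_congr rfl
      intro k _
      rw [Category.assoc, ι_sg, ← Category.assoc, ← phi0_succ]
    rw [Sigma.ι_map_assoc, h3, Preadditive.comp_neg, Preadditive.comp_sum, comp_zero, neg_eq_zero]
    apply Finset.sum_eq_zero
    intro k _
    rw [← Category.assoc, hω0, zero_comp]
  rw [← hθ, hΨ, hΨΩ, hε]
  simp only [Category.assoc]
  rw [hzero, comp_zero]

lemma rho_one_sub_T0 (X₀ : D) :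
    rho X₀ ≫ (𝟙 _ - T0 X₀) = 𝟙 _ - Sigma.desc (fun _ : ℕ => 𝟙 X₀) ≫ Sigma.ι (fun _ : ℕ => X₀) 0 := by
  apply Sigma.hom_ext
  intro n
  have : ∀ i, Sigma.ι (fun _ : ℕ => X₀) i ≫ (𝟙 _ - T0 X₀) =
      Sigma.ι (fun _ : ℕ => X₀) i - Sigma.ι (fun _ : ℕ => X₀) (i + 1) := by
    intro i
    rw [Preadditive.comp_sub, Category.comp_id, ι_T0]
  rw [ι_rho_assoc, Preadditive.neg_comp, Preadditive.sum_comp]
  simp only [this]
  rw [Finset.sum_range_sub', Preadditive.comp_sub, Category.comp_id, Sigma.ι_desc_assoc,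
    Category.id_comp]
  abel

/-- (*): every `E`-point of `∐ X` is, modulo the image of `1 - σ`, supported at level `0`. -/
theorem exists_decomp (h2 : FactorProp E) (hP : ∀ Y : ℕ → D, HasProdProp H Y)
    (S : H.obj (op (∐ 𝒯.X))) (hS : ∀ n, pb H (Sigma.ι 𝒯.X n) S = 𝒯.s n)
    (i : ι) (ψ : E i ⟶ ∐ 𝒯.X) :
    ∃ (ψ' : E i ⟶ ∐ 𝒯.X) (g : E i ⟶ 𝒯.X 0),
      ψ = ψ' ≫ (𝟙 _ - sg 𝒯.X 𝒯.φ) + g ≫ Sigma.ι 𝒯.X 0 ∧ pb H g (𝒯.s 0) = pb H ψ S := by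
  obtain ⟨j, β, γ, hγ⟩ := h2 𝒯.X i ψ
  obtain ⟨f, hf⟩ := 𝒯.exists_lifts β
  let Ψ₀ : E i ⟶ ∐ fun _ : ℕ => 𝒯.X 0 := γ ≫ Limits.Sigma.map f
  obtain ⟨a, ha⟩ : ∃ a : E i ⟶ ∐ 𝒯.X, a = Ψ₀ ≫ BB 𝒯.X 𝒯.φ := ⟨_, rfl⟩
  obtain ⟨r, hr⟩ : ∃ r : E i ⟶ ∐ 𝒯.X, r = Ψ₀ ≫ rho (𝒯.X 0) ≫ BB 𝒯.X 𝒯.φ := ⟨_, rfl⟩
  obtain ⟨g, hg⟩ : ∃ g : E i ⟶ 𝒯.X 0, g = Ψ₀ ≫ Sigma.desc (fun _ : ℕ => 𝟙 (𝒯.X 0)) := ⟨_, rfl⟩
  have h1 : ψ ≫ sg 𝒯.X 𝒯.φ = a ≫ sg 𝒯.X 𝒯.φ := by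
    rw [ha, hγ, Category.assoc, 𝒯.sigmaMap_sg β f hf, T0_BB]
    simp only [Ψ₀, Category.assoc]
  have h2' : BB 𝒯.X 𝒯.φ = rho (𝒯.X 0) ≫ BB 𝒯.X 𝒯.φ ≫ (𝟙 _ - sg 𝒯.X 𝒯.φ) +
      Sigma.desc (fun _ : ℕ => 𝟙 (𝒯.X 0)) ≫ Sigma.ι 𝒯.X 0 := by
    have h3 : BB 𝒯.X 𝒯.φ ≫ (𝟙 _ - sg 𝒯.X 𝒯.φ) = (𝟙 _ - T0 (𝒯.X 0)) ≫ BB 𝒯.X 𝒯.φ := by
      rw [Preadditive.comp_sub, Preadditive.sub_comp, Category.comp_id, Category.id_comp, T0_BB]
    have h4 : Sigma.ι (fun _ : ℕ => 𝒯.X 0) 0 ≫ BB 𝒯.X 𝒯.φ = Sigma.ι 𝒯.X 0 := by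
      rw [ι_BB, phi0_zero, Category.id_comp]
    rw [h3, ← Category.assoc, rho_one_sub_T0, Preadditive.sub_comp, Category.id_comp,
      Category.assoc, h4]
    abel
  have h5 : a = r ≫ (𝟙 _ - sg 𝒯.X 𝒯.φ) + g ≫ Sigma.ι 𝒯.X 0 := by
    rw [ha, hr, hg]
    conv_lhs => rw [h2', Preadditive.comp_add]
    simp only [Category.assoc]
  refine ⟨ψ - a + r, g, ?_, ?_⟩
  · have e1 : ψ ≫ (𝟙 _ - sg 𝒯.X 𝒯.φ) = ψ - ψ ≫ sg 𝒯.X 𝒯.φ := by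
      rw [Preadditive.comp_sub, Category.comp_id]
    have e2 : a ≫ (𝟙 _ - sg 𝒯.X 𝒯.φ) = a - a ≫ sg 𝒯.X 𝒯.φ := by
      rw [Preadditive.comp_sub, Category.comp_id]
    rw [Preadditive.add_comp, Preadditive.sub_comp, e1, e2, h1]
    have h6 : r ≫ (𝟙 _ - sg 𝒯.X 𝒯.φ) = a - g ≫ Sigma.ι 𝒯.X 0 := by
      rw [h5]; abel
    rw [h6]
    abel
  · -- compare classes on `∐ E (j n)`
    have h7 : pb H (Sigma.desc f) (𝒯.s 0) = pb H (Limits.Sigma.map β) S := by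
      apply (hP (fun n => E (j n)) (fun n => pb H (f n) (𝒯.s 0))).unique
      · intro n
        rw [← pb_comp, Sigma.ι_desc]
      · intro n
        rw [← pb_comp, Sigma.ι_map, pb_comp, hS, hf]
    have h8 : Limits.Sigma.map f ≫ Sigma.desc (fun _ : ℕ => 𝟙 (𝒯.X 0)) = Sigma.desc f := by
      apply Sigma.hom_ext
      intro n
      simp
    rw [hg, hγ]
    simp only [Ψ₀, Category.assoc]
    rw [h8, pb_comp, h7, ← pb_comp]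

/-- the class on `∐ X` assembled from the `s n`. -/
lemma exists_class_coprod (hP : ∀ Y : ℕ → D, HasProdProp H Y) :
    ∃ S : H.obj (op (∐ 𝒯.X)), (∀ n, pb H (Sigma.ι 𝒯.X n) S = 𝒯.s n) ∧
      pb H (𝟙 _ - sg 𝒯.X 𝒯.φ) S = 0 := by
  obtain ⟨S, hS, hS'⟩ := hP 𝒯.X 𝒯.s
  refine ⟨S, hS, ?_⟩
  rw [pb_sub_hom, pb_id, sub_eq_zero]
  symm
  apply hS'
  intro n
  rw [← pb_comp, ι_sg, pb_comp, hS, 𝒯.hs]

variable {L : D} (inj : ∀ n, 𝒯.X n ⟶ L) (hL : DerLim.IsHocolim 𝒯.X 𝒯.φ L inj)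

include hL in
/-- existence of a compatible class on the homotopy colimit. -/
theorem exists_class (hP : ∀ Y : ℕ → D, HasProdProp H Y) :
    ∃ sL : H.obj (op L), ∀ n, pb H (inj n) sL = 𝒯.s n := by
  obtain ⟨c, hc⟩ := hL
  obtain ⟨S, hS, hS0⟩ := 𝒯.exists_class_coprod hP
  obtain ⟨sL, hsL⟩ : ∃ sL : H.obj (op L), pb H (Sigma.desc inj) sL = S :=
    exists_of_pb_eq_zero H _ hc S hS0
  refine ⟨sL, fun n => ?_⟩
  have : inj n = Sigma.ι 𝒯.X n ≫ Sigma.desc inj := by simp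
  rw [this, pb_comp, hsL, hS]

include hL in
/-- the key theorem: a compatible class on the homotopy colimit induces bijections on
`E`-points. -/
theorem bijective_of_class (h2 : FactorProp E) (hP : ∀ Y : ℕ → D, HasProdProp H Y)
    (hsh : ∀ i, ∃ i', Nonempty (E i' ≅ (shiftFunctor D (-1 : ℤ)).obj (E i)))
    (sL : H.obj (op L)) (hsL : ∀ n, pb H (inj n) sL = 𝒯.s n) (i : ι) :
    Function.Bijective (fun f : E i ⟶ L => pb H f sL) := by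
  obtain ⟨c, hc⟩ := hL
  let π : (∐ 𝒯.X) ⟶ L := Sigma.desc inj
  have hπ : ∀ n, Sigma.ι 𝒯.X n ≫ π = inj n := fun n => by simp [π]
  have hS : ∀ n, pb H (Sigma.ι 𝒯.X n) (pb H π sL) = 𝒯.s n := fun n => by
    rw [← pb_comp, hπ, hsL]
  have hσπ : (𝟙 _ - sg 𝒯.X 𝒯.φ) ≫ π = 0 := comp_distTriang_mor_zero₁₂ _ hc
  constructor
  · intro α α' hαα'
    dsimp at hαα'
    rw [← sub_eq_zero] at hαα' ⊢
    rw [← pb_sub_hom] at hαα'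
    generalize α - α' = α at hαα'
    -- first: α ≫ c = 0
    have h1 : α ≫ c = 0 := by
      obtain ⟨i', ⟨e⟩⟩ := hsh i
      let adj : shiftFunctor D (-1 : ℤ) ⊣ shiftFunctor D (1 : ℤ) :=
        (shiftEquiv D (1 : ℤ)).symm.toAdjunction
      let θ' : (shiftFunctor D (-1 : ℤ)).obj (E i) ⟶ ∐ 𝒯.X := (adj.homEquiv _ _).symm (α ≫ c)
      have hθ' : θ' ≫ (𝟙 _ - sg 𝒯.X 𝒯.φ) = 0 := by
        apply (adj.homEquiv _ _).injective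
        rw [Adjunction.homEquiv_naturality_right, Equiv.apply_symm_apply, Category.assoc]
        have : c ≫ (shiftFunctor D (1 : ℤ)).map (𝟙 _ - sg 𝒯.X 𝒯.φ) = 0 :=
          comp_distTriang_mor_zero₃₁ _ hc
        rw [this, comp_zero]
        simp [Adjunction.homEquiv_unit]
      have hθ : (e.hom ≫ θ') ≫ sg 𝒯.X 𝒯.φ = e.hom ≫ θ' := by
        rw [Preadditive.comp_sub, Category.comp_id, sub_eq_zero] at hθ'
        rw [Category.assoc, ← hθ']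
      have h0 := 𝒯.eq_zero_of_comp_sg_eq h2 i' (e.hom ≫ θ') hθ
      have h0' : θ' = 0 := by
        rw [← cancel_epi e.hom, h0, comp_zero]
      have := congrArg (adj.homEquiv _ _) h0'
      rw [Equiv.apply_symm_apply] at this
      rw [this]
      simp [Adjunction.homEquiv_unit]
    obtain ⟨ψ, hψ⟩ : ∃ ψ : E i ⟶ ∐ 𝒯.X, α = ψ ≫ π := Triangle.coyoneda_exact₃ _ hc α h1
    obtain ⟨ψ', g, hψ', hg⟩ := 𝒯.exists_decomp h2 hP (pb H π sL) hS i ψ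
    have hg0 : pb H g (𝒯.s 0) = 0 := by
      rw [hg, ← pb_comp, ← hψ, hαα']
    have hgφ : g ≫ 𝒯.φ 0 = 0 := 𝒯.kill 0 i g hg0
    have hgι : g ≫ Sigma.ι 𝒯.X 0 = (g ≫ Sigma.ι 𝒯.X 0) ≫ (𝟙 _ - sg 𝒯.X 𝒯.φ) := by
      rw [Preadditive.comp_sub, Category.comp_id, Category.assoc, ι_sg, ← Category.assoc, hgφ,
        zero_comp, sub_zero]
    rw [hψ, hψ', hgι, ← Preadditive.add_comp, Category.assoc, hσπ, comp_zero]
  · intro a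
    obtain ⟨f, hf⟩ := 𝒯.surj i a
    refine ⟨f ≫ inj 0, ?_⟩
    dsimp
    rw [pb_comp, hsL, hf]

end TowerData

end Main

end Groth.Agent.Lib27.Tower
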