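import Mathlib
import Groth.Agent.Lib27.Tower

/-!
# Brown representability (Stacks 0A8F form)
-/

set_option autoImplicit false
universe v u

open CategoryTheory CategoryTheory.Limits CategoryTheory.Pretriangulated Opposite
open scoped ZeroObject

namespace Groth.Agent.Lib27.Brown

open Groth.Agent.Lib27.HFun Groth.Agent.Lib27.Tower

variable {D : Type u} [Category.{v} D] [Preadditive D] [HasZeroObject D] [HasShift D ℤ]
  [∀ n : ℤ, (shiftFunctor D n).Additive] [Pretriangulated D] [HasCoproducts.{v} D]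
  (H : Dᵒᵖ ⥤ AddCommGrpCat.{v}) [H.IsHomological]
  [∀ (κ : Type v), PreservesLimitsOfShape (Discrete κ) H]
  {ι : Type v} (E : ι → D)

/-- one step of the construction -/
structure Step (X : D) (s : H.obj (op X)) where
  /-- next object -/
  X' : D
  /-- transition -/
  φ : X ⟶ X'
  /-- next class -/
  s' : H.obj (op X')
  hs : pb H φ s' = s
  kill : ∀ i (f : E i ⟶ X), pb H f s = 0 → f ≫ φ = 0

lemma exists_step (X : D) (s : H.obj (op X)) : Nonempty (Step H E X s) := by
  let J : Type v := Σ i : ι, {f : E i ⟶ X // pb H f s = 0}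
  let Y : J → D := fun p => E p.1
  let κ : (∐ Y) ⟶ X := Sigma.desc (fun p => p.2.1)
  obtain ⟨X', φ, d, hT⟩ := distinguished_cocone_triangle κ
  have hκ : pb H κ s = 0 := by
    apply (hasProdProp_of_preserves H Y (fun _ => 0)).unique
    · intro p
      rw [← pb_comp]
      simp only [κ, Sigma.ι_desc]
      exact p.2.2
    · intro p
      simp
  obtain ⟨s', hs'⟩ : ∃ s' : H.obj (op X'), pb H φ s' = s := exists_of_pb_eq_zero H _ hT s hκ
  refine ⟨⟨X', φ, s', hs', fun i f hf => ?_⟩⟩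
  have h1 : f = Sigma.ι Y ⟨i, f, hf⟩ ≫ κ := by simp [κ, Y]
  have h2 : κ ≫ φ = 0 := comp_distTriang_mor_zero₁₂ _ hT
  rw [h1, Category.assoc, h2, comp_zero]

/-- a chosen step -/
noncomputable def step (p : Σ X : D, H.obj (op X)) : Step H E p.1 p.2 :=
  Classical.choice (exists_step H E p.1 p.2)

/-- the sequence of stages -/
noncomputable def seq (p₀ : Σ X : D, H.obj (op X)) : ℕ → Σ X : D, H.obj (op X)
  | 0 => p₀
  | (n + 1) => ⟨(step H E (seq p₀ n)).X', (step H E (seq p₀ n)).s'⟩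

/-- the tower built from an initial stage which is surjective on `E`-points. -/
noncomputable def towerData [HasColimitsOfShape (Discrete ℕ) D] (p₀ : Σ X : D, H.obj (op X))
    (hp₀ : ∀ i (a : H.obj (op (E i))), ∃ f : E i ⟶ p₀.1, pb H f p₀.2 = a) :
    TowerData H E where
  X n := (seq H E p₀ n).1
  φ n := (step H E (seq H E p₀ n)).φ
  s n := (seq H E p₀ n).2
  hs n := (step H E (seq H E p₀ n)).hs
  surj := hp₀
  kill n := (step H E (seq H E p₀ n)).kill

section Initial

variable (X₀ : D) (s₀ : H.obj (op X₀))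

/-- index type for the initial stage -/
abbrev J0 : Type v := Option (Σ i : ι, H.obj (op (E i)))

/-- the family for the initial stage -/
def Y0 : J0 H E → D
  | none => X₀
  | some p => E p.1

/-- the classes on the members of the initial family -/
def t0 : ∀ j : J0 H E, H.obj (op (Y0 H E X₀ j))
  | none => s₀
  | some p => p.2

lemma exists_initial :
    ∃ (s : H.obj (op (∐ Y0 H E X₀))), pb H (Sigma.ι (Y0 H E X₀) none) s = s₀ ∧
      ∀ i (a : H.obj (op (E i))), ∃ f : E i ⟶ ∐ Y0 H E X₀, pb H f s = a := by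
  obtain ⟨s, hs, -⟩ := hasProdProp_of_preserves H (Y0 H E X₀) (t0 H E X₀ s₀)
  refine ⟨s, hs none, fun i a => ⟨Sigma.ι (Y0 H E X₀) (some ⟨i, a⟩), hs (some ⟨i, a⟩)⟩⟩

end Initial

section Model

variable [HasColimitsOfShape (Discrete ℕ) D]

include H in
omit [H.IsHomological] in
lemma hasProdProp_nat (Y : ℕ → D) : HasProdProp H Y := by
  haveI : PreservesLimitsOfShape (Discrete ℕ) H :=
    preservesLimitsOfShape_of_equiv
      (Discrete.equivalence Equiv.ulift : Discrete (ULift.{v} ℕ) ≌ Discrete ℕ) H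
  exact hasProdProp_of_preserves H Y

/-- the construction lemma: every class extends to a model which is bijective on `E`-points. -/
theorem exists_model (h2 : FactorProp E)
    (hsh : ∀ i, ∃ i', Nonempty (E i' ≅ (shiftFunctor D (-1 : ℤ)).obj (E i)))
    (X₀ : D) (s₀ : H.obj (op X₀)) :
    ∃ (L : D) (u₀ : X₀ ⟶ L) (sL : H.obj (op L)), pb H u₀ sL = s₀ ∧
      ∀ i, Function.Bijective (fun f : E i ⟶ L => pb H f sL) := by
  obtain ⟨s, hs, hsurj⟩ := exists_initial H E X₀ s₀
  let 𝒯 : TowerData H E := towerData H E ⟨∐ Y0 H E X₀, s⟩ hsurj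
  obtain ⟨L, π, c, hT⟩ := distinguished_cocone_triangle (𝟙 _ - sg 𝒯.X 𝒯.φ)
  let inj : ∀ n, 𝒯.X n ⟶ L := fun n => Sigma.ι 𝒯.X n ≫ π
  have hπ : Sigma.desc inj = π := by
    apply Sigma.hom_ext
    intro n
    simp [inj]
  have hL : DerLim.IsHocolim 𝒯.X 𝒯.φ L inj := ⟨c, by rw [hπ]; exact hT⟩
  obtain ⟨sL, hsL⟩ := 𝒯.exists_class inj hL (hasProdProp_nat H)
  refine ⟨L, (show X₀ ⟶ 𝒯.X 0 from Sigma.ι (Y0 H E X₀) none) ≫ inj 0, sL, ?_,
    𝒯.bijective_of_class inj hL h2 (hasProdProp_nat H) hsh sL hsL⟩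
  rw [pb_comp, hsL 0]
  exact hs

end Model

section Compare

/-- the detection property (1) -/
def Detects : Prop := ∀ X : D, ¬ IsZero X → ∃ (i : ι) (f : E i ⟶ X), f ≠ 0

omit [HasCoproducts D] [∀ (κ : Type v), PreservesLimitsOfShape (Discrete κ) H] in
/-- the comparison lemma: a map of models compatible with the classes is an isomorphism. -/
theorem isIso_of_models (h1 : Detects E)
    (hsh : ∀ i, ∃ i', Nonempty (E i' ≅ (shiftFunctor D (-1 : ℤ)).obj (E i)))
    {L L' : D} (sL : H.obj (op L)) (sL' : H.obj (op L'))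
    (hL : ∀ i, Function.Bijective (fun f : E i ⟶ L => pb H f sL))
    (hL' : ∀ i, Function.Bijective (fun f : E i ⟶ L' => pb H f sL'))
    (u : L ⟶ L') (hu : pb H u sL' = sL) : IsIso u := by
  obtain ⟨C, p, q, hT⟩ := distinguished_cocone_triangle u
  suffices hC : IsZero C from (Triangle.isZero₃_iff_isIso₁ _ hT).1 hC
  by_contra hC
  obtain ⟨i, f, hf⟩ := h1 C hC
  apply hf
  -- f ≫ q = 0
  have h2 : f ≫ q = 0 := by
    obtain ⟨i', ⟨e⟩⟩ := hsh i
    let adj : shiftFunctor D (-1 : ℤ) ⊣ shiftFunctor D (1 : ℤ) :=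
      (shiftEquiv D (1 : ℤ)).symm.toAdjunction
    let g : (shiftFunctor D (-1 : ℤ)).obj (E i) ⟶ L := (adj.homEquiv _ _).symm (f ≫ q)
    have hg : g ≫ u = 0 := by
      apply (adj.homEquiv _ _).injective
      rw [Adjunction.homEquiv_naturality_right, Equiv.apply_symm_apply, Category.assoc]
      have : q ≫ (shiftFunctor D (1 : ℤ)).map u = 0 := comp_distTriang_mor_zero₃₁ _ hT
      rw [this, comp_zero]
      simp [Adjunction.homEquiv_unit]
    have h3 : e.hom ≫ g = 0 := by
      apply (hL i').1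
      dsimp
      rw [pb_zero_hom, ← hu, ← pb_comp, Category.assoc, hg, comp_zero, pb_zero_hom]
    have h4 : g = 0 := by rw [← cancel_epi e.hom, h3, comp_zero]
    have := congrArg (adj.homEquiv _ _) h4
    rw [Equiv.apply_symm_apply] at this
    rw [this]
    simp [Adjunction.homEquiv_unit]
  obtain ⟨f', hf'⟩ : ∃ f' : E i ⟶ L', f = f' ≫ p := Triangle.coyoneda_exact₃ _ hT f h2
  obtain ⟨f'', hf''⟩ := (hL i).2 (pb H f' sL')
  dsimp at hf''
  have h5 : f'' ≫ u = f' := by
    apply (hL' i).1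
    dsimp
    rw [pb_comp, hu, hf'']
  have h6 : u ≫ p = 0 := comp_distTriang_mor_zero₁₂ _ hT
  rw [hf', ← h5, Category.assoc, h6, comp_zero]

end Compare

section Rep

variable [HasColimitsOfShape (Discrete ℕ) D]

/-- representability for families closed under `⟦-1⟧`. -/
theorem exists_universal (h1 : Detects E) (h2 : FactorProp E)
    (hsh : ∀ i, ∃ i', Nonempty (E i' ≅ (shiftFunctor D (-1 : ℤ)).obj (E i))) :
    ∃ (L : D) (sL : H.obj (op L)), ∀ Y : D, Function.Bijective (fun f : Y ⟶ L => pb H f sL) := by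
  obtain ⟨L, -, sL, -, hL⟩ := exists_model H E h2 hsh (0 : D) 0
  refine ⟨L, sL, fun Y => ⟨?_, ?_⟩⟩
  · -- injective
    intro f₁ f₂ hf
    dsimp at hf
    rw [← sub_eq_zero] at hf ⊢
    rw [← pb_sub_hom] at hf
    generalize f₁ - f₂ = f at hf
    obtain ⟨C, g, d, hT⟩ := distinguished_cocone_triangle f
    obtain ⟨c, hc⟩ : ∃ c : H.obj (op C), pb H g c = sL := exists_of_pb_eq_zero H _ hT sL hf
    obtain ⟨L', w, sL', hw, hL'⟩ := exists_model H E h2 hsh C c
    haveI : IsIso (g ≫ w) := isIso_of_models H E h1 hsh sL sL' hL hL' (g ≫ w) (by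
      rw [pb_comp, hw, hc])
    have hfg : f ≫ g = 0 := comp_distTriang_mor_zero₁₂ _ hT
    rw [← cancel_mono (g ≫ w), ← Category.assoc, hfg, zero_comp, zero_comp]
  · -- surjective
    intro a
    let s₀ : H.obj (op (L ⊞ Y)) := pb H biprod.fst sL + pb H biprod.snd a
    obtain ⟨L', u₀, sL', hu₀, hL'⟩ := exists_model H E h2 hsh (L ⊞ Y) s₀
    have h3 : pb H (biprod.inl ≫ u₀) sL' = sL := by
      rw [pb_comp, hu₀, map_add, ← pb_comp, ← pb_comp, biprod.inl_fst, biprod.inl_snd, pb_id,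
        pb_zero_hom, add_zero]
    have h4 : pb H (biprod.inr ≫ u₀) sL' = a := by
      rw [pb_comp, hu₀, map_add, ← pb_comp, ← pb_comp, biprod.inr_fst, biprod.inr_snd, pb_id,
        pb_zero_hom, zero_add]
    haveI : IsIso (biprod.inl ≫ u₀) := isIso_of_models H E h1 hsh sL sL' hL hL' _ h3
    refine ⟨(biprod.inr ≫ u₀) ≫ inv (biprod.inl ≫ u₀), ?_⟩
    dsimp
    have h5 : pb H (inv (biprod.inl ≫ u₀)) sL = sL' := by
      rw [← h3, ← pb_comp, IsIso.inv_hom_id, pb_id]
    rw [pb_comp, h5, h4]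

end Rep

section ShiftClosure

variable [HasColimitsOfShape (Discrete ℕ) D]

/-- the family of all shifts -/
def Esh : ι × ℤ → D := fun p => (shiftFunctor D p.2).obj (E p.1)

omit [HasCoproducts D] [HasColimitsOfShape (Discrete ℕ) D] in
lemma detects_sh (h1 : Detects E) : Detects (Esh E) := by
  intro X hX
  obtain ⟨i, f, hf⟩ := h1 X hX
  let z : (shiftFunctor D (0 : ℤ)).obj (E i) ⟶ E i := (shiftFunctorZero D ℤ).hom.app (E i)
  haveI : IsIso z := inferInstanceAs (IsIso ((shiftFunctorZero D ℤ).hom.app (E i)))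
  refine ⟨(i, 0), z ≫ f, fun h => hf ?_⟩
  exact (cancel_epi z).1 (h.trans comp_zero.symm)

omit [HasCoproducts D] [HasColimitsOfShape (Discrete ℕ) D] in
lemma hsh_sh (p : ι × ℤ) :
    ∃ p', Nonempty (Esh E p' ≅ (shiftFunctor D (-1 : ℤ)).obj (Esh E p)) :=
  ⟨(p.1, p.2 - 1), ⟨(shiftFunctorAdd' D p.2 (-1) (p.2 - 1) (by ring)).app (E p.1)⟩⟩

omit [HasCoproducts D] in
lemma factorProp_sh (h2 : FactorProp E) : FactorProp (Esh E) := by
  rintro Y ⟨i, k⟩ α
  let F := shiftFunctor D k
  let G := shiftFunctor D (-k)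
  let adj : F ⊣ G := (shiftEquiv D k).toAdjunction
  let isoG := PreservesCoproduct.iso G Y
  obtain ⟨j, β, γ, hγ⟩ := h2 (fun n => G.obj (Y n)) i (adj.homEquiv _ _ α ≫ isoG.hom)
  let isoF := PreservesCoproduct.iso F (fun n => E (j n))
  let β' : ∀ n, F.obj (E (j n)) ⟶ Y n := fun n => (adj.homEquiv _ _).symm (β n)
  refine ⟨fun n => (j n, k), β', F.map γ ≫ isoF.hom, ?_⟩
  apply (adj.homEquiv _ _).injective
  have hF : ∀ n, F.map (Sigma.ι (fun n => E (j n)) n) ≫ isoF.hom =
      Sigma.ι (fun n => F.obj (E (j n))) n := by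
    intro n
    have h : isoF.inv = sigmaComparison F _ := PreservesCoproduct.inv_hom F _
    rw [← ι_comp_sigmaComparison, ← h, Category.assoc, isoF.inv_hom_id, Category.comp_id]
  have claim : adj.homEquiv _ _ (isoF.hom ≫ Limits.Sigma.map β') =
      Limits.Sigma.map β ≫ isoG.inv := by
    apply Sigma.hom_ext
    intro n
    have h : isoG.inv = sigmaComparison G _ := PreservesCoproduct.inv_hom G _
    rw [← Adjunction.homEquiv_naturality_left, ← Category.assoc, hF, Sigma.ι_map,
      Adjunction.homEquiv_naturality_right, Equiv.apply_symm_apply, Sigma.ι_map_assoc, h,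
      ι_comp_sigmaComparison]
  change adj.homEquiv _ _ α = adj.homEquiv _ _ ((F.map γ ≫ isoF.hom) ≫ Limits.Sigma.map β')
  rw [Category.assoc, Adjunction.homEquiv_naturality_left, claim, ← Category.assoc, ← hγ,
    Category.assoc, isoG.hom_inv_id, Category.comp_id]

end ShiftClosure

section Final

variable [HasColimitsOfShape (Discrete ℕ) D]

/-- Brown representability (Stacks 0A8F form). -/
theorem exists_universal' (h1 : Detects E) (h2 : FactorProp E) :
    ∃ (L : D) (sL : H.obj (op L)), ∀ Y : D, Function.Bijective (fun f : Y ⟶ L => pb H f sL) :=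
  exists_universal H (Esh E) (detects_sh E h1) (factorProp_sh E h2) (hsh_sh E)

theorem isRepresentable (h1 : Detects E) (h2 : FactorProp E) :
    (H ⋙ forget AddCommGrpCat.{v}).IsRepresentable := by
  obtain ⟨L, sL, hL⟩ := exists_universal' H E h1 h2
  exact Functor.RepresentableBy.isRepresentable
    { homEquiv := fun {Y} => Equiv.ofBijective (fun f : Y ⟶ L => pb H f sL) (hL Y)
      homEquiv_comp := fun {Y Y'} f g => by
        change pb H (f ≫ g) sL = pb H f (pb H g sL)
        rw [pb_comp] }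

end Final

end Groth.Agent.Lib27.Brown
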