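import Mathlib
import Groth.Prelude.Def_CohDer

/-!
# Compact objects in triangulated categories and finite envelopes

`Cpt K`: every map `K ⟶ ∐ Z` is fixed by a finite projector `proj Z t`.
-/

set_option autoImplicit false
universe v u

open CategoryTheory CategoryTheory.Limits CategoryTheory.Pretriangulated
open scoped ZeroObject

namespace Groth.Agent.Lib27.CptEnv

section Basic

variable {D : Type u} [Category.{v} D] [Preadditive D] [HasCoproducts.{v} D]

open Classical in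
/-- the idempotent of `∐ Z` projecting onto the finite sub-sum indexed by `t`. -/
noncomputable def proj {κ : Type v} (Z : κ → D) (t : Finset κ) : (∐ Z) ⟶ ∐ Z :=
  Sigma.desc (fun i => if i ∈ t then Sigma.ι Z i else 0)

open Classical in
@[reassoc]
lemma ι_proj {κ : Type v} (Z : κ → D) (t : Finset κ) (i : κ) :
    Sigma.ι Z i ≫ proj Z t = if i ∈ t then Sigma.ι Z i else 0 := by
  simp [proj]

@[reassoc]
lemma ι_proj_of_mem {κ : Type v} (Z : κ → D) (t : Finset κ) (i : κ) (hi : i ∈ t) :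
    Sigma.ι Z i ≫ proj Z t = Sigma.ι Z i := by
  rw [ι_proj, if_pos hi]

@[reassoc]
lemma ι_proj_of_not_mem {κ : Type v} (Z : κ → D) (t : Finset κ) (i : κ) (hi : i ∉ t) :
    Sigma.ι Z i ≫ proj Z t = 0 := by
  rw [ι_proj, if_neg hi]

lemma proj_comp_proj {κ : Type v} (Z : κ → D) {t t' : Finset κ} (h : t ⊆ t') :
    proj Z t ≫ proj Z t' = proj Z t := by
  apply Sigma.hom_ext
  intro i
  by_cases hi : i ∈ t
  · rw [ι_proj_of_mem_assoc _ _ _ hi, ι_proj_of_mem _ _ _ hi, ι_proj_of_mem _ _ _ (h hi)]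
  · rw [ι_proj_of_not_mem_assoc _ _ _ hi, ι_proj_of_not_mem _ _ _ hi, zero_comp]

lemma proj_empty {κ : Type v} (Z : κ → D) : proj Z (∅ : Finset κ) = 0 := by
  apply Sigma.hom_ext
  intro i
  rw [ι_proj_of_not_mem _ _ _ (by simp), comp_zero]

lemma fix_mono {κ : Type v} (Z : κ → D) {t t' : Finset κ} (h : t ⊆ t') {K : D} (f : K ⟶ ∐ Z)
    (hf : f ≫ proj Z t = f) : f ≫ proj Z t' = f := by
  calc f ≫ proj Z t' = (f ≫ proj Z t) ≫ proj Z t' := by rw [hf]
    _ = f ≫ proj Z t := by rw [Category.assoc, proj_comp_proj Z h]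
    _ = f := hf

/-- compact objects, in the "finite support" formulation. -/
def Cpt (K : D) : Prop :=
  ∀ (κ : Type v) (Z : κ → D) (f : K ⟶ ∐ Z), ∃ t : Finset κ, f ≫ proj Z t = f

lemma cpt_of_isCompactObject {K : D} (hK : CohDer.IsCompactObject K) : Cpt K := by
  intro κ Z f
  obtain ⟨x, rfl⟩ := (hK κ Z).2 f
  classical
  induction x using DirectSum.induction_on with
  | zero => exact ⟨∅, by simp⟩
  | of i g =>
    refine ⟨{i}, ?_⟩
    have : CohDer.homSumToHomCoprod K Z (DirectSum.of (fun i => K ⟶ Z i) i g) = g ≫ Sigma.ι Z i := by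
      simp [CohDer.homSumToHomCoprod]
      rfl
    rw [this, Category.assoc, ι_proj_of_mem _ _ _ (by simp)]
  | add x y hx hy =>
    obtain ⟨t, ht⟩ := hx
    obtain ⟨t', ht'⟩ := hy
    refine ⟨t ∪ t', ?_⟩
    rw [map_add, Preadditive.add_comp, fix_mono Z Finset.subset_union_left _ ht,
      fix_mono Z Finset.subset_union_right _ ht']

open Classical in
lemma proj_eq_sum {κ : Type v} (Z : κ → D) (t : Finset κ) :
    proj Z t = ∑ i ∈ t, Sigma.π Z i ≫ Sigma.ι Z i := by
  apply Sigma.hom_ext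
  intro j
  rw [Preadditive.comp_sum]
  by_cases hj : j ∈ t
  · rw [ι_proj_of_mem _ _ _ hj, Finset.sum_eq_single_of_mem j hj]
    · rw [Sigma.ι_π_eq_id_assoc]
    · intro i _ hij
      rw [Sigma.ι_π_of_ne_assoc _ (Ne.symm hij), zero_comp]
  · rw [ι_proj_of_not_mem _ _ _ hj]
    symm
    apply Finset.sum_eq_zero
    intro i hi
    have : j ≠ i := fun h => hj (h ▸ hi)
    rw [Sigma.ι_π_of_ne_assoc _ this, zero_comp]

lemma proj_eq_sum' {κ : Type v} [inst : DecidableEq κ] (Z : κ → D) (t : Finset κ) :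
    proj Z t = ∑ i ∈ t, Sigma.π Z i ≫ Sigma.ι Z i := by
  have h := proj_eq_sum Z t
  have : inst = fun a b => Classical.propDecidable (a = b) := Subsingleton.elim _ _
  subst this
  exact h

open Classical in
lemma homSumToHomCoprod_of (K : D) {κ : Type v} (Z : κ → D) (i : κ) (g : K ⟶ Z i) :
    CohDer.homSumToHomCoprod K Z (DirectSum.of (fun i => K ⟶ Z i) i g) = g ≫ Sigma.ι Z i := by
  simp [CohDer.homSumToHomCoprod]
  rfl

open Classical in
lemma homSumToHomCoprod_π (K : D) {κ : Type v} (Z : κ → D) (x : DirectSum κ (fun i => K ⟶ Z i))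
    (j : κ) : CohDer.homSumToHomCoprod K Z x ≫ Sigma.π Z j = x j := by
  induction x using DirectSum.induction_on with
  | zero => simp
  | of i g =>
    rw [homSumToHomCoprod_of, Category.assoc]
    by_cases h : i = j
    · subst h
      rw [Sigma.ι_π_eq_id, Category.comp_id, DirectSum.of_eq_same]
    · rw [Sigma.ι_π_of_ne _ h, comp_zero, DirectSum.of_eq_of_ne _ _ _ (Ne.symm h)]
  | add x y hx hy =>
    rw [map_add, Preadditive.add_comp, hx, hy, DirectSum.add_apply]

lemma isCompactObject_of_cpt {K : D} (hK : Cpt K) : CohDer.IsCompactObject K := by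
  classical
  intro κ Z
  constructor
  · rw [injective_iff_map_eq_zero]
    intro x hx
    ext j
    rw [← homSumToHomCoprod_π, hx, zero_comp]
    rfl
  · intro f
    obtain ⟨t, ht⟩ := hK κ Z f
    refine ⟨∑ i ∈ t, DirectSum.of (fun i => K ⟶ Z i) i (f ≫ Sigma.π Z i), ?_⟩
    rw [map_sum]
    simp only [homSumToHomCoprod_of]
    conv_rhs => rw [← ht, proj_eq_sum, Preadditive.comp_sum]
    simp only [Category.assoc]

lemma cpt_of_retract {K K' : D} (i : K' ⟶ K) (p : K ⟶ K') (hip : i ≫ p = 𝟙 K') (hK : Cpt K) :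
    Cpt K' := by
  intro κ Z f
  obtain ⟨t, ht⟩ := hK κ Z (p ≫ f)
  refine ⟨t, ?_⟩
  calc f ≫ proj Z t = (i ≫ p) ≫ f ≫ proj Z t := by rw [hip, Category.id_comp]
    _ = i ≫ ((p ≫ f) ≫ proj Z t) := by simp only [Category.assoc]
    _ = i ≫ p ≫ f := by rw [ht]
    _ = f := by rw [← Category.assoc, hip, Category.id_comp]

lemma cpt_of_iso {K K' : D} (e : K ≅ K') (hK : Cpt K) : Cpt K' :=
  cpt_of_retract e.inv e.hom e.inv_hom_id hK

lemma cpt_of_isZero {K : D} (hK : IsZero K) : Cpt K := by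
  intro κ Z f
  exact ⟨∅, hK.eq_of_src _ _⟩

/-- Functors preserving coproducts and zero morphisms: finite support for maps into `G (∐ Z)`. -/
lemma Cpt.exists_fix_map' {D' : Type*} [Category.{v} D'] [Preadditive D'] [HasCoproducts.{v} D']
    {K : D} (hK : Cpt K) (G : D' ⥤ D) [G.PreservesZeroMorphisms]
    {κ : Type v} (Z : κ → D') [PreservesColimit (Discrete.functor Z) G] (f : K ⟶ G.obj (∐ Z)) :
    ∃ t : Finset κ, f ≫ G.map (proj Z t) = f := by
  classical
  have key : ∀ t : Finset κ, sigmaComparison G Z ≫ G.map (proj Z t) =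
      proj (fun k => G.obj (Z k)) t ≫ sigmaComparison G Z := by
    intro t
    apply Sigma.hom_ext
    intro i
    rw [ι_comp_sigmaComparison_assoc, ← G.map_comp]
    by_cases hi : i ∈ t
    · rw [ι_proj_of_mem _ _ _ hi, ι_proj_of_mem_assoc _ _ _ hi, ι_comp_sigmaComparison]
    · rw [ι_proj_of_not_mem _ _ _ hi, ι_proj_of_not_mem_assoc _ _ _ hi, G.map_zero, zero_comp]
  let e := PreservesCoproduct.iso G Z
  obtain ⟨t, ht⟩ := hK κ (fun k => G.obj (Z k)) (f ≫ e.hom)
  refine ⟨t, ?_⟩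
  have he : e.inv = sigmaComparison G Z := PreservesCoproduct.inv_hom G Z
  have key' : G.map (proj Z t) = e.hom ≫ proj (fun k => G.obj (Z k)) t ≫ e.inv := by
    rw [he, ← key t, ← he, e.hom_inv_id_assoc]
  rw [key', ← Category.assoc, ← Category.assoc, ht, Category.assoc, e.hom_inv_id, Category.comp_id]

lemma Cpt.exists_fix_map {K : D} (hK : Cpt K) (G : D ⥤ D) [G.PreservesZeroMorphisms]
    {κ : Type v} (Z : κ → D) [PreservesColimit (Discrete.functor Z) G] (f : K ⟶ G.obj (∐ Z)) :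
    ∃ t : Finset κ, f ≫ G.map (proj Z t) = f :=
  hK.exists_fix_map' G Z f

lemma proj_factor [HasFiniteBiproducts D] {κ : Type v} (Z : κ → D) (t : Finset κ) :
    ∃ (p : (∐ Z) ⟶ ⨁ (fun k : t => Z k)),
      p ≫ biproduct.desc (fun k : t => Sigma.ι Z k) = proj Z t := by
  classical
  refine ⟨Sigma.desc (fun j => if h : j ∈ t then biproduct.ι (fun k : t => Z k) ⟨j, h⟩ else 0), ?_⟩
  apply Sigma.hom_ext
  intro i
  rw [Sigma.ι_desc_assoc]
  by_cases hi : i ∈ t
  · rw [dif_pos hi, ι_proj_of_mem _ _ _ hi, biproduct.ι_desc]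
  · rw [dif_neg hi, ι_proj_of_not_mem _ _ _ hi, zero_comp]

end Basic

section Tri

variable {D : Type u} [Category.{v} D] [Preadditive D] [HasZeroObject D] [HasShift D ℤ]
  [∀ n : ℤ, (shiftFunctor D n).Additive] [Pretriangulated D] [HasCoproducts.{v} D]

lemma cpt_shift {K : D} (hK : Cpt K) (n : ℤ) : Cpt ((shiftFunctor D n).obj K) := by
  intro κ Z f
  let e := shiftEquiv D n
  let G := shiftFunctor D (-n)
  let u : K ⟶ G.obj ((shiftFunctor D n).obj K) := e.unit.app K
  haveI : IsIso u := inferInstanceAs (IsIso (e.unit.app K))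
  obtain ⟨t, ht⟩ := hK.exists_fix_map G Z (u ≫ G.map f)
  refine ⟨t, ?_⟩
  rw [Category.assoc, ← G.map_comp] at ht
  exact G.map_injective ((cancel_epi u).1 ht)

lemma cpt_obj₂ (T : Triangle D) (hT : T ∈ distTriang D) (h₁ : Cpt T.obj₁) (h₃ : Cpt T.obj₃) :
    Cpt T.obj₂ := by
  classical
  intro κ Z f
  obtain ⟨t, ht⟩ := h₁ κ Z (T.mor₁ ≫ f)
  obtain ⟨g, hg⟩ := T.yoneda_exact₂ hT (f - f ≫ proj Z t) (by
    rw [Preadditive.comp_sub, ← Category.assoc, ht, sub_self])
  obtain ⟨t', ht'⟩ := h₃ κ Z g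
  refine ⟨t ∪ t', ?_⟩
  have hf : f = f ≫ proj Z t + T.mor₂ ≫ g := by rw [← hg]; abel
  have h1 : (f ≫ proj Z t) ≫ proj Z (t ∪ t') = f ≫ proj Z t := by
    rw [Category.assoc, proj_comp_proj Z Finset.subset_union_left]
  have h2 : (T.mor₂ ≫ g) ≫ proj Z (t ∪ t') = T.mor₂ ≫ g := by
    rw [Category.assoc, fix_mono Z Finset.subset_union_right g ht']
  calc f ≫ proj Z (t ∪ t') = (f ≫ proj Z t + T.mor₂ ≫ g) ≫ proj Z (t ∪ t') := by rw [← hf]
    _ = f ≫ proj Z t + T.mor₂ ≫ g := by rw [Preadditive.add_comp, h1, h2]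
    _ = f := hf.symm

variable (D) in
/-- compact objects as an object property -/
def cptProp : ObjectProperty D := fun K => Cpt K

instance : (cptProp D).IsClosedUnderIsomorphisms where
  of_iso e h := cpt_of_iso e h

instance : (cptProp D).IsStableUnderRetracts where
  of_retract r h := cpt_of_retract r.i r.r r.retract h

instance : (cptProp D).ContainsZero where
  exists_zero := ⟨(0 : D), isZero_zero D, cpt_of_isZero (isZero_zero D)⟩

instance : (cptProp D).IsStableUnderShift ℤ where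
  isStableUnderShiftBy n := ⟨fun K hK => cpt_shift hK n⟩

instance : (cptProp D).IsTriangulatedClosed₂ :=
  ObjectProperty.IsTriangulatedClosed₂.mk' (fun T hT h₁ h₃ => cpt_obj₂ T hT h₁ h₃)

instance : (cptProp D).IsTriangulated where

lemma isCompactObject_iff_cpt (K : D) : CohDer.IsCompactObject K ↔ Cpt K :=
  ⟨cpt_of_isCompactObject, isCompactObject_of_cpt⟩

lemma isCompactObject_eq_cptProp : (fun K : D => CohDer.IsCompactObject K) = cptProp D := by
  funext K
  exact propext (isCompactObject_iff_cpt K)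

lemma cpt_of_triangEnvelope (P : ObjectProperty D) (hP : ∀ X, P X → Cpt X) {X : D}
    (hX : P.triangEnvelope X) : Cpt X :=
  (ObjectProperty.triangEnvelope_le_iff (P := P) (Q := cptProp D)).2 hP X hX

section Env

variable [IsTriangulated D] {ι : Type*} (E : ι → D)

/-- the members of the family indexed by the finite set `s`. -/
def Ps (s : Finset ι) : ObjectProperty D := fun Y => ∃ i ∈ s, Y = E i

/-- the triangulated envelope of finitely many members. -/
def Env (s : Finset ι) : ObjectProperty D := (Ps E s).triangEnvelope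

lemma ps_mono {s s' : Finset ι} (h : s ⊆ s') : Ps E s ≤ Ps E s' := by
  rintro Y ⟨i, hi, rfl⟩
  exact ⟨i, h hi, rfl⟩

lemma env_mono {s s' : Finset ι} (h : s ⊆ s') : Env E s ≤ Env E s' :=
  ObjectProperty.monotone_triangEnvelope (ps_mono E h)

lemma ps_nonempty {s : Finset ι} (hs : s.Nonempty) : (Ps E s).Nonempty := by
  obtain ⟨i, hi⟩ := hs
  exact ⟨E i, i, hi, rfl⟩

lemma env_isTriangulated {s : Finset ι} (hs : s.Nonempty) : (Env E s).IsTriangulated := by
  haveI := ps_nonempty E hs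
  unfold Env
  infer_instance

instance (s : Finset ι) : (Env E s).IsStableUnderRetracts := by
  unfold Env
  infer_instance

instance (s : Finset ι) : (Env E s).IsStableUnderShift ℤ := by
  unfold Env
  infer_instance

lemma env_of_mem {s : Finset ι} {i : ι} (hi : i ∈ s) : Env E s (E i) :=
  (Ps E s).le_triangEnvelope _ ⟨i, hi, rfl⟩

lemma env_shift_of_mem {s : Finset ι} {i : ι} (hi : i ∈ s) (n : ℤ) :
    Env E s ((shiftFunctor D n).obj (E i)) :=
  (Env E s).le_shift n _ (env_of_mem E hi)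

lemma cpt_of_env (hc : ∀ i, Cpt (E i)) {s : Finset ι} {X : D} (hX : Env E s X) : Cpt X := by
  refine cpt_of_triangEnvelope (Ps E s) ?_ hX
  rintro Y ⟨i, _, rfl⟩
  exact hc i

lemma env_biproduct {s : Finset ι} (hs : s.Nonempty) {J : Type*} [Finite J] (f : J → D)
    (hf : ∀ j, Env E s (f j)) : Env E s (⨁ f) := by
  haveI := env_isTriangulated E hs
  exact (Env E s).prop_of_isLimit_fan (biproduct.isLimit f) hf

lemma env_biprod {s : Finset ι} (hs : s.Nonempty) {X Y : D}
    (hX : Env E s X) (hY : Env E s Y) : Env E s (X ⊞ Y) := by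
  haveI := env_isTriangulated E hs
  exact (Env E s).prop_of_isLimit_binaryFan (BinaryBiproduct.isLimit X Y) hX hY

lemma env_obj₃ {s : Finset ι} (hs : s.Nonempty) (T : Triangle D) (hT : T ∈ distTriang D)
    (h₁ : Env E s T.obj₁) (h₂ : Env E s T.obj₂) : Env E s T.obj₃ := by
  haveI := env_isTriangulated E hs
  exact (Env E s).ext_of_isTriangulatedClosed₃ T hT h₁ h₂

/-- every map from a compact object to `X` factors through a finite envelope. -/
def Fac (X : D) : Prop :=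
  ∀ (C : D), Cpt C → ∀ φ : C ⟶ X, ∃ (s : Finset ι) (_ : s.Nonempty) (E' : D) (g : C ⟶ E')
    (h : E' ⟶ X), Env E s E' ∧ g ≫ h = φ

lemma fac_of_iso {X X' : D} (e : X ≅ X') (hX : Fac E X) : Fac E X' := by
  intro C hC φ
  obtain ⟨s, hs, E', g, h, hE', hgh⟩ := hX C hC (φ ≫ e.inv)
  exact ⟨s, hs, E', g, h ≫ e.hom, hE', by rw [← Category.assoc, hgh, Category.assoc,
    e.inv_hom_id, Category.comp_id]⟩

lemma fac_coprod [Nonempty ι] {κ : Type v} (a : κ → ι) (m : κ → ℤ) :
    Fac E (∐ fun k => (shiftFunctor D (m k)).obj (E (a k))) := by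
  classical
  intro C hC φ
  let X : κ → D := fun k => (shiftFunctor D (m k)).obj (E (a k))
  obtain ⟨t, ht⟩ := hC κ X φ
  obtain ⟨p, hp⟩ := proj_factor X t
  let s : Finset ι := insert (Classical.arbitrary ι) (t.image a)
  have hs : s.Nonempty := ⟨_, Finset.mem_insert_self _ _⟩
  refine ⟨s, hs, _, φ ≫ p, biproduct.desc (fun k : t => Sigma.ι X k.1), ?_, ?_⟩
  · apply env_biproduct E hs
    intro k
    exact env_shift_of_mem E (Finset.mem_insert_of_mem (Finset.mem_image_of_mem a k.2)) _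
  · rw [Category.assoc, hp, ht]

lemma fac_step [Nonempty ι] (hc : ∀ i, Cpt (E i)) {κ : Type v} (a : κ → ι) (m : κ → ℤ)
    {K K' : D} (y : (∐ fun k => (shiftFunctor D (m k)).obj (E (a k))) ⟶ K) (f : K ⟶ K')
    (z : K' ⟶ (shiftFunctor D (1 : ℤ)).obj (∐ fun k => (shiftFunctor D (m k)).obj (E (a k))))
    (hT : Triangle.mk y f z ∈ distTriang D) (hK : Fac E K) : Fac E K' := by
  classical
  intro C hC φ
  let X : κ → D := fun k => (shiftFunctor D (m k)).obj (E (a k))
  obtain ⟨t, ht⟩ := hC.exists_fix_map (shiftFunctor D (1 : ℤ)) X (φ ≫ z)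
  obtain ⟨p, hp⟩ := proj_factor X t
  let F : D := ⨁ (fun k : t => X k)
  let j : F ⟶ ∐ X := biproduct.desc (fun k : t => Sigma.ι X k.1)
  let c : C ⟶ (shiftFunctor D (1 : ℤ)).obj F := φ ≫ z ≫ (shiftFunctor D (1 : ℤ)).map p
  have hcj : c ≫ (shiftFunctor D (1 : ℤ)).map j = φ ≫ z := by
    simp only [c, Category.assoc, ← Functor.map_comp]
    rw [hp, ← Category.assoc, ht]
  let s₁ : Finset ι := insert (Classical.arbitrary ι) (t.image a)
  have hs₁ : s₁.Nonempty := ⟨_, Finset.mem_insert_self _ _⟩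
  have hF : Env E s₁ F := by
    apply env_biproduct E hs₁
    intro k
    exact env_shift_of_mem E (Finset.mem_insert_of_mem (Finset.mem_image_of_mem a k.2)) _
  have hFc : Cpt F := cpt_of_env E hc hF
  obtain ⟨C', a', b', hT'⟩ := distinguished_cocone_triangle₂ c
  have hC' : Cpt C' := cpt_obj₂ _ hT' hFc hC
  obtain ⟨ψ, hψ₁, -⟩ : ∃ ψ : C' ⟶ K, a' ≫ ψ = j ≫ y ∧ b' ≫ φ = ψ ≫ f :=
    complete_distinguished_triangle_morphism₂ _ _ hT' hT j φ hcj
  obtain ⟨s₂, hs₂, E'', g', h', hE'', hgh⟩ := hK C' hC' ψ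
  obtain ⟨G, l, r, hT''⟩ := distinguished_cocone_triangle (a' ≫ g')
  have hG : Env E (s₁ ∪ s₂) G :=
    env_obj₃ E (hs₁.mono Finset.subset_union_left) _ hT''
      (env_mono E Finset.subset_union_left _ hF) (env_mono E Finset.subset_union_right _ hE'')
  obtain ⟨γ, -, hγ₂⟩ : ∃ γ : C ⟶ G, b' ≫ γ = g' ≫ l ∧
      c ≫ (shiftFunctor D (1 : ℤ)).map (𝟙 F) = γ ≫ r :=
    complete_distinguished_triangle_morphism _ _ hT' hT'' (𝟙 F) g'
      (show a' ≫ g' = 𝟙 F ≫ a' ≫ g' from (Category.id_comp _).symm)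
  obtain ⟨δ, -, hδ₂⟩ : ∃ δ : G ⟶ K', l ≫ δ = h' ≫ f ∧
      r ≫ (shiftFunctor D (1 : ℤ)).map j = δ ≫ z :=
    complete_distinguished_triangle_morphism _ _ hT'' hT j h'
      (show (a' ≫ g') ≫ h' = j ≫ y by rw [Category.assoc, hgh, hψ₁])
  rw [CategoryTheory.Functor.map_id, Category.comp_id] at hγ₂
  have hz : (φ - γ ≫ δ) ≫ z = 0 := by
    rw [Preadditive.sub_comp, Category.assoc, ← hδ₂, ← Category.assoc, ← hγ₂, hcj, sub_self]
  obtain ⟨θ, hθ⟩ : ∃ θ : C ⟶ K, φ - γ ≫ δ = θ ≫ f :=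
    Triangle.coyoneda_exact₃ _ hT (φ - γ ≫ δ) hz
  obtain ⟨s₃, hs₃, E₃, g₃, h₃, hE₃, hgh₃⟩ := hK C hC θ
  have hs : (s₁ ∪ s₂ ∪ s₃).Nonempty := hs₃.mono Finset.subset_union_right
  refine ⟨s₁ ∪ s₂ ∪ s₃, hs, G ⊞ E₃, biprod.lift γ g₃, biprod.desc δ (h₃ ≫ f), ?_, ?_⟩
  · exact env_biprod E hs (env_mono E Finset.subset_union_left _ hG)
      (env_mono E Finset.subset_union_right _ hE₃)
  · rw [biprod.lift_desc, ← Category.assoc, hgh₃, ← hθ]
    abel

end Env

end Tri

end Groth.Agent.Lib27.CptEnv
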