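import Mathlib
import Groth.Agent.Lib27.Brown
import Groth.Agent.Lib27.CptEnv

/-!
# Brown representability for compactly generated triangulated categories
-/

set_option autoImplicit false
universe v u

open CategoryTheory CategoryTheory.Limits CategoryTheory.Pretriangulated Opposite
open scoped ZeroObject

namespace Groth.Agent.Lib27.BrownCpt

open Groth.Agent.Lib27.HFun Groth.Agent.Lib27.Tower Groth.Agent.Lib27.Brown
  Groth.Agent.Lib27.CptEnv

variable {D : Type u} [Category.{v} D] [Preadditive D] [HasZeroObject D] [HasShift D ℤ]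
  [∀ n : ℤ, (shiftFunctor D n).Additive] [Pretriangulated D] [HasCoproducts.{v} D]

omit [Preadditive D] [HasZeroObject D] [HasShift D ℤ] [∀ n : ℤ, (shiftFunctor D n).Additive]
  [Pretriangulated D] in
lemma hasColimitsOfShape_nat : HasColimitsOfShape (Discrete ℕ) D :=
  hasColimitsOfShape_of_equivalence
    (Discrete.equivalence Equiv.ulift : Discrete (ULift.{v} ℕ) ≌ Discrete ℕ)

section

variable [HasColimitsOfShape (Discrete ℕ) D]

omit [HasZeroObject D] [HasShift D ℤ] [∀ n : ℤ, (shiftFunctor D n).Additive]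
  [Pretriangulated D] in
/-- maps from a compact object to a countable coproduct factor through a "diagonal" map. -/
lemma exists_factor_nat {W : D} (hW : Cpt W) (Y : ℕ → D) (α : W ⟶ ∐ Y) :
    ∃ (β : ∀ n, W ⟶ Y n) (γ : W ⟶ ∐ (fun _ : ℕ => W)), α = γ ≫ Limits.Sigma.map β := by
  let ε : ULift.{v} ℕ ≃ ℕ := Equiv.ulift
  let r := Sigma.reindex ε Y
  obtain ⟨t, ht⟩ := hW (ULift.{v} ℕ) (Y ∘ ε) (α ≫ r.inv)
  let a : ∀ k : ULift.{v} ℕ, W ⟶ Y k.down := fun k => (α ≫ r.inv) ≫ Sigma.π (Y ∘ ε) k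
  have hα : α = ∑ k ∈ t, a k ≫ Sigma.ι Y k.down := by
    have h1 : α = ((α ≫ r.inv) ≫ proj (Y ∘ ε) t) ≫ r.hom := by
      rw [ht, Category.assoc, r.inv_hom_id, Category.comp_id]
    conv_lhs => rw [h1, proj_eq_sum', Preadditive.comp_sum, Preadditive.sum_comp]
    apply Finset.sum_congr rfl
    intro k _
    have h2 : Sigma.ι (Y ∘ ε) k ≫ r.hom = Sigma.ι Y k.down := Sigma.ι_reindex_hom ε Y k
    calc ((α ≫ r.inv) ≫ Sigma.π (Y ∘ ε) k ≫ Sigma.ι (Y ∘ ε) k) ≫ r.hom
        = ((α ≫ r.inv) ≫ Sigma.π (Y ∘ ε) k) ≫ (Sigma.ι (Y ∘ ε) k ≫ r.hom) := by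
          simp only [Category.assoc]
      _ = a k ≫ Sigma.ι Y k.down :=
          congrArg (fun z => ((α ≫ r.inv) ≫ Sigma.π (Y ∘ ε) k) ≫ z) h2
  refine ⟨fun n => if h : ULift.up n ∈ t then a (ULift.up n) else 0,
    ∑ k ∈ t, Sigma.ι (fun _ : ℕ => W) k.down, ?_⟩
  rw [hα, Preadditive.sum_comp]
  apply Finset.sum_congr rfl
  intro k hk
  rw [Sigma.ι_map]
  have : (ULift.up k.down : ULift.{v} ℕ) ∈ t := hk
  rw [dif_pos this]

end

section

variable {ι : Type v} (E : ι → D)

omit [HasCoproducts D] in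
lemma detects_of_generates (hg : CohDer.Generates E) : Detects (Esh E) := by
  intro K hK
  by_contra hcon
  apply hK
  apply hg
  intro i n f
  by_contra hf
  apply hcon
  let adj : shiftFunctor D (-n) ⊣ shiftFunctor D n := (shiftEquiv D n).symm.toAdjunction
  let g : (shiftFunctor D (-n)).obj (E i) ⟶ K := (adj.homEquiv _ _).symm f
  have hg' : g ≠ 0 := by
    intro h
    apply hf
    have := congrArg (adj.homEquiv _ _) h
    rw [Equiv.apply_symm_apply] at this
    rw [this, Adjunction.homEquiv_unit, Functor.map_zero, comp_zero]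
  exact ⟨(i, -n), g, hg'⟩

lemma factorProp_of_cpt [HasColimitsOfShape (Discrete ℕ) D] (hc : ∀ i, Cpt (E i)) :
    FactorProp (Esh E) := by
  rintro Y ⟨i, k⟩ α
  obtain ⟨β, γ, h⟩ := exists_factor_nat (cpt_shift (hc i) k) Y α
  exact ⟨fun _ => (i, k), β, γ, h⟩

variable (H : Dᵒᵖ ⥤ AddCommGrpCat.{v}) [H.IsHomological]
  [∀ (κ : Type v), PreservesLimitsOfShape (Discrete κ) H]

theorem isRepresentable_of_compactlyGenerated (hD : CohDer.IsCompactlyGenerated D) :
    (H ⋙ forget AddCommGrpCat.{v}).IsRepresentable := by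
  obtain ⟨ι, E, hc, hg⟩ := hD
  haveI : HasColimitsOfShape (Discrete ℕ) D := hasColimitsOfShape_nat
  exact isRepresentable H (Esh E) (detects_of_generates E hg)
    (factorProp_of_cpt E (fun i => cpt_of_isCompactObject (hc i)))

end

end Groth.Agent.Lib27.BrownCpt
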