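import Mathlib
import Groth.Prelude.Def_GrSyz
import Groth.Agent.Lib27.GrHilb1
import Groth.Agent.Lib27.GrHilb2

/-!
# The Hilbert function of a graded module from a finite graded free resolution
-/

set_option autoImplicit false
open MvPolynomial

universe u

namespace Groth.Agent.Lib27.GrHilb

variable (k : Type u) [Field k] (r : ℕ)
  {M : Type u} [AddCommGroup M] [Module k M] [Module (MvPolynomial (Fin (r + 1)) k) M]
  [IsScalarTower k (MvPolynomial (Fin (r + 1)) k) M]
  (ℳ : ℤ → Submodule k M) [DirectSum.Decomposition ℳ]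
  [SetLike.GradedSMul (GrSyz.stdGr k (Fin (r + 1))) ℳ]
  (F : GrSyz.FreeRes (GrSyz.stdGr k (Fin (r + 1))) ℳ) (d : ℤ)

/-- the degree `d` piece of the `i`-th term of the resolution. -/
abbrev V (i : ℕ) := Piece (GrSyz.stdGr k (Fin (r + 1))) (F.deg i) d

/-- the differential in degree `d`. -/
noncomputable def δ' (i : ℕ) : V k r ℳ F d (i + 1) →ₗ[k] V k r ℳ F d i :=
  (projP (GrSyz.stdGr k (Fin (r + 1))) (F.deg i) d).comp
    (((F.dLin i).restrictScalars k).comp (incl (GrSyz.stdGr k (Fin (r + 1))) (F.deg (i + 1)) d))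

lemma incl_δ' (i : ℕ) (v : V k r ℳ F d (i + 1)) :
    incl (GrSyz.stdGr k (Fin (r + 1))) (F.deg i) d (δ' k r ℳ F d i v) =
      (F.d i).mulVec (incl (GrSyz.stdGr k (Fin (r + 1))) (F.deg (i + 1)) d v) :=
  incl_projP_of_mem _ _ _ _
    (mulVec_mem (GrSyz.stdGr k (Fin (r + 1))) (F.deg i) (F.deg (i + 1)) d (F.d i) (F.d_mem i) v)

lemma δ'_projP (i : ℕ) (w : Fin (F.rk (i + 1)) → MvPolynomial (Fin (r + 1)) k) :
    δ' k r ℳ F d i (projP (GrSyz.stdGr k (Fin (r + 1))) (F.deg (i + 1)) d w) =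
      projP (GrSyz.stdGr k (Fin (r + 1))) (F.deg i) d ((F.d i).mulVec w) :=
  (projP_mulVec (GrSyz.stdGr k (Fin (r + 1))) (F.deg i) (F.deg (i + 1)) d (F.d i)
    (F.d_mem i) w).symm

lemma range_δ'_succ (i : ℕ) :
    LinearMap.range (δ' k r ℳ F d (i + 1)) = LinearMap.ker (δ' k r ℳ F d i) := by
  apply le_antisymm
  · rintro _ ⟨v, rfl⟩
    rw [LinearMap.mem_ker]
    apply incl_injective (GrSyz.stdGr k (Fin (r + 1))) (F.deg i) d
    rw [incl_δ', incl_δ', map_zero]
    have : (F.d (i + 1)).mulVec (incl (GrSyz.stdGr k (Fin (r + 1))) (F.deg (i + 1 + 1)) d v) ∈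
        LinearMap.ker (Matrix.mulVecLin (F.d i)) := by
      rw [F.exact_succ i]
      exact ⟨_, rfl⟩
    exact this
  · intro v hv
    rw [LinearMap.mem_ker] at hv
    have h1 : incl (GrSyz.stdGr k (Fin (r + 1))) (F.deg (i + 1)) d v ∈
        LinearMap.ker (Matrix.mulVecLin (F.d i)) := by
      rw [LinearMap.mem_ker, Matrix.mulVecLin_apply, ← incl_δ', hv, map_zero]
    rw [F.exact_succ i] at h1
    obtain ⟨w, hw⟩ := h1
    refine ⟨projP (GrSyz.stdGr k (Fin (r + 1))) (F.deg (i + 1 + 1)) d w, ?_⟩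
    rw [δ'_projP, ← Matrix.mulVecLin_apply, hw, projP_incl]

lemma aug_mem (v : V k r ℳ F d 0) :
    F.augLin (incl (GrSyz.stdGr k (Fin (r + 1))) (F.deg 0) d v) ∈ ℳ d := by
  rw [Fintype.linearCombination_apply]
  apply Submodule.sum_mem
  intro b _
  have := SetLike.GradedSMul.smul_mem (v b).2 (F.aug_mem b)
  rw [vadd_eq_add, sub_add_cancel] at this
  exact this

/-- the augmentation in degree `d`. -/
noncomputable def ε' : V k r ℳ F d 0 →ₗ[k] ↥(ℳ d) :=
  (projToM ℳ d).comp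
    ((F.augLin.restrictScalars k).comp (incl (GrSyz.stdGr k (Fin (r + 1))) (F.deg 0) d))

lemma coe_ε' (v : V k r ℳ F d 0) :
    (ε' k r ℳ F d v : M) = F.augLin (incl (GrSyz.stdGr k (Fin (r + 1))) (F.deg 0) d v) :=
  projToM_of_mem ℳ (aug_mem k r ℳ F d v)

lemma ε'_projP (w : Fin (F.rk 0) → MvPolynomial (Fin (r + 1)) k) :
    ε' k r ℳ F d (projP (GrSyz.stdGr k (Fin (r + 1))) (F.deg 0) d w) =
      projToM ℳ d (F.augLin w) := by
  apply Subtype.ext
  rw [coe_ε', Fintype.linearCombination_apply, Fintype.linearCombination_apply, map_sum,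
    AddSubmonoidClass.coe_finset_sum]
  refine Finset.sum_congr rfl fun b _ => ?_
  rw [projToM_smul_of_mem (GrSyz.stdGr k (Fin (r + 1))) ℳ (w b) (F.aug_mem b), incl_apply,
    projP_apply]

lemma ε'_surjective : Function.Surjective (ε' k r ℳ F d) := by
  intro x
  obtain ⟨w, hw⟩ := F.aug_surjective (x : M)
  refine ⟨projP (GrSyz.stdGr k (Fin (r + 1))) (F.deg 0) d w, ?_⟩
  rw [ε'_projP]
  apply Subtype.ext
  have : F.augLin w = (x : M) := hw
  rw [this]
  exact projToM_of_mem ℳ x.2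

lemma range_δ'_zero :
    LinearMap.range (δ' k r ℳ F d 0) = LinearMap.ker (ε' k r ℳ F d) := by
  apply le_antisymm
  · rintro _ ⟨v, rfl⟩
    rw [LinearMap.mem_ker]
    apply Subtype.ext
    rw [coe_ε', incl_δ']
    have : (F.d 0).mulVec (incl (GrSyz.stdGr k (Fin (r + 1))) (F.deg (0 + 1)) d v) ∈
        LinearMap.ker (Fintype.linearCombination (MvPolynomial (Fin (r + 1)) k) F.aug) := by
      rw [F.exact_zero]
      exact ⟨_, rfl⟩
    exact this
  · intro v hv
    rw [LinearMap.mem_ker] at hv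
    have h1 : incl (GrSyz.stdGr k (Fin (r + 1))) (F.deg 0) d v ∈
        LinearMap.ker (Fintype.linearCombination (MvPolynomial (Fin (r + 1)) k) F.aug) := by
      rw [LinearMap.mem_ker]
      have := coe_ε' k r ℳ F d v
      rw [hv] at this
      exact this.symm
    rw [F.exact_zero] at h1
    obtain ⟨w, hw⟩ := h1
    refine ⟨projP (GrSyz.stdGr k (Fin (r + 1))) (F.deg (0 + 1)) d w, ?_⟩
    rw [δ'_projP, ← Matrix.mulVecLin_apply, hw, projP_incl]

lemma finrank_V (i : ℕ) :
    Module.finrank k (V k r ℳ F d i) =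
      ∑ b : Fin (F.rk i),
        (if F.deg i b ≤ d then Nat.choose (r + (d - F.deg i b).toNat) r else 0) := by
  rw [Module.finrank_pi_fintype]
  refine Finset.sum_congr rfl fun b _ => ?_
  rw [finrank_stdGr]
  simp only [sub_nonneg]

lemma alt_sum_aux (v κ : ℕ → ℤ) (μ : ℤ) (h0 : v 0 = μ + κ 0)
    (hs : ∀ i, v (i + 1) = κ (i + 1) + κ i) (n : ℕ) :
    ∑ i ∈ Finset.range (n + 1), (-1 : ℤ) ^ i * v i = μ + (-1 : ℤ) ^ n * κ n := by
  induction n with
  | zero => simp [h0]
  | succ n ih =>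
    rw [Finset.sum_range_succ, ih, hs, pow_succ]
    ring

theorem hilbert_formula (m : ℕ) (hF : F.HasLengthLE m) :
    (Module.finrank k ↥(ℳ d) : ℤ) =
      ∑ i ∈ Finset.range (m + 1), (-1 : ℤ) ^ i * ∑ b : Fin (F.rk i),
        (if F.deg i b ≤ d then ((Nat.choose (r + (d - F.deg i b).toNat) r : ℕ) : ℤ) else 0) := by
  set κ : ℕ → ℤ := fun i => match i with
    | 0 => (Module.finrank k (LinearMap.ker (ε' k r ℳ F d)) : ℤ)
    | (i + 1) => (Module.finrank k (LinearMap.ker (δ' k r ℳ F d i)) : ℤ) with hκ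
  have hv : ∀ i, (Module.finrank k (V k r ℳ F d i) : ℤ) = ∑ b : Fin (F.rk i),
      (if F.deg i b ≤ d then ((Nat.choose (r + (d - F.deg i b).toNat) r : ℕ) : ℤ) else 0) := by
    intro i
    rw [finrank_V]
    push_cast
    refine Finset.sum_congr rfl fun b _ => ?_
    split_ifs <;> simp
  have h0 : (Module.finrank k (V k r ℳ F d 0) : ℤ) =
      (Module.finrank k ↥(ℳ d) : ℤ) + κ 0 := by
    have := LinearMap.finrank_range_add_finrank_ker (ε' k r ℳ F d)
    rw [LinearMap.range_eq_top.2 (ε'_surjective k r ℳ F d), finrank_top] at this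
    show _ = _ + (Module.finrank k (LinearMap.ker (ε' k r ℳ F d)) : ℤ)
    exact_mod_cast this.symm
  have hs : ∀ i, (Module.finrank k (V k r ℳ F d (i + 1)) : ℤ) = κ (i + 1) + κ i := by
    intro i
    have := LinearMap.finrank_range_add_finrank_ker (δ' k r ℳ F d i)
    rcases i with _ | i
    · rw [range_δ'_zero] at this
      show _ = (Module.finrank k (LinearMap.ker (δ' k r ℳ F d 0)) : ℤ) +
        (Module.finrank k (LinearMap.ker (ε' k r ℳ F d)) : ℤ)
      omega
    · rw [range_δ'_succ] at this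
      show _ = (Module.finrank k (LinearMap.ker (δ' k r ℳ F d (i + 1))) : ℤ) +
        (Module.finrank k (LinearMap.ker (δ' k r ℳ F d i)) : ℤ)
      omega
  have hκ0 : ∀ i, 0 ≤ κ i := by
    intro i
    rcases i with _ | i
    · exact Int.natCast_nonneg _
    · exact Int.natCast_nonneg _
  have hvm : (Module.finrank k (V k r ℳ F d (m + 1)) : ℤ) = 0 := by
    haveI : IsEmpty (Fin (F.rk (m + 1))) := by
      rw [hF (m + 1) (by omega)]
      infer_instance
    rw [Module.finrank_zero_of_subsingleton]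
    rfl
  have hκm : κ m = 0 := by
    have h1 := hs m
    rw [hvm] at h1
    have h2 := hκ0 m
    have h3 := hκ0 (m + 1)
    omega
  have := alt_sum_aux (fun i => (Module.finrank k (V k r ℳ F d i) : ℤ)) κ
    (Module.finrank k ↥(ℳ d) : ℤ) h0 hs m
  rw [hκm, mul_zero, add_zero] at this
  rw [← this]
  refine Finset.sum_congr rfl fun i _ => ?_
  rw [hv i]

end Groth.Agent.Lib27.GrHilb
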