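import Mathlib
import Groth.Prelude.Def_GrSyz
import Groth.Agent.Lib27.GrHilb3

/-!
# The Hilbert polynomial from a finite graded free resolution
-/

set_option autoImplicit false
open MvPolynomial

universe u

namespace Groth.Agent.Lib27.GrHilb

/-- the polynomial `e ↦ C(e + r, r)`. -/
noncomputable def Q (r : ℕ) : Polynomial ℚ :=
  Polynomial.C ((r.factorial : ℚ)⁻¹) *
    ∏ t ∈ Finset.range r, (Polynomial.X + Polynomial.C ((t : ℚ) + 1))

lemma Q_eval (r : ℕ) (x : ℚ) :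
    (Q r).eval x = (r.factorial : ℚ)⁻¹ * ∏ t ∈ Finset.range r, (x + ((t : ℚ) + 1)) := by
  unfold Q
  rw [Polynomial.eval_mul, Polynomial.eval_C, Polynomial.eval_prod]
  simp

lemma Q_eval_nat (r n : ℕ) : (Q r).eval (n : ℚ) = ((Nat.choose (r + n) r : ℕ) : ℚ) := by
  rw [Q_eval]
  have h1 : ∏ t ∈ Finset.range r, ((n : ℚ) + ((t : ℚ) + 1)) =
      (((n + 1).ascFactorial r : ℕ) : ℚ) := by
    rw [Nat.ascFactorial_eq_prod_range]
    push_cast
    refine Finset.prod_congr rfl fun t _ => ?_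
    ring
  rw [h1, Nat.ascFactorial_eq_factorial_mul_choose, Nat.cast_mul, ← mul_assoc,
    inv_mul_cancel₀ (by exact_mod_cast (Nat.factorial_pos r).ne'), one_mul, add_comm]

lemma Q_eval_neg (r : ℕ) (e : ℤ) (he : e < 0) (her : -(r : ℤ) ≤ e) : (Q r).eval (e : ℚ) = 0 := by
  rw [Q_eval]
  have hmem : (-e - 1).toNat ∈ Finset.range r := by
    rw [Finset.mem_range]
    omega
  rw [Finset.prod_eq_zero hmem, mul_zero]
  have h : (((-e - 1).toNat : ℤ) : ℚ) = ((-e - 1 : ℤ) : ℚ) := by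
    rw [Int.toNat_of_nonneg (by omega)]
  have h' : (((-e - 1).toNat : ℕ) : ℚ) = (((-e - 1).toNat : ℤ) : ℚ) := by
    push_cast
    rfl
  rw [h', h]
  push_cast
  ring

lemma Q_eval_int (r : ℕ) (e : ℤ) (her : -(r : ℤ) ≤ e) :
    (Q r).eval (e : ℚ) = (((if 0 ≤ e then ((Nat.choose (r + e.toNat) r : ℕ) : ℤ) else 0 : ℤ)) : ℚ) := by
  split_ifs with h
  · obtain ⟨n, rfl⟩ := Int.eq_ofNat_of_zero_le h
    rw [Int.toNat_natCast]
    push_cast
    exact Q_eval_nat r n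
  · rw [Q_eval_neg r e (by omega) her]
    simp

variable (k : Type u) [Field k] (r : ℕ)
  {M : Type u} [AddCommGroup M] [Module k M] [Module (MvPolynomial (Fin (r + 1)) k) M]
  [IsScalarTower k (MvPolynomial (Fin (r + 1)) k) M]
  (ℳ : ℤ → Submodule k M) [DirectSum.Decomposition ℳ]
  [SetLike.GradedSMul (GrSyz.stdGr k (Fin (r + 1))) ℳ]
  (F : GrSyz.FreeRes (GrSyz.stdGr k (Fin (r + 1))) ℳ)

theorem hilbert_polynomial (m : ℕ) (hF : F.HasLengthLE m) :
    ∃ P : Polynomial ℚ, ∀ d : ℤ, (∀ (i : ℕ) (b : Fin (F.rk i)), F.deg i b - (r : ℤ) ≤ d) →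
      ((Module.finrank k ↥(ℳ d) : ℤ) : ℚ) = P.eval (d : ℚ) := by
  refine ⟨∑ i ∈ Finset.range (m + 1), Polynomial.C ((-1 : ℚ) ^ i) *
    ∑ b : Fin (F.rk i), (Q r).comp (Polynomial.X - Polynomial.C ((F.deg i b : ℤ) : ℚ)), ?_⟩
  intro d hd
  rw [hilbert_formula k r ℳ F d m hF, Polynomial.eval_finset_sum]
  push_cast
  refine Finset.sum_congr rfl fun i _ => ?_
  rw [Polynomial.eval_mul, Polynomial.eval_C, Polynomial.eval_finset_sum]
  congr 1
  refine Finset.sum_congr rfl fun b _ => ?_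
  rw [Polynomial.eval_comp, Polynomial.eval_sub, Polynomial.eval_X, Polynomial.eval_C]
  have h := Q_eval_int r (d - F.deg i b) (by have := hd i b; omega)
  rw [Int.cast_sub] at h
  rw [h]
  simp only [sub_nonneg]
  split_ifs <;> simp

end Groth.Agent.Lib27.GrHilb
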