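import Groth.Agent.Lib27.ABGr
import Groth.Agent.Lib27.GrHilb5
import Groth.Agent.Lib.Helper16.LocCohGrothVanish

/-!
# Sharpness of the Hilbert function bound for Cohen–Macaulay graded modules
-/

set_option autoImplicit false
set_option linter.unusedSectionVars false
set_option linter.unusedVariables false
set_option linter.style.haveILetI false

universe u

namespace Groth.Agent.Lib27.CMHilb

open Groth.Agent.Lib27.GrMin Groth.Agent.Lib27.Syz Groth.Agent.Lib27.RegA Matrix MvPolynomial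
  GrLC Groth.Agent.Lib.Helper11.GrConv Groth.Agent.Lib27.LD Groth.Agent.Lib27.CMReg
  Groth.Agent.Lib.Helper11.GrLCLib Groth.Agent.Lib27.ABGr Groth.Agent.Lib27.GrHilb

variable {k : Type u} [Field k] {r : ℕ}
  {M : Type u} [AddCommGroup M] [Module k M] [Module (MvPolynomial (Fin (r + 1)) k) M]
  {ℳ : ℤ → Submodule k M} [DirectSum.Decomposition ℳ]
  [SetLike.GradedSMul (GrSyz.stdGr k (Fin (r + 1))) ℳ]

/-- a basis covector which is a cocycle is not a coboundary, by minimality. -/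
lemma not_coVan_of_cocycle (F : GrSyz.FreeRes (GrSyz.stdGr k (Fin (r + 1))) ℳ)
    (hF : F.IsMinimal (GrSyz.irrel (GrSyz.stdGr k (Fin (r + 1)))).toIdeal) (j : ℕ)
    (b : Fin (F.rk j))
    (hcyc : (Pi.single b 1 : Fin (F.rk j) → MvPolynomial (Fin (r + 1)) k) ᵥ* F.d j = 0) :
    ¬ CoVan (toCo F) j (-F.deg j b) := by
  classical
  intro hvan
  set v : Fin (F.rk j) → MvPolynomial (Fin (r + 1)) k := Pi.single b 1 with hv
  have hvco : IsCo (GrSyz.stdGr k (Fin (r + 1))) (F.deg j) (-F.deg j b) v := by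
    intro b'
    by_cases hb : b' = b
    · subst hb
      rw [hv, Pi.single_eq_same, neg_add_cancel]
      exact SetLike.GradedOne.one_mem
    · rw [hv, Pi.single_eq_of_ne hb]
      exact zero_mem _
  have hvb : v b = 1 := by rw [hv, Pi.single_eq_same]
  cases j with
  | zero =>
    have h0 : v = 0 := hvan v hvco hcyc
    rw [h0] at hvb
    exact zero_ne_one hvb
  | succ p' =>
    obtain ⟨w, _, hwv⟩ := hvan v hvco hcyc
    apply one_notMem_irrel k r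
    rw [← hvb, ← hwv]
    show ∑ a, w a * F.d p' a b ∈ _
    refine Ideal.sum_mem _ fun a _ => ?_
    exact Ideal.mul_mem_left _ _ (hF p' a b)

/-- where the dual complex is exact, generator degrees strictly increase. -/
lemma exists_deg_succ (F : GrSyz.FreeRes (GrSyz.stdGr k (Fin (r + 1))) ℳ)
    (hF : F.IsMinimal (GrSyz.irrel (GrSyz.stdGr k (Fin (r + 1)))).toIdeal) (j : ℕ)
    (hco : ∀ e, CoVan (toCo F) j e) (b : Fin (F.rk j)) :
    ∃ c : Fin (F.rk (j + 1)), F.deg j b + 1 ≤ F.deg (j + 1) c := by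
  classical
  by_contra h
  push Not at h
  refine not_coVan_of_cocycle F hF j b ?_ (hco _)
  funext c
  rw [Matrix.single_one_vecMul]
  show F.d j b c = 0
  exact eq_zero_of_mem_irrel_of_le (by have := h c; omega) (F.d_mem j b c) (hF j b c)

lemma exists_deg_add (F : GrSyz.FreeRes (GrSyz.stdGr k (Fin (r + 1))) ℳ)
    (hF : F.IsMinimal (GrSyz.irrel (GrSyz.stdGr k (Fin (r + 1)))).toIdeal) (ℓ : ℕ)
    (hco : ∀ j, j < ℓ → ∀ e, CoVan (toCo F) j e) (i : ℕ) (b : Fin (F.rk i)) :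
    ∀ (s j' : ℕ), j' = i + s → j' ≤ ℓ → ∃ c : Fin (F.rk j'), F.deg i b + s ≤ F.deg j' c := by
  intro s
  induction s with
  | zero =>
    intro j' hj' _
    subst hj'
    exact ⟨b, by simp⟩
  | succ s ih =>
    intro j' hj' hle
    subst hj'
    obtain ⟨c', hc'⟩ := ih (i + s) rfl (by omega)
    obtain ⟨c'', hc''⟩ := exists_deg_succ F hF (i + s) (hco (i + s) (by omega)) c'
    refine ⟨c'', ?_⟩
    have : F.deg (i + s + 1) c'' = F.deg (i + (s + 1)) c'' := rfl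
    push_cast
    omega

/-- for a Cohen–Macaulay module the dual of the minimal resolution is exact below the top. -/
lemma coVan_of_CM [Module.Finite (MvPolynomial (Fin (r + 1)) k) M]
    (hCM : Module.supportDim (MvPolynomial (Fin (r + 1)) k) M =
      ((LocCoh.idealDepth (GrSyz.irrel (GrSyz.stdGr k (Fin (r + 1)))).toIdeal M : ℕ∞) :
        WithBot ℕ∞))
    (F : GrSyz.FreeRes (GrSyz.stdGr k (Fin (r + 1))) ℳ)
    (hF : F.IsMinimal (GrSyz.irrel (GrSyz.stdGr k (Fin (r + 1)))).toIdeal)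
    (ℓ : ℕ) (hℓ : F.HasLengthLE ℓ) (hℓ' : F.rk ℓ ≠ 0) (p : ℕ) (hp : p < ℓ) (e : ℤ) :
    CoVan (toCo F) p e := by
  obtain ⟨E⟩ := nonempty_starInjRes_std k r ℳ
  have hlen := hasLengthLE_of_isMinimal k r ℳ F hF
  have hℓle : ℓ ≤ r + 1 := by
    by_contra hlt
    push Not at hlt
    exact hℓ' (hlen ℓ hlt)
  obtain ⟨t, ht⟩ : ∃ t, ℓ + t = r + 1 := ⟨r + 1 - ℓ, by omega⟩
  have hAB := ABGr.main F hF ℓ hℓ hℓ'
  have hD : LocCoh.idealDepth (GrSyz.irrel (GrSyz.stdGr k (Fin (r + 1)))).toIdeal M = (t : ℕ∞) := by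
    apply ENat.add_right_injective_of_ne_top (ENat.coe_ne_top ℓ)
    show (ℓ : ℕ∞) + _ = (ℓ : ℕ∞) + (t : ℕ∞)
    rw [hAB]
    exact_mod_cast ht.symm
  rw [hD] at hCM
  obtain ⟨i, hi⟩ : ∃ i, p + i = r + 1 := ⟨r + 1 - p, by omega⟩
  rw [← ld_poly F E p i hi (-e - ((r + 1 : ℕ) : ℤ)) e (by ring)]
  have hs : Subsingleton (LocCoh.H (GrSyz.irrel (GrSyz.stdGr k (Fin (r + 1)))).toIdeal i M) := by
    apply Groth.Agent.Lib.Helper16.LC.subsingleton_H_of_supportDim_lt _ M (t + 1) _ i (by omega)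
    rw [hCM]
    exact_mod_cast Nat.lt_succ_self t
  obtain ⟨eq⟩ := nonempty_H_equiv_std E (GrSyz.irrel (GrSyz.stdGr k (Fin (r + 1)))) i
  have hs' : Subsingleton (E.H (GrSyz.irrel (GrSyz.stdGr k (Fin (r + 1)))) i) :=
    eq.toEquiv.subsingleton
  intro x _
  exact Subsingleton.elim _ _

/-- `Q r` at `-r-1`. -/
lemma Q_eval_bottom (r : ℕ) : (Q r).eval ((-(r : ℤ) - 1 : ℤ) : ℚ) = (-1 : ℚ) ^ r := by
  rw [Q_eval]
  have h1 : ∏ t ∈ Finset.range r, ((((-(r : ℤ) - 1 : ℤ)) : ℚ) + ((t : ℚ) + 1)) =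
      (-1 : ℚ) ^ r * (r.factorial : ℚ) := by
    have h2 : ∀ t ∈ Finset.range r, ((((-(r : ℤ) - 1 : ℤ)) : ℚ) + ((t : ℚ) + 1)) =
        -1 * ((((r - 1 - t : ℕ) : ℚ)) + 1) := by
      intro t ht
      rw [Finset.mem_range] at ht
      have : ((r - 1 - t : ℕ) : ℚ) = (r : ℚ) - 1 - t := by
        rw [Nat.cast_sub (by omega), Nat.cast_sub (by omega)]
        simp
      rw [this]
      push_cast
      ring
    rw [Finset.prod_congr rfl h2, Finset.prod_mul_distrib, Finset.prod_const, Finset.card_range,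
      Finset.prod_range_reflect (fun j => ((j : ℚ) + 1)) r]
    congr 1
    exact_mod_cast Finset.prod_range_add_one_eq_factorial r
  rw [h1]
  have : (r.factorial : ℚ) ≠ 0 := by exact_mod_cast (Nat.factorial_pos r).ne'
  field_simp

/-- **Sharpness** of the bound `reg + pd - n` for Cohen–Macaulay modules. -/
theorem main [IsScalarTower k (MvPolynomial (Fin (r + 1)) k) M]
    [Module.Finite (MvPolynomial (Fin (r + 1)) k) M]
    (hCM : Module.supportDim (MvPolynomial (Fin (r + 1)) k) M =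
      ((LocCoh.idealDepth (GrSyz.irrel (GrSyz.stdGr k (Fin (r + 1)))).toIdeal M : ℕ∞) :
        WithBot ℕ∞))
    (F : GrSyz.FreeRes (GrSyz.stdGr k (Fin (r + 1))) ℳ)
    (hF : F.IsMinimal (GrSyz.irrel (GrSyz.stdGr k (Fin (r + 1)))).toIdeal)
    (ℓ : ℕ) (hℓ : F.HasLengthLE ℓ) (hℓ' : F.rk ℓ ≠ 0)
    (ρ : ℤ) (hρ : F.IsGenLE ρ) (hρ' : ∃ (i : ℕ) (b : Fin (F.rk i)), F.deg i b = ρ + i)
    (P : Polynomial ℚ) (hP : ∃ d₁ : ℤ, ∀ d : ℤ, d₁ ≤ d →
      ((Module.finrank k ↥(ℳ d) : ℤ) : ℚ) = P.eval (d : ℚ)) :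
    ((Module.finrank k ↥(ℳ (ρ + ℓ - r - 1)) : ℤ) : ℚ) ≠ P.eval ((ρ + ℓ - r - 1 : ℤ) : ℚ) := by
  classical
  -- a top generator in the last term
  obtain ⟨i₀, b₀, hb₀⟩ := hρ'
  have hi₀ : i₀ ≤ ℓ := by
    by_contra hlt
    push Not at hlt
    have := hℓ i₀ hlt
    exact absurd b₀.2 (by omega)
  obtain ⟨c, hc⟩ := exists_deg_add F hF ℓ
    (fun j hj e => coVan_of_CM hCM F hF ℓ hℓ hℓ' j hj e) i₀ b₀ (ℓ - i₀) ℓ (by omega) le_rfl
  have hcρ : F.deg ℓ c = ρ + ℓ := by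
    have h1 := hρ ℓ c
    have h2 : ((ℓ - i₀ : ℕ) : ℤ) = (ℓ : ℤ) - i₀ := by omega
    omega
  -- the polynomial
  obtain ⟨PF, hPF⟩ : ∃ PF : Polynomial ℚ, PF = ∑ i ∈ Finset.range (ℓ + 1),
      Polynomial.C ((-1 : ℚ) ^ i) * ∑ b : Fin (F.rk i),
        (Q r).comp (Polynomial.X - Polynomial.C ((F.deg i b : ℤ) : ℚ)) := ⟨_, rfl⟩
  have hPFeval : ∀ d : ℤ, PF.eval (d : ℚ) = ∑ i ∈ Finset.range (ℓ + 1), (-1 : ℚ) ^ i *
      ∑ b : Fin (F.rk i), (Q r).eval (((d - F.deg i b : ℤ)) : ℚ) := by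
    intro d
    rw [hPF, Polynomial.eval_finset_sum]
    refine Finset.sum_congr rfl fun i _ => ?_
    rw [Polynomial.eval_mul, Polynomial.eval_C, Polynomial.eval_finset_sum]
    congr 1
    refine Finset.sum_congr rfl fun b _ => ?_
    rw [Polynomial.eval_comp, Polynomial.eval_sub, Polynomial.eval_X, Polynomial.eval_C,
      Int.cast_sub]
  have hH : ∀ d : ℤ, ((Module.finrank k ↥(ℳ d) : ℤ) : ℚ) =
      ∑ i ∈ Finset.range (ℓ + 1), (-1 : ℚ) ^ i * ∑ b : Fin (F.rk i),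
        (((if F.deg i b ≤ d then ((Nat.choose (r + (d - F.deg i b).toNat) r : ℕ) : ℤ) else 0 : ℤ)) : ℚ) := by
    intro d
    rw [hilbert_formula k r ℳ F d ℓ hℓ]
    push_cast
    rfl
  -- agreement for large d
  have hterm : ∀ (d : ℤ) (i : ℕ) (b : Fin (F.rk i)), -(r : ℤ) ≤ d - F.deg i b →
      (Q r).eval (((d - F.deg i b : ℤ)) : ℚ) =
        (((if F.deg i b ≤ d then ((Nat.choose (r + (d - F.deg i b).toNat) r : ℕ) : ℤ) else 0 : ℤ)) : ℚ) := by
    intro d i b h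
    rw [Q_eval_int r (d - F.deg i b) h]
    simp only [sub_nonneg]
  have hlarge : ∀ d : ℤ, ρ + ℓ - r ≤ d →
      ((Module.finrank k ↥(ℳ d) : ℤ) : ℚ) = PF.eval (d : ℚ) := by
    intro d hd
    rw [hH, hPFeval]
    refine Finset.sum_congr rfl fun i hi => ?_
    congr 1
    refine Finset.sum_congr rfl fun b _ => ?_
    rw [Finset.mem_range] at hi
    have h1 := hρ i b
    rw [hterm d i b (by omega)]
  have hPeq : P = PF := by
    obtain ⟨d₁, hd₁⟩ := hP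
    apply Polynomial.eq_of_infinite_eval_eq
    apply Set.infinite_of_injective_forall_mem
      (f := fun m : ℕ => (((max d₁ (ρ + ℓ - r) + m : ℤ)) : ℚ))
    · intro m m' h
      have h' : (max d₁ (ρ + ℓ - r) + (m : ℤ)) = max d₁ (ρ + ℓ - r) + (m' : ℤ) :=
        Int.cast_injective h
      omega
    · intro m
      have h1 := le_max_left d₁ (ρ + ℓ - r)
      have h2 := le_max_right d₁ (ρ + ℓ - r)
      show P.eval _ = PF.eval _
      rw [← hd₁ _ (by omega), ← hlarge _ (by omega)]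
  rw [hPeq, hH, hPFeval]
  intro heq
  obtain ⟨d₀, hd₀⟩ : ∃ d₀ : ℤ, d₀ = ρ + ℓ - r - 1 := ⟨_, rfl⟩
  rw [← hd₀] at heq
  have hdiff : ∑ i ∈ Finset.range (ℓ + 1), (-1 : ℚ) ^ i * ∑ b : Fin (F.rk i),
      ((Q r).eval (((d₀ - F.deg i b : ℤ)) : ℚ) -
        (((if F.deg i b ≤ d₀ then ((Nat.choose (r + (d₀ - F.deg i b).toNat) r : ℕ) : ℤ) else 0 : ℤ)) : ℚ)) = 0 := by
    simp only [Finset.sum_sub_distrib, mul_sub]
    rw [heq, sub_self]
  have hlow : ∀ i ∈ Finset.range (ℓ + 1), i ≠ ℓ → (-1 : ℚ) ^ i * ∑ b : Fin (F.rk i),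
      ((Q r).eval (((d₀ - F.deg i b : ℤ)) : ℚ) -
        (((if F.deg i b ≤ d₀ then ((Nat.choose (r + (d₀ - F.deg i b).toNat) r : ℕ) : ℤ) else 0 : ℤ)) : ℚ)) = 0 := by
    intro i hi hne
    rw [Finset.mem_range] at hi
    rw [Finset.sum_eq_zero, mul_zero]
    intro b _
    have h1 := hρ i b
    rw [hterm d₀ i b (by omega), sub_self]
  rw [Finset.sum_eq_single_of_mem ℓ (Finset.mem_range.2 (Nat.lt_succ_self ℓ))
    (fun i hi hne => hlow i hi hne)] at hdiff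
  have htop : ∀ b : Fin (F.rk ℓ), ((Q r).eval (((d₀ - F.deg ℓ b : ℤ)) : ℚ) -
        (((if F.deg ℓ b ≤ d₀ then ((Nat.choose (r + (d₀ - F.deg ℓ b).toNat) r : ℕ) : ℤ) else 0 : ℤ)) : ℚ)) =
      if F.deg ℓ b = ρ + ℓ then (-1 : ℚ) ^ r else 0 := by
    intro b
    have h1 := hρ ℓ b
    by_cases hb : F.deg ℓ b = ρ + ℓ
    · have e1 : d₀ - F.deg ℓ b = -(r : ℤ) - 1 := by omega
      rw [if_pos hb, if_neg (by omega), e1, Q_eval_bottom]
      simp
    · rw [if_neg hb, hterm d₀ ℓ b (by omega), sub_self]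
  rw [Finset.sum_congr rfl (fun b _ => htop b), Finset.sum_ite, Finset.sum_const_zero, add_zero,
    Finset.sum_const, nsmul_eq_mul] at hdiff
  have hcard : 0 < (Finset.univ.filter (fun b : Fin (F.rk ℓ) => F.deg ℓ b = ρ + ℓ)).card := by
    apply Finset.card_pos.2
    exact ⟨c, by simp [hcρ]⟩
  have hne1 : ((-1 : ℚ) ^ ℓ) ≠ 0 := pow_ne_zero _ (by norm_num)
  have hne2 : ((-1 : ℚ) ^ r) ≠ 0 := pow_ne_zero _ (by norm_num)
  have hne3 : (((Finset.univ.filter (fun b : Fin (F.rk ℓ) => F.deg ℓ b = ρ + ℓ)).card : ℕ) : ℚ) ≠ 0 := by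
    exact_mod_cast hcard.ne'
  exact mul_ne_zero hne1 (mul_ne_zero hne3 hne2) hdiff

end Groth.Agent.Lib27.CMHilb
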