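import Mathlib
import Groth.Agent.Lib27.RegA2

/-!
# A Mumford-type lemma for cochain complexes of graded free modules over polynomial rings

If the cohomology `H^p` of a complex of graded free modules over `k[x_1..x_N]` vanishes in degree
`c - p` for all `p < N`, it vanishes in degree `c - 1 - p` for all `p < N`.
-/

set_option autoImplicit false

universe u

namespace Groth.Agent.Lib27.CMReg

open Groth.Agent.Lib27.GrMin Groth.Agent.Lib27.Syz Groth.Agent.Lib27.RegA Matrix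

section Defs

variable {k : Type*} [CommRing k] {S : Type*} [CommRing S] [Algebra k S]
  (𝒜 : ℤ → Submodule k S)

/-- cochain complexes of graded free modules in matrix form (acting on row vectors). -/
structure CoCx where
  /-- ranks -/
  rk : ℕ → ℕ
  /-- degrees -/
  deg : (i : ℕ) → Fin (rk i) → ℤ
  /-- matrices -/
  d : (i : ℕ) → Matrix (Fin (rk i)) (Fin (rk (i + 1))) S
  d_mem : ∀ i a b, d i a b ∈ 𝒜 (deg (i + 1) b - deg i a)
  dd : ∀ i (v : Fin (rk i) → S), (v ᵥ* d i) ᵥ* d (i + 1) = 0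

/-- covectors of degree `e`. -/
def IsCo {n : ℕ} (deg : Fin n → ℤ) (e : ℤ) (v : Fin n → S) : Prop :=
  ∀ b, v b ∈ 𝒜 (e + deg b)

variable {𝒜}

lemma IsCo.congr {n : ℕ} {deg : Fin n → ℤ} {e e' : ℤ} {v : Fin n → S} (h : IsCo 𝒜 deg e v)
    (he : e = e') : IsCo 𝒜 deg e' v := he ▸ h

/-- vanishing of the `p`-th cohomology in degree `e`. -/
def CoVan (C : CoCx 𝒜) : ℕ → ℤ → Prop
  | 0, e => ∀ v, IsCo 𝒜 (C.deg 0) e v → v ᵥ* C.d 0 = 0 → v = 0
  | p + 1, e => ∀ v, IsCo 𝒜 (C.deg (p + 1)) e v → v ᵥ* C.d (p + 1) = 0 →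
      ∃ w, IsCo 𝒜 (C.deg p) e w ∧ w ᵥ* C.d p = v

lemma CoVan.congr {C : CoCx 𝒜} {p : ℕ} {e e' : ℤ} (h : CoVan C p e) (he : e = e') :
    CoVan C p e' := he ▸ h

variable (𝒜)

/-- the Mumford property for complexes over a ring "with `N` variables". -/
def MP (N : ℕ) : Prop :=
  ∀ (C : CoCx 𝒜) (c : ℤ), (∀ p : ℕ, p < N → CoVan C p (c - p)) →
    ∀ p : ℕ, p < N → CoVan C p (c - 1 - p)

variable {𝒜}

lemma vecMul_isCo [GradedAlgebra 𝒜] (C : CoCx 𝒜) (i : ℕ) (e : ℤ) (v : Fin (C.rk i) → S)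
    (hv : IsCo 𝒜 (C.deg i) e v) : IsCo 𝒜 (C.deg (i + 1)) e (v ᵥ* C.d i) := by
  intro b
  show ∑ a, v a * C.d i a b ∈ 𝒜 (e + C.deg (i + 1) b)
  refine sum_mem fun a _ => ?_
  have := SetLike.GradedMul.mul_mem (hv a) (C.d_mem i a b)
  rwa [show e + C.deg i a + (C.deg (i + 1) b - C.deg i a) = e + C.deg (i + 1) b by ring] at this

end Defs

section Step

variable {k : Type*} [CommRing k] {S S' : Type*} [CommRing S] [CommRing S'] [Algebra k S]
  [Algebra k S'] (𝒜 : ℤ → Submodule k S) [GradedAlgebra 𝒜] (𝒜' : ℤ → Submodule k S')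
  [GradedAlgebra 𝒜']

lemma map_vecMul' (ρ : S →+* S') {m n : ℕ} (D : Matrix (Fin m) (Fin n) S) (v : Fin m → S) :
    (ρ ∘ v) ᵥ* (D.map ρ) = ρ ∘ (v ᵥ* D) := by
  funext i
  exact (RingHom.map_vecMul ρ D v i).symm

theorem mp_step (ρ : S →+* S') (ι : S' → S) (hρι : ∀ q, ρ (ι q) = q)
    (hρg : ∀ e p, p ∈ 𝒜 e → ρ p ∈ 𝒜' e) (hιg : ∀ e q, q ∈ 𝒜' e → ι q ∈ 𝒜 e)
    (x : S) (hx1 : x ∈ 𝒜 1) (hker : ∀ p, ρ p = 0 → ∃ q, p = x * q) (hx0 : ρ x = 0)
    (hx : ∀ q : S, x * q = 0 → q = 0) (N : ℕ) (H : MP 𝒜' N) : MP 𝒜 (N + 1) := by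
  intro C c hyp
  have hlift : ∀ {m : ℕ} (v' : Fin m → S'), ρ ∘ (ι ∘ v') = v' := by
    intro m v'
    funext b
    exact hρι (v' b)
  have hρco : ∀ {m : ℕ} (deg : Fin m → ℤ) (e : ℤ) (w : Fin m → S), IsCo 𝒜 deg e w →
      IsCo 𝒜' deg e (ρ ∘ w) := fun deg e w hw b => hρg _ _ (hw b)
  have hιco : ∀ {m : ℕ} (deg : Fin m → ℤ) (e : ℤ) (w : Fin m → S'), IsCo 𝒜' deg e w →
      IsCo 𝒜 deg e (ι ∘ w) := fun deg e w hw b => hιg _ _ (hw b)
  have hxco : ∀ {m : ℕ} (deg : Fin m → ℤ) (e : ℤ) (w : Fin m → S), IsCo 𝒜 deg e w →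
      IsCo 𝒜 deg (e + 1) (x • w) := by
    intro m deg e w hw b
    have := SetLike.GradedMul.mul_mem hx1 (hw b)
    rwa [show (1 : ℤ) + (e + deg b) = e + 1 + deg b by ring] at this
  have hdiv : ∀ {m : ℕ} (deg : Fin m → ℤ) (e : ℤ) (u : Fin m → S), IsCo 𝒜 deg e u →
      ρ ∘ u = 0 → ∃ u₁, IsCo 𝒜 deg (e - 1) u₁ ∧ u = x • u₁ := by
    intro m deg e u hu hρu
    choose u' hu' using fun b => hker (u b) (congrFun hρu b)
    refine ⟨fun b => cmp 𝒜 (e - 1 + deg b) (u' b), fun b => cmp_mem 𝒜 _ _, ?_⟩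
    funext b
    have e1 : u b = cmp 𝒜 (e + deg b) (u b) := (cmp_of_mem 𝒜 (hu b)).symm
    rw [e1, hu' b]
    show cmp 𝒜 (e + deg b) (x * u' b) = x * cmp 𝒜 (e - 1 + deg b) (u' b)
    rw [cmp_mul_of_left_mem 𝒜 _ _ hx1, show e + deg b - 1 = e - 1 + deg b by ring]
  have hcancel0 : ∀ {m : ℕ} (u : Fin m → S), x • u = 0 → u = 0 := by
    intro m u hu
    funext b
    exact hx _ (congrFun hu b)
  have hcancel : ∀ {m : ℕ} (u u' : Fin m → S), x • u = x • u' → u = u' := by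
    intro m u u' h
    have : x • (u - u') = 0 := by rw [smul_sub, h, sub_self]
    exact sub_eq_zero.1 (hcancel0 _ this)
  have hρx : ∀ {m : ℕ} (u : Fin m → S), ρ ∘ (x • u) = 0 := by
    intro m u
    funext b
    show ρ (x * u b) = 0
    rw [map_mul, hx0, zero_mul]
  let C' : CoCx 𝒜' :=
    { rk := C.rk
      deg := C.deg
      d := fun i => (C.d i).map ρ
      d_mem := fun i a b => hρg _ _ (C.d_mem i a b)
      dd := by
        intro i v'
        rw [← hlift v', map_vecMul', map_vecMul', C.dd]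
        funext b
        exact map_zero ρ }
  -- Step 1: vanishing for the reduced complex
  have step1 : ∀ p : ℕ, p < N → CoVan C' p (c - p) := by
    intro p hp
    have common : ∀ v', IsCo 𝒜' (C.deg p) (c - p) v' → v' ᵥ* (C.d p).map ρ = 0 →
        ∃ z, IsCo 𝒜 (C.deg p) (c - p) z ∧ z ᵥ* C.d p = 0 ∧ ρ ∘ z = v' := by
      intro v' hv' hcyc'
      have hv : IsCo 𝒜 (C.deg p) (c - p) (ι ∘ v') := hιco _ _ _ hv'
      have h1 : ρ ∘ ((ι ∘ v') ᵥ* C.d p) = 0 := by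
        rw [← map_vecMul', hlift]
        exact hcyc'
      obtain ⟨y, hy, hvy⟩ := hdiv (C.deg (p + 1)) (c - p) _ (vecMul_isCo C p _ _ hv) h1
      have hycyc : y ᵥ* C.d (p + 1) = 0 := by
        apply hcancel0
        rw [← Matrix.smul_vecMul, ← hvy]
        exact C.dd p _
      have hV := hyp (p + 1) (by omega)
      obtain ⟨u, hu, huy⟩ := hV y (hy.congr (by push_cast; ring)) hycyc
      refine ⟨ι ∘ v' - x • u, ?_, ?_, ?_⟩
      · intro b
        refine sub_mem (hv b) ?_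
        exact ((hxco _ _ _ hu).congr (by push_cast; ring)) b
      · rw [Matrix.sub_vecMul, Matrix.smul_vecMul, huy, hvy, sub_self]
      · funext b
        show ρ (ι (v' b) - x * u b) = v' b
        rw [map_sub, map_mul, hx0, zero_mul, sub_zero, hρι]
    cases p with
    | zero =>
      intro v' hv' hcyc'
      obtain ⟨z, hz, hzc, hzv⟩ := common v' hv' hcyc'
      have h0 : z = 0 := hyp 0 (by omega) z hz hzc
      rw [← hzv, h0]
      funext b
      exact map_zero ρ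
    | succ p' =>
      intro v' hv' hcyc'
      obtain ⟨z, hz, hzc, hzv⟩ := common v' hv' hcyc'
      obtain ⟨w, hw, hwz⟩ := hyp (p' + 1) (by omega) z hz hzc
      refine ⟨ρ ∘ w, hρco _ _ _ hw, ?_⟩
      show (ρ ∘ w) ᵥ* (C.d p').map ρ = v'
      rw [map_vecMul', hwz, hzv]
  -- Step 2: the induction hypothesis
  have step2 := H C' c step1
  -- Step 3
  intro p hp
  cases p with
  | zero =>
    intro v hv hcyc
    have hxv : IsCo 𝒜 (C.deg 0) (c - (0 : ℕ)) (x • v) :=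
      (hxco _ _ _ hv).congr (by push_cast; ring)
    have h0 : x • v = 0 := hyp 0 (by omega) (x • v) hxv (by rw [Matrix.smul_vecMul, hcyc, smul_zero])
    exact hcancel0 v h0
  | succ p' =>
    intro v hv hcyc
    have hxv : IsCo 𝒜 (C.deg (p' + 1)) (c - ((p' + 1 : ℕ) : ℤ)) (x • v) :=
      (hxco _ _ _ hv).congr (by push_cast; ring)
    obtain ⟨w, hw, hwv⟩ := hyp (p' + 1) hp (x • v) hxv
      (by rw [Matrix.smul_vecMul, hcyc, smul_zero])
    have hρw : (ρ ∘ w) ᵥ* (C.d p').map ρ = 0 := by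
      rw [map_vecMul', hwv, hρx]
    have hρwco : IsCo 𝒜' (C.deg p') (c - 1 - (p' : ℕ)) (ρ ∘ w) :=
      (hρco _ _ _ hw).congr (by push_cast; ring)
    have hS2 := step2 p' (by omega)
    have key : ∃ w₁, IsCo 𝒜 (C.deg p') (c - 1 - ((p' + 1 : ℕ) : ℤ)) w₁ ∧
        x • (w₁ ᵥ* C.d p') = x • v := by
      cases p' with
      | zero =>
        have h0 : ρ ∘ w = 0 := hS2 (ρ ∘ w) hρwco hρw
        obtain ⟨w₁, hw₁, hww⟩ := hdiv (C.deg 0) _ w hw h0
        refine ⟨w₁, hw₁.congr (by push_cast; ring), ?_⟩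
        rw [← Matrix.smul_vecMul, ← hww, hwv]
      | succ p'' =>
        obtain ⟨t', ht', htw⟩ := hS2 (ρ ∘ w) hρwco hρw
        have ht : IsCo 𝒜 (C.deg p'') (c - 1 - ((p'' + 1 : ℕ) : ℤ)) (ι ∘ t') := hιco _ _ _ ht'
        have htw' : (ρ ∘ (ι ∘ t')) ᵥ* (C.d p'').map ρ = ρ ∘ w := by
          rw [hlift]; exact htw
        have h0 : ρ ∘ (w - (ι ∘ t') ᵥ* C.d p'') = 0 := by
          have h1 : ρ ∘ ((ι ∘ t') ᵥ* C.d p'') = ρ ∘ w := by
            rw [← map_vecMul']; exact htw'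
          funext b
          show ρ (w b - ((ι ∘ t') ᵥ* C.d p'') b) = 0
          rw [map_sub]
          have := congrFun h1 b
          simp only [Function.comp_apply] at this
          rw [this, sub_self]
        have hco : IsCo 𝒜 (C.deg (p'' + 1)) (c - ((p'' + 1 + 1 : ℕ) : ℤ))
            (w - (ι ∘ t') ᵥ* C.d p'') := by
          intro b
          refine sub_mem (hw b) ?_
          exact ((vecMul_isCo C p'' _ _ ht).congr (by push_cast; ring)) b
        obtain ⟨w₁, hw₁, hww⟩ := hdiv (C.deg (p'' + 1)) _ _ hco h0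
        refine ⟨w₁, hw₁.congr (by push_cast; ring), ?_⟩
        rw [← Matrix.smul_vecMul, ← hww, Matrix.sub_vecMul, C.dd, sub_zero, hwv]
    obtain ⟨w₁, hw₁, hxw⟩ := key
    exact ⟨w₁, hw₁, hcancel _ _ hxw⟩

end Step

section Poly

open MvPolynomial

variable (k : Type u) [Field k]

theorem mp (N : ℕ) : MP (GrSyz.stdGr k (Fin N)) N := by
  induction N with
  | zero =>
    intro C c _ p hp
    omega
  | succ n ih =>
    refine mp_step _ _ (ρ k n) (ι k n) (ρ_ι k n) (ρ_mem k n) (ι_mem k n) (X 0)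
      (isWeightedHomogeneous_X k (fun _ => (1 : ℤ)) 0) (ρ_ker k n) (ρ_X_zero k n) ?_ n ih
    intro q hq
    rcases mul_eq_zero.1 hq with h | h
    · exact absurd h (X_ne_zero 0)
    · exact h

/-- iterated form. -/
theorem mp_le (N : ℕ) (C : CoCx (GrSyz.stdGr k (Fin N))) (c : ℤ)
    (h : ∀ p : ℕ, p < N → CoVan C p (c - p)) (t : ℕ) :
    ∀ p : ℕ, p < N → CoVan C p (c - t - p) := by
  induction t with
  | zero =>
    intro p hp
    exact (h p hp).congr (by push_cast; ring)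
  | succ t ih =>
    intro p hp
    have := mp k N C (c - t) ih p hp
    exact this.congr (by push_cast; ring)

end Poly

end Groth.Agent.Lib27.CMReg
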