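import Mathlib
import Groth.Prelude.Def_GrSyz
import Groth.Agent.Lib27.GrMin2

/-!
# Graded maps, lifting through graded surjections, and comparison of minimal covers
-/

set_option autoImplicit false

universe u

namespace Groth.Agent.Lib27.GrMin

open Groth.Agent.Lib27.GrHilb

section

variable {k : Type*} [CommRing k] {A : Type*} [CommRing A] [Algebra k A]
  {𝒜 : ℤ → Submodule k A} [GradedAlgebra 𝒜]
variable {N N' N'' : Type*} [AddCommGroup N] [Module A N] [AddCommGroup N'] [Module A N']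
  [AddCommGroup N''] [Module A N'']

/-- a linear map commuting with the projections. -/
def IsGr (G : GrStr 𝒜 N) (G' : GrStr 𝒜 N') (φ : N →ₗ[A] N') : Prop :=
  ∀ d x, G'.π d (φ x) = φ (G.π d x)

lemma IsGr.comp {G : GrStr 𝒜 N} {G' : GrStr 𝒜 N'} {G'' : GrStr 𝒜 N''} {φ : N →ₗ[A] N'}
    {ψ : N' →ₗ[A] N''} (hφ : IsGr G G' φ) (hψ : IsGr G' G'' ψ) : IsGr G G'' (ψ ∘ₗ φ) :=
  fun d x => by
    rw [LinearMap.comp_apply, hψ, hφ]
    rfl

lemma IsGr.symm {G : GrStr 𝒜 N} {G' : GrStr 𝒜 N'} (φ : N ≃ₗ[A] N')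
    (hφ : IsGr G G' φ.toLinearMap) : IsGr G' G φ.symm.toLinearMap := fun d y => by
  have h : G'.π d (φ (φ.symm y)) = φ (G.π d (φ.symm y)) := hφ d (φ.symm y)
  rw [φ.apply_symm_apply] at h
  show G.π d (φ.symm y) = φ.symm (G'.π d y)
  rw [h, φ.symm_apply_apply]

lemma IsGr.id (G : GrStr 𝒜 N) : IsGr G G (LinearMap.id : N →ₗ[A] N) := fun _ _ => rfl

lemma πF_single {n : ℕ} (deg : Fin n → ℤ) (b : Fin n) :
    πF 𝒜 deg (deg b) (Pi.single b 1) = Pi.single b 1 := by
  funext b'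
  rw [πF_apply]
  by_cases h : b' = b
  · subst h
    rw [Pi.single_eq_same, sub_self]
    exact cmp_of_mem 𝒜 SetLike.GradedOne.one_mem
  · rw [Pi.single_eq_of_ne h, map_zero]

theorem exists_lift {P : Type*} [AddCommGroup P] [Module A P] (GP : GrStr 𝒜 P)
    (G' : GrStr 𝒜 N') (p' : P →ₗ[A] N') (hp' : IsGr GP G' p') (sp' : Function.Surjective p')
    {n : ℕ} (deg : Fin n → ℤ) (ψ : (Fin n → A) →ₗ[A] N')
    (hψ : IsGr (freeGrStr 𝒜 deg) G' ψ) :
    ∃ f : (Fin n → A) →ₗ[A] P, IsGr (freeGrStr 𝒜 deg) GP f ∧ ∀ w, p' (f w) = ψ w := by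
  choose v hv using fun b => sp' (ψ (Pi.single b 1))
  let c : Fin n → P := fun b => GP.π (deg b) (v b)
  have hc : ∀ b, GP.π (deg b) (c b) = c b := fun b => by
    show GP.π _ (GP.π _ _) = _
    rw [GP.π_π, if_pos rfl]
  refine ⟨Fintype.linearCombination A c, ?_, ?_⟩
  · intro d w
    rw [Fintype.linearCombination_apply, Fintype.linearCombination_apply, map_sum]
    refine Finset.sum_congr rfl fun b _ => ?_
    rw [GP.π_smul_hom (hc b)]
    rfl
  · have hpc : ∀ b, p' (c b) = ψ (Pi.single b 1) := fun b => by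
      show p' (GP.π (deg b) (v b)) = _
      rw [← hp' (deg b) (v b), hv b, hψ (deg b)]
      congr 1
      exact πF_single deg b
    have : p' ∘ₗ Fintype.linearCombination A c = ψ := by
      apply (Pi.basisFun A (Fin n)).ext
      intro b
      rw [Pi.basisFun_apply, LinearMap.comp_apply, Fintype.linearCombination_apply_single,
        one_smul, hpc]
    intro w
    exact LinearMap.congr_fun this w

lemma det_mem_zero {n : ℕ} (deg : Fin n → ℤ) (H : Matrix (Fin n) (Fin n) A)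
    (hH : ∀ a b, H a b ∈ 𝒜 (deg b - deg a)) : H.det ∈ 𝒜 0 := by
  rw [Matrix.det_apply]
  refine Submodule.sum_mem _ fun σ _ => ?_
  have hprod : ∏ i, H (σ i) i ∈ 𝒜 0 := by
    have := SetLike.prod_mem_graded 𝒜 (fun i => deg i - deg (σ i)) (fun i => H (σ i) i)
      (F := Finset.univ) (fun i _ => hH (σ i) i)
    rwa [Finset.sum_sub_distrib, Equiv.sum_comp σ deg, sub_self] at this
  rcases Int.units_eq_one_or (Equiv.Perm.sign σ) with h | h <;> rw [h]
  · rw [one_smul]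
    exact hprod
  · rw [Units.neg_smul, one_smul]
    exact Submodule.neg_mem _ hprod

theorem bijective_of_congr_one (𝔪 : Ideal A) (hU : ∀ x, x ∈ 𝒜 0 → x ∉ 𝔪 → IsUnit x)
    (h1 : (1 : A) ∉ 𝔪) {n : ℕ} (deg : Fin n → ℤ) (h : (Fin n → A) →ₗ[A] (Fin n → A))
    (hg : IsGr (freeGrStr 𝒜 deg) (freeGrStr 𝒜 deg) h) (hm : ∀ w b, (h w - w) b ∈ 𝔪) :
    Function.Bijective h := by
  classical
  set H := LinearMap.toMatrix' h with hHdef
  have hH : ∀ a b, H a b ∈ 𝒜 (deg b - deg a) := by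
    intro a b
    rw [hHdef, LinearMap.toMatrix'_apply]
    have e1 : h (Pi.single b 1) = πF 𝒜 deg (deg b) (h (Pi.single b 1)) := by
      have := hg (deg b) (Pi.single b 1)
      rw [show (freeGrStr 𝒜 deg).π (deg b) (Pi.single b 1) = Pi.single b 1 from
        πF_single deg b] at this
      exact this.symm
    rw [e1, πF_apply]
    exact cmp_mem 𝒜 _ _
  have hdet0 := det_mem_zero deg H hH
  have hdet1 : H.det - 1 ∈ 𝔪 := by
    rw [← Ideal.Quotient.eq, RingHom.map_det, map_one]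
    have : (Ideal.Quotient.mk 𝔪).mapMatrix H = 1 := by
      ext a b
      rw [RingHom.mapMatrix_apply, Matrix.map_apply, Matrix.one_apply]
      have hab : H a b - (if a = b then (1 : A) else 0) ∈ 𝔪 := by
        have := hm (Pi.single b 1) a
        rw [Pi.sub_apply, Pi.single_apply] at this
        rw [hHdef, LinearMap.toMatrix'_apply]
        exact this
      rw [Ideal.Quotient.eq.2 hab]
      split_ifs <;> simp
    rw [this, Matrix.det_one]
  have hnot : H.det ∉ 𝔪 := by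
    intro hmem
    apply h1
    have := 𝔪.sub_mem hmem hdet1
    rwa [sub_sub_cancel] at this
  have hunit : IsUnit H.det := hU _ hdet0 hnot
  have hh : h = Matrix.toLin' H := (Matrix.toLin'_toMatrix' h).symm
  refine Function.bijective_iff_has_inverse.2 ⟨Matrix.toLin' H⁻¹, ?_, ?_⟩
  · intro w
    rw [hh, ← Matrix.toLin'_mul_apply, Matrix.nonsing_inv_mul _ hunit, Matrix.toLin'_one]
    rfl
  · intro w
    rw [hh, ← Matrix.toLin'_mul_apply, Matrix.mul_nonsing_inv _ hunit, Matrix.toLin'_one]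
    rfl

/-- Comparison of two minimal graded free covers. -/
theorem exists_grIso_lift (𝔪 : Ideal A) (hU : ∀ x, x ∈ 𝒜 0 → x ∉ 𝔪 → IsUnit x)
    (h1 : (1 : A) ∉ 𝔪) (G : GrStr 𝒜 N) (G' : GrStr 𝒜 N') (φ : N ≃ₗ[A] N')
    (hφ : IsGr G G' φ.toLinearMap) {n n' : ℕ} (deg : Fin n → ℤ) (deg' : Fin n' → ℤ)
    (p : (Fin n → A) →ₗ[A] N) (p' : (Fin n' → A) →ₗ[A] N')
    (hp : IsGr (freeGrStr 𝒜 deg) G p) (hp' : IsGr (freeGrStr 𝒜 deg') G' p')
    (sp : Function.Surjective p) (sp' : Function.Surjective p')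
    (mp : ∀ w, p w = 0 → ∀ b, w b ∈ 𝔪) (mp' : ∀ w, p' w = 0 → ∀ b, w b ∈ 𝔪) :
    ∃ f : (Fin n → A) ≃ₗ[A] (Fin n' → A),
      IsGr (freeGrStr 𝒜 deg) (freeGrStr 𝒜 deg') f.toLinearMap ∧ ∀ w, p' (f w) = φ (p w) := by
  obtain ⟨f, hf, hpf⟩ := exists_lift (freeGrStr 𝒜 deg') G' p' hp' sp' deg (φ.toLinearMap ∘ₗ p)
    (hp.comp hφ)
  obtain ⟨g, hg, hpg⟩ := exists_lift (freeGrStr 𝒜 deg) G p hp sp deg' (φ.symm.toLinearMap ∘ₗ p')
    (hp'.comp (IsGr.symm φ hφ))
  have hgf : Function.Bijective (g ∘ₗ f) := by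
    refine bijective_of_congr_one 𝔪 hU h1 deg (g ∘ₗ f) (hf.comp hg) fun w b => ?_
    refine mp _ ?_ b
    rw [map_sub, LinearMap.comp_apply, hpg, LinearMap.comp_apply, hpf, LinearMap.comp_apply]
    show φ.symm (φ (p w)) - p w = 0
    rw [φ.symm_apply_apply, sub_self]
  have hfg : Function.Bijective (f ∘ₗ g) := by
    refine bijective_of_congr_one 𝔪 hU h1 deg' (f ∘ₗ g) (hg.comp hf) fun w b => ?_
    refine mp' _ ?_ b
    rw [map_sub, LinearMap.comp_apply, hpf, LinearMap.comp_apply, hpg, LinearMap.comp_apply]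
    show φ (φ.symm (p' w)) - p' w = 0
    rw [φ.apply_symm_apply, sub_self]
  have hinj : Function.Injective f := by
    have : Function.Injective (g ∘ f) := hgf.1
    exact this.of_comp
  have hsurj : Function.Surjective f := by
    have : Function.Surjective (f ∘ g) := hfg.2
    exact this.of_comp
  refine ⟨LinearEquiv.ofBijective f ⟨hinj, hsurj⟩, hf, fun w => ?_⟩
  exact hpf w

/-- The induced isomorphism on kernels. -/
theorem exists_grIso_ker (G : GrStr 𝒜 N) (G' : GrStr 𝒜 N') (φ : N ≃ₗ[A] N')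
    {n n' : ℕ} (deg : Fin n → ℤ) (deg' : Fin n' → ℤ)
    (p : (Fin n → A) →ₗ[A] N) (p' : (Fin n' → A) →ₗ[A] N')
    (f : (Fin n → A) ≃ₗ[A] (Fin n' → A))
    (hf : IsGr (freeGrStr 𝒜 deg) (freeGrStr 𝒜 deg') f.toLinearMap)
    (hpf : ∀ w, p' (f w) = φ (p w))
    (K : Submodule A (Fin n → A)) (K' : Submodule A (Fin n' → A))
    (hK : ∀ w, w ∈ K ↔ p w = 0) (hK' : ∀ w, w ∈ K' ↔ p' w = 0)
    (hKg : ∀ d, ∀ w ∈ K, (freeGrStr 𝒜 deg).π d w ∈ K)
    (hKg' : ∀ d, ∀ w ∈ K', (freeGrStr 𝒜 deg').π d w ∈ K') :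
    ∃ φ' : ↥K ≃ₗ[A] ↥K', IsGr ((freeGrStr 𝒜 deg).restrict K hKg)
      ((freeGrStr 𝒜 deg').restrict K' hKg') φ'.toLinearMap := by
  have hmaps : ∀ w ∈ K, f.toLinearMap w ∈ K' := by
    intro w hw
    rw [hK'] 
    show p' (f w) = 0
    rw [hpf, (hK w).1 hw, map_zero]
  have hbij : Function.Bijective (f.toLinearMap.restrict hmaps) := by
    constructor
    · intro x y hxy
      apply Subtype.ext
      apply f.injective
      exact congrArg Subtype.val hxy
    · intro y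
      have hmem : f.symm y.1 ∈ K := by
        rw [hK]
        apply φ.injective
        rw [← hpf, f.apply_symm_apply, map_zero]
        exact (hK' _).1 y.2
      refine ⟨⟨f.symm y.1, hmem⟩, Subtype.ext ?_⟩
      show f (f.symm y.1) = y.1
      exact f.apply_symm_apply _
  refine ⟨LinearEquiv.ofBijective _ hbij, ?_⟩
  intro d x
  apply Subtype.ext
  exact hf d x.1

end

end Groth.Agent.Lib27.GrMin
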