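import Mathlib
import Groth.Prelude.Def_GrSyz
import Groth.Agent.Lib27.GrUniq1

/-!
# Counting basis degrees across a graded isomorphism of free modules
-/

set_option autoImplicit false

universe u

namespace Groth.Agent.Lib27.GrMin

open Groth.Agent.Lib27.GrHilb

section

variable {k : Type*} [CommRing k] {A : Type*} [CommRing A] [Algebra k A]
  {𝒜 : ℤ → Submodule k A} [GradedAlgebra 𝒜]

lemma toMatrix'_mem {n m : ℕ} (degn : Fin n → ℤ) (degm : Fin m → ℤ)
    (h : (Fin n → A) →ₗ[A] (Fin m → A))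
    (hg : IsGr (freeGrStr 𝒜 degn) (freeGrStr 𝒜 degm) h) (a : Fin m) (b : Fin n) :
    LinearMap.toMatrix' h a b ∈ 𝒜 (degn b - degm a) := by
  rw [LinearMap.toMatrix'_apply]
  have e1 : h (Pi.single b 1) = πF 𝒜 degm (degn b) (h (Pi.single b 1)) := by
    have := hg (degn b) (Pi.single b 1)
    rw [show (freeGrStr 𝒜 degn).π (degn b) (Pi.single b 1) = Pi.single b 1 from
      πF_single degn b] at this
    exact this.symm
  rw [e1, πF_apply]
  exact cmp_mem 𝒜 _ _

theorem card_deg_le (𝔪 : Ideal A) (h1 : (1 : A) ∉ 𝔪)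
    (h0 : ∀ e x, x ∈ 𝒜 e → e ≠ 0 → x ∈ 𝔪)
    {n n' : ℕ} (deg : Fin n → ℤ) (deg' : Fin n' → ℤ) (f : (Fin n → A) ≃ₗ[A] (Fin n' → A))
    (hf : IsGr (freeGrStr 𝒜 deg) (freeGrStr 𝒜 deg') f.toLinearMap) (j : ℤ) :
    (Finset.univ.filter fun b => deg b = j).card ≤
      (Finset.univ.filter fun a => deg' a = j).card := by
  classical
  haveI : Nontrivial (A ⧸ 𝔪) := Ideal.Quotient.nontrivial_iff.2 (by
    rintro rfl
    exact h1 trivial)
  set P := LinearMap.toMatrix' f.toLinearMap with hP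
  set Q := LinearMap.toMatrix' f.symm.toLinearMap with hQ
  have hQP : Q * P = 1 := by
    rw [hP, hQ, ← LinearMap.toMatrix'_comp]
    have : f.symm.toLinearMap ∘ₗ f.toLinearMap = LinearMap.id :=
      LinearMap.ext fun w => f.symm_apply_apply w
    rw [this, LinearMap.toMatrix'_id]
  have hPm : ∀ a b, P a b ∈ 𝒜 (deg b - deg' a) := toMatrix'_mem deg deg' _ hf
  have hQm : ∀ b a, Q b a ∈ 𝒜 (deg' a - deg b) := toMatrix'_mem deg' deg _ (IsGr.symm f hf)
  let ρ := Ideal.Quotient.mk 𝔪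
  let Pj : Matrix {a // deg' a = j} {b // deg b = j} (A ⧸ 𝔪) := fun a b => ρ (P a.1 b.1)
  let Qj : Matrix {b // deg b = j} {a // deg' a = j} (A ⧸ 𝔪) := fun b a => ρ (Q b.1 a.1)
  have hQPj : Qj * Pj = 1 := by
    ext b b''
    rw [Matrix.mul_apply, Matrix.one_apply]
    have e1 : ∑ a : {a // deg' a = j}, Qj b a * Pj a b'' =
        ∑ a : Fin n', ρ (Q b.1 a) * ρ (P a b''.1) := by
      rw [← Finset.sum_subtype (Finset.univ.filter fun a => deg' a = j) (by simp)
        (fun a => ρ (Q b.1 a) * ρ (P a b''.1)), Finset.sum_filter]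
      refine Finset.sum_congr rfl fun a _ => ?_
      split_ifs with h
      · rfl
      · have : Q b.1 a ∈ 𝔪 := h0 _ _ (hQm b.1 a) (by
          rw [b.2]
          intro h'
          exact h (by omega))
        rw [show ρ (Q b.1 a) = 0 from Ideal.Quotient.eq_zero_iff_mem.2 this, zero_mul]
    rw [e1]
    have e2 : ∑ a : Fin n', ρ (Q b.1 a) * ρ (P a b''.1) = ρ ((Q * P) b.1 b''.1) := by
      rw [Matrix.mul_apply, map_sum]
      exact Finset.sum_congr rfl fun a _ => (map_mul ρ _ _).symm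
    rw [e2, hQP, Matrix.one_apply]
    by_cases hb : b = b''
    · rw [if_pos hb, if_pos (congrArg Subtype.val hb), map_one]
    · rw [if_neg hb, if_neg (fun h => hb (Subtype.ext h)), map_zero]
  have hinj : Function.Injective (Matrix.toLin' Pj) := by
    intro x y hxy
    have := congrArg (Matrix.toLin' Qj) hxy
    rwa [← Matrix.toLin'_mul_apply, ← Matrix.toLin'_mul_apply, hQPj, Matrix.toLin'_one] at this
  have := card_le_of_injective (R := A ⧸ 𝔪) (Matrix.toLin' Pj) hinj
  rwa [Fintype.card_subtype, Fintype.card_subtype] at this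

end

end Groth.Agent.Lib27.GrMin
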