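import Mathlib
import Groth.Prelude.Def_GrSyz
import Groth.Agent.Lib27.GrUniq2

/-!
# Uniqueness of the graded Betti numbers of minimal graded free resolutions
-/

set_option autoImplicit false

universe u

namespace Groth.Agent.Lib27.GrMin

open Groth.Agent.Lib27.GrHilb

section

variable {k : Type u} [CommRing k] {A : Type u} [CommRing A] [Algebra k A]
  {𝒜 : ℤ → Submodule k A} [GradedAlgebra 𝒜]
  {M : Type u} [AddCommGroup M] [Module k M] [Module A M]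
  {ℳ : ℤ → Submodule k M} [DirectSum.Decomposition ℳ] [SetLike.GradedSMul 𝒜 ℳ]

/-- the syzygy submodules of a resolution. -/
def Zsub (F : GrSyz.FreeRes 𝒜 ℳ) : (i : ℕ) → Submodule A (Fin (F.rk i) → A)
  | 0 => LinearMap.ker F.augLin
  | (i + 1) => LinearMap.ker (F.dLin i)

lemma Zsub_eq_range (F : GrSyz.FreeRes 𝒜 ℳ) (i : ℕ) :
    Zsub F i = LinearMap.range (F.dLin i) := by
  cases i with
  | zero => exact F.exact_zero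
  | succ i => exact F.exact_succ i

lemma aug_isGr (F : GrSyz.FreeRes 𝒜 ℳ) :
    IsGr (freeGrStr 𝒜 (F.deg 0)) (modGrStr 𝒜 ℳ) F.augLin := fun d w =>
  π_linearCombination 𝒜 ℳ (F.deg 0) F.aug F.aug_mem d w

lemma Zsub_graded (F : GrSyz.FreeRes 𝒜 ℳ) (i : ℕ) :
    ∀ d, ∀ w ∈ Zsub F i, (freeGrStr 𝒜 (F.deg i)).π d w ∈ Zsub F i := by
  cases i with
  | zero =>
    intro d w hw
    have hw' : F.augLin w = 0 := hw
    show F.augLin _ = 0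
    rw [← aug_isGr F d w, hw', map_zero]
  | succ i =>
    intro d w hw
    have hw' : (F.d i).mulVec w = 0 := hw
    show (F.d i).mulVec (πF 𝒜 (F.deg (i + 1)) d w) = 0
    rw [← πF_mulVec 𝒜 (F.deg i) (F.deg (i + 1)) (F.d i) (F.d_mem i), hw', map_zero]

lemma Zsub_mem (F : GrSyz.FreeRes 𝒜 ℳ) (𝔪 : Ideal A) (hF : F.IsMinimal 𝔪) (i : ℕ) :
    ∀ w ∈ Zsub F i, ∀ b, w b ∈ 𝔪 := by
  intro w hw b
  rw [Zsub_eq_range] at hw
  obtain ⟨v, rfl⟩ := hw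
  show ∑ c, F.d i b c * v c ∈ 𝔪
  exact Ideal.sum_mem _ fun c _ => Ideal.mul_mem_right _ _ (hF i b c)

theorem exists_grIso (𝔪 : Ideal A) (hU : ∀ x, x ∈ 𝒜 0 → x ∉ 𝔪 → IsUnit x)
    (h1 : (1 : A) ∉ 𝔪) (F F' : GrSyz.FreeRes 𝒜 ℳ) (hF : F.IsMinimal 𝔪) (hF' : F'.IsMinimal 𝔪)
    (i : ℕ) :
    (∃ f : (Fin (F.rk i) → A) ≃ₗ[A] (Fin (F'.rk i) → A),
      IsGr (freeGrStr 𝒜 (F.deg i)) (freeGrStr 𝒜 (F'.deg i)) f.toLinearMap) ∧
    (∃ φ : ↥(Zsub F i) ≃ₗ[A] ↥(Zsub F' i),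
      IsGr ((freeGrStr 𝒜 (F.deg i)).restrict _ (Zsub_graded F i))
        ((freeGrStr 𝒜 (F'.deg i)).restrict _ (Zsub_graded F' i)) φ.toLinearMap) := by
  induction i with
  | zero =>
    obtain ⟨f, hf, hpf⟩ := exists_grIso_lift 𝔪 hU h1 (modGrStr 𝒜 ℳ) (modGrStr 𝒜 ℳ)
      (LinearEquiv.refl A M) (IsGr.id _) (F.deg 0) (F'.deg 0) F.augLin F'.augLin
      (aug_isGr F) (aug_isGr F') F.aug_surjective F'.aug_surjective
      (fun w hw => Zsub_mem F 𝔪 hF 0 w hw) (fun w hw => Zsub_mem F' 𝔪 hF' 0 w hw)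
    exact ⟨⟨f, hf⟩, exists_grIso_ker (modGrStr 𝒜 ℳ) (modGrStr 𝒜 ℳ) (LinearEquiv.refl A M)
      (F.deg 0) (F'.deg 0) F.augLin F'.augLin f hf hpf (Zsub F 0) (Zsub F' 0)
      (fun w => LinearMap.mem_ker) (fun w => LinearMap.mem_ker) _ _⟩
  | succ i ih =>
    obtain ⟨_, φ, hφ⟩ := ih
    have hr : ∀ w, F.dLin i w ∈ Zsub F i := fun w => by
      rw [Zsub_eq_range]
      exact ⟨w, rfl⟩
    have hr' : ∀ w, F'.dLin i w ∈ Zsub F' i := fun w => by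
      rw [Zsub_eq_range]
      exact ⟨w, rfl⟩
    have hpg : IsGr (freeGrStr 𝒜 (F.deg (i + 1)))
        ((freeGrStr 𝒜 (F.deg i)).restrict _ (Zsub_graded F i))
        ((F.dLin i).codRestrict (Zsub F i) hr) := by
      intro d w
      apply Subtype.ext
      exact πF_mulVec 𝒜 (F.deg i) (F.deg (i + 1)) (F.d i) (F.d_mem i) d w
    have hpg' : IsGr (freeGrStr 𝒜 (F'.deg (i + 1)))
        ((freeGrStr 𝒜 (F'.deg i)).restrict _ (Zsub_graded F' i))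
        ((F'.dLin i).codRestrict (Zsub F' i) hr') := by
      intro d w
      apply Subtype.ext
      exact πF_mulVec 𝒜 (F'.deg i) (F'.deg (i + 1)) (F'.d i) (F'.d_mem i) d w
    have hs : Function.Surjective ((F.dLin i).codRestrict (Zsub F i) hr) := by
      intro z
      have hz : z.1 ∈ LinearMap.range (F.dLin i) := (Zsub_eq_range F i) ▸ z.2
      obtain ⟨w, hw⟩ := hz
      exact ⟨w, Subtype.ext hw⟩
    have hs' : Function.Surjective ((F'.dLin i).codRestrict (Zsub F' i) hr') := by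
      intro z
      have hz : z.1 ∈ LinearMap.range (F'.dLin i) := (Zsub_eq_range F' i) ▸ z.2
      obtain ⟨w, hw⟩ := hz
      exact ⟨w, Subtype.ext hw⟩
    have hk : ∀ w, w ∈ Zsub F (i + 1) ↔ (F.dLin i).codRestrict (Zsub F i) hr w = 0 := by
      intro w
      rw [Subtype.ext_iff]
      exact LinearMap.mem_ker
    have hk' : ∀ w, w ∈ Zsub F' (i + 1) ↔ (F'.dLin i).codRestrict (Zsub F' i) hr' w = 0 := by
      intro w
      rw [Subtype.ext_iff]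
      exact LinearMap.mem_ker
    obtain ⟨f, hf, hpf⟩ := exists_grIso_lift 𝔪 hU h1 _ _ φ hφ (F.deg (i + 1)) (F'.deg (i + 1))
      _ _ hpg hpg' hs hs'
      (fun w hw => Zsub_mem F 𝔪 hF (i + 1) w ((hk w).2 hw))
      (fun w hw => Zsub_mem F' 𝔪 hF' (i + 1) w ((hk' w).2 hw))
    exact ⟨⟨f, hf⟩, exists_grIso_ker ((freeGrStr 𝒜 (F.deg i)).restrict _ (Zsub_graded F i))
      ((freeGrStr 𝒜 (F'.deg i)).restrict _ (Zsub_graded F' i)) φ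
      (F.deg (i + 1)) (F'.deg (i + 1)) _ _ f hf hpf
      (Zsub F (i + 1)) (Zsub F' (i + 1)) hk hk' _ _⟩

theorem betti_le (𝔪 : Ideal A) (hU : ∀ x, x ∈ 𝒜 0 → x ∉ 𝔪 → IsUnit x)
    (h1 : (1 : A) ∉ 𝔪) (h0 : ∀ e x, x ∈ 𝒜 e → e ≠ 0 → x ∈ 𝔪)
    (F F' : GrSyz.FreeRes 𝒜 ℳ) (hF : F.IsMinimal 𝔪) (hF' : F'.IsMinimal 𝔪)
    (i : ℕ) (j : ℤ) : F.betti i j ≤ F'.betti i j := by
  obtain ⟨⟨f, hf⟩, _⟩ := exists_grIso 𝔪 hU h1 F F' hF hF' i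
  exact card_deg_le 𝔪 h1 h0 (F.deg i) (F'.deg i) f hf j

theorem betti_eq (𝔪 : Ideal A) (hU : ∀ x, x ∈ 𝒜 0 → x ∉ 𝔪 → IsUnit x)
    (h1 : (1 : A) ∉ 𝔪) (h0 : ∀ e x, x ∈ 𝒜 e → e ≠ 0 → x ∈ 𝔪)
    (F F' : GrSyz.FreeRes 𝒜 ℳ) (hF : F.IsMinimal 𝔪) (hF' : F'.IsMinimal 𝔪)
    (i : ℕ) (j : ℤ) : F.betti i j = F'.betti i j :=
  le_antisymm (betti_le 𝔪 hU h1 h0 F F' hF hF' i j) (betti_le 𝔪 hU h1 h0 F' F hF' hF i j)

theorem isGenLE_of_isGenLE (𝔪 : Ideal A) (hU : ∀ x, x ∈ 𝒜 0 → x ∉ 𝔪 → IsUnit x)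
    (h1 : (1 : A) ∉ 𝔪) (h0 : ∀ e x, x ∈ 𝒜 e → e ≠ 0 → x ∈ 𝔪)
    (F F' : GrSyz.FreeRes 𝒜 ℳ) (hF : F.IsMinimal 𝔪) (hF' : F'.IsMinimal 𝔪)
    (r : ℤ) (h : F'.IsGenLE r) : F.IsGenLE r := by
  intro i b
  have hle := betti_le 𝔪 hU h1 h0 F F' hF hF' i (F.deg i b)
  have hpos : 0 < F.betti i (F.deg i b) :=
    Finset.card_pos.2 ⟨b, Finset.mem_filter.2 ⟨Finset.mem_univ _, rfl⟩⟩
  obtain ⟨a, ha⟩ := Finset.card_pos.1 (lt_of_lt_of_le hpos hle)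
  rw [← (Finset.mem_filter.1 ha).2]
  exact h i a

end

end Groth.Agent.Lib27.GrMin
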