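import Mathlib
import Groth.Prelude.Def_GrSyz
import Groth.Agent.Lib27.GrUniq3
import Groth.Agent.Lib27.GrMin4

/-!
# Regularity from any minimal resolution (polynomial rings over a field)
-/

set_option autoImplicit false

universe u

namespace Groth.Agent.Lib27.GrMin

open Groth.Agent.Lib27.GrHilb MvPolynomial

section Order

lemma iInf_coe_ge (x : WithBot (WithTop ℤ)) :
    ⨅ (r : ℤ) (_ : x ≤ ((r : WithTop ℤ) : WithBot (WithTop ℤ))),
      ((r : WithTop ℤ) : WithBot (WithTop ℤ)) = x := by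
  apply le_antisymm
  · induction x using WithBot.recBotCoe with
    | bot =>
      rw [le_bot_iff]
      by_contra hne
      obtain ⟨z, hz⟩ := WithBot.ne_bot_iff_exists.1 hne
      have hle : ∀ r : ℤ, (z : WithBot (WithTop ℤ)) ≤ ((r : WithTop ℤ) : WithBot (WithTop ℤ)) := by
        intro r
        rw [hz]
        exact iInf₂_le (f := fun (r : ℤ)
          (_ : (⊥ : WithBot (WithTop ℤ)) ≤ ((r : WithTop ℤ) : WithBot (WithTop ℤ))) =>
            ((r : WithTop ℤ) : WithBot (WithTop ℤ))) r bot_le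
      induction z using WithTop.recTopCoe with
      | top =>
        have := hle 0
        rw [WithBot.coe_le_coe] at this
        exact absurd this (by simp)
      | coe t =>
        have := hle (t - 1)
        rw [WithBot.coe_le_coe, WithTop.coe_le_coe] at this
        omega
    | coe z =>
      induction z using WithTop.recTopCoe with
      | top => exact le_top
      | coe t =>
        exact iInf₂_le (f := fun (r : ℤ)
          (_ : (((t : ℤ) : WithTop ℤ) : WithBot (WithTop ℤ)) ≤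
            ((r : WithTop ℤ) : WithBot (WithTop ℤ))) =>
            ((r : WithTop ℤ) : WithBot (WithTop ℤ))) t le_rfl
  · exact le_iInf₂ fun r hr => hr

end Order

variable (k : Type u) [Field k] (r : ℕ)

lemma mem_irrel_of_hom_ne {e : ℤ} {x : MvPolynomial (Fin (r + 1)) k}
    (hx : x ∈ GrSyz.stdGr k (Fin (r + 1)) e) (he : e ≠ 0) :
    x ∈ (GrSyz.irrel (GrSyz.stdGr k (Fin (r + 1)))).toIdeal := by
  by_contra h
  have hu := isUnit_cmp_zero k r x h
  rw [cmp_of_mem_ne _ hx he] at hu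
  exact not_isUnit_zero hu

variable {M : Type u} [AddCommGroup M] [Module k M] [Module (MvPolynomial (Fin (r + 1)) k) M]
  (ℳ : ℤ → Submodule k M) [DirectSum.Decomposition ℳ]
  [SetLike.GradedSMul (GrSyz.stdGr k (Fin (r + 1))) ℳ]

theorem poly_betti_eq (F F' : GrSyz.FreeRes (GrSyz.stdGr k (Fin (r + 1))) ℳ)
    (hF : F.IsMinimal (GrSyz.irrel (GrSyz.stdGr k (Fin (r + 1)))).toIdeal)
    (hF' : F'.IsMinimal (GrSyz.irrel (GrSyz.stdGr k (Fin (r + 1)))).toIdeal) (i : ℕ) (j : ℤ) :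
    F.betti i j = F'.betti i j :=
  betti_eq _ (fun _ hx hn => isUnit_of_hom_notMem k r hx hn) (one_notMem_irrel k r)
    (fun _ _ hx he => mem_irrel_of_hom_ne k r hx he) F F' hF hF' i j

theorem poly_isGenLE (F F' : GrSyz.FreeRes (GrSyz.stdGr k (Fin (r + 1))) ℳ)
    (hF : F.IsMinimal (GrSyz.irrel (GrSyz.stdGr k (Fin (r + 1)))).toIdeal)
    (hF' : F'.IsMinimal (GrSyz.irrel (GrSyz.stdGr k (Fin (r + 1)))).toIdeal) (d : ℤ)
    (h : F'.IsGenLE d) : F.IsGenLE d :=
  isGenLE_of_isGenLE _ (fun _ hx hn => isUnit_of_hom_notMem k r hx hn) (one_notMem_irrel k r)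
    (fun _ _ hx he => mem_irrel_of_hom_ne k r hx he) F F' hF hF' d h

lemma isGenLE_iff_sup_le (F : GrSyz.FreeRes (GrSyz.stdGr k (Fin (r + 1))) ℳ) (d : ℤ) :
    F.IsGenLE d ↔
      (⨆ i : ℕ, WithBot.map (fun t : ℤ => ((t - (i : ℤ) : ℤ) : WithTop ℤ)) (F.maxGenDeg i)) ≤
        ((d : WithTop ℤ) : WithBot (WithTop ℤ)) := by
  rw [iSup_le_iff]
  constructor
  · intro h i
    have hsup : F.maxGenDeg i ≤ ((d + i : ℤ) : WithBot ℤ) :=
      Finset.sup_le fun b _ => WithBot.coe_le_coe.2 (h i b)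
    induction hm : F.maxGenDeg i using WithBot.recBotCoe with
    | bot => exact bot_le
    | coe t =>
      rw [hm, WithBot.coe_le_coe] at hsup
      rw [WithBot.map_coe, WithBot.coe_le_coe, WithTop.coe_le_coe]
      omega
  · intro h i b
    have hb : ((F.deg i b : ℤ) : WithBot ℤ) ≤ F.maxGenDeg i :=
      Finset.le_sup (f := fun b : Fin (F.rk i) => (F.deg i b : WithBot ℤ)) (Finset.mem_univ b)
    have hi := h i
    induction hm : F.maxGenDeg i using WithBot.recBotCoe with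
    | bot =>
      rw [hm] at hb
      exact absurd hb (by simp)
    | coe t =>
      rw [hm, WithBot.coe_le_coe] at hb
      rw [hm, WithBot.map_coe, WithBot.coe_le_coe, WithTop.coe_le_coe] at hi
      omega

theorem reg_eq_sup (F : GrSyz.FreeRes (GrSyz.stdGr k (Fin (r + 1))) ℳ)
    (hF : F.IsMinimal (GrSyz.irrel (GrSyz.stdGr k (Fin (r + 1)))).toIdeal) :
    GrSyz.reg (GrSyz.stdGr k (Fin (r + 1))) ℳ
        (GrSyz.irrel (GrSyz.stdGr k (Fin (r + 1)))).toIdeal =
      ⨆ i : ℕ, WithBot.map (fun t : ℤ => ((t - (i : ℤ) : ℤ) : WithTop ℤ)) (F.maxGenDeg i) := by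
  have hiff : ∀ d : ℤ, GrSyz.IsRegLE (GrSyz.stdGr k (Fin (r + 1))) ℳ
      (GrSyz.irrel (GrSyz.stdGr k (Fin (r + 1)))).toIdeal d ↔
      (⨆ i : ℕ, WithBot.map (fun t : ℤ => ((t - (i : ℤ) : ℤ) : WithTop ℤ)) (F.maxGenDeg i)) ≤
        ((d : WithTop ℤ) : WithBot (WithTop ℤ)) := by
    intro d
    rw [← isGenLE_iff_sup_le]
    constructor
    · rintro ⟨F', hF', hgen⟩
      exact poly_isGenLE k r ℳ F F' hF hF' d hgen
    · intro h
      exact ⟨F, hF, h⟩
  unfold GrSyz.reg
  simp only [hiff]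
  exact iInf_coe_ge _

end Groth.Agent.Lib27.GrMin
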