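import Mathlib
import Groth.Prelude.Def_GrSyz
import Groth.Prelude.Def_GrLC
import Groth.Agent.Lib27.RegA2
import Groth.Agent.Lib27.GrHilb5
import Groth.Agent.Lib27.GrUniq4
import Groth.Agent.Lib27.GrMin3

/-!
# The regularity of a graded module of finite length is its top degree
-/

set_option autoImplicit false

universe u

namespace Groth.Agent.Lib27.RegA

open MvPolynomial Groth.Agent.Lib27.Syz Groth.Agent.Lib27.GrMin Groth.Agent.Lib27.GrHilb

variable (k : Type u) [Field k] (r : ℕ)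
  {M : Type u} [AddCommGroup M] [Module k M] [Module (MvPolynomial (Fin (r + 1)) k) M]
  [IsScalarTower k (MvPolynomial (Fin (r + 1)) k) M]
  (ℳ : ℤ → Submodule k M) [DirectSum.Decomposition ℳ]
  [SetLike.GradedSMul (GrSyz.stdGr k (Fin (r + 1))) ℳ]

lemma stdGr_neg (e : ℤ) (he : e < 0) (p : MvPolynomial (Fin (r + 1)) k)
    (hp : p ∈ GrSyz.stdGr k (Fin (r + 1)) e) : p = 0 := by
  have h := finrank_stdGr_neg k r e he
  have : GrSyz.stdGr k (Fin (r + 1)) e = ⊥ := Submodule.finrank_eq_zero.1 h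
  rw [this] at hp
  exact (Submodule.mem_bot k).1 hp

/-- elements supported in degrees `≥ j`. -/
def geSub (j : ℤ) : Submodule (MvPolynomial (Fin (r + 1)) k) M where
  carrier := {y | ∀ j', j' < j → (modGrStr (GrSyz.stdGr k (Fin (r + 1))) ℳ).π j' y = 0}
  zero_mem' := fun j' _ => map_zero _
  add_mem' := fun {x y} hx hy j' hj' => by rw [map_add, hx j' hj', hy j' hj', add_zero]
  smul_mem' := by
    intro s y hy j' hj'
    classical
    rw [← DirectSum.sum_support_decompose (GrSyz.stdGr k (Fin (r + 1))) s, Finset.sum_smul,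
      map_sum]
    refine Finset.sum_eq_zero fun e _ => ?_
    rw [(modGrStr (GrSyz.stdGr k (Fin (r + 1))) ℳ).π_smul e j' _ y (SetLike.coe_mem _)]
    by_cases he : e < 0
    · rw [stdGr_neg k r e he _ (SetLike.coe_mem _), zero_smul]
    · rw [hy (j' - e) (by omega), smul_zero]

lemma exists_bound (hM : IsFiniteLength (MvPolynomial (Fin (r + 1)) k) M) :
    ∃ t0 : ℤ, ∀ j, t0 ≤ j → ∀ m ∈ ℳ j, m = 0 := by
  haveI : IsArtinian (MvPolynomial (Fin (r + 1)) k) M :=
    (isFiniteLength_iff_isNoetherian_isArtinian.1 hM).2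
  let f : ℕ →o (Submodule (MvPolynomial (Fin (r + 1)) k) M)ᵒᵈ :=
    ⟨fun n => OrderDual.toDual (geSub k r ℳ (n : ℤ)), fun a b hab => by
      show geSub k r ℳ (b : ℤ) ≤ geSub k r ℳ (a : ℤ)
      intro y hy j' hj'
      exact hy j' (by have : (a : ℤ) ≤ b := by exact_mod_cast hab
                      omega)⟩
  obtain ⟨n0, hn0⟩ := IsArtinian.monotone_stabilizes f
  refine ⟨n0, fun j hj m hm => ?_⟩
  obtain ⟨n, rfl⟩ : ∃ n : ℕ, j = n := ⟨j.toNat, by omega⟩
  have hn : n0 ≤ n := by exact_mod_cast hj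
  have h1 : m ∈ geSub k r ℳ (n : ℤ) := by
    intro j' hj'
    rw [modGrStr_π_apply]
    exact projToM_of_mem_ne ℳ hm (by omega)
  have h2 : geSub k r ℳ (n : ℤ) = geSub k r ℳ ((n + 1 : ℕ) : ℤ) := by
    have a : f n0 = f n := hn0 n hn
    have b : f n0 = f (n + 1) := hn0 (n + 1) (by omega)
    exact OrderDual.toDual.injective (a.symm.trans b)
  have h3 : m ∈ geSub k r ℳ ((n + 1 : ℕ) : ℤ) := h2 ▸ h1
  have := h3 n (by push_cast; omega)
  rw [modGrStr_π_apply, projToM_of_mem ℳ hm] at this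
  exact this

theorem le_of_isGenLE (F : GrSyz.FreeRes (GrSyz.stdGr k (Fin (r + 1))) ℳ)
    (hF : F.IsMinimal (GrSyz.irrel (GrSyz.stdGr k (Fin (r + 1)))).toIdeal) (ρ' : ℤ)
    (hgen : F.IsGenLE ρ') (hfin : ∃ t0 : ℤ, ∀ j, t0 ≤ j → ∀ m ∈ ℳ j, m = 0) (n : ℤ)
    (hn : ℳ n ≠ ⊥) : n ≤ ρ' := by
  by_contra hlt
  push Not at hlt
  have hlen := hasLengthLE_of_isMinimal k r ℳ F hF
  obtain ⟨P, hP⟩ := hilbert_polynomial k r ℳ F (r + 1) hlen
  obtain ⟨t0, ht0⟩ := hfin
  have hcond : ∀ d, n ≤ d → ∀ (i : ℕ) (b : Fin (F.rk i)), F.deg i b - (r : ℤ) ≤ d := by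
    intro d hd i b
    have hi : i ≤ r + 1 := by
      by_contra h
      push Not at h
      have := hlen i h
      exact absurd b.2 (by omega)
    have h1 := hgen i b
    have h2 : (i : ℤ) ≤ r + 1 := by exact_mod_cast hi
    omega
  have hroot : ∀ d : ℤ, max n t0 ≤ d → P.eval (d : ℚ) = 0 := by
    intro d hd
    rw [← hP d (hcond d (le_trans (le_max_left _ _) hd))]
    have : Subsingleton ↥(ℳ d) := ⟨fun a b => Subtype.ext (by
      rw [ht0 d (le_trans (le_max_right _ _) hd) a a.2,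
        ht0 d (le_trans (le_max_right _ _) hd) b b.2])⟩
    rw [Module.finrank_zero_of_subsingleton]
    simp
  have hP0 : P = 0 := by
    apply Polynomial.eq_zero_of_infinite_isRoot
    refine Set.infinite_of_injective_forall_mem
      (f := fun m : ℕ => ((max n t0 + m : ℤ) : ℚ)) ?_ ?_
    · intro a b hab
      simpa using hab
    · intro m
      exact hroot _ (by omega)
  have hfr : Module.finrank k ↥(ℳ n) = 0 := by
    have := hP n (hcond n le_rfl)
    rw [hP0, Polynomial.eval_zero] at this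
    exact_mod_cast this
  haveI : Module.Finite k ↥(ℳ n) :=
    Module.Finite.of_surjective (ε' k r ℳ F n) (ε'_surjective k r ℳ F n)
  exact hn (Submodule.finrank_eq_zero.1 hfr)

theorem reg_eq_endDeg [Module.Finite (MvPolynomial (Fin (r + 1)) k) M]
    (hM : IsFiniteLength (MvPolynomial (Fin (r + 1)) k) M) :
    GrSyz.reg (GrSyz.stdGr k (Fin (r + 1))) ℳ
        (GrSyz.irrel (GrSyz.stdGr k (Fin (r + 1)))).toIdeal =
      GrLC.endDeg (fun n => (ℳ n).toAddSubgroup) := by
  have hiff : ∀ d : ℤ, GrSyz.IsRegLE (GrSyz.stdGr k (Fin (r + 1))) ℳ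
      (GrSyz.irrel (GrSyz.stdGr k (Fin (r + 1)))).toIdeal d ↔
      GrLC.endDeg (fun n => (ℳ n).toAddSubgroup) ≤ ((d : WithTop ℤ) : WithBot (WithTop ℤ)) := by
    intro d
    constructor
    · rintro ⟨F, hF, hgen⟩
      unfold GrLC.endDeg
      refine iSup₂_le fun n hn => ?_
      have hn' : ℳ n ≠ ⊥ := fun h => hn (by
        show (ℳ n).toAddSubgroup = ⊥
        rw [h]
        rfl)
      have := le_of_isGenLE k r ℳ F hF d hgen (exists_bound k r ℳ hM) n hn'
      exact WithBot.coe_le_coe.2 (WithTop.coe_le_coe.2 this)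
    · intro hle
      obtain ⟨F, hF⟩ := exists_freeRes_isMinimal_gen (GrSyz.stdGr k (Fin (r + 1)))
        (GrSyz.irrel (GrSyz.stdGr k (Fin (r + 1)))).toIdeal (isUnit_cmp_zero k r) ℳ
      refine ⟨F, hF, isGenLE_of_vanishing k r ℳ F hF d ?_⟩
      intro j hj m hm
      by_contra hm0
      have hne : (ℳ j).toAddSubgroup ≠ ⊥ := by
        intro h
        have hm' : m ∈ (ℳ j).toAddSubgroup := hm
        rw [h] at hm'
        exact hm0 (AddSubgroup.mem_bot.1 hm')
      have h1 : (((j : ℤ) : WithTop ℤ) : WithBot (WithTop ℤ)) ≤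
          GrLC.endDeg (fun n => (ℳ n).toAddSubgroup) :=
        le_iSup₂ (f := fun (n : ℤ) (_ : (ℳ n).toAddSubgroup ≠ ⊥) =>
          (((n : ℤ) : WithTop ℤ) : WithBot (WithTop ℤ))) j hne
      have := le_trans h1 hle
      rw [WithBot.coe_le_coe, WithTop.coe_le_coe] at this
      omega
  unfold GrSyz.reg
  simp only [hiff]
  exact iInf_coe_ge _

end Groth.Agent.Lib27.RegA
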