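import Groth.Agent.Lib27.LD6
import Groth.Agent.Lib27.GrUniq4
import Groth.Agent.Lib27.RegB
import Groth.Agent.Lib.Helper11.GrPolyA
import Groth.Agent.Lib.Helper11.GrDualD
import Groth.Agent.Lib.Helper11.GrGorG
import Groth.Agent.Lib.Helper11.GrVanA
import Groth.Agent.Lib.Helper11.GrCanB

/-!
# The duality data for the standard graded polynomial ring
-/

set_option autoImplicit false
set_option linter.unusedSectionVars false
set_option linter.unusedVariables false
set_option linter.style.haveILetI false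
universe u

namespace Groth.Agent.Lib27.LD

open DirectSum GrLC GrSeg MvPolynomial Groth.Agent.Lib.Helper11.GrLCLib Groth.Agent.Lib.Helper11.GrLes
  Groth.Agent.Lib.Helper11.GrConv Groth.Agent.Lib.Helper11.GrDual Groth.Agent.Lib.Helper11.GrCan
  Groth.Agent.Lib27.GrMin Groth.Agent.Lib27.RegA

variable (k : Type u) [Field k] (r : ℕ)

section Local

lemma decompose_zero_eq (x : MvPolynomial (Fin (r + 1)) k) :
    (decompose (GrSyz.stdGr k (Fin (r + 1))) x 0 : MvPolynomial (Fin (r + 1)) k) = C (coeff 0 x) :=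
  cmp_zero_eq k r x

lemma eq_top_of_notMem_irrel {J : HomogeneousIdeal (GrSyz.stdGr k (Fin (r + 1)))}
    {x : MvPolynomial (Fin (r + 1)) k} (hx : x ∈ J.toIdeal)
    (h : x ∉ (GrSyz.irrel (GrSyz.stdGr k (Fin (r + 1)))).toIdeal) : J = ⊤ := by
  have hc : coeff 0 x ≠ 0 := fun h0 => h (mem_irrel_of_coeff_zero k r x h0)
  have h1 : C (coeff 0 x) ∈ J.toIdeal := by
    rw [← decompose_zero_eq]
    exact J.isHomogeneous 0 hx
  apply HomogeneousIdeal.toIdeal_injective
  rw [HomogeneousIdeal.toIdeal_top]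
  exact Ideal.eq_top_of_isUnit_mem _ h1 ((isUnit_iff_ne_zero.2 hc).map C)

theorem isStarLocal_irrel :
    IsStarLocal (GrSyz.stdGr k (Fin (r + 1))) (GrSyz.irrel (GrSyz.stdGr k (Fin (r + 1)))) := by
  have hne : GrSyz.irrel (GrSyz.stdGr k (Fin (r + 1))) ≠ ⊤ := by
    intro h
    apply one_notMem_irrel k r
    rw [h, HomogeneousIdeal.toIdeal_top]
    exact Submodule.mem_top
  refine ⟨⟨hne, ?_⟩, ?_⟩
  · intro b hb
    obtain ⟨x, hxb, hx⟩ := SetLike.exists_of_lt hb
    exact eq_top_of_notMem_irrel k r hxb hx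
  · intro n' hn'
    have hle : n' ≤ GrSyz.irrel (GrSyz.stdGr k (Fin (r + 1))) := by
      intro x hx
      by_contra hx'
      exact hn'.1 (eq_top_of_notMem_irrel k r hx hx')
    exact ((hn'.le_iff_eq hne).1 hle).symm

lemma stdGr_eq_bot_of_neg (e : ℤ) (he : e < 0) : GrSyz.stdGr k (Fin (r + 1)) e = ⊥ := by
  rw [eq_bot_iff]
  intro p hp
  rw [Submodule.mem_bot]
  exact stdGr_neg k r e he p hp

lemma stdGr_zero_eq : GrSyz.stdGr k (Fin (r + 1)) 0 =
    Submodule.span k {(1 : MvPolynomial (Fin (r + 1)) k)} := by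
  apply le_antisymm
  · intro p hp
    have h1 : p = C (coeff 0 p) := by
      rw [← cmp_zero_eq k r p, cmp_of_mem _ hp]
    rw [h1, Submodule.mem_span_singleton]
    refine ⟨coeff 0 p, ?_⟩
    rw [Algebra.smul_def, mul_one]
    rfl
  · rw [Submodule.span_le]
    rintro _ rfl
    exact SetLike.GradedOne.one_mem

lemma irrel_toIdeal_eq : (GrSyz.irrel (GrSyz.stdGr k (Fin (r + 1)))).toIdeal =
    Ideal.span (⋃ n ∈ Set.Ioi (0 : ℤ),
      (GrSyz.stdGr k (Fin (r + 1)) n : Set (MvPolynomial (Fin (r + 1)) k))) := by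
  change Ideal.span {x : MvPolynomial (Fin (r + 1)) k |
    ∃ n : ℤ, 0 < n ∧ x ∈ GrSyz.stdGr k (Fin (r + 1)) n} = _
  congr 1
  ext x
  simp only [Set.mem_setOf_eq, Set.mem_iUnion, Set.mem_Ioi, SetLike.mem_coe, exists_prop]

end Local

section Top

/-- the standard grading with additive subgroups as pieces. -/
noncomputable abbrev stdC : ℤ → AddSubgroup (MvPolynomial (Fin (r + 1)) k) := conv (GrSyz.stdGr k (Fin (r + 1)))

noncomputable instance stdCGradedRing : GradedRing (stdC k r) :=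
  convGradedRing (GrSyz.stdGr k (Fin (r + 1)))

/-- the irrelevant ideal for the converted grading. -/
noncomputable abbrev irrC : HomogeneousIdeal (stdC k r) :=
  hidealConv (GrSyz.stdGr k (Fin (r + 1))) (GrSyz.irrel (GrSyz.stdGr k (Fin (r + 1))))

lemma isStarLocal_irrC : IsStarLocal (stdC k r) (irrC k r) :=
  isStarLocal_conv (GrSyz.stdGr k (Fin (r + 1))) (isStarLocal_irrel k r)

lemma stdC_neg (e : ℤ) (he : e < 0) : stdC k r e = ⊥ := by
  rw [eq_bot_iff]
  intro p hp
  rw [AddSubgroup.mem_bot]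
  exact stdGr_neg k r e he p hp

lemma X_mem_stdC (i : Fin (r + 1)) : (X i : MvPolynomial (Fin (r + 1)) k) ∈ stdC k r 1 :=
  (MvPolynomial.mem_weightedHomogeneousSubmodule k (fun _ : Fin (r + 1) => (1 : ℤ)) 1 (X i)).2
    (MvPolynomial.isWeightedHomogeneous_X k (fun _ : Fin (r + 1) => (1 : ℤ)) i)

lemma height_and_top (I : StarInjRes (stdC k r) (stdC k r)) :
    (irrC k r).toIdeal.height = ((r + 1 : ℕ) : ℕ∞) ∧
      IsTopDeg (I.Hgr (irrC k r) (r + 1)) (-((r + 1 : ℕ) : ℤ)) := by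
  have h := Groth.Agent.Lib.Helper11.GrPoly.isTopDeg_poly (fun _ : Fin (r + 1) => (1 : ℤ)) (stdC k r)
    (X_mem_stdC k r) (stdC_neg k r) (fun _ => one_pos) (irrC k r) (isStarLocal_irrC k r) I
  have e1 : (Finset.univ : Finset (Fin (r + 1))).sum (fun _ => (1 : ℤ)) = ((r + 1 : ℕ) : ℤ) := by
    simp
  rw [e1] at h
  exact h

end Top

section Dual

open Groth.Agent.Lib.Helper11.GrGor

/-- the duality data for the polynomial ring. -/
theorem nonempty_topDual (I : StarInjRes (stdC k r) (stdC k r)) :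
    Nonempty (TopDual k (stdC k r) (irrC k r) (r + 1) I) := by
  classical
  haveI := Groth.Agent.Lib.Helper11.GrPoly.isGor k (r + 1)
  haveI := Groth.Agent.Lib.Helper11.GrPoly.isCM k (r + 1)
  obtain ⟨hht, htop⟩ := height_and_top k r I
  have hloc := isStarLocal_irrC k r
  have hmax : (irrC k r).toIdeal.IsMaximal :=
    isMaximal_of_isCoatom (stdC k r) (stdC_neg k r) hloc.1
  -- the graded dual of the ring
  letI : DirectSum.Decomposition (gdGr (GrSyz.stdGr k (Fin (r + 1))) (GrSyz.stdGr k (Fin (r + 1)))) :=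
    gdDecomposition _ _
  letI : SetLike.GradedSMul (GrSyz.stdGr k (Fin (r + 1)))
      (gdGr (GrSyz.stdGr k (Fin (r + 1))) (GrSyz.stdGr k (Fin (r + 1)))) := gdGradedSMul _ _
  letI : SetLike.GradedSMul (stdC k r)
      (gdGr (GrSyz.stdGr k (Fin (r + 1))) (GrSyz.stdGr k (Fin (r + 1)))) :=
    convGradedSMul_left (GrSyz.stdGr k (Fin (r + 1))) _
  have hD : IsGDual (MvPolynomial (Fin (r + 1)) k) (GrSyz.stdGr k (Fin (r + 1)))
      (gdGr (GrSyz.stdGr k (Fin (r + 1))) (GrSyz.stdGr k (Fin (r + 1))))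
      (gdPair (GrSyz.stdGr k (Fin (r + 1))) (GrSyz.stdGr k (Fin (r + 1)))) := isGDual_gd _ _
  obtain ⟨e, hei, heg⟩ := exists_hull_map (GrSyz.stdGr k (Fin (r + 1))) _ _
    (stdGr_eq_bot_of_neg k r) (stdGr_zero_eq k r) (GrSyz.irrel (GrSyz.stdGr k (Fin (r + 1))))
    (irrel_toIdeal_eq k r) hD
  have hull := isStarInjHull_gdual (GrSyz.stdGr k (Fin (r + 1))) _ _
    (stdGr_eq_bot_of_neg k r) (stdGr_zero_eq k r) (GrSyz.irrel (GrSyz.stdGr k (Fin (r + 1))))
    (irrel_toIdeal_eq k r) hD e hei heg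
  have hull' := isStarInjHull_conv (GrSyz.stdGr k (Fin (r + 1))) _ hull
  obtain ⟨g, φ, hφ⟩ := exists_top_H_equiv_hull (stdC k r) _ (irrC k r) hloc (r + 1) hht I _ hull'
  letI : DirectSum.Decomposition (I.Hgr (irrC k r) (r + 1)) :=
    (Hgr_isInternal (stdC k r) (stdC k r) I (irrC k r) (r + 1)).chooseDecomposition
  have hφs := isGrHomDeg_symm φ hφ
  -- pieces of the graded dual
  have hgd_bot : ∀ t : ℤ, 0 < t →
      gdGr (GrSyz.stdGr k (Fin (r + 1))) (GrSyz.stdGr k (Fin (r + 1))) t = ⊥ := by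
    intro t ht
    rw [eq_bot_iff]
    intro f hf
    rw [AddSubgroup.mem_bot]
    apply hD.eq_zero t f hf
    intro x hx
    rw [stdGr_neg k r (-t) (by omega) x hx, map_zero]
  have hgd_zero : gdGr (GrSyz.stdGr k (Fin (r + 1))) (GrSyz.stdGr k (Fin (r + 1))) 0 ≠ ⊥ := by
    obtain ⟨G, hG⟩ : ∃ G : Module.Dual k (MvPolynomial (Fin (r + 1)) k), G 1 ≠ 0 := by
      by_contra hcon
      push Not at hcon
      exact one_ne_zero ((Module.forall_dual_apply_eq_zero_iff k
        (1 : MvPolynomial (Fin (r + 1)) k)).mp hcon)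
    obtain ⟨d, hd, hdx⟩ := hD.exists_eq 0 G
    intro hbot
    rw [hbot, AddSubgroup.mem_bot] at hd
    apply hG
    rw [← hdx 1 (by rw [neg_zero]; exact SetLike.GradedOne.one_mem), hd, map_zero]
    rfl
  -- the shift is `r + 1`
  have hg : g = ((r + 1 : ℕ) : ℤ) := by
    apply le_antisymm
    · by_contra hlt
      push Not at hlt
      obtain ⟨⟨u, hu⟩, hu0⟩ := (AddSubgroup.ne_bot_iff_exists_ne_zero
        (H := I.Hgr (irrC k r) (r + 1) (-((r + 1 : ℕ) : ℤ)))).1 htop.1
      have h1 := hφ _ u hu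
      rw [hgd_bot _ (by omega), AddSubgroup.mem_bot] at h1
      apply hu0
      apply Subtype.ext
      exact φ.injective (h1.trans (map_zero φ).symm)
    · by_contra hlt
      push Not at hlt
      obtain ⟨⟨d, hd⟩, hd0⟩ := (AddSubgroup.ne_bot_iff_exists_ne_zero
        (H := gdGr (GrSyz.stdGr k (Fin (r + 1))) (GrSyz.stdGr k (Fin (r + 1))) 0)).1 hgd_zero
      have h1 := hφs 0 d hd
      rw [htop.2 _ (by omega), AddSubgroup.mem_bot] at h1
      apply hd0
      apply Subtype.ext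
      exact φ.symm.injective (h1.trans (map_zero φ.symm).symm)
  subst hg
  refine ⟨{
    B := 
      { toFun := fun u => gdPair (GrSyz.stdGr k (Fin (r + 1))) (GrSyz.stdGr k (Fin (r + 1))) (φ u)
        map_zero' := by rw [map_zero, map_zero]
        map_add' := fun u u' => by rw [map_add, map_add] }
    B_smul := ?_
    eq_zero := ?_
    exists_eq := ?_
    high := ?_
    low := ?_
    algMap_mem := ?_ }⟩
  · intro f u x
    change gdPair _ _ (φ (f • u)) x = gdPair _ _ (φ u) (f * x)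
    rw [map_smul, gdPair_smul, smul_eq_mul]
  · intro t u hu h
    apply φ.injective
    rw [map_zero]
    exact hD.eq_zero (t + ((r + 1 : ℕ) : ℤ)) (φ u) (hφ t u hu) h
  · intro t l
    obtain ⟨d, hd, hdx⟩ := hD.exists_eq (t + ((r + 1 : ℕ) : ℤ)) l
    refine ⟨φ.symm d, ?_, ?_⟩
    · have := hφs _ d hd
      rwa [add_neg_cancel_right] at this
    · intro x hx
      change gdPair _ _ (φ (φ.symm d)) x = l x
      rw [LinearEquiv.apply_symm_apply]
      exact hdx x hx
  · intro X _ _ 𝒳 _ _ EX i hi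
    exact Groth.Agent.Lib.Helper11.GrVan.subsingleton_H_of_height_lt hloc.1 EX (r + 1) hht i hi
  · intro i hi
    exact subsingleton_H_of_lt_height (stdC k r) (irrC k r) hmax I (r + 1) hht.ge i hi
  · intro c
    change (algebraMap k (MvPolynomial (Fin (r + 1)) k) c) ∈ GrSyz.stdGr k (Fin (r + 1)) 0
    exact MvPolynomial.isWeightedHomogeneous_C _ c

end Dual

end Groth.Agent.Lib27.LD
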