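import Groth.Agent.Lib27.CMReg1
import Groth.Agent.Lib27.LD2
import Groth.Agent.Lib27.Syz2

/-!
# Castelnuovo–Mumford regularity via graded local cohomology: the Ext side and the bridge
-/

set_option autoImplicit false
set_option linter.unusedSectionVars false
set_option linter.unusedVariables false
set_option linter.style.haveILetI false

universe u

namespace Groth.Agent.Lib27.CMReg

open Groth.Agent.Lib27.GrMin Groth.Agent.Lib27.Syz Groth.Agent.Lib27.RegA Matrix MvPolynomial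
  GrLC Groth.Agent.Lib.Helper11.GrConv Groth.Agent.Lib27.LD

variable (k : Type u) [Field k] (r : ℕ)
  {M : Type u} [AddCommGroup M] [Module k M] [Module (MvPolynomial (Fin (r + 1)) k) M]
  (ℳ : ℤ → Submodule k M) [DirectSum.Decomposition ℳ]
  [SetLike.GradedSMul (GrSyz.stdGr k (Fin (r + 1))) ℳ]

section ExtSide

variable {k r ℳ}

/-- the dual complex `Hom(F_•, S)` of a free resolution. -/
def toCo (F : GrSyz.FreeRes (GrSyz.stdGr k (Fin (r + 1))) ℳ) :
    CoCx (GrSyz.stdGr k (Fin (r + 1))) where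
  rk := F.rk
  deg := F.deg
  d := F.d
  d_mem := F.d_mem
  dd := by
    intro i v
    have h0 : F.d i * F.d (i + 1) = 0 := by
      apply Matrix.ext
      intro a b
      have h1 : (F.d (i + 1)).mulVec (Pi.single b 1) ∈ LinearMap.ker (Matrix.mulVecLin (F.d i)) := by
        rw [F.exact_succ i]
        exact ⟨_, rfl⟩
      have h2 : (F.d i).mulVec ((F.d (i + 1)).mulVec (Pi.single b 1)) = 0 := h1
      rw [Matrix.mulVec_mulVec] at h2
      have h3 := congrFun h2 a
      simpa [Matrix.mulVec_single_one] using h3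
    rw [Matrix.vecMul_vecMul, h0, Matrix.vecMul_zero]

lemma eq_zero_of_mem_irrel_of_le {e : ℤ} (he : e ≤ 0) {x : MvPolynomial (Fin (r + 1)) k}
    (hx : x ∈ GrSyz.stdGr k (Fin (r + 1)) e)
    (hm : x ∈ (GrSyz.irrel (GrSyz.stdGr k (Fin (r + 1)))).toIdeal) : x = 0 := by
  rcases lt_or_eq_of_le he with h | h
  · exact stdGr_neg k r e h x hx
  · subst h
    have h1 : x = C (coeff 0 x) := by
      rw [← cmp_zero_eq k r x, cmp_of_mem _ hx]
    rw [h1, coeff_zero_of_mem_irrel k r x hm, map_zero]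

/-- (A): a resolution generated in degrees `≤ d + i` has no covectors in low degrees. -/
theorem coVan_of_isGenLE (F : GrSyz.FreeRes (GrSyz.stdGr k (Fin (r + 1))) ℳ) (d : ℤ)
    (hgen : F.IsGenLE d) (p : ℕ) (e : ℤ) (he : e + d + p < 0) : CoVan (toCo F) p e := by
  have hzero : ∀ v, IsCo (GrSyz.stdGr k (Fin (r + 1))) (F.deg p) e v → v = 0 := by
    intro v hv
    funext b
    have := hgen p b
    exact stdGr_neg k r _ (by omega) _ (hv b)
  cases p with
  | zero =>
    intro v hv _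
    exact hzero v hv
  | succ p' =>
    intro v hv _
    refine ⟨0, fun b => zero_mem _, ?_⟩
    rw [hzero v hv]
    exact Matrix.zero_vecMul _

/-- (C): the top socle argument. -/
theorem isGenLE_of_coVan (F : GrSyz.FreeRes (GrSyz.stdGr k (Fin (r + 1))) ℳ)
    (hF : F.IsMinimal (GrSyz.irrel (GrSyz.stdGr k (Fin (r + 1)))).toIdeal) (d : ℤ)
    (h : ∀ p : ℕ, p ≤ r + 1 → ∀ e : ℤ, e + d + p < 0 → CoVan (toCo F) p e) : F.IsGenLE d := by
  classical
  have hlen := hasLengthLE_of_isMinimal k r ℳ F hF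
  by_contra hnot
  unfold GrSyz.FreeRes.IsGenLE at hnot
  push Not at hnot
  obtain ⟨i₀, b₀, hib⟩ := hnot
  have hi₀ : i₀ ≤ r + 1 := by
    by_contra hlt
    push Not at hlt
    have := hlen i₀ hlt
    exact absurd b₀.2 (by omega)
  let T := Σ p : Fin (r + 2), Fin (F.rk p)
  let f : T → ℤ := fun t => F.deg t.1 t.2 - ((t.1 : ℕ) : ℤ)
  let t₀ : T := ⟨⟨i₀, by omega⟩, b₀⟩
  haveI : Nonempty T := ⟨t₀⟩
  obtain ⟨tm, htm⟩ := Finite.exists_max f
  have hDm : d < f tm := by
    have h1 : f t₀ ≤ f tm := htm t₀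
    have h2 : d < f t₀ := by
      show d < F.deg i₀ b₀ - (i₀ : ℤ)
      omega
    omega
  obtain ⟨t₁, ht₁s, ht₁max⟩ := Finset.exists_max_image
    (Finset.univ.filter (fun t : T => f t = f tm)) (fun t => ((t.1 : Fin (r + 2)) : ℕ))
    ⟨tm, by simp⟩
  rw [Finset.mem_filter] at ht₁s
  obtain ⟨⟨p, hp⟩, b⟩ := t₁
  have hft : F.deg p b - (p : ℤ) = f tm := ht₁s.2
  -- the basis covector
  set v : Fin (F.rk p) → MvPolynomial (Fin (r + 1)) k := Pi.single b 1 with hv
  have hvco : IsCo (GrSyz.stdGr k (Fin (r + 1))) (F.deg p) (-F.deg p b) v := by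
    intro b'
    by_cases hb : b' = b
    · subst hb
      rw [hv, Pi.single_eq_same, neg_add_cancel]
      exact SetLike.GradedOne.one_mem
    · rw [hv, Pi.single_eq_of_ne hb]
      exact zero_mem _
  have hcyc : v ᵥ* F.d p = 0 := by
    funext b''
    rw [hv, Matrix.single_one_vecMul]
    show F.d p b b'' = 0
    have hp1 : p + 1 ≤ r + 1 := by
      by_contra hlt
      push Not at hlt
      have := hlen (p + 1) hlt
      exact absurd b''.2 (by omega)
    let t'' : T := ⟨⟨p + 1, by omega⟩, b''⟩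
    have h1 : f t'' ≤ f tm := htm t''
    have h2 : f t'' ≠ f tm := by
      intro heq
      have := ht₁max t'' (by rw [Finset.mem_filter]; exact ⟨Finset.mem_univ _, heq⟩)
      simp only [t''] at this
      omega
    have h3 : F.deg (p + 1) b'' - ((p + 1 : ℕ) : ℤ) < f tm := lt_of_le_of_ne h1 h2
    have h4 : F.deg (p + 1) b'' - F.deg p b ≤ 0 := by
      push_cast at h3
      omega
    exact eq_zero_of_mem_irrel_of_le h4 (F.d_mem p b b'') (hF p b b'')
  have hvan := h p (by omega) (-F.deg p b) (by omega)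
  have hvb : v b = 1 := by rw [hv, Pi.single_eq_same]
  cases p with
  | zero =>
    have h0 : v = 0 := hvan v hvco hcyc
    rw [h0] at hvb
    exact zero_ne_one hvb
  | succ p' =>
    obtain ⟨w, _, hwv⟩ := hvan v hvco hcyc
    apply one_notMem_irrel k r
    rw [← hvb, ← hwv]
    show ∑ a, w a * F.d p' a b ∈ _
    refine Ideal.sum_mem _ fun a _ => ?_
    exact Ideal.mul_mem_left _ _ (hF p' a b)

end ExtSide

section Bridge

/-- the free resolution over the converted grading. -/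
def convFreeRes [DirectSum.Decomposition (conv ℳ)] [SetLike.GradedSMul (stdC k r) (conv ℳ)]
    (F : GrSyz.FreeRes (GrSyz.stdGr k (Fin (r + 1))) ℳ) : GrSyz.FreeRes (stdC k r) (conv ℳ) where
  rk := F.rk
  deg := F.deg
  d := F.d
  aug := F.aug
  d_mem := F.d_mem
  aug_mem := F.aug_mem
  aug_surjective := F.aug_surjective
  exact_zero := F.exact_zero
  exact_succ := F.exact_succ

variable {k r ℳ}

lemma extVan_iff_coVan [DirectSum.Decomposition (conv ℳ)] [SetLike.GradedSMul (stdC k r) (conv ℳ)]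
    (F : GrSyz.FreeRes (GrSyz.stdGr k (Fin (r + 1))) ℳ) (p : ℕ) (e : ℤ) :
    ExtVan (convFreeRes k r ℳ F) p e ↔ CoVan (toCo F) p e := by
  cases p with
  | zero => exact Iff.rfl
  | succ p' => exact Iff.rfl

/-- graded local duality for the polynomial ring, vanishing form. -/
theorem ld_poly (F : GrSyz.FreeRes (GrSyz.stdGr k (Fin (r + 1))) ℳ)
    (E : StarInjRes (GrSyz.stdGr k (Fin (r + 1))) ℳ) (p i : ℕ) (hpi : p + i = r + 1) (j e : ℤ)
    (hje : e + j + ((r + 1 : ℕ) : ℤ) = 0) :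
    (∀ x, x ∈ E.Hgr (GrSyz.irrel (GrSyz.stdGr k (Fin (r + 1)))) i j → x = 0) ↔
      CoVan (toCo F) p e := by
  letI : DirectSum.Decomposition (conv ℳ) := convDecomposition ℳ
  letI : SetLike.GradedSMul (stdC k r) (conv ℳ) := convGradedSMul (GrSyz.stdGr k (Fin (r + 1))) ℳ
  obtain ⟨TD⟩ := nonempty_topDual k r
    (Groth.Agent.Lib.Helper11.GrLCLib.starInjRes (stdC k r) (stdC k r))
  rw [← extVan_iff_coVan F p e]
  exact ld TD (convFreeRes k r ℳ F) (resConv (GrSyz.stdGr k (Fin (r + 1))) ℳ E) p i hpi j e hje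

/-- graded Grothendieck vanishing for the polynomial ring. -/
theorem H_high (E : StarInjRes (GrSyz.stdGr k (Fin (r + 1))) ℳ) (i : ℕ) (hi : r + 1 < i) :
    Subsingleton (E.H (GrSyz.irrel (GrSyz.stdGr k (Fin (r + 1)))) i) := by
  letI : DirectSum.Decomposition (conv ℳ) := convDecomposition ℳ
  letI : SetLike.GradedSMul (stdC k r) (conv ℳ) := convGradedSMul (GrSyz.stdGr k (Fin (r + 1))) ℳ
  obtain ⟨TD⟩ := nonempty_topDual k r
    (Groth.Agent.Lib.Helper11.GrLCLib.starInjRes (stdC k r) (stdC k r))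
  exact TD.high M (conv ℳ) (resConv (GrSyz.stdGr k (Fin (r + 1))) ℳ E) i hi

end Bridge

section Main

variable {k r ℳ}

/-- all local cohomology vanishes above the diagonal `j + i = d`. -/
def LCVan (E : StarInjRes (GrSyz.stdGr k (Fin (r + 1))) ℳ) (d : ℤ) : Prop :=
  ∀ (i : ℕ) (j : ℤ), d < j + i →
    ∀ x, x ∈ E.Hgr (GrSyz.irrel (GrSyz.stdGr k (Fin (r + 1)))) i j → x = 0

theorem lcVan_of_isGenLE (F : GrSyz.FreeRes (GrSyz.stdGr k (Fin (r + 1))) ℳ)
    (E : StarInjRes (GrSyz.stdGr k (Fin (r + 1))) ℳ) (d : ℤ) (hgen : F.IsGenLE d) : LCVan E d := by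
  intro i j hij x hx
  by_cases hi : i ≤ r + 1
  · refine (ld_poly F E (r + 1 - i) i (by omega) j (-j - ((r + 1 : ℕ) : ℤ)) (by ring)).2 ?_ x hx
    apply coVan_of_isGenLE F d hgen
    have : ((r + 1 - i : ℕ) : ℤ) = ((r + 1 : ℕ) : ℤ) - i := by
      rw [Nat.cast_sub hi]
    rw [this]
    omega
  · haveI := H_high E i (by omega)
    exact Subsingleton.elim _ _

theorem isGenLE_of_lcVan (F : GrSyz.FreeRes (GrSyz.stdGr k (Fin (r + 1))) ℳ)
    (hF : F.IsMinimal (GrSyz.irrel (GrSyz.stdGr k (Fin (r + 1)))).toIdeal)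
    (E : StarInjRes (GrSyz.stdGr k (Fin (r + 1))) ℳ) (d : ℤ) (h : LCVan E d) : F.IsGenLE d := by
  apply isGenLE_of_coVan F hF d
  intro p hp e he
  refine (ld_poly F E p (r + 1 - p) (by omega) (-e - ((r + 1 : ℕ) : ℤ)) e (by ring)).1 ?_
  apply h
  have : ((r + 1 - p : ℕ) : ℤ) = ((r + 1 : ℕ) : ℤ) - p := by
    rw [Nat.cast_sub hp]
  rw [this]
  omega

/-- the weak form of the hypothesis suffices (Mumford). -/
theorem isGenLE_of_weak (F : GrSyz.FreeRes (GrSyz.stdGr k (Fin (r + 1))) ℳ)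
    (hF : F.IsMinimal (GrSyz.irrel (GrSyz.stdGr k (Fin (r + 1)))).toIdeal)
    (E : StarInjRes (GrSyz.stdGr k (Fin (r + 1))) ℳ) (d : ℤ)
    (h0 : ∀ j : ℤ, d < j → ∀ x, x ∈ E.Hgr (GrSyz.irrel (GrSyz.stdGr k (Fin (r + 1)))) 0 j → x = 0)
    (h1 : ∀ i : ℕ, 0 < i →
      ∀ x, x ∈ E.Hgr (GrSyz.irrel (GrSyz.stdGr k (Fin (r + 1)))) i (d - (i : ℤ) + 1) → x = 0) :
    F.IsGenLE d := by
  apply isGenLE_of_coVan F hF d
  -- the diagonal hypothesis on the Ext side
  have hdiag : ∀ p : ℕ, p < r + 1 → CoVan (toCo F) p (-d - 1 - p) := by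
    intro p hp
    refine (ld_poly F E p (r + 1 - p) (by omega) (d - ((r + 1 - p : ℕ) : ℤ) + 1) (-d - 1 - p) ?_).1 ?_
    · have : ((r + 1 - p : ℕ) : ℤ) = ((r + 1 : ℕ) : ℤ) - p := by
        rw [Nat.cast_sub hp.le]
      rw [this]
      ring
    · exact h1 (r + 1 - p) (by omega)
  intro p hp e he
  rcases Nat.lt_or_ge p (r + 1) with hlt | hge
  · -- Mumford
    obtain ⟨t, ht⟩ : ∃ t : ℕ, (t : ℤ) = -d - 1 - p - e := ⟨(-d - 1 - p - e).toNat, by omega⟩
    have := mp_le k (r + 1) (toCo F) (-d - 1) hdiag t p hlt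
    exact this.congr (by omega)
  · have hpe : p = r + 1 := by omega
    subst hpe
    refine (ld_poly F E (r + 1) 0 (by omega) (-e - ((r + 1 : ℕ) : ℤ)) e (by ring)).1 ?_
    apply h0
    push_cast at he ⊢
    omega

end Main

end Groth.Agent.Lib27.CMReg
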