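import Groth.Agent.Lib27.CMReg2
import Groth.Agent.Lib27.GrUniq4
import Groth.Agent.Lib.Helper11.GrCanC

/-!
# Castelnuovo–Mumford regularity equals the local-cohomology regularity (final statements)
-/

set_option autoImplicit false
set_option linter.unusedSectionVars false
set_option linter.unusedVariables false

universe u

namespace Groth.Agent.Lib27.CMReg

open GrLC Groth.Agent.Lib.Helper11.GrLes Groth.Agent.Lib.Helper11.GrCan Groth.Agent.Lib27.GrMin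

section EndDeg

variable {A : Type u} [AddCommGroup A]

lemma endDeg_add_le_iff (𝒳 : ℤ → AddSubgroup A) (i d : ℤ) :
    endDeg 𝒳 + cc i ≤ cc d ↔ ∀ j, d < j + i → 𝒳 j = ⊥ := by
  constructor
  · intro h j hj
    by_contra hne
    have h1 := le_endDeg 𝒳 hne
    have h2 : cc j + cc i ≤ cc d := (add_le_add h1 le_rfl).trans h
    rw [← cc_add, cc_le_cc_iff] at h2
    omega
  · intro h
    have h1 : endDeg 𝒳 ≤ cc (d - i) := by
      apply endDeg_le
      intro n hn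
      apply cc_le
      by_contra hlt
      exact hn (h n (by omega))
    calc endDeg 𝒳 + cc i ≤ cc (d - i) + cc i := add_le_add h1 le_rfl
      _ = cc d := by rw [← cc_add, sub_add_cancel]

lemma endDeg_le_iff (𝒳 : ℤ → AddSubgroup A) (d : ℤ) :
    endDeg 𝒳 ≤ cc d ↔ ∀ j, d < j → 𝒳 j = ⊥ := by
  constructor
  · intro h j hj
    by_contra hne
    have h1 := (le_endDeg 𝒳 hne).trans h
    rw [cc_le_cc_iff] at h1
    omega
  · intro h
    apply endDeg_le
    intro n hn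
    apply cc_le
    by_contra hlt
    exact hn (h n (by omega))

end EndDeg

variable (k : Type u) [Field k] (r : ℕ)
  {M : Type u} [AddCommGroup M] [Module k M] [Module (MvPolynomial (Fin (r + 1)) k) M]
  (ℳ : ℤ → Submodule k M) [DirectSum.Decomposition ℳ]
  [SetLike.GradedSMul (GrSyz.stdGr k (Fin (r + 1))) ℳ]

variable {k r ℳ}

lemma lcVan_iff (E : StarInjRes (GrSyz.stdGr k (Fin (r + 1))) ℳ) (d : ℤ) :
    LCVan E d ↔ ∀ i : ℕ, endDeg (E.Hgr (GrSyz.irrel (GrSyz.stdGr k (Fin (r + 1)))) i) +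
      cc (i : ℤ) ≤ cc d := by
  constructor
  · intro h i
    rw [endDeg_add_le_iff]
    intro j hj
    rw [AddSubgroup.eq_bot_iff_forall]
    exact h i j hj
  · intro h i j hij x hx
    have := (endDeg_add_le_iff _ _ _).1 (h i) j hij
    rw [this, AddSubgroup.mem_bot] at hx
    exact hx

/-- S15417. -/
theorem isGenLE_iff_endDeg (F : GrSyz.FreeRes (GrSyz.stdGr k (Fin (r + 1))) ℳ)
    (hF : F.IsMinimal (GrSyz.irrel (GrSyz.stdGr k (Fin (r + 1)))).toIdeal)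
    (E : StarInjRes (GrSyz.stdGr k (Fin (r + 1))) ℳ) (d : ℤ) :
    F.IsGenLE d ↔ ∀ i : ℕ, endDeg (E.Hgr (GrSyz.irrel (GrSyz.stdGr k (Fin (r + 1)))) i) +
      cc (i : ℤ) ≤ cc d := by
  rw [← lcVan_iff]
  exact ⟨lcVan_of_isGenLE F E d, isGenLE_of_lcVan F hF E d⟩

/-- one direction without minimality. -/
theorem endDeg_of_isGenLE (F : GrSyz.FreeRes (GrSyz.stdGr k (Fin (r + 1))) ℳ)
    (E : StarInjRes (GrSyz.stdGr k (Fin (r + 1))) ℳ) (d : ℤ) (h : F.IsGenLE d) :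
    ∀ i : ℕ, endDeg (E.Hgr (GrSyz.irrel (GrSyz.stdGr k (Fin (r + 1)))) i) + cc (i : ℤ) ≤ cc d :=
  (lcVan_iff E d).1 (lcVan_of_isGenLE F E d h)

/-- S15418. -/
theorem isGenLE_iff_weak (F : GrSyz.FreeRes (GrSyz.stdGr k (Fin (r + 1))) ℳ)
    (hF : F.IsMinimal (GrSyz.irrel (GrSyz.stdGr k (Fin (r + 1)))).toIdeal)
    (E : StarInjRes (GrSyz.stdGr k (Fin (r + 1))) ℳ) (d : ℤ) :
    F.IsGenLE d ↔ (endDeg (E.Hgr (GrSyz.irrel (GrSyz.stdGr k (Fin (r + 1)))) 0) ≤ cc d ∧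
      ∀ i : ℕ, 0 < i →
        E.Hcomp (GrSyz.irrel (GrSyz.stdGr k (Fin (r + 1)))) i (d - (i : ℤ) + 1) = ⊥) := by
  constructor
  · intro hgen
    have hv := lcVan_of_isGenLE F E d hgen
    refine ⟨?_, fun i hi => ?_⟩
    · rw [endDeg_le_iff]
      intro j hj
      rw [AddSubgroup.eq_bot_iff_forall]
      exact hv 0 j (by push_cast; omega)
    · rw [Submodule.eq_bot_iff]
      intro x hx
      exact hv i _ (by omega) x hx
  · rintro ⟨h0, h1⟩
    apply isGenLE_of_weak F hF E d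
    · intro j hj x hx
      have := (endDeg_le_iff _ _).1 h0 j hj
      rw [this, AddSubgroup.mem_bot] at hx
      exact hx
    · intro i hi x hx
      have hx' : x ∈ E.Hcomp (GrSyz.irrel (GrSyz.stdGr k (Fin (r + 1)))) i (d - (i : ℤ) + 1) := hx
      rw [h1 i hi, Submodule.mem_bot] at hx'
      exact hx'

/-- S15424. -/
theorem reg_eq_iSup [Module.Finite (MvPolynomial (Fin (r + 1)) k) M]
    (E : StarInjRes (GrSyz.stdGr k (Fin (r + 1))) ℳ) :
    GrSyz.reg (GrSyz.stdGr k (Fin (r + 1))) ℳ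
        (GrSyz.irrel (GrSyz.stdGr k (Fin (r + 1)))).toIdeal =
      ⨆ i : ℕ, (endDeg (E.Hgr (GrSyz.irrel (GrSyz.stdGr k (Fin (r + 1)))) i) + cc (i : ℤ)) := by
  obtain ⟨F, hF⟩ := exists_freeRes_isMinimal_gen (GrSyz.stdGr k (Fin (r + 1)))
    (GrSyz.irrel (GrSyz.stdGr k (Fin (r + 1)))).toIdeal (isUnit_cmp_zero k r) ℳ
  have hiff : ∀ d : ℤ, GrSyz.IsRegLE (GrSyz.stdGr k (Fin (r + 1))) ℳ
      (GrSyz.irrel (GrSyz.stdGr k (Fin (r + 1)))).toIdeal d ↔
      (⨆ i : ℕ, (endDeg (E.Hgr (GrSyz.irrel (GrSyz.stdGr k (Fin (r + 1)))) i) + cc (i : ℤ))) ≤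
        cc d := by
    intro d
    rw [iSup_le_iff]
    constructor
    · rintro ⟨F', _, hgen⟩
      exact endDeg_of_isGenLE F' E d hgen
    · intro h
      exact ⟨F, hF, (isGenLE_iff_endDeg F hF E d).2 h⟩
  unfold GrSyz.reg
  simp only [hiff]
  exact iInf_coe_ge _

end Groth.Agent.Lib27.CMReg
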