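import Groth.Agent.Lib27.LD7

/-!
# Local cohomology and a quasi-regular linear form
-/

set_option autoImplicit false
set_option linter.unusedSectionVars false
set_option linter.unusedVariables false
set_option linter.style.haveILetI false
universe u

namespace Groth.Agent.Lib27.LD

open DirectSum GrLC Groth.Agent.Lib.Helper11.GrLCLib Groth.Agent.Lib.Helper11.GrLes

variable {R : Type u} [CommRing R] [IsNoetherianRing R] {𝒜 : ℤ → AddSubgroup R} [GradedRing 𝒜]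
variable {M : Type u} [AddCommGroup M] [Module R M] {ℳ : ℤ → AddSubgroup M}
  [DirectSum.Decomposition ℳ] [SetLike.GradedSMul 𝒜 ℳ] [Module.Finite R M]
variable {N : Type u} [AddCommGroup N] [Module R N] {𝒩 : ℤ → AddSubgroup N}
  [DirectSum.Decomposition 𝒩] [SetLike.GradedSMul 𝒜 𝒩]

theorem qr_core (x : R) (hx : x ∈ 𝒜 1) (π : M →ₗ[R] N) (hπ : IsGrHomDeg ℳ 𝒩 π 0)
    (hπs : Function.Surjective π)
    (hker : LinearMap.ker π = LinearMap.range (LinearMap.lsmul R M x))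
    (hT : IsFiniteLength R (LinearMap.ker (LinearMap.lsmul R M x)))
    (a : HomogeneousIdeal 𝒜) (hxa : x ∈ a.toIdeal)
    (EM : StarInjRes 𝒜 ℳ) (EN : StarInjRes 𝒜 𝒩) :
    (∀ (i : ℕ) (g : ℤ), (∀ z, z ∈ EM.Hgr a i g → z = 0) →
      (∀ z, z ∈ EM.Hgr a (i + 1) (g + -1) → z = 0) → ∀ z, z ∈ EN.Hgr a i g → z = 0) ∧
    (∀ (i : ℕ) (g₀ : ℤ), (∀ g, g₀ < g → ∀ w, w ∈ EN.Hgr a i g → w = 0) →
      ∀ j, g₀ ≤ j → ∀ z, z ∈ EM.Hgr a (i + 1) j → z = 0) := by
  classical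
  have hxdeg : IsGrHomDeg ℳ ℳ (LinearMap.lsmul R M x) 1 := isGrHomDeg_lsmul ℳ 𝒜 hx
  obtain ⟨T, hTdef⟩ : ∃ T : Submodule R M, T = LinearMap.ker (LinearMap.lsmul R M x) := ⟨_, rfl⟩
  rw [← hTdef] at hT
  have hTh : T.IsHomogeneous ℳ := by rw [hTdef]; exact ker_isHomogeneous_deg ℳ ℳ hxdeg
  haveI : IsNoetherian R M := isNoetherian_of_isNoetherianRing_of_finite R M
  haveI : Module.Finite R T := Module.Finite.iff_fg.2 (IsNoetherian.noetherian T)
  letI := subDecomposition ℳ T hTh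
  letI := quotDecomposition ℳ T hTh
  let ET : StarInjRes 𝒜 (subGr ℳ T) := starInjRes 𝒜 (subGr ℳ T)
  let EQ : StarInjRes 𝒜 (quotGrM ℳ T) := starInjRes 𝒜 (quotGrM ℳ T)
  have hsub : IsGrHomDeg (subGr ℳ T) ℳ T.subtype 0 := by
    intro j y hy
    rw [add_zero]
    exact hy
  have hq : IsGrHomDeg ℳ (quotGrM ℳ T) T.mkQ 0 := by
    intro j y hy
    rw [add_zero]
    exact mkQ_isGrHom ℳ T j y hy
  have hle : T ≤ LinearMap.ker (LinearMap.lsmul R M x) := by rw [hTdef]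
  let xbar : (M ⧸ T) →ₗ[R] M := T.liftQ (LinearMap.lsmul R M x) hle
  have hxbar : IsGrHomDeg (quotGrM ℳ T) ℳ xbar 1 := by
    rintro j _ ⟨y, hy, rfl⟩
    exact hxdeg j y hy
  have hxbar_inj : Function.Injective xbar := by
    rw [← LinearMap.ker_eq_bot]
    apply Submodule.ker_liftQ_eq_bot
    rw [hTdef]
  have hxbar_comp : xbar ∘ₗ T.mkQ = LinearMap.lsmul R M x := Submodule.liftQ_mkQ _ _ _
  have hxbar_range : LinearMap.ker π = LinearMap.range xbar := by
    rw [hker, Submodule.range_liftQ]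
  obtain ⟨γA, hγA, a1, a2, a3, -⟩ := les ET EM EQ T.subtype T.mkQ hsub hq
    (Submodule.injective_subtype T) (Submodule.mkQ_surjective T)
    (by rw [Submodule.ker_mkQ, Submodule.range_subtype]) a
  obtain ⟨γB, hγB, b1, b2, b3⟩ := les_deg EQ EM EN xbar π 1 hxbar hπ hxbar_inj hπs hxbar_range a
  have hTvan : ∀ i : ℕ, 1 ≤ i → Subsingleton (ET.H a i) := fun i hi =>
    subsingleton_H_of_isFiniteLength hT ET a i hi
  have hqsurj : ∀ (i : ℕ) (y : EQ.H a i), ∃ z, Hm EM EQ a i T.mkQ 0 hq z = y := by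
    intro i y
    haveI := hTvan (i + 1) (by omega)
    exact (a2 i y).1 (Subsingleton.elim _ _)
  have hqinj : ∀ (i : ℕ) (z : EM.H a (i + 1)), Hm EM EQ a (i + 1) T.mkQ 0 hq z = 0 → z = 0 := by
    intro i z hz
    haveI := hTvan (i + 1) (by omega)
    obtain ⟨w, hw⟩ := (a1 (i + 1) z).1 hz
    rw [← hw, Subsingleton.elim w 0, map_zero]
  have hγBdeg : ∀ i, IsGrHomDeg (EN.Hgr a i) (EQ.Hgr a (i + 1)) (γB i) (-1) :=
    fun i g z hz => hγB i g z hz
  refine ⟨?_, ?_⟩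
  · intro i g h1 h2 z hz
    have hQvan : ∀ y, y ∈ EQ.Hgr a (i + 1) (g + -1) → y = 0 := by
      intro y hy
      obtain ⟨z', hz'⟩ := hqsurj (i + 1) y
      obtain ⟨z'', hz'', hz''y⟩ := Hm_exists_hom_preimage hq (by rw [add_zero]; exact hy) z' hz'
      rw [← hz''y, h2 z'' hz'', map_zero]
    have hγz : γB i z = 0 := hQvan _ (hγB i g z hz)
    obtain ⟨y, hy⟩ := (b2 i z).1 hγz
    obtain ⟨y', hy', hy'z⟩ := Hm_exists_hom_preimage hπ (by rw [add_zero]; exact hz) y hy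
    rw [← hy'z, h1 y' hy', map_zero]
  · intro i g₀ hN
    have hinj : ∀ j, g₀ ≤ j → ∀ z, z ∈ EM.Hgr a (i + 1) j → x • z = 0 → z = 0 := by
      intro j hj z hz hxz
      have h1 : Hm EQ EM a (i + 1) xbar 1 hxbar (Hm EM EQ a (i + 1) T.mkQ 0 hq z) = x • z := by
        rw [Hm_comp_apply' hq hxbar hxdeg hxbar_comp (zero_add 1), Hm_lsmul EM a (i + 1) hx]
      rw [hxz] at h1
      obtain ⟨w, hw⟩ := (b3 i _).1 h1
      have hmem : Hm EM EQ a (i + 1) T.mkQ 0 hq z ∈ EQ.Hgr a (i + 1) (j + 1 + -1) := by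
        have := Hm_mem (E' := EQ) (a := a) (q := i + 1) hq hz
        rw [add_zero] at this
        rw [add_neg_cancel_right]
        exact this
      obtain ⟨w', hw', hw'e⟩ := exists_homogeneous_preimage (EN.Hgr a i) (EQ.Hgr a (i + 1))
        (Hgr_isInternal 𝒜 𝒩 EN a i) (Hgr_isInternal 𝒜 (quotGrM ℳ T) EQ a (i + 1)) (γB i) (-1)
        (hγBdeg i) (j + 1) _ hmem w hw
      have hw0 := hN (j + 1) (by omega) w' hw'
      rw [hw0, map_zero] at hw'e
      exact hqinj i z hw'e.symm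
    intro j hj z hz
    obtain ⟨t, ht⟩ := exists_pow_smul_eq_zero EM a (i + 1) hxa z
    induction t generalizing z j with
    | zero =>
      rw [pow_zero, one_smul] at ht
      exact ht
    | succ t ih =>
      have h2 : x • z ∈ EM.Hgr a (i + 1) (j + 1) := smul_mem_Hcomp EM a (i + 1) hx hz
      have h3 : x ^ t • (x • z) = 0 := by
        rw [smul_smul, ← pow_succ]
        exact ht
      have h4 := ih (j + 1) (by omega) (x • z) h2 h3
      exact hinj j hj z hz h4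

end Groth.Agent.Lib27.LD
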