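import Groth.Agent.Lib27.CMReg3
import Groth.Agent.Lib27.LD8

/-!
# Regularity and quasi-regular linear forms
-/

set_option autoImplicit false
set_option linter.unusedSectionVars false
set_option linter.unusedVariables false
set_option linter.style.haveILetI false

universe u

namespace Groth.Agent.Lib27.CMReg

open GrLC Groth.Agent.Lib.Helper11.GrLes Groth.Agent.Lib.Helper11.GrCan Groth.Agent.Lib27.GrMin
  Groth.Agent.Lib.Helper11.GrConv Groth.Agent.Lib27.LD Groth.Agent.Lib.Helper11.GrLCLib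

section Unconv

variable {ι : Type} [DecidableEq ι] [AddCommGroup ι]
variable {R : Type u} [CommRing R] {σ : Type u} [SetLike σ R] [AddSubgroupClass σ R]
  (𝒜 : ι → σ) [GradedRing 𝒜]
variable {M : Type u} [AddCommGroup M] [Module R M]
variable {τ : Type u} [SetLike τ M] [AddSubgroupClass τ M] (ℳ : ι → τ)
  [DirectSum.Decomposition ℳ] [SetLike.GradedSMul 𝒜 ℳ]
  [DirectSum.Decomposition (conv ℳ)]

attribute [local instance] convGradedRing

/-- a *injective resolution over the converted grading gives one over the original grading. -/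
noncomputable def resUnconv [SetLike.GradedSMul (conv 𝒜) (conv ℳ)]
    (Ec : StarInjRes (conv 𝒜) (conv ℳ)) : StarInjRes 𝒜 ℳ where
  X n := gmodUnconv 𝒜 (Ec.X n)
  d n := Ec.d n
  ε := Ec.ε
  d_grHom n := Ec.d_grHom n
  ε_grHom := Ec.ε_grHom
  ε_injective := Ec.ε_injective
  exact_zero := Ec.exact_zero
  exact_succ n := Ec.exact_succ n
  starInj n := by
    letI : SetLike.GradedSMul 𝒜 (Ec.X n).gr := unconvGradedSMul_left 𝒜 (Ec.X n).gr
    exact isStarInj_unconv 𝒜 (Ec.X n).gr (Ec.starInj n)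

end Unconv

variable (k : Type u) [Field k] (r : ℕ)
  {M : Type u} [AddCommGroup M] [Module k M] [Module (MvPolynomial (Fin (r + 1)) k) M]
  (ℳ : ℤ → Submodule k M) [DirectSum.Decomposition ℳ]
  [SetLike.GradedSMul (GrSyz.stdGr k (Fin (r + 1))) ℳ]
  {N : Type u} [AddCommGroup N] [Module k N] [Module (MvPolynomial (Fin (r + 1)) k) N]
  (𝒩 : ℤ → Submodule k N) [DirectSum.Decomposition 𝒩]
  [SetLike.GradedSMul (GrSyz.stdGr k (Fin (r + 1))) 𝒩]

theorem nonempty_starInjRes_std : Nonempty (StarInjRes (GrSyz.stdGr k (Fin (r + 1))) ℳ) := by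
  letI : DirectSum.Decomposition (conv ℳ) := convDecomposition ℳ
  letI : SetLike.GradedSMul (stdC k r) (conv ℳ) := convGradedSMul (GrSyz.stdGr k (Fin (r + 1))) ℳ
  exact ⟨resUnconv (GrSyz.stdGr k (Fin (r + 1))) ℳ (starInjRes (stdC k r) (conv ℳ))⟩

variable {k r ℳ 𝒩}

section QR

variable [Module.Finite (MvPolynomial (Fin (r + 1)) k) M]
  (x : MvPolynomial (Fin (r + 1)) k) (hx : x ∈ GrSyz.stdGr k (Fin (r + 1)) 1)
  (hq : IsFiniteLength (MvPolynomial (Fin (r + 1)) k)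
    ↥(Submodule.torsionBy (MvPolynomial (Fin (r + 1)) k) M x))
  (π : M →ₗ[MvPolynomial (Fin (r + 1)) k] N) (hπ : Function.Surjective π)
  (hπg : GrLC.IsGrHom ℳ 𝒩 π)
  (hker : LinearMap.ker π =
    LinearMap.range (x • (LinearMap.id : M →ₗ[MvPolynomial (Fin (r + 1)) k] M)))
  (E : StarInjRes (GrSyz.stdGr k (Fin (r + 1))) ℳ) (E' : StarInjRes (GrSyz.stdGr k (Fin (r + 1))) 𝒩)

include hx hq hπ hπg hker in
theorem qr_poly :
    (∀ (i : ℕ) (g : ℤ),
      (∀ z, z ∈ E.Hgr (GrSyz.irrel (GrSyz.stdGr k (Fin (r + 1)))) i g → z = 0) →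
      (∀ z, z ∈ E.Hgr (GrSyz.irrel (GrSyz.stdGr k (Fin (r + 1)))) (i + 1) (g + -1) → z = 0) →
      ∀ z, z ∈ E'.Hgr (GrSyz.irrel (GrSyz.stdGr k (Fin (r + 1)))) i g → z = 0) ∧
    (∀ (i : ℕ) (g₀ : ℤ),
      (∀ g, g₀ < g → ∀ w, w ∈ E'.Hgr (GrSyz.irrel (GrSyz.stdGr k (Fin (r + 1)))) i g → w = 0) →
      ∀ j, g₀ ≤ j →
        ∀ z, z ∈ E.Hgr (GrSyz.irrel (GrSyz.stdGr k (Fin (r + 1)))) (i + 1) j → z = 0) := by
  letI : DirectSum.Decomposition (conv ℳ) := convDecomposition ℳ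
  letI : SetLike.GradedSMul (stdC k r) (conv ℳ) := convGradedSMul (GrSyz.stdGr k (Fin (r + 1))) ℳ
  letI : DirectSum.Decomposition (conv 𝒩) := convDecomposition 𝒩
  letI : SetLike.GradedSMul (stdC k r) (conv 𝒩) := convGradedSMul (GrSyz.stdGr k (Fin (r + 1))) 𝒩
  have hlin : (x • (LinearMap.id : M →ₗ[MvPolynomial (Fin (r + 1)) k] M)) =
      LinearMap.lsmul (MvPolynomial (Fin (r + 1)) k) M x := by
    apply LinearMap.ext
    intro y
    rfl
  have hker' : LinearMap.ker π =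
      LinearMap.range (LinearMap.lsmul (MvPolynomial (Fin (r + 1)) k) M x) := by
    rw [hker, hlin]
  have hTeq : Submodule.torsionBy (MvPolynomial (Fin (r + 1)) k) M x =
      LinearMap.ker (LinearMap.lsmul (MvPolynomial (Fin (r + 1)) k) M x) := by
    ext y
    rw [Submodule.mem_torsionBy_iff, LinearMap.mem_ker]
    rfl
  have hT : IsFiniteLength (MvPolynomial (Fin (r + 1)) k)
      (LinearMap.ker (LinearMap.lsmul (MvPolynomial (Fin (r + 1)) k) M x)) := by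
    rw [← hTeq]
    exact hq
  have hxa : x ∈ (irrC k r).toIdeal := Ideal.subset_span ⟨1, one_pos, hx⟩
  have hπ0 : IsGrHomDeg (conv ℳ) (conv 𝒩) π 0 := by
    intro j y hy
    rw [add_zero]
    exact hπg j y hy
  exact qr_core (𝒜 := stdC k r) (ℳ := conv ℳ) (𝒩 := conv 𝒩) x hx π hπ0 hπ hker' hT (irrC k r) hxa
    (resConv (GrSyz.stdGr k (Fin (r + 1))) ℳ E) (resConv (GrSyz.stdGr k (Fin (r + 1))) 𝒩 E')

/-- weak regularity in the local cohomology sense. -/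
def WeakReg (E : StarInjRes (GrSyz.stdGr k (Fin (r + 1))) ℳ) (d : ℤ) : Prop :=
  ∀ i : ℕ, 0 < i → E.Hcomp (GrSyz.irrel (GrSyz.stdGr k (Fin (r + 1)))) i (d - (i : ℤ) + 1) = ⊥

/-- regularity in the local cohomology sense. -/
def LCReg (E : StarInjRes (GrSyz.stdGr k (Fin (r + 1))) ℳ) (d : ℤ) : Prop :=
  endDeg (E.Hgr (GrSyz.irrel (GrSyz.stdGr k (Fin (r + 1)))) 0) ≤ cc d ∧ WeakReg E d

include hx hq hπ hπg hker in
/-- S15419. -/
theorem weakReg_quot (d : ℤ) (hM : WeakReg E d) : WeakReg E' d := by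
  obtain ⟨hW, -⟩ := qr_poly x hx hq π hπ hπg hker E E'
  intro i hi
  rw [Submodule.eq_bot_iff]
  refine hW i _ ?_ ?_
  · intro z hz
    have hz' : z ∈ E.Hcomp (GrSyz.irrel (GrSyz.stdGr k (Fin (r + 1)))) i (d - (i : ℤ) + 1) := hz
    rw [hM i hi, Submodule.mem_bot] at hz'
    exact hz'
  · intro z hz
    have e1 : d - (i : ℤ) + 1 + -1 = d - ((i + 1 : ℕ) : ℤ) + 1 := by push_cast; ring
    rw [e1] at hz
    have hz' : z ∈ E.Hcomp (GrSyz.irrel (GrSyz.stdGr k (Fin (r + 1)))) (i + 1)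
        (d - ((i + 1 : ℕ) : ℤ) + 1) := hz
    rw [hM (i + 1) (by omega), Submodule.mem_bot] at hz'
    exact hz'

variable [Module.Finite (MvPolynomial (Fin (r + 1)) k) N]

lemma lcVan_of_lcReg (E : StarInjRes (GrSyz.stdGr k (Fin (r + 1))) ℳ) (d : ℤ) (h : LCReg E d) :
    LCVan E d := by
  obtain ⟨F, hF⟩ := exists_freeRes_isMinimal_gen (GrSyz.stdGr k (Fin (r + 1)))
    (GrSyz.irrel (GrSyz.stdGr k (Fin (r + 1)))).toIdeal (isUnit_cmp_zero k r) ℳ
  exact lcVan_of_isGenLE F E d ((isGenLE_iff_weak F hF E d).2 h)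

include hx hq hπ hπg hker in
/-- S15420. -/
theorem lcReg_iff (d : ℤ) :
    LCReg E d ↔ (LCReg E' d ∧
      endDeg (E.Hgr (GrSyz.irrel (GrSyz.stdGr k (Fin (r + 1)))) 0) ≤ cc d) := by
  obtain ⟨hW, hV⟩ := qr_poly x hx hq π hπ hπg hker E E'
  constructor
  · intro hM
    have hv := lcVan_of_lcReg E d hM
    refine ⟨⟨?_, weakReg_quot x hx hq π hπ hπg hker E E' d hM.2⟩, hM.1⟩
    rw [endDeg_le_iff]
    intro j hj
    rw [AddSubgroup.eq_bot_iff_forall]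
    refine hW 0 j (hv 0 j (by push_cast; omega)) (hv 1 (j + -1) (by push_cast; omega))
  · rintro ⟨hN, hM0⟩
    have hv := lcVan_of_lcReg E' d hN
    refine ⟨hM0, ?_⟩
    intro i hi
    obtain ⟨i', rfl⟩ : ∃ i', i = i' + 1 := ⟨i - 1, by omega⟩
    rw [Submodule.eq_bot_iff]
    intro z hz
    refine hV i' (d - (i' : ℤ)) ?_ (d - ((i' + 1 : ℕ) : ℤ) + 1) (by push_cast; omega) z hz
    intro g hg w hw
    exact hv i' g (by omega) w hw

end QR

section Reg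

variable [Module.Finite (MvPolynomial (Fin (r + 1)) k) M]

/-- `reg ≤ d` iff regular in the local cohomology sense. -/
theorem isRegLE_iff_lcReg (E : StarInjRes (GrSyz.stdGr k (Fin (r + 1))) ℳ) (d : ℤ) :
    GrSyz.IsRegLE (GrSyz.stdGr k (Fin (r + 1))) ℳ
      (GrSyz.irrel (GrSyz.stdGr k (Fin (r + 1)))).toIdeal d ↔ LCReg E d := by
  obtain ⟨F, hF⟩ := exists_freeRes_isMinimal_gen (GrSyz.stdGr k (Fin (r + 1)))
    (GrSyz.irrel (GrSyz.stdGr k (Fin (r + 1)))).toIdeal (isUnit_cmp_zero k r) ℳ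
  constructor
  · rintro ⟨F', hF', hgen⟩
    exact (isGenLE_iff_weak F' hF' E d).1 hgen
  · intro h
    exact ⟨F, hF, (isGenLE_iff_weak F hF E d).2 h⟩

theorem isRegLE_iff_reg_le (d : ℤ) :
    GrSyz.IsRegLE (GrSyz.stdGr k (Fin (r + 1))) ℳ
      (GrSyz.irrel (GrSyz.stdGr k (Fin (r + 1)))).toIdeal d ↔
    GrSyz.reg (GrSyz.stdGr k (Fin (r + 1))) ℳ
      (GrSyz.irrel (GrSyz.stdGr k (Fin (r + 1)))).toIdeal ≤ cc d := by
  obtain ⟨E⟩ := nonempty_starInjRes_std k r ℳ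
  obtain ⟨F, hF⟩ := exists_freeRes_isMinimal_gen (GrSyz.stdGr k (Fin (r + 1)))
    (GrSyz.irrel (GrSyz.stdGr k (Fin (r + 1)))).toIdeal (isUnit_cmp_zero k r) ℳ
  rw [reg_eq_iSup E, iSup_le_iff]
  constructor
  · rintro ⟨F', _, hgen⟩
    exact endDeg_of_isGenLE F' E d hgen
  · intro h
    exact ⟨F, hF, (isGenLE_iff_endDeg F hF E d).2 h⟩

end Reg

section S15421

variable [Module.Finite (MvPolynomial (Fin (r + 1)) k) M]
  [Module.Finite (MvPolynomial (Fin (r + 1)) k) N]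
  (x : MvPolynomial (Fin (r + 1)) k) (hx : x ∈ GrSyz.stdGr k (Fin (r + 1)) 1)
  (hq : IsFiniteLength (MvPolynomial (Fin (r + 1)) k)
    ↥(Submodule.torsionBy (MvPolynomial (Fin (r + 1)) k) M x))
  (π : M →ₗ[MvPolynomial (Fin (r + 1)) k] N) (hπ : Function.Surjective π)
  (hπg : GrLC.IsGrHom ℳ 𝒩 π)
  (hker : LinearMap.ker π =
    LinearMap.range (x • (LinearMap.id : M →ₗ[MvPolynomial (Fin (r + 1)) k] M)))
  (E : StarInjRes (GrSyz.stdGr k (Fin (r + 1))) ℳ)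

include hx hq hπ hπg hker in
/-- S15421. -/
theorem reg_eq_sup_quot :
    GrSyz.reg (GrSyz.stdGr k (Fin (r + 1))) ℳ (GrSyz.irrel (GrSyz.stdGr k (Fin (r + 1)))).toIdeal =
      endDeg (E.Hgr (GrSyz.irrel (GrSyz.stdGr k (Fin (r + 1)))) 0) ⊔
        GrSyz.reg (GrSyz.stdGr k (Fin (r + 1))) 𝒩
          (GrSyz.irrel (GrSyz.stdGr k (Fin (r + 1)))).toIdeal := by
  obtain ⟨E'⟩ := nonempty_starInjRes_std k r 𝒩
  have hiff : ∀ d : ℤ, GrSyz.IsRegLE (GrSyz.stdGr k (Fin (r + 1))) ℳ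
      (GrSyz.irrel (GrSyz.stdGr k (Fin (r + 1)))).toIdeal d ↔
      endDeg (E.Hgr (GrSyz.irrel (GrSyz.stdGr k (Fin (r + 1)))) 0) ⊔
        GrSyz.reg (GrSyz.stdGr k (Fin (r + 1))) 𝒩
          (GrSyz.irrel (GrSyz.stdGr k (Fin (r + 1)))).toIdeal ≤ cc d := by
    intro d
    rw [isRegLE_iff_lcReg E d, lcReg_iff x hx hq π hπ hπg hker E E' d, ← isRegLE_iff_lcReg E' d,
      isRegLE_iff_reg_le, sup_le_iff]
    exact and_comm
  unfold GrSyz.reg
  simp only [hiff]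
  exact iInf_coe_ge _

end S15421

end Groth.Agent.Lib27.CMReg
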