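import Groth.Agent.Lib.Helper12.CatRing
import Mathlib.RingTheory.Ideal.KrullsHeightTheorem
import Mathlib.RingTheory.Ideal.Height

/-!
# Catenary local rings with a unique minimal prime: heights along a covering
-/

set_option autoImplicit false
universe u

namespace Groth.Agent.Lib27.CatCov

open Groth.Agent.Lib.Helper12.Codim

section Poset

variable {S : Type*} [PartialOrder S]

lemma cd_bot_eq_height (a₀ : S) (hbot : ∀ x, a₀ ≤ x) (b : S) : cd a₀ b = Order.height b := by
  apply le_antisymm
  · rw [cd_le_iff]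
    intro s _ h2
    exact (Order.length_le_height_last (p := s)).trans (Order.height_mono h2)
  · rw [Order.height_le_iff']
    intro p hp
    by_cases h : p.head = a₀
    · exact le_cd p h hp.le
    · have hlt : a₀ < p.head := lt_of_le_of_ne (hbot _) (Ne.symm h)
      have h1 := le_cd (a := a₀) (b := b) (p.cons a₀ hlt) (RelSeries.head_cons _ _ _)
        (by rw [RelSeries.last_cons]; exact hp.le)
      rw [RelSeries.cons_length] at h1
      refine le_trans ?_ h1
      exact_mod_cast Nat.le_succ _

lemma height_eq_of_covBy (hcat : IsCat S) (a₀ : S) (hbot : ∀ x, a₀ ≤ x) {x y : S} (h : x ⋖ y) :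
    Order.height y = Order.height x + 1 := by
  obtain ⟨-, hadd⟩ := isCat_iff.1 hcat
  rw [← cd_bot_eq_height a₀ hbot, ← cd_bot_eq_height a₀ hbot, hadd a₀ x y (hbot x) h.le,
    cd_of_covBy h]

end Poset

section Ring

variable {R₀ : Type u} [CommRing R₀] (p : Ideal R₀) [p.IsPrime]
  (R : Type u) [CommRing R] [Algebra R₀ R] [IsLocalization.AtPrime R p]

include p in
theorem ringKrullDim_eq_height_add_one (hcat : CAlg.IsCatenary R)
    (P₀ : Ideal R₀) [P₀.IsPrime] (hbot : ∀ q : Ideal R₀, q.IsPrime → P₀ ≤ q)
    (P : Ideal R₀) [P.IsPrime] (hPp : P < p)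
    (hcov : ∀ q : Ideal R₀, q.IsPrime → P < q → q < p → False) :
    ringKrullDim R = (P.height : WithBot ℕ∞) + 1 := by
  haveI : IsLocalRing R := IsLocalization.AtPrime.isLocalRing R p
  have hdisj : ∀ q : Ideal R₀, q ≤ p → Disjoint (p.primeCompl : Set R₀) (q : Set R₀) := by
    intro q hq
    rw [Set.disjoint_left]
    intro a ha haq
    exact ha (hq haq)
  have hprime : ∀ q : Ideal R₀, q.IsPrime → q ≤ p → (q.map (algebraMap R₀ R)).IsPrime :=
    fun q hq hqp => IsLocalization.isPrime_of_isPrime_disjoint p.primeCompl R q hq (hdisj q hqp)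
  have hcomap : ∀ q : Ideal R₀, q.IsPrime → q ≤ p →
      (q.map (algebraMap R₀ R)).comap (algebraMap R₀ R) = q :=
    fun q hq hqp => IsLocalization.comap_map_of_isPrime_disjoint p.primeCompl R hq (hdisj q hqp)
  have hP₀p : P₀ ≤ p := hbot p inferInstance
  let a₀ : PrimeSpectrum R := ⟨P₀.map (algebraMap R₀ R), hprime P₀ inferInstance hP₀p⟩
  let x : PrimeSpectrum R := ⟨P.map (algebraMap R₀ R), hprime P inferInstance hPp.le⟩
  let y : PrimeSpectrum R := IsLocalRing.closedPoint R
  have hbot' : ∀ z : PrimeSpectrum R, a₀ ≤ z := by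
    intro z
    show P₀.map (algebraMap R₀ R) ≤ z.asIdeal
    rw [Ideal.map_le_iff_le_comap]
    exact hbot _ (Ideal.IsPrime.comap _)
  have hycomap : y.asIdeal.comap (algebraMap R₀ R) = p :=
    IsLocalization.AtPrime.comap_maximalIdeal R p
  have hxy : x ⋖ y := by
    constructor
    · refine lt_of_le_of_ne (IsLocalRing.le_maximalIdeal x.2.ne_top) ?_
      intro h
      have h1 : x.asIdeal.comap (algebraMap R₀ R) = y.asIdeal.comap (algebraMap R₀ R) := by
        rw [h]
      rw [hycomap, show x.asIdeal = P.map (algebraMap R₀ R) from rfl,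
        hcomap P inferInstance hPp.le] at h1
      exact hPp.ne h1
    · intro z hxz hzy
      have hinj : ∀ a b : PrimeSpectrum R,
          a.asIdeal.comap (algebraMap R₀ R) = b.asIdeal.comap (algebraMap R₀ R) → a = b := by
        intro a b hab
        apply PrimeSpectrum.ext
        have hab' : Ideal.under R₀ a.asIdeal = Ideal.under R₀ b.asIdeal := hab
        rw [← IsLocalization.map_comap p.primeCompl R a.asIdeal,
          ← IsLocalization.map_comap p.primeCompl R b.asIdeal, hab']
      have h1 : P < z.asIdeal.comap (algebraMap R₀ R) := by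
        refine lt_of_le_of_ne ?_ ?_
        · rw [← hcomap P inferInstance hPp.le]
          exact Ideal.comap_mono hxz.le
        · intro h
          have : x = z := hinj x z (by
            rw [show x.asIdeal = P.map (algebraMap R₀ R) from rfl, hcomap P inferInstance hPp.le]
            exact h)
          exact hxz.ne this
      have h2 : z.asIdeal.comap (algebraMap R₀ R) < p := by
        refine lt_of_le_of_ne ?_ ?_
        · rw [← hycomap]
          exact Ideal.comap_mono hzy.le
        · intro h
          have : z = y := hinj z y (by rw [hycomap]; exact h)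
          exact hzy.ne this
      exact hcov _ (Ideal.IsPrime.comap _) h1 h2
  have hcat' : IsCat (PrimeSpectrum R) := isCat_iff_catForm.2 hcat
  have key := height_eq_of_covBy hcat' a₀ hbot' hxy
  rw [← PrimeSpectrum.height_eq_orderHeight, ← PrimeSpectrum.height_eq_orderHeight] at key
  have hx : x.asIdeal.height = P.height :=
    IsLocalization.height_map_of_disjoint p.primeCompl P (hdisj P hPp.le)
  rw [← IsLocalRing.maximalIdeal_height_eq_ringKrullDim]
  have hy : y.asIdeal = IsLocalRing.maximalIdeal R := rfl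
  rw [hy, hx] at key
  rw [key]
  rfl

end Ring

section Cov

variable {R₀ : Type u} [CommRing R₀] [IsNoetherianRing R₀]

/-- Krull's principal ideal theorem in the quotient: a prime minimal over `P + (f)` covers `P`. -/
theorem covBy_of_mem_minimalPrimes (P p : Ideal R₀) [P.IsPrime] (f : R₀) (hfP : f ∉ P)
    (hmin : p ∈ (P ⊔ Ideal.span {f}).minimalPrimes) :
    P < p ∧ ∀ q : Ideal R₀, q.IsPrime → P < q → q < p → False := by
  have hp : p.IsPrime := hmin.isPrime
  have hPp : P ≤ p := le_sup_left.trans hmin.le
  have hfp : f ∈ p := hmin.le (Ideal.mem_sup_right (Ideal.mem_span_singleton_self f))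
  refine ⟨lt_of_le_of_ne hPp (fun h => hfP (h ▸ hfp)), ?_⟩
  intro q hq hPq hqp
  have hht := Ideal.map_height_le_one_of_mem_minimalPrimes hmin
  have hsurj : Function.Surjective (Ideal.Quotient.mk P) := Ideal.Quotient.mk_surjective
  have hpm : (p.map (Ideal.Quotient.mk P)).IsPrime :=
    Ideal.map_isPrime_of_surjective hsurj (by rw [Ideal.mk_ker]; exact hPp)
  have hqm : (q.map (Ideal.Quotient.mk P)).IsPrime :=
    Ideal.map_isPrime_of_surjective hsurj (by rw [Ideal.mk_ker]; exact hPq.le)
  have hcq : (q.map (Ideal.Quotient.mk P)).comap (Ideal.Quotient.mk P) = q := by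
    rw [Ideal.comap_map_of_surjective _ hsurj, ← RingHom.ker_eq_comap_bot, Ideal.mk_ker,
      sup_eq_left.mpr hPq.le]
  have hcp : (p.map (Ideal.Quotient.mk P)).comap (Ideal.Quotient.mk P) = p := by
    rw [Ideal.comap_map_of_surjective _ hsurj, ← RingHom.ker_eq_comap_bot, Ideal.mk_ker,
      sup_eq_left.mpr hPp]
  have h_lt : q.map (Ideal.Quotient.mk P) < p.map (Ideal.Quotient.mk P) := by
    refine lt_of_le_of_ne (Ideal.map_mono hqp.le) ?_
    intro h
    have := congrArg (Ideal.comap (Ideal.Quotient.mk P)) h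
    rw [hcq, hcp] at this
    exact hqp.ne this
  have : (p.map (Ideal.Quotient.mk P)).FiniteHeight :=
    ⟨Or.inr (hht.trans_lt (WithTop.coe_lt_top 1)).ne⟩
  have h1 := (Ideal.height_strict_mono_of_isPrime_of_isPrime h_lt).trans_le hht
  rw [Order.lt_one_iff, Ideal.height_eq_zero_iff_eq_bot] at h1
  have h2 : q ≤ P := by
    rw [← hcq, h1, ← RingHom.ker_eq_comap_bot, Ideal.mk_ker]
  exact absurd (lt_of_lt_of_le hPq h2) (lt_irrefl _)

end Cov

end Groth.Agent.Lib27.CatCov
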