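import Mathlib
import Groth.Agent.Lib.Helper16.LocCohLES
import Groth.Agent.Lib.Helper16.DepthExt

/-!
# Splitting of `I^c ⊆ I` through generators when `cd(I) ≤ 1` (helper27)
-/

set_option autoImplicit false
set_option linter.style.haveILetI false
set_option linter.unusedSectionVars false
universe u
open CategoryTheory Abelian

namespace Groth.Agent.Lib27.CdOne

open Groth.Agent.Lib.Helper16 Groth.Agent.Lib.Helper16.LC Groth.Agent.Lib.Helper16.Depth

variable {A : Type u} [CommRing A] [IsNoetherianRing A]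

theorem exists_lift (I : Ideal A) (h₁ : LocCoh.CdLE A I 1) {F : Type u} [AddCommGroup F]
    [Module A F] (π : F →ₗ[A] I) (hπ : Function.Surjective π) :
    ∃ (c : ℕ) (σ : ↥(I ^ (c + 1)) →ₗ[A] F),
      ∀ x : ↥(I ^ (c + 1)), ((π (σ x) : I) : A) = (x : A) := by
  classical
  have hS := shortExact_of_linearMaps (LinearMap.ker π).subtype π (Submodule.injective_subtype _)
    hπ (LinearMap.exact_subtype_ker_map π)
  have hle : ∀ k : ℕ, I ^ (k + 1) ≤ I := fun k => Ideal.pow_le_self (Nat.succ_ne_zero k)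
  let incl : ∀ k : ℕ, ModuleCat.of A ↥(I ^ (k + 1)) ⟶ ModuleCat.of A I :=
    fun k => ModuleCat.ofHom (Submodule.inclusion (hle k))
  have hT := fun k : ℕ => shortExact_of_linearMaps (I ^ k).subtype (I ^ k).mkQ
    (Submodule.injective_subtype _) (Submodule.mkQ_surjective _) (LinearMap.exact_subtype_mkQ _)
  -- obstruction classes
  let o : ∀ k : ℕ, Ext.{u} (ModuleCat.of A ↥(I ^ (k + 1))) (ModuleCat.of A (LinearMap.ker π)) 1 :=
    fun k => (Ext.mk₀ (incl k)).comp hS.extClass (zero_add 1)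
  let e0 : E I 2 (ModuleCat.of A (LinearMap.ker π)) 1 :=
    (hT 1).extClass.comp (o 0) (show 1 + 1 = 2 from rfl)
  have hsub : Subsingleton (LocCoh.H I 2 (LinearMap.ker π)) := h₁ _ 2 (by norm_num)
  have hι : ι I 2 (ModuleCat.of A (LinearMap.ker π)) 1 e0 = 0 := hsub.elim _ _
  obtain ⟨l, hl, htr⟩ := (ι_eq_zero_iff I 2 _ e0).mp hι
  obtain ⟨c, rfl⟩ : ∃ c, l = c + 1 := ⟨l - 1, by omega⟩
  rw [trans_apply] at htr
  -- the morphism of short exact sequences
  let φ : (ModuleCat.shortComplexOfCompEqZero (I ^ (c + 1)).subtype (I ^ (c + 1)).mkQ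
      (LinearMap.exact_subtype_mkQ _).linearMap_comp_eq_zero) ⟶
      (ModuleCat.shortComplexOfCompEqZero (I ^ 1).subtype (I ^ 1).mkQ
      (LinearMap.exact_subtype_mkQ _).linearMap_comp_eq_zero) :=
    { τ₁ := ModuleCat.ofHom (Submodule.inclusion (Ideal.pow_le_pow_right hl))
      τ₂ := 𝟙 _
      τ₃ := quotMap I hl
      comm₁₂ := rfl
      comm₂₃ := rfl }
  have hnat := ShortComplex.ShortExact.extClass_naturality (hT (c + 1)) (hT 1) φ
  have hτ : φ.τ₁ ≫ incl 0 = incl c := rfl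
  have hoc : (Ext.mk₀ φ.τ₁).comp (o 0) (zero_add 1) = o c := by
    change (Ext.mk₀ φ.τ₁).comp ((Ext.mk₀ (incl 0)).comp hS.extClass (zero_add 1)) (zero_add 1) = _
    rw [Ext.mk₀_comp_mk₀_assoc, hτ]
  have hzero : (hT (c + 1)).extClass.comp (o c) (show 1 + 1 = 2 from rfl) = 0 := by
    rw [← hoc, ← Ext.comp_assoc_of_second_deg_zero, hnat,
      Ext.comp_assoc _ _ _ (zero_add 1) (show 1 + 1 = 2 from rfl) (show 0 + 1 + 1 = 2 from rfl)]
    exact htr
  obtain ⟨x₂, hx₂⟩ := Ext.contravariant_sequence_exact₁ (hT (c + 1))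
    (ModuleCat.of A (LinearMap.ker π)) (o c) (show 1 + 1 = 2 from rfl) hzero
  haveI : Projective (ModuleCat.of A A) := ModuleCat.projective_of_categoryTheory_projective _
  have hx₂0 : x₂ = 0 := Ext.eq_zero_of_projective x₂
  have hoc0 : o c = 0 := by rw [← hx₂, hx₂0, Ext.comp_zero]
  obtain ⟨y₂, hy₂⟩ := Ext.covariant_sequence_exact₃ (ModuleCat.of A ↥(I ^ (c + 1))) hS
    (Ext.mk₀ (incl c)) (zero_add 1) hoc0
  obtain ⟨σ', rfl⟩ := (Ext.mk₀_bijective _ _).2 y₂
  rw [Ext.mk₀_comp_mk₀] at hy₂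
  have hσ := (Ext.mk₀_bijective _ _).1 hy₂
  refine ⟨c, σ'.hom, fun x => ?_⟩
  have := LinearMap.congr_fun (congrArg ModuleCat.Hom.hom hσ) x
  exact congrArg Subtype.val this

end Groth.Agent.Lib27.CdOne
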