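import Mathlib
import Groth.Agent.Lib27.Coass1
import Groth.Agent.Lib27.Conn4
import Groth.Agent.Lib.Helper2.Sop
import Groth.Agent.Lib.Helper18.CM2

/-!
# Coassociated primes of top local cohomology (helper27)
-/

set_option autoImplicit false
set_option linter.style.haveILetI false
set_option linter.unusedSectionVars false
universe u
open IsLocalRing CategoryTheory TensorProduct

namespace Groth.Agent.Lib27.Coass

open Groth.Agent.Lib.Helper16 Groth.Agent.Lib.Helper16.LC Groth.Agent.Lib.Helper16.Depth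
  Groth.Agent.Lib.Helper16.LD Groth.Agent.Lib27.HLV

section B

variable {R : Type u} [CommRing R] [IsNoetherianRing R] [IsLocalRing R]
  (E : Type u) [AddCommGroup E] [Module R E] (f : ResidueField R →ₗ[R] E)
  (hf : InjHull.IsInjectiveHull f) (T : Type u) [AddCommGroup T] [Module R T]

theorem smul_top_ne_top_of_mem_associatedPrimes (p : Ideal R)
    (hp : p ∈ associatedPrimes R (T →ₗ[R] E)) : p • (⊤ : Submodule R T) ≠ ⊤ := by
  intro htop
  obtain ⟨hprime, φ, hφ⟩ := (isAssociatedPrime_iff).mp hp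
  have hkill : ∀ r ∈ p, r • φ = 0 := by
    intro r hr
    rw [hφ, Submodule.mem_colon_singleton, Submodule.mem_bot] at hr
    exact hr
  have hφ0 : φ = 0 := by
    apply LinearMap.ext
    intro z
    have hz : z ∈ p • (⊤ : Submodule R T) := by
      rw [htop]
      trivial
    rw [LinearMap.zero_apply]
    refine Submodule.smul_induction_on hz ?_ ?_
    · intro r hr t _
      rw [map_smul, ← LinearMap.smul_apply, hkill r hr, LinearMap.zero_apply]
    · intro x y hx hy
      rw [map_add, hx, hy, add_zero]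
  apply hprime.ne_top
  rw [hφ, hφ0]
  ext r
  simp [Submodule.mem_colon_singleton]

include hf in
theorem exists_mem_associatedPrimes_ge (p : Ideal R) (hne : p • (⊤ : Submodule R T) ≠ ⊤) :
    ∃ q ∈ associatedPrimes R (T →ₗ[R] E), p ≤ q := by
  set W := p • (⊤ : Submodule R T) with hW
  have hnt : Nontrivial (T ⧸ W) := Submodule.Quotient.nontrivial_iff.mpr hne
  have hdual : ¬ Subsingleton ((T ⧸ W) →ₗ[R] E) := fun h =>
    not_subsingleton (T ⧸ W) (subsingleton_of_subsingleton_dual E f hf (T ⧸ W) h)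
  rw [not_subsingleton_iff_nontrivial] at hdual
  obtain ⟨ψ, hψ⟩ := exists_ne (0 : (T ⧸ W) →ₗ[R] E)
  let φ : T →ₗ[R] E := ψ.comp W.mkQ
  have hφ : φ ≠ 0 := by
    intro h
    apply hψ
    apply LinearMap.ext
    intro x
    obtain ⟨t, rfl⟩ := Submodule.Quotient.mk_surjective _ x
    exact LinearMap.congr_fun h t
  obtain ⟨q, hq, hle⟩ := exists_le_isAssociatedPrime_of_isNoetherianRing R φ hφ
  refine ⟨q, hq, fun r hr => hle ?_⟩
  rw [Submodule.mem_colon_singleton, Submodule.mem_bot]
  apply LinearMap.ext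
  intro t
  rw [LinearMap.smul_apply, ← map_smul, LinearMap.zero_apply]
  change ψ (W.mkQ (r • t)) = 0
  rw [show W.mkQ (r • t) = 0 from (Submodule.Quotient.mk_eq_zero _).mpr
    (Submodule.smul_mem_smul hr trivial), map_zero]

theorem annihilator_le_of_mem_associatedPrimes (I : Ideal R) (n : ℕ) (M : Type u)
    [AddCommGroup M] [Module R M] (p : Ideal R)
    (hp : p ∈ associatedPrimes R (LocCoh.H I n M →ₗ[R] E)) : Module.annihilator R M ≤ p := by
  obtain ⟨hprime, φ, hφ⟩ := (isAssociatedPrime_iff).mp hp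
  intro r hr
  rw [hφ, Submodule.mem_colon_singleton, Submodule.mem_bot]
  apply LinearMap.ext
  intro t
  rw [LinearMap.smul_apply, ← map_smul, smul_H_eq_zero_of_mem_annihilator I n M r hr t, map_zero,
    LinearMap.zero_apply]

end B

section C

variable {R : Type u} [CommRing R] [IsNoetherianRing R]

theorem supportDim_quot_smul_top (M : Type u) [AddCommGroup M] [Module R M] [Module.Finite R M]
    (p : Ideal R) (hp : Module.annihilator R M ≤ p) :
    Module.supportDim R (M ⧸ p • (⊤ : Submodule R M)) = ringKrullDim (R ⧸ p) := by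
  rw [← Module.supportDim_quotient_eq_ringKrullDim]
  have h : Module.support R (M ⧸ p • (⊤ : Submodule R M)) = Module.support R (R ⧸ p) := by
    rw [Module.support_quotient, Module.support_eq_zeroLocus, Module.support_eq_zeroLocus,
      Ideal.annihilator_quotient]
    exact Set.inter_eq_right.mpr (PrimeSpectrum.zeroLocus_anti_mono_ideal hp)
  unfold Module.supportDim
  rw [h]

theorem nonempty_H_addEquiv_of_map_eq (p I J : Ideal R)
    (h : I.map (Ideal.Quotient.mk p) = J.map (Ideal.Quotient.mk p))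
    (n : ℕ) (N : Type u) [AddCommGroup N] [Module R N] (hN : Module.IsTorsionBySet R N p) :
    Nonempty (LocCoh.H I n N ≃+ LocCoh.H J n N) := by
  letI : Module (R ⧸ p) N := hN.module
  haveI : IsScalarTower R (R ⧸ p) N := IsScalarTower.of_algebraMap_smul (fun r x => rfl)
  obtain ⟨φI, -⟩ := DTL.semiIso_H (R := R) (R' := R ⧸ p) I n N
  obtain ⟨φJ, -⟩ := DTL.semiIso_H (R := R) (R' := R ⧸ p) J n N
  have h' : I.map (algebraMap R (R ⧸ p)) = J.map (algebraMap R (R ⧸ p)) := h
  rw [← h'] at φJ
  exact ⟨φI.symm.trans φJ⟩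

theorem map_sup_self (p I : Ideal R) :
    I.map (Ideal.Quotient.mk p) = (I ⊔ p).map (Ideal.Quotient.mk p) := by
  rw [Ideal.map_sup, Ideal.map_quotient_self, sup_bot_eq]

variable [IsLocalRing R]

theorem subsingleton_H_of_dim_pos [IsAdicComplete (maximalIdeal R) R] (p : Ideal R)
    [hp : p.IsPrime] (n : ℕ) (hn : ringKrullDim (R ⧸ p) = n) (I : Ideal R)
    (hpos : 0 < ringKrullDim (R ⧸ (I ⊔ p))) (N : Type u) [AddCommGroup N] [Module R N]
    (hN : Module.IsTorsionBySet R N p) : Subsingleton (LocCoh.H I n N) := by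
  haveI : IsLocalRing (R ⧸ p) := GorFlat.isLocalRing_quot_of_le p (le_maximalIdeal hp.ne_top)
  haveI : IsAdicComplete (maximalIdeal (R ⧸ p)) (R ⧸ p) :=
    Groth.Agent.Lib.Helper9.SemiLocalProd.isAdicComplete_maximalIdeal_of_finite R (R ⧸ p)
  letI : Module (R ⧸ p) N := hN.module
  haveI : IsScalarTower R (R ⧸ p) N := IsScalarTower.of_algebraMap_smul (fun r x => rfl)
  have hdim : ringKrullDim ((R ⧸ p) ⧸ I.map (algebraMap R (R ⧸ p))) =
      ringKrullDim (R ⧸ (I ⊔ p)) := by
    rw [sup_comm]
    exact ringKrullDim_eq_of_ringEquiv (DoubleQuot.quotQuotEquivQuotSup p I)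
  have hS : Subsingleton (LocCoh.H (I.map (algebraMap R (R ⧸ p))) n (R ⧸ p)) :=
    subsingleton_H_top_of_complete_domain (R ⧸ p) hn _ (by rw [hdim]; exact hpos)
  obtain ⟨e⟩ := LT.nonempty_top_equiv_tensor (R ⧸ p) n hn (I.map (algebraMap R (R ⧸ p))) N
  have hT : Subsingleton
      (LocCoh.H (I.map (algebraMap R (R ⧸ p))) n (R ⧸ p) ⊗[R ⧸ p] N) := by
    refine ⟨fun x y => ?_⟩
    have key : ∀ z : LocCoh.H (I.map (algebraMap R (R ⧸ p))) n (R ⧸ p) ⊗[R ⧸ p] N, z = 0 := by
      intro z
      induction z using TensorProduct.induction_on with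
      | zero => rfl
      | tmul a r => rw [Subsingleton.elim a 0, TensorProduct.zero_tmul]
      | add x y hx hy => rw [hx, hy, add_zero]
    rw [key x, key y]
  haveI : Subsingleton (LocCoh.H (I.map (algebraMap R (R ⧸ p))) n N) := e.toEquiv.subsingleton
  obtain ⟨φ, -⟩ := DTL.semiIso_H (R := R) (R' := R ⧸ p) I n N
  exact φ.symm.toEquiv.subsingleton

theorem nontrivial_H_quot (I : Ideal R) (M : Type u) [AddCommGroup M] [Module R M]
    [Module.Finite R M] (p : Ideal R) (hp : Module.annihilator R M ≤ p) (n : ℕ)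
    (hn : ringKrullDim (R ⧸ p) = n) (hrad : (I ⊔ p).radical = maximalIdeal R) :
    Nontrivial (LocCoh.H I n (M ⧸ p • (⊤ : Submodule R M))) := by
  have hN : Module.IsTorsionBySet R (M ⧸ p • (⊤ : Submodule R M)) p :=
    Module.isTorsionBySet_quotient_ideal_smul M p
  obtain ⟨e1⟩ := nonempty_H_addEquiv_of_map_eq p I (I ⊔ p) (map_sup_self p I) n _ hN
  have hrad' : (I ⊔ p).radical = (maximalIdeal R).radical := by
    rw [hrad, (maximalIdeal.isMaximal R).isPrime.radical]
  have e2 := HequivOfRadical hrad' n (M ⧸ p • (⊤ : Submodule R M))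
  haveI : Nontrivial (LocCoh.H (maximalIdeal R) n (M ⧸ p • (⊤ : Submodule R M))) :=
    nontrivial_H_supportDim _ n (by rw [supportDim_quot_smul_top M p hp, hn])
  exact (e1.toEquiv.trans e2.toEquiv).nontrivial

end C

section main

variable {R : Type u} [CommRing R] [IsNoetherianRing R] [IsLocalRing R]
  [IsAdicComplete (maximalIdeal R) R]
  (E : Type u) [AddCommGroup E] [Module R E] (f : ResidueField R →ₗ[R] E)
  (hf : InjHull.IsInjectiveHull f) (I : Ideal R) (M : Type u) [AddCommGroup M] [Module R M]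
  [Module.Finite R M] (n : ℕ) (hn : Module.supportDim R M = n)

include hn in
theorem dim_quot_le_of_annihilator_le (p : Ideal R) (hp : Module.annihilator R M ≤ p) :
    ringKrullDim (R ⧸ p) ≤ (n : WithBot ℕ∞) := by
  rw [← hn, Module.supportDim_eq_ringKrullDim_quotient_annihilator]
  exact ringKrullDim_le_of_surjective (Ideal.Quotient.factor hp)
    (Ideal.Quotient.factor_surjective hp)

include hn in
theorem forward (p : Ideal R) (hp : p ∈ associatedPrimes R (LocCoh.H I n M →ₗ[R] E)) :
    p.IsPrime ∧ Module.annihilator R M ≤ p ∧ ringKrullDim (R ⧸ p) = n ∧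
      (I ⊔ p).radical = maximalIdeal R := by
  have hprime : p.IsPrime := (AssociatedPrimes.mem_iff.mp hp).isPrime
  have hann := annihilator_le_of_mem_associatedPrimes E I n M p hp
  have hM : Module.supportDim R M < ((n + 1 : ℕ) : WithBot ℕ∞) := by
    rw [hn]
    exact_mod_cast Nat.lt_succ_self n
  have hne := smul_top_ne_top_of_mem_associatedPrimes E (LocCoh.H I n M) p hp
  have hns : ¬ Subsingleton (LocCoh.H I n (M ⧸ p • (⊤ : Submodule R M))) := fun h =>
    hne ((subsingleton_H_quot_iff I n M hM p).mp h)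
  have hle := dim_quot_le_of_annihilator_le M n hn p hann
  have hdim : ringKrullDim (R ⧸ p) = n := by
    refine le_antisymm hle (not_lt.mp fun hlt => hns ?_)
    exact subsingleton_H_of_supportDim_lt I _ n
      (by rw [supportDim_quot_smul_top M p hann]; exact hlt) n le_rfl
  refine ⟨hprime, hann, hdim, ?_⟩
  have hN : Module.IsTorsionBySet R (M ⧸ p • (⊤ : Submodule R M)) p :=
    Module.isTorsionBySet_quotient_ideal_smul M p
  by_contra hrad
  apply hns
  by_cases htop : I ⊔ p = ⊤
  · obtain ⟨e1⟩ := nonempty_H_addEquiv_of_map_eq p I (I ⊔ p) (map_sup_self p I) n _ hN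
    rw [htop] at e1
    haveI := subsingleton_H_top (R := R) n (M ⧸ p • (⊤ : Submodule R M))
    exact e1.toEquiv.subsingleton
  · by_cases hpos : 0 < ringKrullDim (R ⧸ (I ⊔ p))
    · exact subsingleton_H_of_dim_pos p n hdim I hpos _ hN
    · exfalso
      apply hrad
      apply le_antisymm
      · exact (maximalIdeal.isMaximal R).isPrime.radical_le_iff.mpr (le_maximalIdeal htop)
      · exact Groth.Agent.Lib.Helper2.maximalIdeal_le_radical_of_dim_zero _ (not_lt.mp hpos)

include hf hn in
theorem coass_eq :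
    associatedPrimes R (LocCoh.H I n M →ₗ[R] E) =
      {p : Ideal R | p.IsPrime ∧ Module.annihilator R M ≤ p ∧ ringKrullDim (R ⧸ p) = n ∧
        (I ⊔ p).radical = maximalIdeal R} := by
  ext p
  constructor
  · exact forward E I M n hn p
  · rintro ⟨hprime, hann, hdim, hrad⟩
    have hM : Module.supportDim R M < ((n + 1 : ℕ) : WithBot ℕ∞) := by
      rw [hn]
      exact_mod_cast Nat.lt_succ_self n
    haveI := nontrivial_H_quot I M p hann n hdim hrad
    have hne : p • (⊤ : Submodule R (LocCoh.H I n M)) ≠ ⊤ := fun h =>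
      not_subsingleton _ ((subsingleton_H_quot_iff I n M hM p).mpr h)
    obtain ⟨q, hq, hpq⟩ := exists_mem_associatedPrimes_ge E f hf (LocCoh.H I n M) p hne
    obtain ⟨hqprime, -, hqdim, -⟩ := forward E I M n hn q hq
    have hqp : q = p := by
      by_contra hne'
      have hlt : p < q := lt_of_le_of_ne hpq (fun h => hne' h.symm)
      have h1 := Groth.Agent.Lib.Helper18.CM.ringKrullDim_quotient_succ_le_of_lt hlt
      rw [hqdim, hdim] at h1
      exact absurd (LC.lt_of_add_one_le h1) (lt_irrefl _)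
    rw [← hqp]
    exact hq

end main

end Groth.Agent.Lib27.Coass
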