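import Mathlib
import Groth.Agent.Lib.Helper16.Depth

/-!
# Hartshorne's connectedness theorem: depth ≥ 2 ⟹ punctured spectrum connected (helper27)
-/

set_option autoImplicit false
universe u
open IsLocalRing PrimeSpectrum RingTheory.Sequence

namespace Groth.Agent.Lib27.HartConn

section core

variable {R : Type u} [CommRing R]

theorem dvd_of_pow_dvd_mul (x y : R) (hx : IsSMulRegular R x)
    (hy : ∀ c : R, x ∣ y * c → x ∣ c) : ∀ (N : ℕ) (c : R), x ^ N ∣ y * c → x ^ N ∣ c := by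
  intro N
  induction N with
  | zero => intro c _; rw [pow_zero]; exact one_dvd c
  | succ N ih =>
    intro c hc
    have h1 : x ∣ y * c := dvd_trans (dvd_pow_self x (Nat.succ_ne_zero N)) hc
    obtain ⟨c', rfl⟩ := hy c h1
    obtain ⟨d, hd⟩ := hc
    have h2 : x • (y * c') = x • (x ^ N * d) := by
      rw [smul_eq_mul, smul_eq_mul]
      calc x * (y * c') = y * (x * c') := by ring
        _ = x ^ (N + 1) * d := hd
        _ = x * (x ^ N * d) := by ring
    have h3 := hx h2
    have h4 := ih c' ⟨d, h3⟩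
    rw [pow_succ']
    exact mul_dvd_mul_left x h4

theorem dvd_of_pow_dvd_pow_mul (x y : R) (hx : IsSMulRegular R x)
    (hy : ∀ c : R, x ∣ y * c → x ∣ c) (N : ℕ) : ∀ (M : ℕ) (c : R), x ^ N ∣ y ^ M * c → x ^ N ∣ c := by
  intro M
  induction M with
  | zero => intro c hc; rwa [pow_zero, one_mul] at hc
  | succ M ih =>
    intro c hc
    rw [pow_succ, mul_assoc] at hc
    exact dvd_of_pow_dvd_mul x y hx hy N c (ih _ hc)

theorem core [IsLocalRing R] (x y : R) (hx : IsSMulRegular R x)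
    (hy : ∀ c : R, x ∣ y * c → x ∣ c) (I J : Ideal R) (hIJ : I * J = ⊥) (N : ℕ)
    (hxN : x ^ N ∈ I ⊔ J) (hyN : y ^ N ∈ I ⊔ J) : I = ⊥ ∨ J = ⊥ := by
  obtain ⟨a, ha, b, hb, hab⟩ := Submodule.mem_sup.mp hxN
  obtain ⟨a', ha', b', hb', hab'⟩ := Submodule.mem_sup.mp hyN
  have hz : ∀ i ∈ I, ∀ j ∈ J, i * j = 0 := by
    intro i hi j hj
    have : i * j ∈ I * J := Ideal.mul_mem_mul hi hj
    rwa [hIJ, Ideal.mem_bot] at this
  have hxN' : IsSMulRegular R (x ^ N) := hx.pow N
  have hcancel : ∀ s t : R, x ^ N * s = x ^ N * t → s = t := fun s t h => hxN' h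
  -- a * y^N = x^N * a'
  have e1 : y ^ N * a = x ^ N * a' := by
    rw [← hab, ← hab']
    have h1 := hz a ha b' hb'
    have h2 := hz a' ha' b hb
    linear_combination h1 - h2
  have e2 : y ^ N * b = x ^ N * b' := by
    rw [← hab, ← hab']
    have h1 := hz a ha b' hb'
    have h2 := hz a' ha' b hb
    linear_combination h2 - h1
  obtain ⟨u, hu⟩ := dvd_of_pow_dvd_pow_mul x y hx hy N N a ⟨a', e1⟩
  obtain ⟨v, hv⟩ := dvd_of_pow_dvd_pow_mul x y hx hy N N b ⟨b', e2⟩
  have huv : u + v = 1 := by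
    apply hcancel
    rw [mul_add, ← hu, ← hv, hab, mul_one]
  have huJ : ∀ j ∈ J, u * j = 0 := by
    intro j hj
    apply hcancel
    rw [mul_zero, ← mul_assoc, ← hu]
    exact hz a ha j hj
  have hvI : ∀ i ∈ I, v * i = 0 := by
    intro i hi
    apply hcancel
    rw [mul_zero, ← mul_assoc, ← hv, mul_comm]
    exact hz i hi b hb
  rcases IsLocalRing.isUnit_or_isUnit_of_add_one huv with h | h
  · right
    rw [eq_bot_iff]
    intro j hj
    rw [Ideal.mem_bot]
    exact (h.mul_right_eq_zero).mp (huJ j hj)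
  · left
    rw [eq_bot_iff]
    intro i hi
    rw [Ideal.mem_bot]
    exact (h.mul_right_eq_zero).mp (hvI i hi)

end core

section main

variable {R : Type u} [CommRing R] [IsLocalRing R] [IsNoetherianRing R]

theorem isConnected_punctured (h : 2 ≤ LocCoh.depth R R) :
    IsConnected {x : PrimeSpectrum R | x.asIdeal ≠ maximalIdeal R} := by
  -- regular sequence
  have hne : maximalIdeal R • (⊤ : Submodule R R) ≠ ⊤ := by
    rw [smul_eq_mul, Ideal.mul_top]
    exact (maximalIdeal.isMaximal R).ne_top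
  have h2 := (Groth.Agent.Lib.Helper16.Depth.le_idealDepth_iff (maximalIdeal R) R 2).mp
    (by exact_mod_cast h)
  obtain ⟨rs, hlen, hreg, hmem⟩ := h2.resolve_left hne
  obtain ⟨x, y, rfl⟩ : ∃ x y, rs = [x, y] := by
    match rs, hlen with
    | [x, y], _ => exact ⟨x, y, rfl⟩
  rw [isWeaklyRegular_cons_iff, isWeaklyRegular_cons_iff] at hreg
  obtain ⟨hx, hy', -⟩ := hreg
  have hxm : x ∈ maximalIdeal R := hmem x (by simp)
  have hym : y ∈ maximalIdeal R := hmem y (by simp)
  have hy : ∀ c : R, x ∣ y * c → x ∣ c := by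
    intro c hc
    have h1 : y • (Submodule.Quotient.mk c : QuotSMulTop x R) = y • 0 := by
      rw [smul_zero, ← Submodule.Quotient.mk_smul, Submodule.Quotient.mk_eq_zero, smul_eq_mul]
      obtain ⟨d, hd⟩ := hc
      rw [hd]
      exact Submodule.smul_mem_pointwise_smul d x ⊤ trivial
    have h3 := hy' h1
    rw [Submodule.Quotient.mk_eq_zero] at h3
    obtain ⟨d, -, hd⟩ := (Submodule.mem_smul_pointwise_iff_exists _ _ _).mp h3
    exact ⟨d, by rw [← hd, smul_eq_mul]⟩
  -- a prime not containing x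
  have hxnil : ¬ IsNilpotent x := by
    rintro ⟨n, hn⟩
    have : (x ^ n) • (1 : R) = (x ^ n) • 0 := by rw [hn, zero_smul, zero_smul]
    exact one_ne_zero ((hx.pow n) this)
  have hnonempty : {p : PrimeSpectrum R | p.asIdeal ≠ maximalIdeal R}.Nonempty := by
    have : x ∉ nilradical R := hxnil
    rw [nilradical_eq_sInf, Ideal.mem_sInf] at this
    push Not at this
    obtain ⟨p, hp, hxp⟩ := this
    exact ⟨⟨p, hp⟩, fun h => hxp (by rw [show p = maximalIdeal R from h]; exact hxm)⟩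
  refine ⟨hnonempty, ?_⟩
  rw [isPreconnected_closed_iff]
  intro t t' ht ht' hcov hnt hnt'
  by_contra hempty
  rw [Set.not_nonempty_iff_eq_empty] at hempty
  -- ideals
  set I₀ := vanishingIdeal t with hI₀
  set J₀ := vanishingIdeal t' with hJ₀
  have htI : zeroLocus (I₀ : Set R) = t := by
    rw [zeroLocus_vanishingIdeal_eq_closure, ht.closure_eq]
  have htJ : zeroLocus (J₀ : Set R) = t' := by
    rw [zeroLocus_vanishingIdeal_eq_closure, ht'.closure_eq]
  -- I₀ * J₀ is nilpotent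
  have hnil : I₀ * J₀ ≤ nilradical R := by
    rw [nilradical_eq_sInf]
    refine le_sInf fun p hp => ?_
    have hpprime : p.IsPrime := hp
    by_cases hpm : p = maximalIdeal R
    · -- use a smaller prime
      obtain ⟨q, hq⟩ := hnonempty
      have hq' := hcov hq
      rw [← htI, ← htJ] at hq'
      have hqp : q.asIdeal ≤ p := by rw [hpm]; exact le_maximalIdeal q.2.ne_top
      rcases hq' with h1 | h1
      · exact (Ideal.mul_le_left).trans
          ((SetLike.coe_subset_coe.mp ((mem_zeroLocus _ _).mp h1)).trans hqp)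
      · exact (Ideal.mul_le_right).trans
          ((SetLike.coe_subset_coe.mp ((mem_zeroLocus _ _).mp h1)).trans hqp)
    · have hq' := hcov (show (⟨p, hpprime⟩ : PrimeSpectrum R) ∈ _ from hpm)
      rw [← htI, ← htJ] at hq'
      rcases hq' with h1 | h1
      · exact (Ideal.mul_le_left).trans (SetLike.coe_subset_coe.mp ((mem_zeroLocus _ _).mp h1))
      · exact (Ideal.mul_le_right).trans (SetLike.coe_subset_coe.mp ((mem_zeroLocus _ _).mp h1))
  obtain ⟨k, hk⟩ := IsNoetherianRing.isNilpotent_nilradical R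
  have hIJ : I₀ ^ k * J₀ ^ k = ⊥ := by
    rw [← mul_pow, ← Ideal.zero_eq_bot, ← hk]
    exact le_antisymm (Ideal.pow_right_mono hnil k) (by rw [hk]; exact bot_le)
  -- I₀ + J₀ is primary to the maximal ideal
  have hrad : maximalIdeal R ≤ (I₀ ⊔ J₀).radical := by
    rw [Ideal.radical_eq_sInf]
    refine le_sInf fun p hp => ?_
    obtain ⟨hle, hpprime⟩ := hp
    by_contra hnle
    have hpm : p ≠ maximalIdeal R := fun h => hnle h.ge
    have hmem' : (⟨p, hpprime⟩ : PrimeSpectrum R) ∈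
        {x : PrimeSpectrum R | x.asIdeal ≠ maximalIdeal R} ∩ (t ∩ t') := by
      refine ⟨hpm, ?_, ?_⟩
      · rw [← htI, mem_zeroLocus]
        exact SetLike.coe_subset_coe.mpr (le_sup_left.trans hle)
      · rw [← htJ, mem_zeroLocus]
        exact SetLike.coe_subset_coe.mpr (le_sup_right.trans hle)
    rw [hempty] at hmem'
    exact hmem'
  obtain ⟨N, hN⟩ := Ideal.exists_pow_le_of_le_radical_of_fg hrad
    (IsNoetherian.noetherian (maximalIdeal R))
  have hsup : ∀ z ∈ maximalIdeal R, z ^ (N * (k + k)) ∈ I₀ ^ k ⊔ J₀ ^ k := by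
    intro z hz
    have h1 : z ^ N ∈ I₀ ⊔ J₀ := hN (Ideal.pow_mem_pow hz N)
    have h2 : (z ^ N) ^ (k + k) ∈ (I₀ ⊔ J₀) ^ (k + k) := Ideal.pow_mem_pow h1 _
    rw [← pow_mul] at h2
    exact Ideal.sup_pow_add_le_pow_sup_pow h2
  rcases core x y hx hy (I₀ ^ k) (J₀ ^ k) hIJ (N * (k + k)) (hsup x hxm) (hsup y hym) with h0 | h0
  · -- I₀ nilpotent, so t is everything
    obtain ⟨q, hq, hqt'⟩ := hnt'
    have hqt : q ∈ t := by
      rw [← htI, mem_zeroLocus]
      intro i hi
      have : i ^ k ∈ I₀ ^ k := Ideal.pow_mem_pow hi k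
      rw [h0, Ideal.mem_bot] at this
      exact q.2.mem_of_pow_mem k (this ▸ q.asIdeal.zero_mem)
    have : q ∈ {x : PrimeSpectrum R | x.asIdeal ≠ maximalIdeal R} ∩ (t ∩ t') := ⟨hq, hqt, hqt'⟩
    rw [hempty] at this
    exact this
  · obtain ⟨q, hq, hqt⟩ := hnt
    have hqt' : q ∈ t' := by
      rw [← htJ, mem_zeroLocus]
      intro i hi
      have : i ^ k ∈ J₀ ^ k := Ideal.pow_mem_pow hi k
      rw [h0, Ideal.mem_bot] at this
      exact q.2.mem_of_pow_mem k (this ▸ q.asIdeal.zero_mem)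
    have : q ∈ {x : PrimeSpectrum R | x.asIdeal ≠ maximalIdeal R} ∩ (t ∩ t') := ⟨hq, hqt, hqt'⟩
    rw [hempty] at this
    exact this

end main

end Groth.Agent.Lib27.HartConn
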