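import Mathlib
import Groth.Agent.Lib27.HartConn

/-!
# Connectedness in codimension `d - 1` under Serre-type depth conditions (helper27)
-/

set_option autoImplicit false
universe u
open IsLocalRing

namespace Groth.Agent.Lib27.CodimConn

variable {A : Type u} [CommRing A]

/-- the relation -/
def Rel (d : ℕ) (p q : PrimeSpectrum A) : Prop :=
  ∃ r : PrimeSpectrum A, p ≤ r ∧ q ≤ r ∧ r.asIdeal.height ≤ (d - 1 : ℕ)

/-- reachable from `p'` -/
def Reach (d : ℕ) (p' q : PrimeSpectrum A) : Prop :=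
  ∃ l : List (PrimeSpectrum A), l.head? = some p' ∧ l.getLast? = some q ∧
    (∀ p ∈ l, p.asIdeal ∈ minimalPrimes A) ∧ List.IsChain (Rel d) l

theorem reach_self (d : ℕ) (p' : PrimeSpectrum A) (hp' : p'.asIdeal ∈ minimalPrimes A) :
    Reach d p' p' := by
  refine ⟨[p'], rfl, rfl, ?_, List.isChain_singleton _⟩
  intro p hp
  rw [List.mem_singleton] at hp
  rw [hp]
  exact hp'

theorem reach_step (d : ℕ) (p' q q' : PrimeSpectrum A) (hq : Reach d p' q)
    (hq' : q'.asIdeal ∈ minimalPrimes A) (hrel : Rel d q q') : Reach d p' q' := by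
  obtain ⟨l, h1, h2, h3, h4⟩ := hq
  have hne : l ≠ [] := by
    rintro rfl
    simp at h1
  refine ⟨l ++ [q'], ?_, ?_, ?_, ?_⟩
  · rw [List.head?_append_of_ne_nil l hne, h1]
  · rw [List.getLast?_append_of_ne_nil l (by simp)]
    rfl
  · intro p hp
    rw [List.mem_append, List.mem_singleton] at hp
    rcases hp with hp | rfl
    · exact h3 p hp
    · exact hq'
  · refine List.IsChain.append h4 (List.isChain_singleton _) ?_
    intro x hx y hy
    rw [h2] at hx
    simp only [Option.mem_def, Option.some.injEq] at hx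
    simp only [List.head?_cons, Option.mem_def, Option.some.injEq] at hy
    rw [← hx, ← hy]
    exact hrel

variable [IsNoetherianRing A]

theorem finite_minimal : {q : PrimeSpectrum A | q.asIdeal ∈ minimalPrimes A}.Finite := by
  have h := (minimalPrimes.finite_of_isNoetherianRing A)
  refine Set.Finite.of_finite_image (f := PrimeSpectrum.asIdeal) (h.subset ?_) ?_
  · rintro _ ⟨q, hq, rfl⟩
    exact hq
  · intro a _ b _ hab
    exact PrimeSpectrum.ext hab

theorem isClosed_upper (T : Set (PrimeSpectrum A))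
    (hT : T ⊆ {q : PrimeSpectrum A | q.asIdeal ∈ minimalPrimes A}) :
    IsClosed {x : PrimeSpectrum A | ∃ q ∈ T, q ≤ x} := by
  have hfin : T.Finite := (finite_minimal (A := A)).subset hT
  have : {x : PrimeSpectrum A | ∃ q ∈ T, q ≤ x}
      = ⋃ q ∈ T, PrimeSpectrum.zeroLocus (q.asIdeal : Set A) := by
    ext x
    simp only [Set.mem_setOf_eq, Set.mem_iUnion, PrimeSpectrum.mem_zeroLocus, exists_prop]
    rfl
  rw [this]
  exact hfin.isClosed_biUnion fun q _ => PrimeSpectrum.isClosed_zeroLocus _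

theorem main [ConnectedSpace (PrimeSpectrum A)] (d : ℕ) (hd : 1 ≤ d)
    (h : ∀ p : PrimeSpectrum A, (d : ℕ∞) ≤ p.asIdeal.height →
      (2 : ℕ∞) ≤ LocCoh.depth (Localization.AtPrime p.asIdeal) (Localization.AtPrime p.asIdeal))
    (p' p'' : PrimeSpectrum A) (hp' : p'.asIdeal ∈ minimalPrimes A)
    (hp'' : p''.asIdeal ∈ minimalPrimes A) : Reach d p' p'' := by
  by_contra hcon
  set T : Set (PrimeSpectrum A) := {q | q.asIdeal ∈ minimalPrimes A ∧ Reach d p' q} with hTdef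
  set T' : Set (PrimeSpectrum A) := {q | q.asIdeal ∈ minimalPrimes A ∧ ¬ Reach d p' q} with hT'def
  set Y : Set (PrimeSpectrum A) := {x | ∃ q ∈ T, q ≤ x} with hYdef
  set Y' : Set (PrimeSpectrum A) := {x | ∃ q ∈ T', q ≤ x} with hY'def
  have hYc : IsClosed Y := isClosed_upper T fun q hq => hq.1
  have hY'c : IsClosed Y' := isClosed_upper T' fun q hq => hq.1
  have hcover : ∀ x : PrimeSpectrum A, x ∈ Y ∪ Y' := by
    intro x
    obtain ⟨p, hp, hpx⟩ := Ideal.exists_minimalPrimes_le (bot_le : (⊥ : Ideal A) ≤ x.asIdeal)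
    have hpp : p.IsPrime := Ideal.minimalPrimes_isPrime hp
    by_cases hr : Reach d p' ⟨p, hpp⟩
    · exact Or.inl ⟨⟨p, hpp⟩, ⟨hp, hr⟩, hpx⟩
    · exact Or.inr ⟨⟨p, hpp⟩, ⟨hp, hr⟩, hpx⟩
  have hp'Y : p' ∈ Y := ⟨p', ⟨hp', reach_self d p' hp'⟩, le_refl _⟩
  have hp''Y' : p'' ∈ Y' := ⟨p'', ⟨hp'', hcon⟩, le_refl _⟩
  have hpre : IsPreconnected (Set.univ : Set (PrimeSpectrum A)) := isPreconnected_univ
  obtain ⟨z, -, hzY, hzY'⟩ := isPreconnected_closed_iff.mp hpre Y Y' hYc hY'c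
    (fun x _ => hcover x) ⟨p', Set.mem_univ _, hp'Y⟩ ⟨p'', Set.mem_univ _, hp''Y'⟩
  -- choose point of minimal height
  have hne : (Y ∩ Y').Nonempty := ⟨z, hzY, hzY'⟩
  obtain ⟨𝔮, h𝔮mem, h𝔮min⟩ := WellFounded.has_min
    (InvImage.wf (fun x : PrimeSpectrum A => x.asIdeal.height) wellFounded_lt) (Y ∩ Y') hne
  have hmin : ∀ x : PrimeSpectrum A, x < 𝔮 → x ∉ Y ∩ Y' := by
    intro x hx hxm
    refine h𝔮min x hxm ?_
    change x.asIdeal.height < 𝔮.asIdeal.height
    exact Ideal.height_strict_mono_of_isPrime (show x.asIdeal < 𝔮.asIdeal from hx)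
  obtain ⟨⟨q₁, hq₁T, hq₁⟩, ⟨q₂, hq₂T, hq₂⟩⟩ := h𝔮mem
  have hht : (d : ℕ∞) ≤ 𝔮.asIdeal.height := by
    by_contra hlt
    have hle : 𝔮.asIdeal.height ≤ (d - 1 : ℕ) := by
      rw [not_le] at hlt
      have : 𝔮.asIdeal.height < ((d - 1 : ℕ) : ℕ∞) + 1 := by
        have e : ((d - 1 : ℕ) : ℕ∞) + 1 = (d : ℕ∞) := by
          norm_cast
          omega
        rw [e]
        exact hlt
      exact Order.le_of_lt_add_one this
    exact hq₂T.2 (reach_step d p' q₁ q₂ hq₁T.2 hq₂T.1 ⟨𝔮, hq₁, hq₂, hle⟩)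
  have hq₁ne : q₁ ≠ 𝔮 := by
    rintro rfl
    have : q₁.asIdeal ≤ q₂.asIdeal := hq₁T.1.2 ⟨q₂.2, bot_le⟩ hq₂
    have heq : q₂ = q₁ := le_antisymm hq₂ this
    exact hq₂T.2 (heq ▸ hq₁T.2)
  have hq₂ne : q₂ ≠ 𝔮 := by
    rintro rfl
    have : q₂.asIdeal ≤ q₁.asIdeal := hq₂T.1.2 ⟨q₁.2, bot_le⟩ hq₁
    have heq : q₁ = q₂ := le_antisymm hq₁ this
    exact hq₂T.2 (heq ▸ hq₁T.2)
  -- localize
  set R := Localization.AtPrime 𝔮.asIdeal with hR
  have hconn := HartConn.isConnected_punctured (R := R) (h 𝔮 hht)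
  set f := PrimeSpectrum.comap (algebraMap A R) with hf
  have hfinj : Function.Injective f :=
    PrimeSpectrum.localization_comap_injective R 𝔮.asIdeal.primeCompl
  have hfrange : ∀ q : PrimeSpectrum A, q ≤ 𝔮 → ∃ x : PrimeSpectrum R, f x = q := by
    intro q hq
    have : q ∈ Set.range f := by
      rw [hf, PrimeSpectrum.localization_comap_range R 𝔮.asIdeal.primeCompl]
      change Disjoint _ _
      rw [Set.disjoint_left]
      intro a ha haq
      exact ha (hq haq)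
    exact this
  have hfle : ∀ x : PrimeSpectrum R, f x ≤ 𝔮 := by
    intro x
    have : f x ∈ Set.range f := ⟨x, rfl⟩
    rw [hf, PrimeSpectrum.localization_comap_range R 𝔮.asIdeal.primeCompl] at this
    change Disjoint _ _ at this
    rw [Set.disjoint_left] at this
    intro a ha
    by_contra hna
    exact this hna ha
  have hfclosed : f (closedPoint R) = 𝔮 := by
    apply PrimeSpectrum.ext
    exact IsLocalization.AtPrime.under_maximalIdeal R 𝔮.asIdeal
  obtain ⟨x₁, hx₁⟩ := hfrange q₁ hq₁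
  obtain ⟨x₂, hx₂⟩ := hfrange q₂ hq₂
  have hx₁U : x₁ ∈ {x : PrimeSpectrum R | x.asIdeal ≠ maximalIdeal R} := by
    intro hx
    have : x₁ = closedPoint R := PrimeSpectrum.ext hx
    rw [this, hfclosed] at hx₁
    exact hq₁ne hx₁.symm
  have hx₂U : x₂ ∈ {x : PrimeSpectrum R | x.asIdeal ≠ maximalIdeal R} := by
    intro hx
    have : x₂ = closedPoint R := PrimeSpectrum.ext hx
    rw [this, hfclosed] at hx₂
    exact hq₂ne hx₂.symm
  have hfc : Continuous f := PrimeSpectrum.continuous_comap (algebraMap A R)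
  obtain ⟨x, hxU, hxY, hxY'⟩ := isPreconnected_closed_iff.mp hconn.isPreconnected
    (f ⁻¹' Y) (f ⁻¹' Y') (hYc.preimage hfc) (hY'c.preimage hfc)
    (fun x _ => hcover (f x)) ⟨x₁, hx₁U, by rw [Set.mem_preimage, hx₁]; exact ⟨q₁, hq₁T, le_refl _⟩⟩
    ⟨x₂, hx₂U, by rw [Set.mem_preimage, hx₂]; exact ⟨q₂, hq₂T, le_refl _⟩⟩
  have hlt : f x < 𝔮 := by
    refine lt_of_le_of_ne (hfle x) ?_
    intro heq
    rw [← hfclosed] at heq
    have := hfinj heq
    exact hxU (by rw [this]; rfl)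
  exact hmin (f x) hlt ⟨hxY, hxY'⟩

end Groth.Agent.Lib27.CodimConn
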