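import Mathlib
import Groth.Agent.Lib27.Conn6

/-!
# Connectedness of punctured spectra (Faltings) (helper27)
-/

set_option autoImplicit false
set_option linter.style.haveILetI false
set_option linter.unusedSectionVars false
universe u
open IsLocalRing PrimeSpectrum

namespace Groth.Agent.Lib27.Conn

open Groth.Agent.Lib.Helper16 Groth.Agent.Lib.Helper18

section dom

variable {R : Type u} [CommRing R] [IsDomain R]

theorem dim_le_subdim_of_isDomain :
    ringKrullDim R ≤ LocCoh.subdim (PrimeSpectrum R) := by
  show _ ≤ ⨅ (Z : Set (PrimeSpectrum R)) (_ : Z ∈ irreducibleComponents (PrimeSpectrum R)),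
    topologicalKrullDim Z
  refine le_iInf₂ fun C hC => ?_
  rw [irreducibleComponents_eq_singleton] at hC
  rw [Set.mem_singleton_iff] at hC
  subst hC
  rw [CD.dim_univ, PrimeSpectrum.topologicalKrullDim_eq_ringKrullDim]

theorem dim_le_connDim_of_isDomain [IsNoetherianRing R] :
    ringKrullDim R ≤ LocCoh.connDim (PrimeSpectrum R) := by
  rw [CD.connDim_eq_subdim_of_irreducibleSpace]
  exact dim_le_subdim_of_isDomain

end dom

section punct

variable {S : Type u} [CommRing S] [IsLocalRing S]

theorem dim_singleton_closedPoint :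
    topologicalKrullDim ↥({closedPoint S} : Set (PrimeSpectrum S)) = 0 := by
  have h1 : ({closedPoint S} : Set (PrimeSpectrum S)) = zeroLocus (maximalIdeal S : Set S) := by
    ext x
    rw [Set.mem_singleton_iff, mem_zeroLocus, SetLike.coe_subset_coe]
    constructor
    · rintro rfl
      exact le_rfl
    · intro h
      apply PrimeSpectrum.ext
      exact ((maximalIdeal.isMaximal S).eq_of_le x.2.ne_top h).symm
  rw [h1, CD.topologicalKrullDim_zeroLocus]
  letI := Ideal.Quotient.field (maximalIdeal S)
  exact ringKrullDim_eq_zero_of_field _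

theorem isClosed_singleton_closedPoint :
    IsClosed ({closedPoint S} : Set (PrimeSpectrum S)) := by
  rw [PrimeSpectrum.isClosed_singleton_iff_isMaximal]
  exact maximalIdeal.isMaximal S

/-- if the connectedness dimension is positive, the punctured spectrum is connected -/
theorem isConnected_punctured_of_connDim_pos
    (h : ¬ LocCoh.connDim (PrimeSpectrum S) ≤ 0) :
    IsConnected ({closedPoint S}ᶜ : Set (PrimeSpectrum S)) := by
  by_contra hcon
  apply h
  have := CD.connDim_le isClosed_singleton_closedPoint hcon
  rwa [dim_singleton_closedPoint] at this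

end punct

section main

variable {R : Type u} [CommRing R] [IsDomain R] [IsLocalRing R] [IsNoetherianRing R]
  [IsAdicComplete (maximalIdeal R) R]

theorem isConnected_punctured_zeroLocus (d : ℕ) (hd : ringKrullDim R = d) (t : ℕ)
    (ht : t + 2 ≤ d) (f : Fin t → R) (I : Ideal R) (hItop : I ≠ ⊤)
    (hI : I.radical = (Ideal.span (Set.range f)).radical) :
    IsConnected {x : PrimeSpectrum R | I ≤ x.asIdeal ∧ x.asIdeal ≠ maximalIdeal R} := by
  classical
  haveI : IsLocalRing (R ⧸ I) := GorFlat.isLocalRing_quot_of_le I (le_maximalIdeal hItop)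
  set s : Finset R := Finset.univ.image f with hsdef
  have hscoe : (s : Set R) = Set.range f := by
    rw [hsdef, Finset.coe_image, Finset.coe_univ, Set.image_univ]
  have hscard : s.card ≤ t := by
    refine Finset.card_image_le.trans ?_
    rw [Finset.card_univ, Fintype.card_fin]
  have hs : (Ideal.span (s : Set R)).radical = I.radical := by
    rw [hscoe]
    exact hI.symm
  have hmain := min_le_connDim_quot I hItop s hs
  have hpos : ¬ LocCoh.connDim (PrimeSpectrum (R ⧸ I)) ≤ 0 := by
    intro hle
    have h1 : (d : WithBot ℕ∞) ≤ LocCoh.connDim (PrimeSpectrum R) + 1 := by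
      rw [← hd]
      exact dim_le_connDim_of_isDomain.trans (le_add_of_nonneg_right zero_le_one)
    have h2 : (d : WithBot ℕ∞) ≤ LocCoh.subdim (PrimeSpectrum R) := by
      rw [← hd]
      exact dim_le_subdim_of_isDomain
    have h3 := (le_min h1 h2).trans hmain
    have h4 : LocCoh.connDim (PrimeSpectrum (R ⧸ I)) + (s.card : WithBot ℕ∞) + 1 ≤
        ((t + 1 : ℕ) : WithBot ℕ∞) := by
      have : (0 : WithBot ℕ∞) + (t : WithBot ℕ∞) + 1 = ((t + 1 : ℕ) : WithBot ℕ∞) := by
        push_cast
        ring
      rw [← this]
      exact add_le_add (add_le_add hle (by exact_mod_cast hscard)) le_rfl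
    have h5 : d ≤ t + 1 := by exact_mod_cast h3.trans h4
    omega
  have hconn := isConnected_punctured_of_connDim_pos hpos
  have himg := hconn.image (comap (Ideal.Quotient.mk I))
    (continuous_comap (Ideal.Quotient.mk I)).continuousOn
  haveI : IsLocalHom (Ideal.Quotient.mk I) :=
    IsLocalHom.of_surjective _ Ideal.Quotient.mk_surjective
  have hcp : comap (Ideal.Quotient.mk I) (closedPoint (R ⧸ I)) = closedPoint R :=
    IsLocalRing.comap_closedPoint (Ideal.Quotient.mk I)
  have hinj : Function.Injective (comap (Ideal.Quotient.mk I)) :=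
    PrimeSpectrum.comap_injective_of_surjective _ Ideal.Quotient.mk_surjective
  have hset : comap (Ideal.Quotient.mk I) '' ({closedPoint (R ⧸ I)}ᶜ) =
      {x : PrimeSpectrum R | I ≤ x.asIdeal ∧ x.asIdeal ≠ maximalIdeal R} := by
    ext x
    constructor
    · rintro ⟨y, hy, rfl⟩
      refine ⟨?_, ?_⟩
      · intro a ha
        change Ideal.Quotient.mk I a ∈ y.asIdeal
        rw [Ideal.Quotient.eq_zero_iff_mem.mpr ha]
        exact zero_mem _
      · intro hx
        apply hy
        rw [Set.mem_singleton_iff]
        apply hinj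
        rw [hcp]
        exact PrimeSpectrum.ext hx
    · rintro ⟨hIx, hxm⟩
      have hxr : x ∈ Set.range (comap (Ideal.Quotient.mk I)) := by
        rw [range_comap_of_surjective _ _ Ideal.Quotient.mk_surjective, Ideal.mk_ker]
        exact hIx
      obtain ⟨y, rfl⟩ := hxr
      refine ⟨y, ?_, rfl⟩
      intro hy
      rw [Set.mem_singleton_iff] at hy
      apply hxm
      rw [hy, hcp]
      rfl
  rw [hset] at himg
  exact himg

end main

end Groth.Agent.Lib27.Conn
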