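import Mathlib

/-!
# Finite connected limits from pullbacks and equalizers
-/

set_option autoImplicit false
open CategoryTheory CategoryTheory.Limits

universe v u

namespace Groth.Agent.Lib27.ConnLim

variable {C : Type u} [Category.{v} C] {J : Type} [SmallCategory J] (F : J ⥤ C)

/-- partial cones: legs over the objects in `S`, subject to the relations in `R`. -/
structure PCone (S : Set J) (R : ∀ a b : J, (a ⟶ b) → Prop) where
  /-- apex -/
  pt : C
  /-- legs -/
  π : ∀ j, j ∈ S → (pt ⟶ F.obj j)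
  w : ∀ (a b : J) (f : a ⟶ b) (ha : a ∈ S) (hb : b ∈ S), R a b f → π a ha ≫ F.map f = π b hb

/-- existence of a universal partial cone. -/
def Univ (S : Set J) (R : ∀ a b : J, (a ⟶ b) → Prop) : Prop :=
  ∃ c : PCone F S R, ∀ d : PCone F S R, ∃! l : d.pt ⟶ c.pt, ∀ j hj, l ≫ c.π j hj = d.π j hj

variable {F}

lemma Univ.congr {S : Set J} {R R' : ∀ a b : J, (a ⟶ b) → Prop}
    (h : ∀ a b f, a ∈ S → b ∈ S → (R a b f ↔ R' a b f)) (hU : Univ F S R) : Univ F S R' := by
  obtain ⟨c, hc⟩ := hU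
  refine ⟨⟨c.pt, c.π, fun a b f ha hb hr => c.w a b f ha hb ((h a b f ha hb).2 hr)⟩, ?_⟩
  intro d
  exact hc ⟨d.pt, d.π, fun a b f ha hb hr => d.w a b f ha hb ((h a b f ha hb).1 hr)⟩

lemma Univ.addRel [HasEqualizers C] {S : Set J} {R : ∀ a b : J, (a ⟶ b) → Prop}
    (hU : Univ F S R) (a b : J) (f : a ⟶ b) (ha : a ∈ S) (hb : b ∈ S) :
    Univ F S (fun a' b' f' => R a' b' f' ∨
      (⟨a', b', f'⟩ : Σ a b : J, a ⟶ b) = ⟨a, b, f⟩) := by
  obtain ⟨c, hc⟩ := hU
  refine ⟨⟨equalizer (c.π a ha ≫ F.map f) (c.π b hb),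
    fun j hj => equalizer.ι _ _ ≫ c.π j hj, ?_⟩, ?_⟩
  · intro a' b' f' ha' hb' hr
    rcases hr with hr | hr
    · rw [Category.assoc, c.w a' b' f' ha' hb' hr]
    · cases hr
      rw [Category.assoc]
      exact equalizer.condition _ _
  · intro d
    obtain ⟨l, hl, hlu⟩ := hc ⟨d.pt, d.π,
      fun a' b' f' ha' hb' hr => d.w a' b' f' ha' hb' (Or.inl hr)⟩
    have hcond : l ≫ (c.π a ha ≫ F.map f) = l ≫ c.π b hb := by
      rw [← Category.assoc, hl a ha, hl b hb]
      exact d.w a b f ha hb (Or.inr rfl)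
    refine ⟨equalizer.lift l hcond, ?_, ?_⟩
    · intro j hj
      show equalizer.lift l hcond ≫ equalizer.ι _ _ ≫ c.π j hj = _
      rw [← Category.assoc, equalizer.lift_ι, hl]
    · intro l' hl'
      apply equalizer.hom_ext
      rw [equalizer.lift_ι]
      apply hlu
      intro j hj
      rw [Category.assoc]
      exact hl' j hj

lemma Univ.addRels [HasEqualizers C] {S : Set J} {R : ∀ a b : J, (a ⟶ b) → Prop}
    (hU : Univ F S R) (L : List (Σ a b : J, a ⟶ b))
    (hL : ∀ x ∈ L, x.1 ∈ S ∧ x.2.1 ∈ S) :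
    Univ F S (fun a b f => R a b f ∨ (⟨a, b, f⟩ : Σ a b : J, a ⟶ b) ∈ L) := by
  induction L with
  | nil => exact hU.congr (by simp)
  | cons x L ih =>
    obtain ⟨a, b, f⟩ := x
    have h1 := hL ⟨a, b, f⟩ List.mem_cons_self
    have := (ih (fun y hy => hL y (List.mem_cons_of_mem _ hy))).addRel a b f h1.1 h1.2
    refine this.congr ?_
    intro a' b' f' _ _
    simp only [List.mem_cons]
    tauto

lemma Univ.top [HasEqualizers C] [FinCategory J] {S : Set J} {R : ∀ a b : J, (a ⟶ b) → Prop}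
    (hU : Univ F S R) : Univ F S (fun _ _ _ => True) := by
  classical
  have := hU.addRels ((Finset.univ : Finset (Σ a b : J, a ⟶ b)).toList.filter
    (fun x => x.1 ∈ S ∧ x.2.1 ∈ S)) (by
      intro x hx
      simpa using (List.mem_filter.1 hx).2)
  refine this.congr ?_
  intro a b f ha hb
  simp only [iff_true]
  right
  rw [List.mem_filter]
  exact ⟨by simp, by simp [ha, hb]⟩

lemma Univ.base (j₀ : J) : Univ F {j₀} (fun _ _ _ => False) := by
  refine ⟨⟨F.obj j₀, fun j hj => eqToHom (by rw [Set.mem_singleton_iff.1 hj]),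
    fun _ _ _ _ _ h => h.elim⟩, ?_⟩
  intro d
  refine ⟨d.π j₀ rfl, ?_, ?_⟩
  · intro j hj
    obtain rfl := Set.mem_singleton_iff.1 hj
    simp
  · intro l hl
    have := hl j₀ rfl
    simpa using this

lemma Univ.addObjIn [HasPullbacks C] {S : Set J} (hU : Univ F S (fun _ _ _ => True)) (v w : J)
    (hv : v ∉ S) (hw : w ∈ S) (e : v ⟶ w) :
    Univ F (insert v S) (fun a b f => (a ∈ S ∧ b ∈ S) ∨
      (⟨a, b, f⟩ : Σ a b : J, a ⟶ b) = ⟨v, w, e⟩) := by
  classical
  obtain ⟨c, hc⟩ := hU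
  let leg : ∀ j, j ∈ insert v S → (pullback (c.π w hw) (F.map e) ⟶ F.obj j) := fun j hj =>
    if h : j = v then pullback.snd _ _ ≫ eqToHom (by rw [h])
    else pullback.fst _ _ ≫ c.π j ((Set.mem_insert_iff.1 hj).resolve_left h)
  have leg_v : ∀ hv', leg v hv' = pullback.snd _ _ := by
    intro _
    simp [leg]
  have leg_S : ∀ j (hj : j ∈ S) hj', leg j hj' = pullback.fst _ _ ≫ c.π j hj := by
    intro j hj hj'
    have : j ≠ v := fun h => hv (h ▸ hj)
    simp [leg, this]
  refine ⟨⟨pullback (c.π w hw) (F.map e), leg, ?_⟩, ?_⟩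
  · intro a b f ha hb hr
    rcases hr with ⟨haS, hbS⟩ | hr
    · rw [leg_S a haS ha, leg_S b hbS hb, Category.assoc, c.w a b f haS hbS trivial]
    · cases hr
      rw [leg_v ha, leg_S w hw hb]
      exact pullback.condition.symm
  · intro d
    obtain ⟨l, hl, hlu⟩ := hc ⟨d.pt, fun j hj => d.π j (Set.mem_insert_of_mem _ hj),
      fun a b f ha hb _ => d.w a b f _ _ (Or.inl ⟨ha, hb⟩)⟩
    replace hl : ∀ j (hj : j ∈ S), l ≫ c.π j hj = d.π j (Set.mem_insert_of_mem _ hj) := hl
    replace hlu : ∀ y : d.pt ⟶ c.pt,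
      (∀ j (hj : j ∈ S), y ≫ c.π j hj = d.π j (Set.mem_insert_of_mem _ hj)) → y = l := hlu
    have hcond : l ≫ c.π w hw = d.π v (Set.mem_insert _ _) ≫ F.map e := by
      rw [hl w hw]
      exact (d.w v w e _ _ (Or.inr rfl)).symm
    refine ⟨pullback.lift l (d.π v (Set.mem_insert _ _)) hcond, ?_, ?_⟩
    · intro j hj
      show pullback.lift l (d.π v (Set.mem_insert _ _)) hcond ≫ leg j hj = d.π j hj
      by_cases h : j = v
      · subst h
        rw [leg_v hj, pullback.lift_snd]
      · have hjS : j ∈ S := (Set.mem_insert_iff.1 hj).resolve_left h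
        rw [leg_S j hjS hj, ← Category.assoc, pullback.lift_fst, hl j hjS]
    · intro l' hl'
      replace hl' : ∀ j hj, l' ≫ leg j hj = d.π j hj := hl'
      apply pullback.hom_ext
      · rw [pullback.lift_fst]
        apply hlu
        intro j hj
        have := hl' j (Set.mem_insert_of_mem _ hj)
        rw [leg_S j hj (Set.mem_insert_of_mem _ hj), ← Category.assoc] at this
        exact this
      · rw [pullback.lift_snd]
        have := hl' v (Set.mem_insert _ _)
        rw [leg_v (Set.mem_insert _ _)] at this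
        exact this

lemma Univ.addObjOut {S : Set J} (hU : Univ F S (fun _ _ _ => True)) (v w : J)
    (hv : v ∉ S) (hw : w ∈ S) (e : w ⟶ v) :
    Univ F (insert v S) (fun a b f => (a ∈ S ∧ b ∈ S) ∨
      (⟨a, b, f⟩ : Σ a b : J, a ⟶ b) = ⟨w, v, e⟩) := by
  classical
  obtain ⟨c, hc⟩ := hU
  let leg : ∀ j, j ∈ insert v S → (c.pt ⟶ F.obj j) := fun j hj =>
    if h : j = v then c.π w hw ≫ F.map e ≫ eqToHom (by rw [h])
    else c.π j ((Set.mem_insert_iff.1 hj).resolve_left h)
  have leg_v : ∀ hv', leg v hv' = c.π w hw ≫ F.map e := by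
    intro _
    simp [leg]
  have leg_S : ∀ j (hj : j ∈ S) hj', leg j hj' = c.π j hj := by
    intro j hj hj'
    have : j ≠ v := fun h => hv (h ▸ hj)
    simp [leg, this]
  refine ⟨⟨c.pt, leg, ?_⟩, ?_⟩
  · intro a b f ha hb hr
    rcases hr with ⟨haS, hbS⟩ | hr
    · rw [leg_S a haS ha, leg_S b hbS hb, c.w a b f haS hbS trivial]
    · cases hr
      rw [leg_v hb, leg_S w hw ha]
  · intro d
    obtain ⟨l, hl, hlu⟩ := hc ⟨d.pt, fun j hj => d.π j (Set.mem_insert_of_mem _ hj),
      fun a b f ha hb _ => d.w a b f _ _ (Or.inl ⟨ha, hb⟩)⟩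
    replace hl : ∀ j (hj : j ∈ S), l ≫ c.π j hj = d.π j (Set.mem_insert_of_mem _ hj) := hl
    replace hlu : ∀ y : d.pt ⟶ c.pt,
      (∀ j (hj : j ∈ S), y ≫ c.π j hj = d.π j (Set.mem_insert_of_mem _ hj)) → y = l := hlu
    refine ⟨l, ?_, ?_⟩
    · intro j hj
      show l ≫ leg j hj = d.π j hj
      by_cases h : j = v
      · subst h
        rw [leg_v hj, ← Category.assoc, hl w hw]
        exact d.w w j e _ _ (Or.inr rfl)
      · have hjS : j ∈ S := (Set.mem_insert_iff.1 hj).resolve_left h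
        rw [leg_S j hjS hj, hl j hjS]
    · intro l' hl'
      replace hl' : ∀ j hj, l' ≫ leg j hj = d.π j hj := hl'
      apply hlu
      intro j hj
      have := hl' j (Set.mem_insert_of_mem _ hj)
      rw [leg_S j hj (Set.mem_insert_of_mem _ hj)] at this
      exact this

variable (F)

theorem hasLimit_of_connected [HasEqualizers C] [HasPullbacks C] [FinCategory J]
    [IsConnected J] : HasLimit F := by
  classical
  obtain ⟨j₀⟩ := (inferInstance : Nonempty J)
  have hP0 : (fun S : Set J => j₀ ∈ S ∧ Univ F S (fun _ _ _ => True)) {j₀} :=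
    ⟨rfl, (Univ.base j₀).top⟩
  obtain ⟨S, -, hS⟩ := Finite.exists_le_maximal
    (p := fun S : Set J => j₀ ∈ S ∧ Univ F S (fun _ _ _ => True)) hP0
  have hall : ∀ j, j ∈ S := by
    apply induct_on_objects S hS.prop.1
    intro j₁ j₂ f
    constructor
    · intro h1
      by_contra h2
      have hU := (hS.prop.2.addObjOut j₂ j₁ h2 h1 f).top
      have hle : S ≤ insert j₂ S := Set.subset_insert _ _
      have := hS.le_of_ge ⟨Set.mem_insert_of_mem _ hS.prop.1, hU⟩ hle
      exact h2 (this (Set.mem_insert _ _))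
    · intro h2
      by_contra h1
      have hU := (hS.prop.2.addObjIn j₁ j₂ h1 h2 f).top
      have hle : S ≤ insert j₁ S := Set.subset_insert _ _
      have := hS.le_of_ge ⟨Set.mem_insert_of_mem _ hS.prop.1, hU⟩ hle
      exact h1 (this (Set.mem_insert _ _))
  obtain ⟨c, hc⟩ := hS.prop.2
  let cone : Cone F :=
    { pt := c.pt
      π := { app := fun j => c.π j (hall j)
             naturality := by
              intro a b f
              simp only [Functor.const_obj_obj, Functor.const_obj_map, Category.id_comp]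
              exact (c.w a b f _ _ trivial).symm } }
  refine ⟨⟨⟨cone, ?_⟩⟩⟩
  refine
    { lift := fun s => (hc ⟨s.pt, fun j _ => s.π.app j, fun a b f _ _ _ => s.w f⟩).exists.choose
      fac := ?_
      uniq := ?_ }
  · intro s j
    exact (hc ⟨s.pt, fun j _ => s.π.app j, fun a b f _ _ _ => s.w f⟩).exists.choose_spec j (hall j)
  · intro s m hm
    exact (hc ⟨s.pt, fun j _ => s.π.app j, fun a b f _ _ _ => s.w f⟩).unique
      (fun j hj => hm j)
      (hc ⟨s.pt, fun j _ => s.π.app j, fun a b f _ _ _ => s.w f⟩).exists.choose_spec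

end Groth.Agent.Lib27.ConnLim
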