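import Groth.Prelude.Def_CotT
import Mathlib

/-!
# The long exact sequence of the `CotT.Tⁱ(B/A, -)` in the module variable (helper27)
-/

universe u v w t m

open TensorProduct Function

namespace Groth.Agent.Lib27.CotTLES

section General

variable {B : Type v} [CommRing B] {L : Type*} [AddCommGroup L] [Module B L]
  {M' M M'' : Type*} [AddCommGroup M'] [Module B M'] [AddCommGroup M] [Module B M]
  [AddCommGroup M''] [Module B M'']
  (f : M' →ₗ[B] M) (g : M →ₗ[B] M'') (hf : Injective f) (hfg : Exact f g)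

include hf hfg in
/-- Left exactness of `Hom_B(L, -)`. -/
lemma exists_factor (c : L →ₗ[B] M) (hc : g ∘ₗ c = 0) : ∃ c' : L →ₗ[B] M', f ∘ₗ c' = c := by
  have hmem : ∀ x, c x ∈ LinearMap.range f := fun x => by
    rw [← hfg.linearMap_ker_eq, LinearMap.mem_ker]
    exact congrArg (fun h : L →ₗ[B] M'' => h x) hc
  refine ⟨(LinearEquiv.ofInjective f hf).symm.toLinearMap ∘ₗ LinearMap.codRestrict _ c hmem, ?_⟩
  apply LinearMap.ext
  intro x
  change f ((LinearEquiv.ofInjective f hf).symm ⟨c x, hmem x⟩) = c x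
  exact congrArg Subtype.val ((LinearEquiv.ofInjective f hf).apply_symm_apply ⟨c x, hmem x⟩)

include hf in
lemma comp_injective {c₁ c₂ : L →ₗ[B] M'} (h : f ∘ₗ c₁ = f ∘ₗ c₂) : c₁ = c₂ := by
  apply LinearMap.ext
  intro x
  exact hf (congrArg (fun h : L →ₗ[B] M => h x) h)

include hfg in
lemma comp_comp_eq_zero (c : L →ₗ[B] M') : g ∘ₗ (f ∘ₗ c) = 0 := by
  apply LinearMap.ext
  intro x
  exact hfg.apply_apply_eq_zero (c x)

end General

variable {A : Type u} {B : Type v} {ι : Type w} {σ : Type t}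
variable [CommRing A] [CommRing B] [Algebra A B]
variable (P : Algebra.Presentation A B ι σ)

instance : Module.Projective B (CotT.L0 P) := Module.Projective.of_basis P.cotangentSpaceBasis
instance : Module.Projective B (CotT.L1 P) := Module.Projective.of_basis (CotT.L1basis P)

variable {M' M M'' : Type m} [AddCommGroup M'] [Module B M'] [AddCommGroup M] [Module B M]
  [AddCommGroup M''] [Module B M'']
  (f : M' →ₗ[B] M) (g : M →ₗ[B] M'') (hf : Injective f) (hg : Surjective g) (hfg : Exact f g)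

lemma T0map_val {N N' : Type m} [AddCommGroup N] [Module B N] [AddCommGroup N'] [Module B N']
    (h : N →ₗ[B] N') (φ : CotT.T0 P N) :
    ((CotT.T0map P h φ : CotT.T0 P N') : CotT.L0 P →ₗ[B] N') = h ∘ₗ (φ : CotT.L0 P →ₗ[B] N) := rfl

lemma cocycles1Map_val {N N' : Type m} [AddCommGroup N] [Module B N] [AddCommGroup N'] [Module B N']
    (h : N →ₗ[B] N') (c : CotT.cocycles1 P N) :
    ((CotT.cocycles1Map P h c : CotT.cocycles1 P N') : CotT.L1 P →ₗ[B] N') =
      h ∘ₗ (c : CotT.L1 P →ₗ[B] N) := rfl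

lemma T1map_mk {N N' : Type m} [AddCommGroup N] [Module B N] [AddCommGroup N'] [Module B N']
    (h : N →ₗ[B] N') (c : CotT.cocycles1 P N) :
    CotT.T1map P h (Submodule.Quotient.mk c) = Submodule.Quotient.mk (CotT.cocycles1Map P h c) := rfl

lemma T2map_mk {N N' : Type m} [AddCommGroup N] [Module B N] [AddCommGroup N'] [Module B N']
    (h : N →ₗ[B] N') (e : CotT.L2 P →ₗ[B] N) :
    CotT.T2map P h (Submodule.Quotient.mk e) = Submodule.Quotient.mk (h ∘ₗ e) := rfl

include hf in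
lemma T0map_injective : Injective (CotT.T0map P f) := by
  intro φ φ' h
  apply Subtype.ext
  apply comp_injective f hf
  exact congrArg Subtype.val h

include hf hfg in
lemma T0_exact : Exact (CotT.T0map P f) (CotT.T0map P g) := by
  intro φ
  constructor
  · intro h
    have h0 : g ∘ₗ (φ : CotT.L0 P →ₗ[B] M) = 0 := congrArg Subtype.val h
    obtain ⟨φ', hφ'⟩ := exists_factor f g hf hfg _ h0
    have hmem : φ' ∈ LinearMap.ker (CotT.d1Star P M') := by
      rw [LinearMap.mem_ker, CotT.d1Star_apply]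
      apply comp_injective f hf
      rw [← LinearMap.comp_assoc, hφ', LinearMap.comp_zero]
      have := φ.2
      rw [LinearMap.mem_ker, CotT.d1Star_apply] at this
      exact this
    exact ⟨⟨φ', hmem⟩, Subtype.ext hφ'⟩
  · rintro ⟨φ', rfl⟩
    apply Subtype.ext
    rw [T0map_val, T0map_val]
    exact comp_comp_eq_zero f g hfg _

lemma mk_eq_zero_T1 {N : Type m} [AddCommGroup N] [Module B N] (c : CotT.cocycles1 P N) :
    (Submodule.Quotient.mk c : CotT.T1 P N) = 0 ↔
      ∃ ψ : CotT.L0 P →ₗ[B] N, ψ ∘ₗ CotT.d1 P = (c : CotT.L1 P →ₗ[B] N) := by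
  rw [Submodule.Quotient.mk_eq_zero]
  change (c : CotT.L1 P →ₗ[B] N) ∈ LinearMap.range (CotT.d1Star P N) ↔ _
  rw [LinearMap.mem_range]
  rfl

lemma mk_eq_mk_T1 {N : Type m} [AddCommGroup N] [Module B N] (c c' : CotT.cocycles1 P N) :
    (Submodule.Quotient.mk c : CotT.T1 P N) = Submodule.Quotient.mk c' ↔
      ∃ ψ : CotT.L0 P →ₗ[B] N, ψ ∘ₗ CotT.d1 P =
        (c : CotT.L1 P →ₗ[B] N) - (c' : CotT.L1 P →ₗ[B] N) := by
  rw [← sub_eq_zero, ← Submodule.Quotient.mk_sub, mk_eq_zero_T1]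
  rfl

lemma mk_eq_zero_T2 {N : Type m} [AddCommGroup N] [Module B N] (e : CotT.L2 P →ₗ[B] N) :
    (Submodule.Quotient.mk e : CotT.T2 P N) = 0 ↔
      ∃ φ : CotT.L1 P →ₗ[B] N, φ ∘ₗ CotT.d2 P = e := by
  rw [Submodule.Quotient.mk_eq_zero, LinearMap.mem_range]
  rfl

lemma cocycle_comp_d2 {N : Type m} [AddCommGroup N] [Module B N] (c : CotT.cocycles1 P N) :
    (c : CotT.L1 P →ₗ[B] N) ∘ₗ CotT.d2 P = 0 := by
  have := c.2
  rw [LinearMap.mem_ker, CotT.d2Star_apply] at this
  exact this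

include hf hg hfg in
lemma T1_exact : Exact (CotT.T1map P f) (CotT.T1map P g) := by
  intro z
  obtain ⟨c, rfl⟩ := Submodule.Quotient.mk_surjective _ z
  constructor
  · intro h
    rw [T1map_mk, mk_eq_zero_T1] at h
    obtain ⟨ψ'', hψ''⟩ := h
    obtain ⟨ψ, rfl⟩ := Module.projective_lifting_property g ψ'' hg
    rw [cocycles1Map_val] at hψ''
    have h0 : g ∘ₗ ((c : CotT.L1 P →ₗ[B] M) - ψ ∘ₗ CotT.d1 P) = 0 := by
      rw [LinearMap.comp_sub, ← hψ'', LinearMap.comp_assoc, sub_self]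
    obtain ⟨c', hc'⟩ := exists_factor f g hf hfg _ h0
    have hmem : c' ∈ CotT.cocycles1 P M' := by
      rw [LinearMap.mem_ker, CotT.d2Star_apply]
      apply comp_injective f hf
      rw [← LinearMap.comp_assoc, hc', LinearMap.comp_zero, LinearMap.sub_comp, cocycle_comp_d2,
        LinearMap.comp_assoc, CotT.d1_comp_d2, LinearMap.comp_zero, sub_zero]
    refine ⟨Submodule.Quotient.mk ⟨c', hmem⟩, ?_⟩
    rw [T1map_mk, mk_eq_mk_T1]
    refine ⟨-ψ, ?_⟩
    rw [cocycles1Map_val]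
    change (-ψ) ∘ₗ CotT.d1 P = f ∘ₗ c' - _
    rw [hc', LinearMap.neg_comp]
    abel
  · rintro ⟨z', hz'⟩
    rw [← hz']
    obtain ⟨c', rfl⟩ := Submodule.Quotient.mk_surjective _ z'
    rw [T1map_mk, T1map_mk, mk_eq_zero_T1]
    refine ⟨0, ?_⟩
    rw [LinearMap.zero_comp, cocycles1Map_val, cocycles1Map_val]
    exact (comp_comp_eq_zero f g hfg _).symm

include hf hg hfg in
lemma T2_exact : Exact (CotT.T2map P f) (CotT.T2map P g) := by
  intro z
  obtain ⟨e, rfl⟩ := Submodule.Quotient.mk_surjective _ z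
  constructor
  · intro h
    rw [T2map_mk, mk_eq_zero_T2] at h
    obtain ⟨φ'', hφ''⟩ := h
    obtain ⟨φ, rfl⟩ := Module.projective_lifting_property g φ'' hg
    have h0 : g ∘ₗ (e - φ ∘ₗ CotT.d2 P) = 0 := by
      rw [LinearMap.comp_sub, ← hφ'', LinearMap.comp_assoc, sub_self]
    obtain ⟨e', he'⟩ := exists_factor f g hf hfg _ h0
    refine ⟨Submodule.Quotient.mk e', ?_⟩
    rw [T2map_mk, he', Submodule.Quotient.mk_sub, sub_eq_self, mk_eq_zero_T2]
    exact ⟨φ, rfl⟩
  · rintro ⟨z', hz'⟩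
    rw [← hz']
    obtain ⟨e', rfl⟩ := Submodule.Quotient.mk_surjective _ z'
    rw [T2map_mk, T2map_mk, comp_comp_eq_zero f g hfg, Submodule.Quotient.mk_zero]

section SnakeA

/-- Postcomposition `Hom_B(L, N) → Hom_B(L, N')`. -/
abbrev post (L : Type*) [AddCommGroup L] [Module B L] {N N' : Type m} [AddCommGroup N] [Module B N]
    [AddCommGroup N'] [Module B N'] (h : N →ₗ[B] N') : (L →ₗ[B] N) →ₗ[B] (L →ₗ[B] N') :=
  LinearMap.llcomp B L N N' h

/-- `d₁^* : Hom(L₀, N) → Z¹(N)`. -/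
noncomputable def toCocycles (N : Type m) [AddCommGroup N] [Module B N] :
    (CotT.L0 P →ₗ[B] N) →ₗ[B] CotT.cocycles1 P N :=
  LinearMap.codRestrict (CotT.cocycles1 P N) (CotT.d1Star P N) (fun ψ => by
    rw [LinearMap.mem_ker, CotT.d2Star_apply, CotT.d1Star_apply, LinearMap.comp_assoc, CotT.d1_comp_d2,
      LinearMap.comp_zero])

lemma toCocycles_val (N : Type m) [AddCommGroup N] [Module B N] (ψ : CotT.L0 P →ₗ[B] N) :
    ((toCocycles P N ψ : CotT.cocycles1 P N) : CotT.L1 P →ₗ[B] N) = ψ ∘ₗ CotT.d1 P := rfl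

include hf hfg in
lemma post_exact (L : Type*) [AddCommGroup L] [Module B L] : Exact (post L f) (post L g) := by
  intro c
  constructor
  · intro h
    obtain ⟨c', hc'⟩ := exists_factor f g hf hfg c h
    exact ⟨c', hc'⟩
  · rintro ⟨c', rfl⟩
    exact comp_comp_eq_zero f g hfg c'

include hg in
lemma post_surjective (L : Type*) [AddCommGroup L] [Module B L] [Module.Projective B L] :
    Surjective (post L g) := fun c'' => Module.projective_lifting_property g c'' hg

include hf in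
lemma post_injective (L : Type*) [AddCommGroup L] [Module B L] : Injective (post L f) :=
  fun _ _ h => comp_injective f hf h

include hf hfg in
lemma cocycles1Map_exact : Exact (CotT.cocycles1Map P f) (CotT.cocycles1Map P g) := by
  intro c
  constructor
  · intro h
    have h0 : g ∘ₗ (c : CotT.L1 P →ₗ[B] M) = 0 := congrArg Subtype.val h
    obtain ⟨c', hc'⟩ := exists_factor f g hf hfg _ h0
    have hmem : c' ∈ CotT.cocycles1 P M' := by
      rw [LinearMap.mem_ker, CotT.d2Star_apply]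
      apply comp_injective f hf
      rw [← LinearMap.comp_assoc, hc', LinearMap.comp_zero, cocycle_comp_d2]
    exact ⟨⟨c', hmem⟩, Subtype.ext hc'⟩
  · rintro ⟨c', rfl⟩
    apply Subtype.ext
    rw [cocycles1Map_val, cocycles1Map_val]
    exact comp_comp_eq_zero f g hfg _

include hf in
lemma cocycles1Map_injective : Injective (CotT.cocycles1Map P f) := by
  intro c c' h
  apply Subtype.ext
  apply comp_injective f hf
  exact congrArg Subtype.val h

lemma exact_subtype_toCocycles (N : Type m) [AddCommGroup N] [Module B N] :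
    Exact (LinearMap.ker (CotT.d1Star P N)).subtype (toCocycles P N) := by
  intro ψ
  constructor
  · intro h
    have : ψ ∈ LinearMap.ker (CotT.d1Star P N) := by
      rw [LinearMap.mem_ker]
      exact congrArg Subtype.val h
    exact ⟨⟨ψ, this⟩, rfl⟩
  · rintro ⟨φ, rfl⟩
    apply Subtype.ext
    have := φ.2
    rw [LinearMap.mem_ker] at this
    exact this

lemma exact_toCocycles_mkQ (N : Type m) [AddCommGroup N] [Module B N] :
    Exact (toCocycles P N) (CotT.coboundaries1 P N).mkQ := by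
  intro c
  rw [Submodule.mkQ_apply, mk_eq_zero_T1]
  constructor
  · rintro ⟨ψ, hψ⟩
    exact ⟨ψ, Subtype.ext hψ⟩
  · rintro ⟨ψ, rfl⟩
    exact ⟨ψ, rfl⟩

/-- The connecting map `T⁰(M'') → T¹(M')`. -/
noncomputable def δ₀ : CotT.T0 P M'' →ₗ[B] CotT.T1 P M' :=
  SnakeLemma.δ' (toCocycles P M') (toCocycles P M) (toCocycles P M'')
    (post (CotT.L0 P) f) (post (CotT.L0 P) g) (post_exact f g hf hfg _)
    (CotT.cocycles1Map P f) (CotT.cocycles1Map P g) (cocycles1Map_exact P f g hf hfg)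
    (by apply LinearMap.ext; intro ψ; apply Subtype.ext; rfl)
    (by apply LinearMap.ext; intro ψ; apply Subtype.ext; rfl)
    (LinearMap.ker (CotT.d1Star P M'')).subtype (exact_subtype_toCocycles P M'')
    (CotT.coboundaries1 P M').mkQ (exact_toCocycles_mkQ P M')
    (post_surjective g hg _) (cocycles1Map_injective P f hf)

lemma exact_T0map_δ₀ : Exact (CotT.T0map P g) (δ₀ P f g hf hg hfg) := by
  refine SnakeLemma.exact_δ'_right (toCocycles P M') (toCocycles P M) (toCocycles P M'')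
    (post (CotT.L0 P) f) (post (CotT.L0 P) g) (post_exact f g hf hfg _)
    (CotT.cocycles1Map P f) (CotT.cocycles1Map P g) (cocycles1Map_exact P f g hf hfg) _ _
    (LinearMap.ker (CotT.d1Star P M)).subtype (exact_subtype_toCocycles P M)
    (LinearMap.ker (CotT.d1Star P M'')).subtype (exact_subtype_toCocycles P M'')
    (CotT.coboundaries1 P M').mkQ (exact_toCocycles_mkQ P M')
    (post_surjective g hg _) (cocycles1Map_injective P f hf) (CotT.T0map P g) ?_ Subtype.val_injective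
  apply LinearMap.ext
  intro φ
  rfl

lemma exact_δ₀_T1map : Exact (δ₀ P f g hf hg hfg) (CotT.T1map P f) := by
  refine SnakeLemma.exact_δ'_left (toCocycles P M') (toCocycles P M) (toCocycles P M'')
    (post (CotT.L0 P) f) (post (CotT.L0 P) g) (post_exact f g hf hfg _)
    (CotT.cocycles1Map P f) (CotT.cocycles1Map P g) (cocycles1Map_exact P f g hf hfg) _ _
    (LinearMap.ker (CotT.d1Star P M'')).subtype (exact_subtype_toCocycles P M'')
    (CotT.coboundaries1 P M').mkQ (exact_toCocycles_mkQ P M')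
    (CotT.coboundaries1 P M).mkQ (exact_toCocycles_mkQ P M)
    (post_surjective g hg _) (cocycles1Map_injective P f hf) (CotT.T1map P f) ?_
    (Submodule.mkQ_surjective _)
  apply LinearMap.ext
  intro c
  rfl

end SnakeA

section SnakeB

/-- `Hom(L₁, N) / B¹(N)`. -/
abbrev Q1 (N : Type m) [AddCommGroup N] [Module B N] : Type _ :=
  (CotT.L1 P →ₗ[B] N) ⧸ LinearMap.range (CotT.d1Star P N)

/-- Postcomposition on `Hom(L₁, -) / B¹`. -/
noncomputable def Q1map {N N' : Type m} [AddCommGroup N] [Module B N] [AddCommGroup N'] [Module B N']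
    (h : N →ₗ[B] N') : Q1 P N →ₗ[B] Q1 P N' :=
  Submodule.mapQ _ _ (post (CotT.L1 P) h) (by
    rintro _ ⟨ψ, rfl⟩
    exact ⟨h ∘ₗ ψ, by rw [CotT.d1Star_apply, CotT.d1Star_apply, LinearMap.comp_assoc]; rfl⟩)

lemma Q1map_mk {N N' : Type m} [AddCommGroup N] [Module B N] [AddCommGroup N'] [Module B N']
    (h : N →ₗ[B] N') (c : CotT.L1 P →ₗ[B] N) :
    Q1map P h (Submodule.Quotient.mk c) = Submodule.Quotient.mk (h ∘ₗ c) := rfl

lemma mk_eq_zero_Q1 {N : Type m} [AddCommGroup N] [Module B N] (c : CotT.L1 P →ₗ[B] N) :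
    (Submodule.Quotient.mk c : Q1 P N) = 0 ↔ ∃ ψ : CotT.L0 P →ₗ[B] N, ψ ∘ₗ CotT.d1 P = c := by
  rw [Submodule.Quotient.mk_eq_zero, LinearMap.mem_range]
  rfl

/-- `d₂^*` on `Hom(L₁, N) / B¹(N)`. -/
noncomputable def Q1d (N : Type m) [AddCommGroup N] [Module B N] : Q1 P N →ₗ[B] (CotT.L2 P →ₗ[B] N) :=
  Submodule.liftQ _ (CotT.d2Star P N) (by
    rintro _ ⟨ψ, rfl⟩
    rw [LinearMap.mem_ker, CotT.d2Star_apply, CotT.d1Star_apply, LinearMap.comp_assoc, CotT.d1_comp_d2,
      LinearMap.comp_zero])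

lemma Q1d_mk (N : Type m) [AddCommGroup N] [Module B N] (c : CotT.L1 P →ₗ[B] N) :
    Q1d P N (Submodule.Quotient.mk c) = c ∘ₗ CotT.d2 P := rfl

/-- `T¹(N) → Hom(L₁, N) / B¹(N)`. -/
noncomputable def T1toQ1 (N : Type m) [AddCommGroup N] [Module B N] : CotT.T1 P N →ₗ[B] Q1 P N :=
  Submodule.mapQ _ _ (CotT.cocycles1 P N).subtype le_rfl

lemma T1toQ1_mk (N : Type m) [AddCommGroup N] [Module B N] (c : CotT.cocycles1 P N) :
    T1toQ1 P N (Submodule.Quotient.mk c) = Submodule.Quotient.mk (c : CotT.L1 P →ₗ[B] N) := rfl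

lemma T1toQ1_injective (N : Type m) [AddCommGroup N] [Module B N] : Injective (T1toQ1 P N) := by
  rw [← LinearMap.ker_eq_bot, LinearMap.ker_eq_bot']
  intro z hz
  obtain ⟨c, rfl⟩ := Submodule.Quotient.mk_surjective _ z
  rw [T1toQ1_mk, mk_eq_zero_Q1] at hz
  rw [mk_eq_zero_T1]
  exact hz

lemma exact_T1toQ1_Q1d (N : Type m) [AddCommGroup N] [Module B N] :
    Exact (T1toQ1 P N) (Q1d P N) := by
  intro z
  obtain ⟨c, rfl⟩ := Submodule.Quotient.mk_surjective _ z
  rw [Q1d_mk]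
  constructor
  · intro h
    have hmem : c ∈ CotT.cocycles1 P N := by
      rw [LinearMap.mem_ker, CotT.d2Star_apply]; exact h
    exact ⟨Submodule.Quotient.mk ⟨c, hmem⟩, rfl⟩
  · rintro ⟨z', hz'⟩
    obtain ⟨c', rfl⟩ := Submodule.Quotient.mk_surjective _ z'
    rw [T1toQ1_mk] at hz'
    have := (Submodule.Quotient.eq _).1 hz'
    obtain ⟨ψ, hψ⟩ := this
    rw [CotT.d1Star_apply] at hψ
    have e : c = (c' : CotT.L1 P →ₗ[B] N) - ψ ∘ₗ CotT.d1 P := by rw [hψ]; abel
    rw [e, LinearMap.sub_comp, cocycle_comp_d2, LinearMap.comp_assoc, CotT.d1_comp_d2,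
      LinearMap.comp_zero, sub_zero]

lemma exact_Q1d_mkQ (N : Type m) [AddCommGroup N] [Module B N] :
    Exact (Q1d P N) (LinearMap.range (CotT.d2Star P N)).mkQ := by
  intro e
  rw [Submodule.mkQ_apply, mk_eq_zero_T2]
  constructor
  · rintro ⟨φ, rfl⟩
    exact ⟨Submodule.Quotient.mk φ, rfl⟩
  · rintro ⟨z, rfl⟩
    obtain ⟨φ, rfl⟩ := Submodule.Quotient.mk_surjective _ z
    exact ⟨φ, rfl⟩

include hf hg hfg in
lemma Q1map_exact : Exact (Q1map P f) (Q1map P g) := by
  intro z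
  obtain ⟨c, rfl⟩ := Submodule.Quotient.mk_surjective _ z
  constructor
  · intro h
    rw [Q1map_mk, mk_eq_zero_Q1] at h
    obtain ⟨ψ'', hψ''⟩ := h
    obtain ⟨ψ, rfl⟩ := Module.projective_lifting_property g ψ'' hg
    have h0 : g ∘ₗ (c - ψ ∘ₗ CotT.d1 P) = 0 := by
      rw [LinearMap.comp_sub, ← hψ'', LinearMap.comp_assoc, sub_self]
    obtain ⟨c', hc'⟩ := exists_factor f g hf hfg _ h0
    refine ⟨Submodule.Quotient.mk c', ?_⟩
    rw [Q1map_mk, hc', Submodule.Quotient.mk_sub, sub_eq_self, mk_eq_zero_Q1]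
    exact ⟨ψ, rfl⟩
  · rintro ⟨z', hz'⟩
    rw [← hz']
    obtain ⟨c', rfl⟩ := Submodule.Quotient.mk_surjective _ z'
    rw [Q1map_mk, Q1map_mk, comp_comp_eq_zero f g hfg, Submodule.Quotient.mk_zero]

include hg in
lemma Q1map_surjective : Surjective (Q1map P g) := by
  intro z
  obtain ⟨c'', rfl⟩ := Submodule.Quotient.mk_surjective _ z
  obtain ⟨c, rfl⟩ := Module.projective_lifting_property g c'' hg
  exact ⟨Submodule.Quotient.mk c, rfl⟩

/-- The connecting map `T¹(M'') → T²(M')`. -/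
noncomputable def δ₁ : CotT.T1 P M'' →ₗ[B] CotT.T2 P M' :=
  SnakeLemma.δ' (Q1d P M') (Q1d P M) (Q1d P M'')
    (Q1map P f) (Q1map P g) (Q1map_exact P f g hf hg hfg)
    (post (CotT.L2 P) f) (post (CotT.L2 P) g) (post_exact f g hf hfg _)
    (by apply Submodule.linearMap_qext; apply LinearMap.ext; intro c; rfl)
    (by apply Submodule.linearMap_qext; apply LinearMap.ext; intro c; rfl)
    (T1toQ1 P M'') (exact_T1toQ1_Q1d P M'')
    (LinearMap.range (CotT.d2Star P M')).mkQ (exact_Q1d_mkQ P M')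
    (Q1map_surjective P g hg) (post_injective f hf _)

lemma exact_T1map_δ₁ : Exact (CotT.T1map P g) (δ₁ P f g hf hg hfg) := by
  refine SnakeLemma.exact_δ'_right (Q1d P M') (Q1d P M) (Q1d P M'')
    (Q1map P f) (Q1map P g) (Q1map_exact P f g hf hg hfg)
    (post (CotT.L2 P) f) (post (CotT.L2 P) g) (post_exact f g hf hfg _) _ _
    (T1toQ1 P M) (exact_T1toQ1_Q1d P M)
    (T1toQ1 P M'') (exact_T1toQ1_Q1d P M'')
    (LinearMap.range (CotT.d2Star P M')).mkQ (exact_Q1d_mkQ P M')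
    (Q1map_surjective P g hg) (post_injective f hf _) (CotT.T1map P g) ?_ (T1toQ1_injective P M'')
  apply Submodule.linearMap_qext
  apply LinearMap.ext
  intro c
  rfl

lemma exact_δ₁_T2map : Exact (δ₁ P f g hf hg hfg) (CotT.T2map P f) := by
  refine SnakeLemma.exact_δ'_left (Q1d P M') (Q1d P M) (Q1d P M'')
    (Q1map P f) (Q1map P g) (Q1map_exact P f g hf hg hfg)
    (post (CotT.L2 P) f) (post (CotT.L2 P) g) (post_exact f g hf hfg _) _ _
    (T1toQ1 P M'') (exact_T1toQ1_Q1d P M'')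
    (LinearMap.range (CotT.d2Star P M')).mkQ (exact_Q1d_mkQ P M')
    (LinearMap.range (CotT.d2Star P M)).mkQ (exact_Q1d_mkQ P M)
    (Q1map_surjective P g hg) (post_injective f hf _) (CotT.T2map P f) ?_
    (Submodule.mkQ_surjective _)
  apply LinearMap.ext
  intro c
  rfl

end SnakeB

end Groth.Agent.Lib27.CotTLES
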