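import Mathlib
import Groth.Prelude.Def_CohDer

/-!
# Helpers for triangulated categories: shifted exactness, generators detect isomorphisms
-/

set_option autoImplicit false
universe v u

open CategoryTheory CategoryTheory.Limits CategoryTheory.Pretriangulated
open scoped ZeroObject

namespace Groth.Agent.Lib27.TriHelp

variable {D : Type u} [Category.{v} D] [Preadditive D] [HasZeroObject D] [HasShift D ℤ]
  [∀ n : ℤ, (shiftFunctor D n).Additive] [Pretriangulated D]

/-- exactness of `Hom(W, -⟦n⟧)` at the middle term of a distinguished triangle. -/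
lemma shift_coyoneda_exact₂ (T : Triangle D) (hT : T ∈ distTriang D) (n : ℤ) {W : D}
    (φ : W ⟶ (shiftFunctor D n).obj T.obj₂) (hφ : φ ≫ (shiftFunctor D n).map T.mor₂ = 0) :
    ∃ ψ : W ⟶ (shiftFunctor D n).obj T.obj₁, φ = ψ ≫ (shiftFunctor D n).map T.mor₁ := by
  have hT' := Triangle.shift_distinguished T hT n
  obtain ⟨ψ, hψ⟩ : ∃ ψ : W ⟶ (shiftFunctor D n).obj T.obj₁,
      φ = ψ ≫ (n.negOnePow • (shiftFunctor D n).map T.mor₁) :=
    Triangle.coyoneda_exact₂ _ hT' φ (by
      change φ ≫ (n.negOnePow • (shiftFunctor D n).map T.mor₂) = 0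
      rw [Linear.comp_units_smul, hφ, smul_zero])
  refine ⟨n.negOnePow • ψ, ?_⟩
  rw [hψ, Linear.comp_units_smul, Linear.units_smul_comp]

/-- exactness of `Hom(W, -⟦n⟧)` at the third term. -/
lemma shift_coyoneda_exact₃ (T : Triangle D) (hT : T ∈ distTriang D) (n : ℤ) {W : D}
    (φ : W ⟶ (shiftFunctor D n).obj T.obj₃) (hφ : φ ≫ (shiftFunctor D n).map T.mor₃ = 0) :
    ∃ ψ : W ⟶ (shiftFunctor D n).obj T.obj₂, φ = ψ ≫ (shiftFunctor D n).map T.mor₂ :=
  shift_coyoneda_exact₂ T.rotate (rot_of_distTriang _ hT) n φ hφ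

/-- a family generates: morphisms are detected. -/
lemma isIso_of_bijective {ι : Type*} (S : ι → D) (hS : CohDer.Generates S) {X Y : D} (f : X ⟶ Y)
    (h : ∀ (i : ι) (n : ℤ), Function.Bijective
      (fun g : S i ⟶ (shiftFunctor D n).obj X => g ≫ (shiftFunctor D n).map f)) : IsIso f := by
  obtain ⟨Z, g, δ, hT⟩ := distinguished_cocone_triangle f
  have hZ : IsZero Z := by
    apply hS
    intro i n φ
    have h1 : φ ≫ (shiftFunctor D n).map δ = 0 := by
      let e := shiftFunctorAdd' D 1 n (1 + n) rfl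
      have hnat : (shiftFunctor D (1 + n)).map f ≫ e.hom.app Y =
          e.hom.app X ≫ (shiftFunctor D n).map ((shiftFunctor D (1 : ℤ)).map f) :=
        e.hom.naturality f
      have h2 : (φ ≫ (shiftFunctor D n).map δ ≫ e.inv.app X) ≫ (shiftFunctor D (1 + n)).map f
          = 0 := by
        have h3 : e.inv.app X ≫ (shiftFunctor D (1 + n)).map f =
            (shiftFunctor D n).map ((shiftFunctor D (1 : ℤ)).map f) ≫ e.inv.app Y :=
          (e.inv.naturality f).symm
        rw [Category.assoc, Category.assoc, h3, ← Functor.map_comp_assoc]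
        have h4 : δ ≫ (shiftFunctor D (1 : ℤ)).map f = 0 := comp_distTriang_mor_zero₃₁ _ hT
        rw [h4, Functor.map_zero, zero_comp, comp_zero]
      have h5 := (h i (1 + n)).1 (a₁ := φ ≫ (shiftFunctor D n).map δ ≫ e.inv.app X) (a₂ := 0)
        (by simpa using h2)
      have h6 := congrArg (fun x => x ≫ e.hom.app X) h5
      simpa using h6
    obtain ⟨ψ, hψ⟩ : ∃ ψ : S i ⟶ (shiftFunctor D n).obj Y, φ = ψ ≫ (shiftFunctor D n).map g :=
      shift_coyoneda_exact₃ _ hT n φ h1
    obtain ⟨χ, hχ⟩ := (h i n).2 ψ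
    dsimp at hχ
    have h7 : f ≫ g = 0 := comp_distTriang_mor_zero₁₂ _ hT
    rw [hψ, ← hχ, Category.assoc, ← Functor.map_comp, h7, Functor.map_zero, comp_zero]
  exact (Triangle.isZero₃_iff_isIso₁ _ hT).1 hZ

end Groth.Agent.Lib27.TriHelp
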