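import Mathlib
import Groth.Agent.Lib27.CptEnv
import Groth.Agent.Lib27.TriHelp

/-!
# Compact objects and adjoint functors
-/

set_option autoImplicit false
universe v u u'

open CategoryTheory CategoryTheory.Limits CategoryTheory.Pretriangulated
open scoped ZeroObject

namespace Groth.Agent.Lib27.CptAdj

open Groth.Agent.Lib27.CptEnv Groth.Agent.Lib27.TriHelp

section Gen

variable {D : Type u} [Category.{v} D] [Preadditive D] [HasZeroObject D] [HasShift D ℤ]
  [∀ n : ℤ, (shiftFunctor D n).Additive] [Pretriangulated D]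

/-- unshifted-target version of `isIso_of_bijective`. -/
lemma isIso_of_bijective' {ι : Type*} (S : ι → D) (hS : CohDer.Generates S) {X Y : D} (f : X ⟶ Y)
    (h : ∀ (i : ι) (n : ℤ), Function.Bijective
      (fun g : (shiftFunctor D n).obj (S i) ⟶ X => g ≫ f)) : IsIso f := by
  apply isIso_of_bijective S hS f
  intro i n
  let adj : shiftFunctor D (-n) ⊣ shiftFunctor D n := (shiftEquiv D n).symm.toAdjunction
  have : (fun g : S i ⟶ (shiftFunctor D n).obj X => g ≫ (shiftFunctor D n).map f) =
      (adj.homEquiv (S i) Y) ∘ (fun g : (shiftFunctor D (-n)).obj (S i) ⟶ X => g ≫ f) ∘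
        (adj.homEquiv (S i) X).symm := by
    funext g
    simp only [Function.comp_apply]
    rw [Adjunction.homEquiv_naturality_right, Equiv.apply_symm_apply]
  rw [this]
  exact (Equiv.bijective _).comp ((h i (-n)).comp (Equiv.bijective _))

end Gen

section Adj

variable {D : Type u} [Category.{v} D] [Preadditive D] [HasCoproducts.{v} D]
  {E : Type u'} [Category.{v} E] [Preadditive E] [HasCoproducts.{v} E]
  {F : D ⥤ E} {G : E ⥤ D} (adj : F ⊣ G)

include adj in
lemma cpt_map_of_preserves [G.PreservesZeroMorphisms]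
    (hG : ∀ (κ : Type v) (Z : κ → E), PreservesColimit (Discrete.functor Z) G)
    {K : D} (hK : Cpt K) : Cpt (F.obj K) := by
  intro κ Z f
  haveI := hG κ Z
  obtain ⟨t, ht⟩ := hK.exists_fix_map' G Z (adj.homEquiv _ _ f)
  refine ⟨t, ?_⟩
  apply (adj.homEquiv _ _).injective
  rw [Adjunction.homEquiv_naturality_right, ht]

include adj in
/-- post-composition with the comparison map is bijective on maps out of `W` when `W` and `F W`
are compact. -/
lemma bijective_comp_sigmaComparison [G.Additive] {κ : Type v} (Z : κ → E) {W : D}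
    (hW : Cpt W) (hFW : Cpt (F.obj W)) :
    Function.Bijective (fun g : W ⟶ ∐ (fun k => G.obj (Z k)) => g ≫ sigmaComparison G Z) := by
  classical
  have hπ : ∀ k, sigmaComparison G Z ≫ G.map (Sigma.π Z k) = Sigma.π (fun k => G.obj (Z k)) k := by
    intro k
    apply Sigma.hom_ext
    intro j
    rw [ι_comp_sigmaComparison_assoc, ← G.map_comp]
    by_cases h : j = k
    · subst h
      rw [Sigma.ι_π_eq_id, Sigma.ι_π_eq_id, G.map_id]
    · rw [Sigma.ι_π_of_ne _ h, Sigma.ι_π_of_ne _ h, G.map_zero]
  constructor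
  · intro g g' hgg'
    dsimp at hgg'
    rw [← sub_eq_zero] at hgg' ⊢
    rw [← Preadditive.sub_comp] at hgg'
    generalize g - g' = d at hgg'
    obtain ⟨t, ht⟩ := hW κ _ d
    rw [← ht, proj_eq_sum, Preadditive.comp_sum]
    apply Finset.sum_eq_zero
    intro k _
    rw [← hπ k, ← Category.assoc, ← Category.assoc, hgg', zero_comp, zero_comp]
  · intro b
    obtain ⟨t, ht⟩ := hFW κ Z ((adj.homEquiv _ _).symm b)
    have hb : b ≫ G.map (proj Z t) = b := by
      apply (adj.homEquiv _ _).symm.injective
      rw [Adjunction.homEquiv_naturality_right_symm, ht]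
    refine ⟨b ≫ ∑ k ∈ t, G.map (Sigma.π Z k) ≫ Sigma.ι (fun k => G.obj (Z k)) k, ?_⟩
    dsimp
    conv_rhs => rw [← hb, proj_eq_sum, G.map_sum]
    rw [Category.assoc, Preadditive.sum_comp]
    congr 1
    apply Finset.sum_congr rfl
    intro k _
    rw [Category.assoc, ι_comp_sigmaComparison, G.map_comp]

end Adj

end Groth.Agent.Lib27.CptAdj
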