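import Mathlib
import Groth.Agent.Lib27.Brown
import Groth.Agent.Lib27.BrownCpt

/-!
# Towers with exposed cones (helper27)

A variant of the Brown tower in which the shape of the initial stage and of the cones of the
transition maps (coproducts of members of the family) is recorded.
-/

set_option autoImplicit false
universe v u

open CategoryTheory CategoryTheory.Limits CategoryTheory.Pretriangulated Opposite
open scoped ZeroObject

namespace Groth.Agent.Lib27.CptTower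

open Groth.Agent.Lib27.HFun Groth.Agent.Lib27.Tower Groth.Agent.Lib27.Brown

variable {D : Type u} [Category.{v} D] [Preadditive D] [HasZeroObject D] [HasShift D ℤ]
  [∀ n : ℤ, (shiftFunctor D n).Additive] [Pretriangulated D] [HasCoproducts.{v} D]
  (H : Dᵒᵖ ⥤ AddCommGrpCat.{v}) [H.IsHomological]
  [∀ (κ : Type v), PreservesLimitsOfShape (Discrete κ) H]
  {ι : Type v} (E : ι → D)

/-- one step of the construction, with the triangle recorded -/
structure XStep (X : D) (s : H.obj (op X)) where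
  /-- next object -/
  X' : D
  /-- transition -/
  φ : X ⟶ X'
  /-- next class -/
  s' : H.obj (op X')
  hs : pb H φ s' = s
  kill : ∀ i (f : E i ⟶ X), pb H f s = 0 → f ≫ φ = 0
  /-- index type of the cone -/
  κ : Type v
  /-- indices -/
  a : κ → ι
  /-- attaching map -/
  y : (∐ fun k => E (a k)) ⟶ X
  /-- connecting map -/
  z : X' ⟶ (shiftFunctor D (1 : ℤ)).obj (∐ fun k => E (a k))
  dist : Triangle.mk y φ z ∈ distTriang D

lemma exists_xstep (X : D) (s : H.obj (op X)) : Nonempty (XStep H E X s) := by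
  let J : Type v := Σ i : ι, {f : E i ⟶ X // pb H f s = 0}
  let a : J → ι := fun p => p.1
  let κ : (∐ fun p => E (a p)) ⟶ X := Sigma.desc (fun p => p.2.1)
  obtain ⟨X', φ, d, hT⟩ := distinguished_cocone_triangle κ
  have hκ : pb H κ s = 0 := by
    apply (hasProdProp_of_preserves H (fun p => E (a p)) (fun _ => 0)).unique
    · intro p
      rw [← pb_comp]
      simp only [κ, Sigma.ι_desc]
      exact p.2.2
    · intro p
      simp
  obtain ⟨s', hs'⟩ : ∃ s' : H.obj (op X'), pb H φ s' = s := exists_of_pb_eq_zero H _ hT s hκ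
  refine ⟨⟨X', φ, s', hs', fun i f hf => ?_, J, a, κ, d, hT⟩⟩
  have h1 : f = Sigma.ι (fun p => E (a p)) ⟨i, f, hf⟩ ≫ κ := by simp [κ, a]
  have h2 : κ ≫ φ = 0 := comp_distTriang_mor_zero₁₂ _ hT
  rw [h1, Category.assoc, h2, comp_zero]

/-- a chosen step -/
noncomputable def xstep (p : Σ X : D, H.obj (op X)) : XStep H E p.1 p.2 :=
  Classical.choice (exists_xstep H E p.1 p.2)

/-- the sequence of stages -/
noncomputable def xseq (p₀ : Σ X : D, H.obj (op X)) : ℕ → Σ X : D, H.obj (op X)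
  | 0 => p₀
  | (n + 1) => ⟨(xstep H E (xseq p₀ n)).X', (xstep H E (xseq p₀ n)).s'⟩

/-- the tower built from an initial stage which is surjective on `E`-points. -/
noncomputable def xtower [HasColimitsOfShape (Discrete ℕ) D] (p₀ : Σ X : D, H.obj (op X))
    (hp₀ : ∀ i (a : H.obj (op (E i))), ∃ f : E i ⟶ p₀.1, pb H f p₀.2 = a) :
    TowerData H E where
  X n := (xseq H E p₀ n).1
  φ n := (xstep H E (xseq H E p₀ n)).φ
  s n := (xseq H E p₀ n).2
  hs n := (xstep H E (xseq H E p₀ n)).hs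
  surj := hp₀
  kill n := (xstep H E (xseq H E p₀ n)).kill

lemma xtower_dist [HasColimitsOfShape (Discrete ℕ) D] (p₀ : Σ X : D, H.obj (op X))
    (hp₀ : ∀ i (a : H.obj (op (E i))), ∃ f : E i ⟶ p₀.1, pb H f p₀.2 = a) (n : ℕ) :
    ∃ (κ : Type v) (a : κ → ι) (y : (∐ fun k => E (a k)) ⟶ (xtower H E p₀ hp₀).X n)
      (z : (xtower H E p₀ hp₀).X (n + 1) ⟶ (shiftFunctor D (1 : ℤ)).obj (∐ fun k => E (a k))),
      Triangle.mk y ((xtower H E p₀ hp₀).φ n) z ∈ distTriang D :=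
  ⟨(xstep H E (xseq H E p₀ n)).κ, (xstep H E (xseq H E p₀ n)).a,
    (xstep H E (xseq H E p₀ n)).y, (xstep H E (xseq H E p₀ n)).z,
    (xstep H E (xseq H E p₀ n)).dist⟩

/-- index type for the initial stage -/
abbrev XJ0 : Type v := Σ i : ι, H.obj (op (E i))

lemma exists_xinitial :
    ∃ (s : H.obj (op (∐ fun j : XJ0 H E => E j.1))),
      ∀ i (a : H.obj (op (E i))), ∃ f : E i ⟶ ∐ fun j : XJ0 H E => E j.1, pb H f s = a := by
  obtain ⟨s, hs, -⟩ := hasProdProp_of_preserves H (fun j : XJ0 H E => E j.1) (fun j => j.2)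
  exact ⟨s, fun i a => ⟨Sigma.ι (fun j : XJ0 H E => E j.1) ⟨i, a⟩, hs ⟨i, a⟩⟩⟩

variable [HasColimitsOfShape (Discrete ℕ) D]

/-- the construction with exposed shape. -/
theorem exists_tower_model (h2 : FactorProp E)
    (hsh : ∀ i, ∃ i', Nonempty (E i' ≅ (shiftFunctor D (-1 : ℤ)).obj (E i))) :
    ∃ (K : ℕ → D) (f : ∀ n, K n ⟶ K (n + 1)) (L : D) (inj : ∀ n, K n ⟶ L) (sL : H.obj (op L)),
      DerLim.IsHocolim K f L inj ∧
      (∀ i, Function.Bijective (fun g : E i ⟶ L => pb H g sL)) ∧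
      (∃ (κ : Type v) (a : κ → ι), Nonempty (K 0 ≅ ∐ fun k => E (a k))) ∧
      ∀ n, ∃ (κ : Type v) (a : κ → ι) (y : (∐ fun k => E (a k)) ⟶ K n)
        (z : K (n + 1) ⟶ (shiftFunctor D (1 : ℤ)).obj (∐ fun k => E (a k))),
        Triangle.mk y (f n) z ∈ distTriang D := by
  obtain ⟨s, hsurj⟩ := exists_xinitial H E
  let 𝒯 : TowerData H E := xtower H E ⟨∐ fun j : XJ0 H E => E j.1, s⟩ hsurj
  obtain ⟨L, π, c, hT⟩ := distinguished_cocone_triangle (𝟙 _ - sg 𝒯.X 𝒯.φ)
  let inj : ∀ n, 𝒯.X n ⟶ L := fun n => Sigma.ι 𝒯.X n ≫ π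
  have hπ : Sigma.desc inj = π := by
    apply Sigma.hom_ext
    intro n
    simp [inj]
  have hL : DerLim.IsHocolim 𝒯.X 𝒯.φ L inj := ⟨c, by rw [hπ]; exact hT⟩
  obtain ⟨sL, hsL⟩ := 𝒯.exists_class inj hL (hasProdProp_nat H)
  refine ⟨𝒯.X, 𝒯.φ, L, inj, sL, hL,
    𝒯.bijective_of_class inj hL h2 (hasProdProp_nat H) hsh sL hsL,
    ⟨XJ0 H E, fun j => j.1, ⟨Iso.refl _⟩⟩,
    fun n => xtower_dist H E ⟨∐ fun j : XJ0 H E => E j.1, s⟩ hsurj n⟩

end Groth.Agent.Lib27.CptTower
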