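import Groth.Agent.S2938
import Groth.Agent.Lib.Helper24.DepthFlat
import Groth.Agent.Lib.Helper21.AdicNoetherian
import Mathlib.RingTheory.AdicCompletion.LocalRing
import Mathlib.RingTheory.AdicCompletion.AsTensorProduct

set_option autoImplicit false
universe u
open IsLocalRing TensorProduct

namespace Groth.Agent.Lib27.DepthCpl

theorem main (A : Type u) [CommRing A] [IsLocalRing A] [IsNoetherianRing A] (M : Type u)
    [AddCommGroup M] [Module A M] [Module.Finite A M] :
    LocCoh.depth (AdicCompletion (maximalIdeal A) A) (AdicCompletion (maximalIdeal A) M) =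
      LocCoh.depth A M := by
  haveI : IsNoetherianRing (AdicCompletion (maximalIdeal A) A) := by
    have : IsNoetherianRing (A ⧸ maximalIdeal A) := inferInstance
    exact Groth.Agent.Lib.Helper21.isNoetherianRing_adicCompletion_of_fg (maximalIdeal A)
      (IsNoetherian.noetherian _)
  haveI : Module.FaithfullyFlat A (AdicCompletion (maximalIdeal A) A) :=
    Module.FaithfullyFlat.of_flat_of_isLocalHom
  have h := (Groth.Agent.S2938.result A (AdicCompletion (maximalIdeal A) A) (maximalIdeal A) M).2
    inferInstance
  unfold LocCoh.depth
  rw [← h, AdicCompletion.maximalIdeal_eq_map]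
  exact (Groth.Agent.Lib.Helper24.DepthFlat.idealDepth_congr _
    (AdicCompletion.ofTensorProductEquivOfFiniteNoetherian (maximalIdeal A) M)).symm

end Groth.Agent.Lib27.DepthCpl
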