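import Mathlib
import Groth.Prelude.Def_Magnet

/-!
# The functor of equivariant morphisms `B ⊗ T ⟶ X` is a sheaf for any subcanonical topology (helper27)
-/

universe v₁ u₁

open CategoryTheory CategoryTheory.Limits MonoidalCategory CartesianMonoidalCategory MonObj Opposite

namespace Groth.Agent.Lib27.EqvHomSheaf

variable {C : Type u₁} [Category.{v₁} C] [CartesianMonoidalCategory C]
variable {A B X : C} [MonObj A]

omit [CartesianMonoidalCategory C] in
/-- Transport along an equality of arrows in a family of elements. -/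
lemma family_congr {P : Cᵒᵖ ⥤ Type v₁} {T : C} {R : Presieve T} (x : Presieve.FamilyOfElements P R)
    {Y : C} {f f' : Y ⟶ T} (e : f = f') (h : R f) (h' : R f') : x f h = x f' h' := by
  subst e; rfl

theorem isSheaf_eqvHom (J : GrothendieckTopology C) [J.Subcanonical] (ρ : Magnet.MonAct A B)
    (a : Magnet.MonAct A X) : Presieve.IsSheaf J (Magnet.MonAct.eqvHom ρ a) := by
  have hY : Presieve.IsSheaf J (yoneda.obj X) :=
    GrothendieckTopology.Subcanonical.isSheaf_of_isRepresentable _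
  intro T R hR x hx
  have hS : R.pullback (snd B T) ∈ J (B ⊗ T) := J.pullback_stable (snd B T) hR
  -- restriction formula for the family
  have hxres : ∀ {Y Y' : C} (f : Y ⟶ T) (hf : R.arrows f) (v : Y' ⟶ Y) (hvf : R.arrows (v ≫ f)),
      (x (v ≫ f) hvf).1 = (B ◁ v) ≫ (x f hf).1 := by
    intro Y Y' f hf v hvf
    have := hx (𝟙 Y') v hvf hf (Category.id_comp _)
    have h2 := congrArg Subtype.val this
    simpa using h2
  -- the family of points of `X` on the pulled back sieve
  let y : Presieve.FamilyOfElements (yoneda.obj X) (R.pullback (snd B T)).arrows :=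
    fun W u hu => lift (u ≫ fst B T) (𝟙 W) ≫ (x (u ≫ snd B T) hu).1
  have hy : y.Compatible := by
    rw [Presieve.compatible_iff_sieveCompatible]
    intro W W' u v hu
    change lift ((v ≫ u) ≫ fst B T) (𝟙 W') ≫ (x ((v ≫ u) ≫ snd B T) _).1 =
      v ≫ lift (u ≫ fst B T) (𝟙 W) ≫ (x (u ≫ snd B T) hu).1
    have hvu : R.arrows (v ≫ u ≫ snd B T) := R.downward_closed hu v
    rw [family_congr x (Category.assoc v u (snd B T)) _ hvu, hxres _ hu v hvu,
      ← Category.assoc, ← Category.assoc, lift_whiskerLeft, comp_lift, Category.comp_id,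
      Category.assoc, Category.id_comp]
  obtain ⟨Φ, hΦ, hΦu⟩ := hY (R.pullback (snd B T)) hS y hy
  have hΦ' : ∀ ⦃W : C⦄ (u : W ⟶ B ⊗ T) (hu : R.arrows (u ≫ snd B T)),
      u ≫ Φ = lift (u ≫ fst B T) (𝟙 W) ≫ (x (u ≫ snd B T) hu).1 := fun W u hu => hΦ u hu
  -- on points
  have hΦpt : ∀ {W : C} (b : W ⟶ B) (t : W ⟶ T) (ht : R.arrows t),
      lift b t ≫ Φ = lift b (𝟙 W) ≫ (x t ht).1 := by
    intro W b t ht
    have hu : R.arrows (lift b t ≫ snd B T) := by rw [lift_snd]; exact ht
    rw [hΦ' (lift b t) hu, lift_fst, family_congr x (lift_snd b t) hu ht]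
  -- equivariance
  have heq : Magnet.MonAct.IsEquivariant (ρ.prod (Magnet.MonAct.trivial A T)) a Φ := by
    rw [Magnet.MonAct.mem_eqvHom_iff]
    intro T' g b t
    have hS' : R.pullback t ∈ J T' := J.pullback_stable t hR
    refine (hY (R.pullback t) hS').isSeparatedFor.ext ?_
    intro W w hw
    change w ≫ lift (lift g b ≫ ρ.act) t ≫ Φ = w ≫ lift g (lift b t ≫ Φ) ≫ a.act
    have hφ := (x (w ≫ t) hw).2
    rw [Magnet.MonAct.mem_eqvHom_iff] at hφ
    have h1 := hφ W (w ≫ g) (w ≫ b) (𝟙 W)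
    rw [← Category.assoc, comp_lift, ← Category.assoc w, comp_lift, hΦpt _ _ hw, h1,
      ← Category.assoc w, comp_lift, ← Category.assoc w, comp_lift, hΦpt _ _ hw]
  refine ⟨⟨Φ, heq⟩, ?_, ?_⟩
  · intro Y f hf
    apply Subtype.ext
    change (B ◁ f) ≫ Φ = (x f hf).1
    have hu : R.arrows ((B ◁ f) ≫ snd B T) := by
      rw [whiskerLeft_snd]; exact R.downward_closed hf _
    have hsf : R.arrows (snd B Y ≫ f) := R.downward_closed hf _
    rw [hΦ' (B ◁ f) hu, whiskerLeft_fst, family_congr x (whiskerLeft_snd B f) hu hsf,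
      hxres f hf (snd B Y) hsf, ← Category.assoc, lift_whiskerLeft, Category.id_comp,
      lift_fst_snd, Category.id_comp]
  · intro Φ' hΦ'am
    apply Subtype.ext
    apply hΦu
    intro W u hu
    change u ≫ Φ'.1 = lift (u ≫ fst B T) (𝟙 W) ≫ (x (u ≫ snd B T) hu).1
    have h1 : (B ◁ (u ≫ snd B T)) ≫ Φ'.1 = (x (u ≫ snd B T) hu).1 :=
      congrArg Subtype.val (hΦ'am (u ≫ snd B T) hu)
    rw [← h1, ← Category.assoc, lift_whiskerLeft, Category.id_comp, lift_comp_fst_snd]

end Groth.Agent.Lib27.EqvHomSheaf
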