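import Groth.Prelude
import Mathlib.RingTheory.Artinian.Module

set_option autoImplicit false
universe u
open CategoryTheory Opposite

namespace Groth.Agent.Lib27.EssConstArt

section
variable {A : Type u} [CommRing A] (X : ℕᵒᵖ ⥤ ModuleCat.{u} A) (H : ModuleCat.{u} A)
  (c : (Functor.const ℕᵒᵖ).obj H ⟶ X)

/-- transition maps as linear maps -/
noncomputable def t {n m : ℕ} (h : n ≤ m) : X.obj (op m) →ₗ[A] X.obj (op n) :=
  (X.map (homOfLE h).op).hom

/-- cone maps as linear maps -/
noncomputable def cc (n : ℕ) : H →ₗ[A] X.obj (op n) := (c.app (op n)).hom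

theorem t_comp {n m l : ℕ} (h : n ≤ m) (h' : m ≤ l) (y : X.obj (op l)) :
    t X h (t X h' y) = t X (h.trans h') y := by
  unfold t
  have : X.map (homOfLE h').op ≫ X.map (homOfLE h).op = X.map (homOfLE (h.trans h')).op := by
    rw [← X.map_comp]
    congr 1
  rw [← this]
  rfl

theorem t_id (n : ℕ) (y : X.obj (op n)) : t X (le_refl n) y = y := by
  unfold t
  have : X.map (homOfLE (le_refl n)).op = 𝟙 _ := by
    rw [← X.map_id]
    congr 1
  rw [this]
  rfl

theorem t_cc {n m : ℕ} (h : n ≤ m) (x : H) : t X h (cc X H c m x) = cc X H c n x := by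
  have := c.naturality (homOfLE h).op
  simp only [Functor.const_obj_obj, Functor.const_obj_map, Category.id_comp] at this
  unfold t cc
  rw [this]
  rfl

theorem range_t_anti {n m l : ℕ} (h : n ≤ m) (h' : m ≤ l) :
    LinearMap.range (t X (h.trans h')) ≤ LinearMap.range (t X h) := by
  rintro _ ⟨y, rfl⟩
  exact ⟨t X h' y, t_comp X h h' y⟩

variable (hart : ∀ n : ℕ, IsArtinian A (X.obj (op n)))
include hart

/-- stabilisation of images -/
theorem exists_stable (k : ℕ) : ∃ N, ∃ hN : k ≤ N, ∀ m (h : k ≤ m), N ≤ m →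
    LinearMap.range (t X h) = LinearMap.range (t X hN) := by
  classical
  haveI := hart k
  let I : ℕ → Submodule A (X.obj (op k)) := fun m =>
    if h : k ≤ m then LinearMap.range (t X h) else ⊤
  have hI : Antitone I := by
    intro m m' hmm'
    by_cases h : k ≤ m
    · have h' : k ≤ m' := h.trans hmm'
      change (if h : k ≤ m' then LinearMap.range (t X h) else ⊤) ≤
        (if h : k ≤ m then LinearMap.range (t X h) else ⊤)
      rw [dif_pos h, dif_pos h']
      exact range_t_anti X h hmm'
    · change _ ≤ (if h : k ≤ m then LinearMap.range (t X h) else ⊤)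
      rw [dif_neg h]
      exact le_top
  obtain ⟨N0, hN0⟩ := IsArtinian.monotone_stabilizes
    (⟨fun m => OrderDual.toDual (I m), fun a b hab => hI hab⟩ : ℕ →o (Submodule A (X.obj (op k)))ᵒᵈ)
  refine ⟨max N0 k, le_max_right _ _, fun m h hm => ?_⟩
  have h1 : I N0 = I m := hN0 m ((le_max_left _ _).trans hm)
  have h2 : I N0 = I (max N0 k) := hN0 _ (le_max_left _ _)
  have h3 : I m = LinearMap.range (t X h) := dif_pos h
  have h4 : I (max N0 k) = LinearMap.range (t X (le_max_right N0 k)) := dif_pos _
  rw [← h3, ← h4, ← h1, h2]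


variable [IsArtinian A H]
  (hinj : ∀ x : H, (∀ n : ℕ, (c.app (op n)) x = 0) → x = 0)
  (hsurj : ∀ y : (∀ n : ℕ, X.obj (op n)),
    (∀ (n m : ℕ) (h : n ≤ m), (X.map (homOfLE h).op) (y m) = y n) →
      ∃ x : H, ∀ n : ℕ, (c.app (op n)) x = y n)

omit hart in
include hinj in
theorem exists_injective : ∃ n0, Function.Injective (cc X H c n0) := by
  let K : ℕ → Submodule A H := fun n => LinearMap.ker (cc X H c n)
  have hK : Antitone K := by
    intro n m hnm x hx
    change cc X H c n x = 0
    rw [← t_cc X H c hnm, (show cc X H c m x = 0 from hx), map_zero]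
  obtain ⟨n0, hn0⟩ := IsArtinian.monotone_stabilizes
    (⟨fun m => OrderDual.toDual (K m), fun a b hab => hK hab⟩ : ℕ →o (Submodule A H)ᵒᵈ)
  refine ⟨n0, ?_⟩
  rw [← LinearMap.ker_eq_bot, eq_bot_iff]
  intro x hx
  rw [Submodule.mem_bot]
  apply hinj
  intro n
  by_cases h : n0 ≤ n
  · have : K n0 = K n := hn0 n h
    have hx' : x ∈ K n := this ▸ hx
    exact hx'
  · exact hK (le_of_not_ge h) hx

include hsurj in
theorem main_aux : ∃ (S : ∀ k : ℕ, Submodule A (X.obj (op k))) (N : ℕ → ℕ) (hN : ∀ k, k ≤ N k),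
    (∀ k m (h : k ≤ m), N k ≤ m → LinearMap.range (t X h) = S k) ∧
    (∀ k, S k = LinearMap.range (cc X H c k)) := by
  classical
  choose N hN hst using exists_stable X hart
  let S : ∀ k : ℕ, Submodule A (X.obj (op k)) := fun k => LinearMap.range (t X (hN k))
  have hS : ∀ k m (h : k ≤ m), N k ≤ m → LinearMap.range (t X h) = S k := fun k m h hm => hst k m h hm
  -- surjectivity of the transition maps on stable images
  have hsS : ∀ k (z : X.obj (op k)), z ∈ S k → ∃ z' : X.obj (op (k + 1)),
      z' ∈ S (k + 1) ∧ t X (Nat.le_succ k) z' = z := by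
    intro k z hz
    set M := max (N k) (N (k + 1)) with hM
    have hkM : k ≤ M := (hN k).trans (le_max_left _ _)
    have hk1M : k + 1 ≤ M := (hN (k + 1)).trans (le_max_right _ _)
    rw [← hS k M hkM (le_max_left _ _)] at hz
    obtain ⟨w, rfl⟩ := hz
    refine ⟨t X hk1M w, ?_, t_comp X _ _ w⟩
    rw [← hS (k + 1) M hk1M (le_max_right _ _)]
    exact ⟨w, rfl⟩
  refine ⟨S, N, hN, hS, fun n => le_antisymm ?_ ?_⟩
  · -- `S n ≤ range (cc n)`
    intro y0 hy0
    -- build a compatible family through `y0`
    let z : ∀ k : ℕ, X.obj (op k) := fun k => Nat.rec (motive := fun k => X.obj (op k))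
      (t X (Nat.zero_le n) y0)
      (fun k zk => if h : k + 1 ≤ n then t X h y0 else
        (if hS' : zk ∈ S k then (hsS k zk hS').choose else 0)) k
    have z0 : z 0 = t X (Nat.zero_le n) y0 := rfl
    have zs : ∀ k, z (k + 1) = if h : k + 1 ≤ n then t X h y0 else
        (if hS' : z k ∈ S k then (hsS k (z k) hS').choose else 0) := fun k => rfl
    have ha : ∀ k (h : k ≤ n), z k = t X h y0 := by
      intro k h
      cases k with
      | zero => exact z0
      | succ k => rw [zs k, dif_pos h]
    have hb : ∀ k, n ≤ k → z k ∈ S k := by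
      intro k hk
      induction k, hk using Nat.le_induction with
      | base =>
        rw [ha n le_rfl, t_id]
        exact hy0
      | succ k hk ih =>
        have hnot : ¬ (k + 1 ≤ n) := by omega
        rw [zs k, dif_neg hnot, dif_pos ih]
        exact (hsS k (z k) ih).choose_spec.1
    have hc : ∀ k, t X (Nat.le_succ k) (z (k + 1)) = z k := by
      intro k
      by_cases h : k + 1 ≤ n
      · rw [zs k, dif_pos h, ha k ((Nat.le_succ k).trans h), t_comp]
      · have hk : n ≤ k := by omega
        rw [zs k, dif_neg h, dif_pos (hb k hk)]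
        exact (hsS k (z k) (hb k hk)).choose_spec.2
    have hcomp : ∀ (k l : ℕ) (h : k ≤ l), t X h (z l) = z k := by
      intro k l h
      induction l, h using Nat.le_induction with
      | base => exact t_id X k _
      | succ l h ih =>
        rw [← ih, ← hc l, t_comp]
    obtain ⟨x, hx⟩ := hsurj z (fun k l h => hcomp k l h)
    refine ⟨x, ?_⟩
    change (c.app (op n)) x = y0
    rw [hx n, ha n le_rfl, t_id]
  · rintro _ ⟨x, rfl⟩
    refine ⟨cc X H c (N n) x, t_cc X H c (hN n) x⟩

include hinj hsurj in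
theorem main : DerCA.IsEssConstant X H c := by
  obtain ⟨n0, hn0⟩ := exists_injective X H c hinj
  obtain ⟨S, N, hN, hS, hSc⟩ := main_aux X H c hart hsurj
  set k0 := N n0 with hk0
  have hmem : ∀ y : X.obj (op k0), t X (hN n0) y ∈ LinearMap.range (cc X H c n0) := by
    intro y
    rw [← hSc n0, ← hS n0 k0 (hN n0) le_rfl]
    exact ⟨y, rfl⟩
  let e := LinearEquiv.ofInjective (cc X H c n0) hn0
  let s : X.obj (op k0) →ₗ[A] H :=
    e.symm.toLinearMap ∘ₗ (t X (hN n0)).codRestrict (LinearMap.range (cc X H c n0)) hmem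
  have hs : ∀ y, cc X H c n0 (s y) = t X (hN n0) y := by
    intro y
    have : (e (s y) : X.obj (op n0)) = t X (hN n0) y := by
      change (e (e.symm _) : X.obj (op n0)) = _
      rw [LinearEquiv.apply_symm_apply]
      rfl
    rw [← this]
    rfl
  refine ⟨k0, ModuleCat.ofHom s, ?_, ?_⟩
  · apply ModuleCat.hom_ext
    refine LinearMap.ext fun x => ?_
    change s (cc X H c k0 x) = x
    apply hn0
    rw [hs, t_cc]
  · intro j
    set n1 := max j n0 with hn1
    set k := max (N n1) k0 with hk
    have hjk : j ≤ k := (le_max_left j n0).trans ((hN n1).trans (le_max_left _ _))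
    have hn1k : n1 ≤ k := (hN n1).trans (le_max_left _ _)
    refine ⟨k, le_max_right _ _, hjk, ?_⟩
    apply ModuleCat.hom_ext
    refine LinearMap.ext fun y => ?_
    change t X hjk y = cc X H c j (s (t X (le_max_right _ _) y))
    have hy : t X hn1k y ∈ LinearMap.range (cc X H c n1) := by
      rw [← hSc n1, ← hS n1 k hn1k (le_max_left _ _)]
      exact ⟨y, rfl⟩
    obtain ⟨x, hx⟩ := hy
    have h1 : t X hjk y = cc X H c j x := by
      rw [← t_comp X (le_max_left j n0) hn1k y, ← hx, t_cc]
    have h2 : s (t X (le_max_right (N n1) k0) y) = x := by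
      apply hn0
      rw [hs, t_comp, ← t_comp X (le_max_right j n0) hn1k y, ← hx, t_cc]
    rw [h1, h2]

end

end Groth.Agent.Lib27.EssConstArt
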