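import Groth.Prelude.Def_EssEt
import Mathlib

/-!
# Essentially etale local algebras: basic consequences (helper27)
-/

universe u

open scoped TensorProduct

namespace Groth.Agent.Lib27.EssEtL

open EGA4loc

variable {A : Type u} [CommRing A] [IsLocalRing A] {B : Type u} [CommRing B] [Algebra A B]

lemma formallyUnramified (hB : IsEssentiallyEtale A B) : Algebra.FormallyUnramified A B := by
  obtain ⟨C₀, _, _, q, _, het, hq, ⟨e⟩⟩ := hB
  have h1 : Algebra.FormallyUnramified C₀ (Localization.AtPrime q) :=
    Algebra.FormallyUnramified.of_isLocalization q.primeCompl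
  have h2 : Algebra.FormallyUnramified A (Localization.AtPrime q) :=
    Algebra.FormallyUnramified.comp A C₀ _
  exact Algebra.FormallyUnramified.of_equiv e.symm

lemma essFiniteType (hB : IsEssentiallyEtale A B) : Algebra.EssFiniteType A B := by
  obtain ⟨C₀, _, _, q, _, het, hq, ⟨e⟩⟩ := hB
  have h2 : Algebra.EssFiniteType A (Localization.AtPrime q) := inferInstance
  exact (Algebra.EssFiniteType.iff_of_algEquiv e).2 h2

lemma isLocalHom_algebraMap (hB : IsEssentiallyEtale A B) : IsLocalHom (algebraMap A B) := by
  obtain ⟨C₀, _, _, q, _, het, hq, ⟨e⟩⟩ := hB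
  refine ⟨fun a ha => ?_⟩
  have h1 : IsUnit (algebraMap A (Localization.AtPrime q) a) := by
    have := ha.map e
    rwa [AlgEquiv.commutes] at this
  rw [IsScalarTower.algebraMap_apply A C₀ (Localization.AtPrime q),
    IsLocalization.AtPrime.isUnit_to_map_iff (Localization.AtPrime q) q] at h1
  by_contra hna
  apply h1
  have : a ∈ IsLocalRing.maximalIdeal A := (IsLocalRing.mem_maximalIdeal a).2 hna
  rw [← hq] at this
  exact this

end Groth.Agent.Lib27.EssEtL
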