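import Groth.Prelude.Def_W4c5stcicurvesp3Euclid
import Mathlib

/-!
# Iterated Euclidean remainders and quotients (helper27)
-/

namespace Groth.Agent.Lib27.EuclidL

open W4c5stcicurvesp3

lemma irem_zero (a b : ℕ) : irem a b 0 = b := by simp [irem]
lemma irem_one (a b : ℕ) : irem a b 1 = a % b := by simp [irem]
lemma irem_add_two (a b n : ℕ) :
    irem a b (n + 2) = if irem a b (n + 1) = 0 then 0 else irem a b n % irem a b (n + 1) := by
  simp [irem]
lemma idiv_one (a b : ℕ) : idiv a b 1 = a / b := by simp [idiv]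
lemma idiv_add_two (a b n : ℕ) :
    idiv a b (n + 2) = if irem a b (n + 1) = 0 then 0 else irem a b n / irem a b (n + 1) := by
  simp [idiv]

/-- Shifting the iterated remainders by one Euclidean step. -/
lemma irem_succ (a b : ℕ) (h : a % b ≠ 0) : ∀ n, irem a b (n + 1) = irem b (a % b) n := by
  have key : ∀ n, irem a b (n + 1) = irem b (a % b) n ∧ irem a b (n + 2) = irem b (a % b) (n + 1) := by
    intro n
    induction n with
    | zero =>
      refine ⟨by rw [irem_one, irem_zero], ?_⟩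
      rw [irem_add_two, irem_one, irem_zero, irem_one, if_neg h]
    | succ n ih =>
      refine ⟨ih.2, ?_⟩
      rw [irem_add_two a b (n + 1), irem_add_two b (a % b) n, ih.1, ih.2]
  exact fun n => (key n).1

lemma idiv_succ (a b : ℕ) (h : a % b ≠ 0) : ∀ n, idiv a b (n + 2) = idiv b (a % b) (n + 1) := by
  intro n
  cases n with
  | zero =>
    rw [idiv_add_two, irem_one, irem_zero, idiv_one, if_neg h]
  | succ n =>
    rw [idiv_add_two a b (n + 1), idiv_add_two b (a % b) n, irem_succ a b h, irem_succ a b h]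

lemma sum_Icc_one_eq_sum_range {M : Type*} [AddCommMonoid M] (f : ℕ → M) (t : ℕ) :
    ∑ i ∈ Finset.Icc 1 t, f i = ∑ j ∈ Finset.range t, f (j + 1) := by
  have : Finset.Icc 1 t = Finset.Ico 1 (t + 1) := by
    ext i; simp
  rw [this, Finset.sum_Ico_eq_sum_range]
  simp [add_comm]

/-- `(d₁ + ⋯ + d_t) · gcd(k, N) ≤ N`. -/
theorem sum_idiv_mul_gcd_le : ∀ t : ℕ, 0 < t → ∀ N k : ℕ, 0 < k → k ≤ N → irem N k t = 0 →
    (∀ i, 0 < i → i < t → irem N k i ≠ 0) →
    (∑ j ∈ Finset.range t, idiv N k (j + 1)) * Nat.gcd k N ≤ N := by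
  intro t ht
  induction t, ht using Nat.le_induction with
  | base =>
    intro N k hk hkN hzero _
    rw [irem_one] at hzero
    have hdvd : k ∣ N := Nat.dvd_of_mod_eq_zero hzero
    rw [Finset.sum_range_one, idiv_one, Nat.gcd_eq_left hdvd, Nat.div_mul_cancel hdvd]
  | succ t ht ih =>
    intro N k hk hkN hzero hmin
    have hr : N % k ≠ 0 := by
      have := hmin 1 Nat.one_pos (Nat.lt_succ_of_le ht)
      rwa [irem_one] at this
    have hrpos : 0 < N % k := Nat.pos_of_ne_zero hr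
    have hrlt : N % k < k := Nat.mod_lt N hk
    have IH := ih k (N % k) hrpos hrlt.le (by rw [← irem_succ N k hr]; exact hzero)
      (fun i hi hit => by rw [← irem_succ N k hr]; exact hmin (i + 1) (Nat.succ_pos i) (Nat.succ_lt_succ hit))
    rw [Finset.sum_range_succ', idiv_one]
    have hsum : ∑ j ∈ Finset.range t, idiv N k (j + 1 + 1) = ∑ j ∈ Finset.range t, idiv k (N % k) (j + 1) :=
      Finset.sum_congr rfl fun j _ => idiv_succ N k hr j
    rw [hsum]
    set S' := ∑ j ∈ Finset.range t, idiv k (N % k) (j + 1) with hS'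
    set g := Nat.gcd k N with hg
    have hg' : Nat.gcd (N % k) k = g := (Nat.gcd_rec k N).symm
    rw [hg'] at IH
    have hgr : g ≤ N % k := Nat.le_of_dvd hrpos (hg' ▸ Nat.gcd_dvd_left _ _)
    have hgk : g ≤ k := Nat.le_of_dvd hk (Nat.gcd_dvd_left _ _)
    have hd : 1 ≤ N / k := Nat.div_pos hkN hk
    have hN : N = k * (N / k) + N % k := (Nat.div_add_mod N k).symm
    obtain ⟨d', hd'⟩ := Nat.exists_eq_add_of_le hd
    have h1 : (N / k) * g + k ≤ N := by
      rw [hd'] at hN ⊢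
      nlinarith [Nat.mul_le_mul_left d' hgk]
    calc (S' + N / k) * g = S' * g + (N / k) * g := by ring
      _ ≤ k + (N / k) * g := Nat.add_le_add_right IH _
      _ ≤ N := by omega

/-- The three-term estimate: with `k = b x + y`, `N = a k + x`, `a ≥ 2`, `b ≥ 1`, `0 ≤ y ≤ x`. -/
lemma three_term_le (a b x y : ℚ) (ha : 2 ≤ a) (hb : 1 ≤ b) (hy : 0 ≤ y) (hyx : y ≤ x)
    (hx : 0 < x) :
    ((b * x + y) - x) / a + (x - y) / (a + b) + y / (a + b + 1)
      ≤ (b * x + y) ^ 2 / (a * (b * x + y) + x) := by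
  obtain ⟨A, rfl⟩ : ∃ A, a = 2 + A := ⟨a - 2, by ring⟩
  obtain ⟨B, rfl⟩ : ∃ B, b = 1 + B := ⟨b - 1, by ring⟩
  obtain ⟨X, rfl⟩ : ∃ X, x = y + X := ⟨x - y, by ring⟩
  have hA : 0 ≤ A := by linarith
  have hB : 0 ≤ B := by linarith
  have hX : 0 ≤ X := by linarith
  have h1 : (0 : ℚ) < 2 + A := by linarith
  have h2 : (0 : ℚ) < 2 + A + (1 + B) := by linarith
  have h3 : (0 : ℚ) < 2 + A + (1 + B) + 1 := by linarith
  have hk : (0 : ℚ) ≤ (1 + B) * (y + X) + y := by positivity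
  have hN : (0 : ℚ) < (2 + A) * ((1 + B) * (y + X) + y) + (y + X) := by
    have : 0 ≤ (2 + A) * ((1 + B) * (y + X) + y) := by positivity
    linarith
  rw [div_add_div _ _ h1.ne' h2.ne', div_add_div _ _ (mul_pos h1 h2).ne' h3.ne',
    div_le_div_iff₀ (mul_pos (mul_pos h1 h2) h3) hN]
  have hpos : (0 : ℚ) ≤ 19*A*B*X*y + 5*A*B*X^2 + 14*A*B*y^2 + 13*A*B^2*X*y + 6*A*B^2*X^2
      + 7*A*B^2*y^2 + 2*A*B^3*X*y + A*B^3*X^2 + A*B^3*y^2 + 4*A*X*y + 8*A*y^2 + 4*A^2*B*X*y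
      + A^2*B*X^2 + 3*A^2*B*y^2 + 2*A^2*B^2*X*y + A^2*B^2*X^2 + A^2*B^2*y^2 + A^2*X*y
      + 2*A^2*y^2 + 15*B*X*y + 4*B*X^2 + 11*B*y^2 + 11*B^2*X*y + 5*B^2*X^2 + 6*B^2*y^2
      + 2*B^3*X*y + B^3*X^2 + B^3*y^2 + 2*X*y + 6*y^2 := by positivity
  have hid : ((1 + B) * (y + X) + y) ^ 2 * ((2 + A) * (2 + A + (1 + B)) * (2 + A + (1 + B) + 1))
      - ((((1 + B) * (y + X) + y - (y + X)) * (2 + A + (1 + B)) + (2 + A) * (y + X - y))
            * (2 + A + (1 + B) + 1) + (2 + A) * (2 + A + (1 + B)) * y)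
          * ((2 + A) * ((1 + B) * (y + X) + y) + (y + X))
      = 19*A*B*X*y + 5*A*B*X^2 + 14*A*B*y^2 + 13*A*B^2*X*y + 6*A*B^2*X^2
      + 7*A*B^2*y^2 + 2*A*B^3*X*y + A*B^3*X^2 + A*B^3*y^2 + 4*A*X*y + 8*A*y^2 + 4*A^2*B*X*y
      + A^2*B*X^2 + 3*A^2*B*y^2 + 2*A^2*B^2*X*y + A^2*B^2*X^2 + A^2*B^2*y^2 + A^2*X*y
      + 2*A^2*y^2 + 15*B*X*y + 4*B*X^2 + 11*B*y^2 + 11*B^2*X*y + 5*B^2*X^2 + 6*B^2*y^2
      + 2*B^3*X*y + B^3*X^2 + B^3*y^2 + 2*X*y + 6*y^2 := by ring
  linarith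

/-- The three-term estimate for iterated Euclidean remainders (no hypothesis on `r₂`). -/
lemma three_term_irem_le (k N : ℕ) (hk : 0 < k) (hkN : 2 * k ≤ N) (h1 : irem N k 1 ≠ 0) :
    ((irem N k 0 : ℚ) - irem N k 1) / (idiv N k 1)
      + ((irem N k 1 : ℚ) - irem N k 2) / ((idiv N k 1 : ℚ) + idiv N k 2)
      + (irem N k 2 : ℚ) / ((idiv N k 1 : ℚ) + idiv N k 2 + 1)
      ≤ (k : ℚ) ^ 2 / N := by
  have hx : N % k ≠ 0 := by rwa [irem_one] at h1
  have hxpos : 0 < N % k := Nat.pos_of_ne_zero hx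
  have hxlt : N % k < k := Nat.mod_lt N hk
  have e0 : irem N k 0 = k := irem_zero N k
  have e1 : irem N k 1 = N % k := irem_one N k
  have e2 : irem N k 2 = k % (N % k) := by
    rw [irem_add_two, e1, e0, if_neg hx]
  have d1 : idiv N k 1 = N / k := idiv_one N k
  have d2 : idiv N k 2 = k / (N % k) := by
    rw [idiv_add_two, e1, e0, if_neg hx]
  rw [e0, e1, e2, d1, d2]
  have ha : 2 ≤ N / k := (Nat.le_div_iff_mul_le hk).2 hkN
  have hb : 1 ≤ k / (N % k) := Nat.div_pos hxlt.le hxpos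
  have hyx : k % (N % k) ≤ N % k := (Nat.mod_lt k hxpos).le
  have hkeq : (k : ℚ) = ((k / (N % k) : ℕ) : ℚ) * ((N % k : ℕ) : ℚ) + ((k % (N % k) : ℕ) : ℚ) := by
    exact_mod_cast (Nat.div_add_mod' k (N % k)).symm
  have hNeq : (N : ℚ) = ((N / k : ℕ) : ℚ) * (k : ℚ) + ((N % k : ℕ) : ℚ) := by
    exact_mod_cast (Nat.div_add_mod' N k).symm
  have key := three_term_le ((N / k : ℕ) : ℚ) ((k / (N % k) : ℕ) : ℚ)
    ((N % k : ℕ) : ℚ) ((k % (N % k) : ℕ) : ℚ) (by exact_mod_cast ha) (by exact_mod_cast hb)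
    (by positivity) (by exact_mod_cast hyx) (by exact_mod_cast hxpos)
  rw [← hkeq, ← hNeq] at key
  exact key

lemma irem_succ_le (a b : ℕ) : ∀ i, 1 ≤ i → irem a b (i + 1) ≤ irem a b i := by
  intro i hi
  obtain ⟨n, rfl⟩ := Nat.exists_eq_add_of_le' hi
  rw [irem_add_two]
  split_ifs with h
  · exact Nat.zero_le _
  · exact (Nat.mod_lt _ (Nat.pos_of_ne_zero h)).le

lemma sum_Icc_idiv_ge (N k i : ℕ) (hi : 3 ≤ i) (h2 : irem N k 2 ≠ 0) :
    idiv N k 1 + idiv N k 2 + 1 ≤ ∑ j ∈ Finset.Icc 1 i, idiv N k j := by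
  have hsub : Finset.Icc 1 3 ⊆ Finset.Icc 1 i := Finset.Icc_subset_Icc le_rfl hi
  have h3 : ∑ j ∈ Finset.Icc 1 3, idiv N k j = idiv N k 1 + idiv N k 2 + idiv N k 3 := by
    have : Finset.Icc 1 3 = {1, 2, 3} := by decide
    rw [this]
    simp [add_assoc]
  have hd3 : 1 ≤ idiv N k 3 := by
    rw [idiv_add_two, if_neg h2]
    exact Nat.div_pos (irem_succ_le N k 1 le_rfl) (Nat.pos_of_ne_zero h2)
  calc idiv N k 1 + idiv N k 2 + 1 ≤ idiv N k 1 + idiv N k 2 + idiv N k 3 := by omega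
    _ = ∑ j ∈ Finset.Icc 1 3, idiv N k j := h3.symm
    _ ≤ ∑ j ∈ Finset.Icc 1 i, idiv N k j := Finset.sum_le_sum_of_subset hsub

/-- The full estimate `∑ (r_i - r_{i+1}) / (d_1 + ⋯ + d_{i+1}) ≤ k² / N`. -/
theorem sum_sub_div_le (k N t : ℕ) (hk : 0 < k) (hkN : 2 * k ≤ N) (ht : 0 < t)
    (hzero : irem N k t = 0) (hmin : ∀ i, 0 < i → i < t → irem N k i ≠ 0) :
    ∑ i ∈ Finset.range t, ((irem N k i : ℚ) - irem N k (i + 1))
        / (∑ j ∈ Finset.Icc 1 (i + 1), (idiv N k j : ℚ))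
      ≤ (k : ℚ) ^ 2 / N := by
  have hNpos : 0 < N := by omega
  have hD1 : ∑ j ∈ Finset.Icc 1 1, (idiv N k j : ℚ) = idiv N k 1 := by simp
  have hD2 : ∑ j ∈ Finset.Icc 1 2, (idiv N k j : ℚ) = (idiv N k 1 : ℚ) + idiv N k 2 := by
    have : Finset.Icc 1 2 = {1, 2} := by decide
    rw [this]
    simp
  obtain rfl | ht2 := Nat.eq_or_lt_of_le (Nat.succ_le_of_lt ht)
  · -- t = 1
    rw [irem_one] at hzero
    have hdvd : k ∣ N := Nat.dvd_of_mod_eq_zero hzero
    rw [Finset.sum_range_one, hD1, irem_zero, irem_one, hzero, idiv_one]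
    have hNeq : (N : ℚ) = ((N / k : ℕ) : ℚ) * (k : ℚ) := by
      exact_mod_cast (Nat.div_mul_cancel hdvd).symm
    have hkq : (0 : ℚ) < k := by exact_mod_cast hk
    have hq : (0 : ℚ) < ((N / k : ℕ) : ℚ) := by
      exact_mod_cast Nat.div_pos (by omega) hk
    rw [hNeq, Nat.cast_zero, sub_zero, div_le_div_iff₀ hq (mul_pos hq hkq)]
    nlinarith
  · -- t = s + 2
    obtain ⟨s, rfl⟩ := Nat.exists_eq_add_of_le' (Nat.succ_le_of_lt ht2)
    have h1 : irem N k 1 ≠ 0 := hmin 1 Nat.one_pos (by omega)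
    refine le_trans ?_ (three_term_irem_le k N hk hkN h1)
    rw [Finset.sum_range_succ', Finset.sum_range_succ', hD1, hD2]
    have htail : ∑ j ∈ Finset.range s, ((irem N k (j + 1 + 1) : ℚ) - irem N k (j + 1 + 1 + 1))
          / (∑ j ∈ Finset.Icc 1 (j + 1 + 1 + 1), (idiv N k j : ℚ))
        ≤ (irem N k 2 : ℚ) / ((idiv N k 1 : ℚ) + idiv N k 2 + 1) := by
      have hpos : (0 : ℚ) < (idiv N k 1 : ℚ) + idiv N k 2 + 1 := by positivity
      calc ∑ j ∈ Finset.range s, ((irem N k (j + 1 + 1) : ℚ) - irem N k (j + 1 + 1 + 1))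
            / (∑ j ∈ Finset.Icc 1 (j + 1 + 1 + 1), (idiv N k j : ℚ))
          ≤ ∑ j ∈ Finset.range s, ((irem N k (j + 1 + 1) : ℚ) - irem N k (j + 1 + 1 + 1))
            / ((idiv N k 1 : ℚ) + idiv N k 2 + 1) := by
            refine Finset.sum_le_sum fun j hj => ?_
            have hjs : j < s := Finset.mem_range.1 hj
            have h2 : irem N k 2 ≠ 0 := hmin 2 (by omega) (by omega)
            have hle : irem N k (j + 1 + 1 + 1) ≤ irem N k (j + 1 + 1) :=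
              irem_succ_le N k (j + 1 + 1) (by omega)
            have hD := sum_Icc_idiv_ge N k (j + 1 + 1 + 1) (by omega) h2
            have hDq : (idiv N k 1 : ℚ) + idiv N k 2 + 1
                ≤ ∑ j ∈ Finset.Icc 1 (j + 1 + 1 + 1), (idiv N k j : ℚ) := by
              exact_mod_cast hD
            exact div_le_div_of_nonneg_left (sub_nonneg.2 (by exact_mod_cast hle)) hpos hDq
        _ = (irem N k 2 : ℚ) / ((idiv N k 1 : ℚ) + idiv N k 2 + 1) := by
            rw [← Finset.sum_div]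
            have hsum : ∑ j ∈ Finset.range s,
                ((irem N k (j + 1 + 1) : ℚ) - irem N k (j + 1 + 1 + 1))
                = (irem N k (0 + 1 + 1) : ℚ) - irem N k (s + 1 + 1) :=
              Finset.sum_range_sub' (fun j => (irem N k (j + 1 + 1) : ℚ)) s
            rw [hsum]
            have hz : irem N k (s + 1 + 1) = 0 := hzero
            rw [hz]
            simp
    simp only [zero_add]
    linarith

end Groth.Agent.Lib27.EuclidL
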