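import Mathlib.NumberTheory.LSeries.Convergence
import Mathlib.NumberTheory.LSeries.Basic
import Mathlib.Data.Finsupp.Antidiagonal
import Mathlib.Data.Finset.Finsupp
import Mathlib.Topology.Algebra.InfiniteSum.Ring
import Mathlib.Analysis.Normed.Ring.InfiniteSum
import Mathlib.Analysis.SpecialFunctions.Pow.Real
import Mathlib.Analysis.SpecificLimits.Basic
import Mathlib.Algebra.BigOperators.Field

/-!
# Abstract Euler products indexed by a type of "points" with norms

For a type `P` with a norm function `N : P → ℕ` (`2 ≤ N x`), the monoid `P →₀ ℕ` of effective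
cycles has the multiplicative norm `Nm α = ∏ N x ^ α x`.  If `∑ N x ^ (-σ)` converges for `σ = re s`,
then the Dirichlet series `∑ a_n n^{-s}` with `a_n = #{α | Nm α = n}` converges absolutely and does
not vanish at `s`.
-/

set_option autoImplicit false

open Finset

namespace Groth.Agent.Lib27.EulerAbstract

variable {P : Type*}

/-- Sum over a box of finitely supported functions of a product is the product of sums. -/
lemma box_sum {R : Type*} [CommSemiring R] (S : Finset P) (T : P → Finset ℕ)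
    (g : P → ℕ → R) :
    ∑ α ∈ S.finsupp T, ∏ x ∈ S, g x (α x) = ∏ x ∈ S, ∑ k ∈ T x, g x k := by
  classical
  rw [Finset.prod_sum, Finset.finsupp, Finset.sum_map]
  refine Finset.sum_congr rfl fun p hp => ?_
  rw [← Finset.prod_attach S]
  refine Finset.prod_congr rfl fun x _ => ?_
  simp [Finsupp.indicator_of_mem x.2]

/-- The multiplicative weight of a cycle. -/
noncomputable def wt (t : P → ℝ) (α : P →₀ ℕ) : ℝ := α.prod (fun x k => t x ^ k)

lemma wt_nonneg (t : P → ℝ) (h0 : ∀ x, 0 ≤ t x) (α : P →₀ ℕ) : 0 ≤ wt t α :=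
  Finset.prod_nonneg fun x _ => pow_nonneg (h0 x) _

lemma inv_one_sub_le_exp {t q : ℝ} (h0 : 0 ≤ t) (h1 : t ≤ q) (hq : q < 1) :
    (1 - t)⁻¹ ≤ Real.exp (t / (1 - q)) := by
  have ht1 : 0 < 1 - t := by linarith
  have hq1 : 0 < 1 - q := by linarith
  have e1 : (1 - t)⁻¹ = t / (1 - t) + 1 := by field_simp; ring
  rw [e1]
  refine (Real.add_one_le_exp _).trans (Real.exp_le_exp.mpr ?_)
  exact div_le_div_of_nonneg_left h0 hq1 (by linarith)

theorem summable_wt (t : P → ℝ) (q : ℝ) (hq : q < 1) (h0 : ∀ x, 0 ≤ t x) (h1 : ∀ x, t x ≤ q)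
    (ht : Summable t) : Summable (wt t) := by
  classical
  refine summable_of_sum_le (c := Real.exp ((∑' x, t x) / (1 - q))) (wt_nonneg t h0) ?_
  intro F
  set S : Finset P := F.biUnion Finsupp.support with hS
  set K : ℕ := F.sup (fun α => α.support.sup α) with hK
  have hsub : F ⊆ S.finsupp (fun _ => Finset.range (K + 1)) := by
    intro α hα
    rw [Finset.mem_finsupp_iff]
    refine ⟨fun x hx => Finset.mem_biUnion.mpr ⟨α, hα, hx⟩, fun x _ => ?_⟩
    rw [Finset.mem_range, Nat.lt_succ_iff]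
    by_cases hx : x ∈ α.support
    · exact (Finset.le_sup (f := α) hx).trans (Finset.le_sup (f := fun α => α.support.sup α) hα)
    · rw [Finsupp.notMem_support_iff.mp hx]; exact Nat.zero_le _
  have hq1 : 0 < 1 - q := by linarith
  calc ∑ α ∈ F, wt t α ≤ ∑ α ∈ S.finsupp (fun _ => Finset.range (K + 1)), wt t α :=
        Finset.sum_le_sum_of_subset_of_nonneg hsub fun α _ _ => wt_nonneg t h0 α
    _ = ∑ α ∈ S.finsupp (fun _ => Finset.range (K + 1)), ∏ x ∈ S, t x ^ (α x) := by
        refine Finset.sum_congr rfl fun α hα => ?_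
        rw [Finset.mem_finsupp_iff] at hα
        exact Finsupp.prod_of_support_subset _ hα.1 _ fun x _ => pow_zero _
    _ = ∏ x ∈ S, ∑ k ∈ Finset.range (K + 1), t x ^ k := box_sum S _ (fun x k => t x ^ k)
    _ ≤ ∏ x ∈ S, Real.exp (t x / (1 - q)) := by
        refine Finset.prod_le_prod (fun x _ => Finset.sum_nonneg fun k _ => pow_nonneg (h0 x) _)
          fun x _ => ?_
        have hx1 : t x < 1 := (h1 x).trans_lt hq
        have hsum : Summable (fun k : ℕ => t x ^ k) := summable_geometric_of_lt_one (h0 x) hx1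
        calc ∑ k ∈ Finset.range (K + 1), t x ^ k ≤ ∑' k : ℕ, t x ^ k :=
              hsum.sum_le_tsum _ fun k _ => pow_nonneg (h0 x) _
          _ = (1 - t x)⁻¹ := tsum_geometric_of_lt_one (h0 x) hx1
          _ ≤ Real.exp (t x / (1 - q)) := inv_one_sub_le_exp (h0 x) (h1 x) hq
    _ = Real.exp (∑ x ∈ S, t x / (1 - q)) := (Real.exp_sum _ _).symm
    _ ≤ Real.exp ((∑' x, t x) / (1 - q)) := by
        rw [Real.exp_le_exp, ← Finset.sum_div]
        exact div_le_div_of_nonneg_right (ht.sum_le_tsum _ fun x _ => h0 x) hq1.le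


/-- The norm of a cycle. -/
noncomputable def Nm (N : P → ℕ) (α : P →₀ ℕ) : ℕ := α.prod (fun x k => N x ^ k)

lemma Nm_zero (N : P → ℕ) : Nm N 0 = 1 := Finsupp.prod_zero_index

lemma Nm_add (N : P → ℕ) (α β : P →₀ ℕ) : Nm N (α + β) = Nm N α * Nm N β :=
  Finsupp.prod_add_index' (fun _ => pow_zero _) (fun _ _ _ => pow_add _ _ _)

lemma Nm_pos (N : P → ℕ) (hN : ∀ x, 0 < N x) (α : P →₀ ℕ) : 0 < Nm N α :=
  Finset.prod_pos fun x _ => pow_pos (hN x) _

lemma Nm_rpow (N : P → ℕ) (σ : ℝ) (α : P →₀ ℕ) :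
    ((Nm N α : ℕ) : ℝ) ^ (-σ) = wt (fun x => (N x : ℝ) ^ (-σ)) α := by
  unfold Nm wt Finsupp.prod
  rw [Nat.cast_prod, ← Real.finset_prod_rpow _ _ (fun x _ => by positivity)]
  refine Finset.prod_congr rfl fun x _ => ?_
  rw [Nat.cast_pow, ← Real.rpow_natCast, ← Real.rpow_mul (Nat.cast_nonneg _), mul_comm,
    Real.rpow_mul (Nat.cast_nonneg _), Real.rpow_natCast]

variable (N : P → ℕ)

/-- The terms of the Dirichlet series indexed by cycles. -/
noncomputable def F (s : ℂ) (α : P →₀ ℕ) : ℂ := ((Nm N α : ℕ) : ℂ) ^ (-s)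

lemma norm_F (hN : ∀ x, 0 < N x) (s : ℂ) (α : P →₀ ℕ) :
    ‖F N s α‖ = wt (fun x => (N x : ℝ) ^ (-s.re)) α := by
  rw [F, Complex.norm_natCast_cpow_of_pos (Nm_pos N hN α), Complex.neg_re, Nm_rpow]

lemma F_zero (s : ℂ) : F N s 0 = 1 := by
  rw [F, Nm_zero, Nat.cast_one, Complex.one_cpow]

lemma F_add (s : ℂ) (α β : P →₀ ℕ) : F N s (α + β) = F N s α * F N s β := by
  rw [F, F, F, Nm_add, Nat.cast_mul, Complex.natCast_mul_natCast_cpow]

theorem summable_norm_F (hN : ∀ x, 2 ≤ N x) (s : ℂ) (hs : 0 < s.re)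
    (hsum : Summable fun x => (N x : ℝ) ^ (-s.re)) : Summable fun α => ‖F N s α‖ := by
  have hN0 : ∀ x, 0 < N x := fun x => by have := hN x; omega
  have h := summable_wt (fun x => (N x : ℝ) ^ (-s.re)) ((2 : ℝ) ^ (-s.re))
    (Real.rpow_lt_one_of_one_lt_of_neg (by norm_num) (by linarith))
    (fun x => Real.rpow_nonneg (Nat.cast_nonneg _) _)
    (fun x => Real.rpow_le_rpow_of_nonpos (by norm_num) (by exact_mod_cast hN x)
      (by linarith)) hsum
  exact h.congr fun α => (norm_F N hN0 s α).symm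

/-- The number of cycles of norm `n`. -/
noncomputable def coeff (n : ℕ) : ℂ := (Nat.card {α : P →₀ ℕ // Nm N α = n} : ℂ)

theorem lseries_eq (hN : ∀ x, 0 < N x) (s : ℂ) (hF : Summable (F N s)) :
    LSeriesSummable (coeff N) s ∧ LSeries (coeff N) s = ∑' α, F N s α := by
  let e := Equiv.sigmaFiberEquiv (Nm N)
  have h1 : Summable ((F N s) ∘ e) := e.summable_iff.mpr hF
  have hterm : ∀ n, LSeries.term (coeff N) s n =
      ∑' c : {α // Nm N α = n}, (F N s ∘ e) ⟨n, c⟩ := by
    intro n
    have hc : ∀ c : {α // Nm N α = n}, (F N s ∘ e) ⟨n, c⟩ = (n : ℂ) ^ (-s) := by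
      intro c
      change ((Nm N c.1 : ℕ) : ℂ) ^ (-s) = _
      rw [c.2]
    simp_rw [hc, tsum_const, nsmul_eq_mul]
    rcases eq_or_ne n 0 with rfl | hn
    · have : IsEmpty {α // Nm N α = 0} := ⟨fun c => (Nm_pos N hN c.1).ne' c.2⟩
      simp [LSeries.term_zero]
    · rw [LSeries.term_of_ne_zero hn, coeff, Complex.cpow_neg, div_eq_mul_inv]
  constructor
  · have h2 := h1.sigma
    unfold LSeriesSummable
    exact (summable_congr hterm).mpr h2
  · unfold LSeries
    simp_rw [hterm]
    rw [← h1.tsum_sigma' (fun n => h1.sigma_factor n)]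
    exact e.tsum_eq (F N s)

/-- local Möbius factor. -/
noncomputable def m1 (k : ℕ) : ℂ := if k = 0 then 1 else if k = 1 then -1 else 0

/-- The Möbius function on cycles. -/
noncomputable def mu (β : P →₀ ℕ) : ℂ := β.prod (fun _ k => m1 k)

lemma norm_m1_le (k : ℕ) : ‖m1 k‖ ≤ 1 := by
  unfold m1; split_ifs <;> simp

lemma norm_mu_le (β : P →₀ ℕ) : ‖mu β‖ ≤ 1 := by
  unfold mu Finsupp.prod
  rw [norm_prod]
  exact Finset.prod_le_one (fun _ _ => norm_nonneg _) (fun _ _ => norm_m1_le _)

lemma mu_zero : mu (0 : P →₀ ℕ) = 1 := Finsupp.prod_zero_index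

lemma mu_add_single (β : P →₀ ℕ) (x : P) (hx : β x = 0) :
    mu (β + Finsupp.single x 1) = - mu β := by
  classical
  unfold mu
  rw [Finsupp.prod_add_index_of_disjoint, Finsupp.prod_single_index]
  · simp [m1]
  · simp [m1]
  · rw [Finsupp.support_single _ one_ne_zero, Finset.disjoint_singleton_right,
      Finsupp.notMem_support_iff]
    exact hx

lemma mu_eq_zero (β : P →₀ ℕ) (x : P) (hx : 2 ≤ β x) : mu β = 0 := by
  unfold mu Finsupp.prod
  refine Finset.prod_eq_zero (i := x) (Finsupp.mem_support_iff.mpr (by omega)) ?_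
  change m1 (β x) = 0
  unfold m1
  rw [if_neg (by omega), if_neg (by omega)]


theorem sum_mu_antidiagonal [DecidableEq P] (γ : P →₀ ℕ) :
    ∑ kl ∈ antidiagonal γ, mu kl.2 = if γ = 0 then 1 else 0 := by
  split_ifs with h
  · subst h
    simp [mu_zero]
  · obtain ⟨x, hx⟩ : ∃ x, γ x ≠ 0 := by
      by_contra hc
      push Not at hc
      exact h (Finsupp.ext hc)
    set sx : P →₀ ℕ := Finsupp.single x 1 with hsx
    have hsxx : sx x = 1 := by rw [hsx, Finsupp.single_eq_same]
    have hle : ∀ δ : P →₀ ℕ, δ x ≠ 0 → sx ≤ δ := by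
      intro δ hδ
      rw [hsx, Finsupp.single_le_iff]
      omega
    refine Finset.sum_involution
      (fun p _ => if p.2 x = 0 then (p.1 - sx, p.2 + sx)
        else if p.2 x = 1 then (p.1 + sx, p.2 - sx) else p) ?_ ?_ ?_ ?_
    · rintro ⟨α, β⟩ hp
      dsimp only
      by_cases h0 : β x = 0
      · rw [if_pos h0]
        dsimp only
        rw [mu_add_single β x h0, add_neg_cancel]
      · rw [if_neg h0]
        by_cases h1 : β x = 1
        · rw [if_pos h1]
          dsimp only
          have hβ : β = (β - sx) + sx := (tsub_add_cancel_of_le (hle β h0)).symm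
          have hx0 : (β - sx) x = 0 := by
            rw [Finsupp.tsub_apply, hsxx, h1]
          have hmu : mu β = - mu (β - sx) := by
            conv_lhs => rw [hβ]
            exact mu_add_single _ x hx0
          rw [hmu, neg_add_cancel]
        · rw [if_neg h1, mu_eq_zero β x (by omega), add_zero]
    · rintro ⟨α, β⟩ hp hne
      dsimp only at hne ⊢
      by_cases h0 : β x = 0
      · rw [if_pos h0]
        intro heq
        have := congrArg (fun p : (P →₀ ℕ) × (P →₀ ℕ) => p.2 x) heq
        simp only [Finsupp.add_apply, hsxx, h0] at this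
        omega
      · rw [if_neg h0]
        by_cases h1 : β x = 1
        · rw [if_pos h1]
          intro heq
          have := congrArg (fun p : (P →₀ ℕ) × (P →₀ ℕ) => p.2 x) heq
          simp only [Finsupp.tsub_apply, hsxx, h1] at this
          omega
        · exact absurd (mu_eq_zero β x (by omega)) hne
    · rintro ⟨α, β⟩ hp
      rw [mem_antidiagonal] at hp
      dsimp only at hp ⊢
      by_cases h0 : β x = 0
      · rw [if_pos h0, mem_antidiagonal]
        dsimp only
        have hαx : α x ≠ 0 := by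
          have := DFunLike.congr_fun hp x
          rw [Finsupp.add_apply] at this
          omega
        rw [← add_assoc, add_right_comm, tsub_add_cancel_of_le (hle α hαx), hp]
      · rw [if_neg h0]
        by_cases h1 : β x = 1
        · rw [if_pos h1, mem_antidiagonal]
          dsimp only
          rw [add_assoc, add_tsub_cancel_of_le (hle β h0), hp]
        · rw [if_neg h1, mem_antidiagonal]
          exact hp
    · rintro ⟨α, β⟩ hp
      rw [mem_antidiagonal] at hp
      dsimp only at hp ⊢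
      by_cases h0 : β x = 0
      · have hαx : α x ≠ 0 := by
          have := DFunLike.congr_fun hp x
          rw [Finsupp.add_apply] at this
          omega
        have hb1 : (β + sx) x = 1 := by rw [Finsupp.add_apply, hsxx, h0]
        simp only [if_pos h0, hb1, one_ne_zero, if_false, if_true]
        rw [tsub_add_cancel_of_le (hle α hαx), add_tsub_cancel_right]
      · by_cases h1 : β x = 1
        · have hb0 : (β - sx) x = 0 := by rw [Finsupp.tsub_apply, hsxx, h1]
          simp only [if_neg h0, if_pos h1, hb0, if_true]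
          rw [add_tsub_cancel_right, tsub_add_cancel_of_le (hle β h0)]
        · simp only [if_neg h0, if_neg h1]

theorem cauchy [DecidableEq P] (f g : (P →₀ ℕ) → ℂ)
    (hnF : Summable fun α => ‖f α‖) (hnG : Summable fun β => ‖g β‖)  :
    (∑' α, f α) * (∑' β, g β) = ∑' γ, ∑ kl ∈ antidiagonal γ, f kl.1 * g kl.2 := by
  have hF : Summable f := hnF.of_norm
  have hG : Summable g := hnG.of_norm
  have h3 : Summable fun x : (P →₀ ℕ) × (P →₀ ℕ) => f x.1 * g x.2 := 
    summable_mul_of_summable_norm hnF hnG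
  exact Summable.tsum_mul_tsum_eq_tsum_sum_antidiagonal hF hG h3

theorem main (hN : ∀ x, 2 ≤ N x) (s : ℂ) (hs : 0 < s.re)
    (hsum : Summable fun x => (N x : ℝ) ^ (-s.re)) :
    LSeriesSummable (coeff N) s ∧ LSeries (coeff N) s ≠ 0 := by
  classical
  have hN0 : ∀ x, 0 < N x := fun x => by have := hN x; omega
  have hnF := summable_norm_F N hN s hs hsum
  have hF : Summable (F N s) := hnF.of_norm
  obtain ⟨h1, h2⟩ := lseries_eq N hN0 s hF
  refine ⟨h1, ?_⟩
  have hnG : Summable fun β => ‖mu β * F N s β‖ := by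
    refine Summable.of_nonneg_of_le (fun _ => norm_nonneg _) (fun β => ?_) hnF
    rw [norm_mul]
    calc ‖mu β‖ * ‖F N s β‖ ≤ 1 * ‖F N s β‖ :=
          mul_le_mul_of_nonneg_right (norm_mu_le β) (norm_nonneg _)
      _ = ‖F N s β‖ := one_mul _
  have hprod := cauchy (F N s) (fun β => mu β * F N s β) hnF hnG
  have hterm : ∀ γ : P →₀ ℕ, ∑ kl ∈ antidiagonal γ, F N s kl.1 * (mu kl.2 * F N s kl.2) =
      if γ = 0 then 1 else 0 := by
    intro γ
    have : ∀ kl ∈ antidiagonal γ, F N s kl.1 * (mu kl.2 * F N s kl.2) = F N s γ * mu kl.2 := by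
      intro kl hkl
      rw [mem_antidiagonal] at hkl
      rw [← hkl, F_add]
      ring
    rw [Finset.sum_congr rfl this, ← Finset.mul_sum, sum_mu_antidiagonal]
    split_ifs with h
    · rw [h, F_zero, mul_one]
    · rw [mul_zero]
  simp_rw [hterm, tsum_ite_eq] at hprod
  rw [h2]
  intro h0
  rw [h0, zero_mul] at hprod
  exact zero_ne_one hprod

/-- Abscissa bound and non-vanishing from convergence of the point sums. -/
theorem abscissa_le_and_ne_zero (hN : ∀ x, 2 ≤ N x) (r : ℕ)
    (hsum : ∀ σ : ℝ, (r : ℝ) < σ → Summable fun x => (N x : ℝ) ^ (-σ)) :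
    LSeries.abscissaOfAbsConv (coeff N) ≤ (r : ℝ) ∧
      ∀ s : ℂ, (r : ℝ) < s.re → LSeries (coeff N) s ≠ 0 := by
  constructor
  · refine LSeries.abscissaOfAbsConv_le_of_forall_lt_LSeriesSummable fun y hy => ?_
    have hy0 : (0 : ℝ) < y := lt_of_le_of_lt (Nat.cast_nonneg r) hy
    exact (main N hN (y : ℂ) (by simpa using hy0) (by simpa using hsum y hy)).1
  · intro s hs
    have hs0 : (0 : ℝ) < s.re := lt_of_le_of_lt (Nat.cast_nonneg r) hs
    exact (main N hN s hs0 (hsum _ hs)).2

end Groth.Agent.Lib27.EulerAbstract
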