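import Mathlib

/-!
# Euler characteristic of a bounded exact complex of finite projective modules over a local ring
-/

set_option autoImplicit false

universe u

namespace Groth.Agent.Lib27.EulerCh

section

variable {R : Type*} [CommRing R] [IsLocalRing R]

lemma step {L0 L1 L2 : Type*} [AddCommGroup L0] [Module R L0] [AddCommGroup L1] [Module R L1]
    [AddCommGroup L2] [Module R L2] (f : L0 →ₗ[R] L1) (g : L1 →ₗ[R] L2)
    (hex : Function.Exact f g) [Module.Finite R L0] [Module.Projective R L0]
    (hZ : Module.Finite R ↥(LinearMap.ker g) ∧ Module.Projective R ↥(LinearMap.ker g)) :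
    (Module.Finite R ↥(LinearMap.ker f) ∧ Module.Projective R ↥(LinearMap.ker f)) ∧
      Module.finrank R L0 =
        Module.finrank R ↥(LinearMap.ker f) + Module.finrank R ↥(LinearMap.ker g) := by
  obtain ⟨hZf, hZp⟩ := hZ
  let f' : L0 →ₗ[R] ↥(LinearMap.ker g) :=
    f.codRestrict (LinearMap.ker g) (fun x => hex.apply_apply_eq_zero x)
  have hf' : Function.Surjective f' := by
    intro z
    obtain ⟨y, hy⟩ := (hex z.1).1 z.2
    exact ⟨y, Subtype.ext hy⟩
  obtain ⟨s, hs⟩ := Module.projective_lifting_property f' LinearMap.id hf'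
  have hfs : ∀ z : ↥(LinearMap.ker g), f (s z) = z.1 := fun z =>
    congrArg Subtype.val (LinearMap.congr_fun hs z)
  let r : L0 →ₗ[R] ↥(LinearMap.ker f) :=
    (LinearMap.id - s ∘ₗ f').codRestrict (LinearMap.ker f) (fun x => by
      rw [LinearMap.mem_ker]
      show f (x - s (f' x)) = 0
      rw [map_sub, hfs]
      exact sub_self _)
  have hr_apply : ∀ x, (r x : L0) = x - s (f' x) := fun x => rfl
  have hri : r ∘ₗ (LinearMap.ker f).subtype = LinearMap.id := by
    apply LinearMap.ext
    intro x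
    apply Subtype.ext
    show (r x.1 : L0) = x.1
    rw [hr_apply]
    have : f' x.1 = 0 := Subtype.ext x.2
    rw [this, map_zero, sub_zero]
  have hproj : Module.Projective R ↥(LinearMap.ker f) :=
    Module.Projective.of_split (LinearMap.ker f).subtype r hri
  have hfin : Module.Finite R ↥(LinearMap.ker f) :=
    Module.Finite.of_surjective r (fun x => ⟨x.1, LinearMap.congr_fun hri x⟩)
  refine ⟨⟨hfin, hproj⟩, ?_⟩
  have e : L0 ≃ₗ[R] ↥(LinearMap.ker f) × ↥(LinearMap.ker g) :=
    LinearEquiv.ofLinear (r.prod f') ((LinearMap.ker f).subtype.coprod s)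
      (by
        apply LinearMap.ext
        rintro ⟨k, z⟩
        have hk : f' k.1 = 0 := Subtype.ext k.2
        have hsz : f' (s z) = z := LinearMap.congr_fun hs z
        apply Prod.ext
        · apply Subtype.ext
          show (r (k.1 + s z) : L0) = k.1
          rw [hr_apply, map_add, hk, zero_add, hsz]
          abel
        · show f' (k.1 + s z) = z
          rw [map_add, hk, zero_add, hsz])
      (by
        apply LinearMap.ext
        intro x
        show (r x : L0) + s (f' x) = x
        rw [hr_apply]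
        abel)
  have : Module.Free R L0 := Module.free_of_flat_of_isLocalRing
  have : Module.Free R ↥(LinearMap.ker f) := Module.free_of_flat_of_isLocalRing
  have : Module.Free R ↥(LinearMap.ker g) := Module.free_of_flat_of_isLocalRing
  rw [e.finrank_eq, Module.finrank_prod]

lemma fp_of_subsingleton {L : Type*} [AddCommGroup L] [Module R L] [Subsingleton L]
    (K : Submodule R L) : Module.Finite R ↥K ∧ Module.Projective R ↥K := by
  have : Subsingleton ↥K := ⟨fun a b => Subtype.ext (Subsingleton.elim _ _)⟩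
  exact ⟨Module.Finite.of_finite, Module.Projective.of_free⟩

theorem euler_zero {L : ℤ → Type*} [∀ i, AddCommGroup (L i)] [∀ i, Module R (L i)]
    [∀ i, Module.Finite R (L i)] [∀ i, Module.Projective R (L i)]
    (δ : ∀ i, L i →ₗ[R] L (i + 1)) (hex : ∀ i, Function.Exact (δ i) (δ (i + 1)))
    (s : Finset ℤ) (hs : ∀ i, i ∉ s → Subsingleton (L i)) :
    ∑ i ∈ s, ((i.negOnePow : ℤˣ) : ℤ) * (Module.finrank R (L i) : ℤ) = 0 := by
  classical
  set B : ℕ := s.sup Int.natAbs with hB
  have hbound : ∀ i ∈ s, -(B : ℤ) ≤ i ∧ i ≤ B := by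
    intro i hi
    have : i.natAbs ≤ B := Finset.le_sup (f := Int.natAbs) hi
    omega
  have hsub : ∀ i : ℤ, (B : ℤ) < i ∨ i < -(B : ℤ) → Subsingleton (L i) := by
    intro i hi
    apply hs
    intro his
    have := hbound i his
    omega
  have hFP : ∀ n : ℕ, ∀ i : ℤ, i + n = B + 1 →
      (Module.Finite R ↥(LinearMap.ker (δ i)) ∧ Module.Projective R ↥(LinearMap.ker (δ i))) := by
    intro n
    induction n with
    | zero =>
      intro i hi
      have := hsub i (Or.inl (by omega))
      exact fp_of_subsingleton _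
    | succ n ih =>
      intro i hi
      exact (step (δ i) (δ (i + 1)) (hex i) (ih (i + 1) (by push_cast at hi ⊢; omega))).1
  have hFP_all : ∀ i : ℤ,
      (Module.Finite R ↥(LinearMap.ker (δ i)) ∧ Module.Projective R ↥(LinearMap.ker (δ i))) := by
    intro i
    by_cases hi : i ≤ B + 1
    · exact hFP (B + 1 - i).toNat i (by omega)
    · have := hsub i (Or.inl (by omega))
      exact fp_of_subsingleton _
  have hrank : ∀ i : ℤ, Module.finrank R (L i) =
      Module.finrank R ↥(LinearMap.ker (δ i)) + Module.finrank R ↥(LinearMap.ker (δ (i + 1))) :=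
    fun i => (step (δ i) (δ (i + 1)) (hex i) (hFP_all (i + 1))).2
  let F : ℤ → ℤ := fun i => ((i.negOnePow : ℤˣ) : ℤ) *
    (Module.finrank R ↥(LinearMap.ker (δ i)) : ℤ)
  have hterm : ∀ i : ℤ, ((i.negOnePow : ℤˣ) : ℤ) * (Module.finrank R (L i) : ℤ) =
      F i - F (i + 1) := by
    intro i
    show _ = ((i.negOnePow : ℤˣ) : ℤ) * _ - (((i + 1).negOnePow : ℤˣ) : ℤ) * _
    rw [hrank i, Int.negOnePow_succ]
    push_cast
    ring
  set a : ℤ := (-(B : ℤ) - 1) + 1 with ha
  let T : Finset ℤ := (Finset.range (2 * B + 1)).image (fun k : ℕ => a + (k : ℤ))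
  have hsT : s ⊆ T := by
    intro i hi
    have := hbound i hi
    refine Finset.mem_image.2 ⟨(i - a).toNat, Finset.mem_range.2 (by omega), by omega⟩
  rw [Finset.sum_subset hsT (fun i _ hi => by
    have := hs i hi
    rw [Module.finrank_zero_of_subsingleton]
    simp)]
  rw [Finset.sum_image (fun x _ y _ h => by
    have : (x : ℤ) = y := add_left_cancel h
    exact_mod_cast this)]
  have hsum : ∀ k : ℕ, ((a + (k : ℤ)).negOnePow : ℤˣ) * (Module.finrank R (L (a + k)) : ℤ) =
      (fun k : ℕ => F (a + k)) k - (fun k : ℕ => F (a + k)) (k + 1) := by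
    intro k
    rw [hterm]
    show F (a + k) - F (a + k + 1) = F (a + k) - F (a + ((k + 1 : ℕ) : ℤ))
    congr 2
    push_cast
    ring
  rw [Finset.sum_congr rfl (fun k _ => hsum k), Finset.sum_range_sub']
  have h0 : F (a + ((0 : ℕ) : ℤ)) = 0 := by
    have ha0 : a + ((0 : ℕ) : ℤ) = (-(B : ℤ) - 1) + 1 := by simp [ha]
    rw [ha0]
    show _ * _ = 0
    have hsub0 := hsub (-(B : ℤ) - 1) (Or.inr (by omega))
    have hker : LinearMap.ker (δ ((-(B : ℤ) - 1) + 1)) = ⊥ := by
      rw [eq_bot_iff]
      intro z hz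
      obtain ⟨y, hy⟩ := (hex (-(B : ℤ) - 1) z).1 hz
      rw [Submodule.mem_bot, ← hy, Subsingleton.elim y 0, map_zero]
    rw [hker, finrank_bot]
    simp
  have h1 : F (a + ((2 * B + 1 : ℕ) : ℤ)) = 0 := by
    show _ * _ = 0
    have hsub1 := hsub (a + ((2 * B + 1 : ℕ) : ℤ)) (Or.inl (by push_cast; omega))
    have : Subsingleton ↥(LinearMap.ker (δ (a + ((2 * B + 1 : ℕ) : ℤ)))) :=
      ⟨fun x y => Subtype.ext (Subsingleton.elim _ _)⟩
    rw [Module.finrank_zero_of_subsingleton]
    simp
  show F (a + ((0 : ℕ) : ℤ)) - F (a + ((2 * B + 1 : ℕ) : ℤ)) = 0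
  rw [h0, h1, sub_zero]

end

end Groth.Agent.Lib27.EulerCh
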