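import Mathlib
import Groth.Agent.Lib27.EulerCh1

/-!
# Euler characteristic of a strictly perfect complex with homology supported in positive
codimension
-/

set_option autoImplicit false

universe u

namespace Groth.Agent.Lib27.EulerCh

open CategoryTheory CategoryTheory.Limits

section

variable {A : Type u} [CommRing A]

/-- an element of the kernel of the differential becomes a boundary after multiplication by an
element of `S`, when the localized homology vanishes. -/
lemma exists_smul_eq_of_subsingleton (P : CochainComplex (ModuleCat.{u} A) ℤ) (S : Submonoid A)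
    (i : ℤ) (hS : Subsingleton (LocalizedModule S (P.homology (i + 1))))
    (z : P.X (i + 1)) (hz : (P.d (i + 1) (i + 1 + 1)).hom z = 0) :
    ∃ v ∈ S, ∃ w : P.X i, (P.d i (i + 1)).hom w = v • z := by
  let T := P.sc' i (i + 1) (i + 1 + 1)
  let e : P.homology (i + 1) ≅ T.moduleCatLeftHomologyData.H :=
    ShortComplex.homologyMapIso (P.isoSc' i (i + 1) (i + 1 + 1) (by simp) (by simp)) ≪≫
      T.moduleCatHomologyIso
  let zc : ↥(LinearMap.ker T.g.hom) := ⟨z, hz⟩
  let cls : T.moduleCatLeftHomologyData.H :=
    Submodule.Quotient.mk (p := LinearMap.range T.moduleCatToCycles) zc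
  obtain ⟨v, hv, hvh⟩ := (LocalizedModule.subsingleton_iff.1 hS) (e.inv cls)
  have h0 : v • cls = 0 := by
    have := congrArg e.hom hvh
    rw [map_smul, map_zero] at this
    have hh : e.hom (e.inv cls) = cls := by
      rw [← ModuleCat.comp_apply, e.inv_hom_id]
      rfl
    rwa [hh] at this
  have h1 : v • zc ∈ LinearMap.range T.moduleCatToCycles := by
    rw [← Submodule.Quotient.mk_eq_zero, Submodule.Quotient.mk_smul]
    exact h0
  obtain ⟨w, hw⟩ := h1
  exact ⟨v, hv, w, congrArg Subtype.val hw⟩

variable (P : CochainComplex (ModuleCat.{u} A) ℤ) (q : Ideal A) [q.IsPrime]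

/-- the localized differential. -/
noncomputable def locD (i : ℤ) :
    LocalizedModule q.primeCompl (P.X i) →ₗ[Localization.AtPrime q]
      LocalizedModule q.primeCompl (P.X (i + 1)) :=
  LocalizedModule.map q.primeCompl (P.d i (i + 1)).hom

lemma locD_exact (hq : ∀ i : ℤ, Subsingleton (LocalizedModule q.primeCompl (P.homology i)))
    (i : ℤ) : Function.Exact (locD P q i) (locD P q (i + 1)) := by
  intro y
  constructor
  · intro hy
    induction y using LocalizedModule.induction_on with
    | h m t =>
      rw [locD, LocalizedModule.map_mk] at hy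
      have hy' : LocalizedModule.mk ((P.d (i + 1) (i + 1 + 1)).hom m) t =
          LocalizedModule.mk (0 : P.X (i + 1 + 1)) 1 := by
        rw [hy, LocalizedModule.zero_mk]
      obtain ⟨u, hu⟩ := LocalizedModule.mk_eq.1 hy'
      rw [smul_zero, smul_zero] at hu
      have hum : (P.d (i + 1) (i + 1 + 1)).hom ((u : A) • m) = 0 := by
        rw [map_smul]
        have : (u : A) • ((1 : q.primeCompl) : A) • (P.d (i + 1) (i + 1 + 1)).hom m = 0 := hu
        rwa [Submonoid.coe_one, one_smul] at this
      obtain ⟨v, hv, w, hw⟩ := exists_smul_eq_of_subsingleton P q.primeCompl i (hq (i + 1))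
        ((u : A) • m) hum
      refine ⟨LocalizedModule.mk w (⟨v, hv⟩ * u * t), ?_⟩
      rw [locD, LocalizedModule.map_mk, hw]
      have : v • (u : A) • m = (⟨v, hv⟩ * u : q.primeCompl) • m := by
        rw [Submonoid.smul_def, Submonoid.coe_mul, mul_smul]
      rw [this]
      exact LocalizedModule.mk_cancel_common_left _ _ _
  · rintro ⟨x, rfl⟩
    induction x using LocalizedModule.induction_on with
    | h m t =>
      rw [locD, locD, LocalizedModule.map_mk, LocalizedModule.map_mk]
      have : (P.d (i + 1) (i + 1 + 1)).hom ((P.d i (i + 1)).hom m) = 0 := by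
        rw [← ModuleCat.comp_apply, P.d_comp_d]
        rfl
      rw [this, LocalizedModule.zero_mk]

theorem euler_at_minimal (hP : ∀ i : ℤ, Module.Finite A (P.X i) ∧ Module.Projective A (P.X i))
    (s : Finset ℤ) (hs : ∀ i : ℤ, i ∉ s → IsZero (P.X i))
    (hq : ∀ i : ℤ, Subsingleton (LocalizedModule q.primeCompl (P.homology i))) :
    (s.sum fun i => ((i.negOnePow : ℤˣ) : ℤ) *
      (Module.rankAtStalk (R := A) (P.X i) ⟨q, inferInstance⟩ : ℤ)) = 0 := by
  have hfin : ∀ i, Module.Finite A (P.X i) := fun i => (hP i).1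
  have hproj : ∀ i, Module.Projective A (P.X i) := fun i => (hP i).2
  exact euler_zero (R := Localization.AtPrime q)
    (L := fun i => LocalizedModule q.primeCompl (P.X i)) (locD P q) (locD_exact P q hq) s
    (fun i hi => by
      have : Subsingleton (P.X i) := ModuleCat.subsingleton_of_isZero (hs i hi)
      infer_instance)

end

theorem euler_char_zero {A : Type u} [CommRing A]
    (P : CochainComplex (ModuleCat.{u} A) ℤ) (s : Finset ℤ)
    (hP : ∀ i : ℤ, Module.Finite A (P.X i) ∧ Module.Projective A (P.X i))
    (hs : ∀ i : ℤ, i ∉ s → IsZero (P.X i))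
    (hsupp : ∀ q : PrimeSpectrum A, q.asIdeal ∈ minimalPrimes A →
      ∀ i : ℤ, Subsingleton (LocalizedModule q.asIdeal.primeCompl (P.homology i))) :
    ∀ x : PrimeSpectrum A,
      (s.sum fun i => ((i.negOnePow : ℤˣ) : ℤ) *
        (Module.rankAtStalk (R := A) (P.X i) x : ℤ)) = 0 := by
  intro x
  obtain ⟨q, hqmin, hqx⟩ := Ideal.exists_minimalPrimes_le (I := ⊥) (J := x.asIdeal) bot_le
  haveI : q.IsPrime := hqmin.1.1
  have hfin : ∀ i, Module.Finite A (P.X i) := fun i => (hP i).1
  have hproj : ∀ i, Module.Projective A (P.X i) := fun i => (hP i).2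
  have hrk : ∀ i, Module.rankAtStalk (R := A) (P.X i) x =
      Module.rankAtStalk (R := A) (P.X i) ⟨q, inferInstance⟩ := fun i =>
    (Module.rankAtStalk_eq_of_le_of_finite_of_flat (P.X i)
      (p := ⟨q, inferInstance⟩) (q := x) hqx).symm
  simp only [hrk]
  exact euler_at_minimal P q hP s hs (hsupp ⟨q, inferInstance⟩ hqmin)

end Groth.Agent.Lib27.EulerCh
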