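import Groth.Agent.Lib27.EulerAbstract
import Mathlib.Analysis.PSeries
import Mathlib.NumberTheory.PrimeCounting

/-!
# Convergence of `∑ N x ^ (-σ)` from uniform bounds on the number of points of given norm
-/

set_option autoImplicit false

namespace Groth.Agent.Lib27.EulerCount

open Classical in
lemma summable_indicator_pow (p : ℕ) (hp : 2 ≤ p) (ε : ℝ) (hε : 0 < ε) :
    Summable fun n : ℕ => (if ∃ m, n = p ^ m then (1 : ℝ) else 0) * (n : ℝ) ^ (-ε) := by
  have hinj : Function.Injective (fun m : ℕ => p ^ m) := Nat.pow_right_injective hp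
  rw [← hinj.summable_iff]
  · have : ((fun n : ℕ => (if ∃ m, n = p ^ m then (1 : ℝ) else 0) * (n : ℝ) ^ (-ε)) ∘
        fun m : ℕ => p ^ m) = fun m => ((p : ℝ) ^ (-ε)) ^ m := by
      funext m
      simp only [Function.comp_apply]
      rw [if_pos ⟨m, rfl⟩, one_mul, Nat.cast_pow, ← Real.rpow_natCast,
        ← Real.rpow_mul (Nat.cast_nonneg _), mul_comm, Real.rpow_mul (Nat.cast_nonneg _),
        Real.rpow_natCast]
    rw [this]
    exact summable_geometric_of_lt_one (Real.rpow_nonneg (Nat.cast_nonneg _) _)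
      (Real.rpow_lt_one_of_one_lt_of_neg (by exact_mod_cast hp) (by linarith))
  · intro n hn
    rw [if_neg, zero_mul]
    rintro ⟨m, rfl⟩
    exact hn ⟨m, rfl⟩

theorem summable_of_count_bounds {P : Type*} (N : P → ℕ) (c p₀ r : ℕ)
    (hfin : ∀ n, Finite {x : P // N x = n})
    (hb : ∀ n, Nat.card {x : P // N x = n} ≠ 0 → ∃ p m : ℕ, p.Prime ∧ 1 ≤ m ∧ n = p ^ m ∧
      (p₀ ≤ p → r ≠ 0 ∧ Nat.card {x : P // N x = n} ≤ c * n ^ (r - 1)) ∧
      (p < p₀ → Nat.card {x : P // N x = n} ≤ c * n ^ r))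
    (σ : ℝ) (hσ : (r : ℝ) < σ) : Summable fun x => (N x : ℝ) ^ (-σ) := by
  classical
  set ε := σ - r with hε
  have hε0 : 0 < ε := by rw [hε]; linarith
  let e := Equiv.sigmaFiberEquiv N
  rw [← e.summable_iff]
  rw [summable_sigma_of_nonneg (f := (fun x => (N x : ℝ) ^ (-σ)) ∘ e)
    (fun _ => Real.rpow_nonneg (Nat.cast_nonneg _) _)]
  refine ⟨fun n => ?_, ?_⟩
  · haveI := hfin n
    exact Summable.of_finite
  · have hc : ∀ n, ∑' c : {x // N x = n}, ((fun x => (N x : ℝ) ^ (-σ)) ∘ e) ⟨n, c⟩ =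
        (Nat.card {x // N x = n} : ℝ) * (n : ℝ) ^ (-σ) := by
      intro n
      have : ∀ c : {x // N x = n}, ((fun x => (N x : ℝ) ^ (-σ)) ∘ e) ⟨n, c⟩ = (n : ℝ) ^ (-σ) :=
        fun c => by
          change ((N c.1 : ℕ) : ℝ) ^ (-σ) = _
          rw [c.2]
      simp_rw [this, tsum_const, nsmul_eq_mul]
    simp_rw [hc]
    let B : ℕ → ℝ := fun n => (c : ℝ) * (n : ℝ) ^ (-(1 + ε)) +
      ∑ p ∈ Nat.primesBelow p₀,
        (c : ℝ) * ((if ∃ m, n = p ^ m then (1 : ℝ) else 0) * (n : ℝ) ^ (-ε))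
    have hB : Summable B := by
      refine Summable.add ?_ (summable_sum fun p hp => ?_)
      · exact (Real.summable_nat_rpow.mpr (by linarith)).mul_left _
      · exact (summable_indicator_pow p (Nat.prime_of_mem_primesBelow hp).two_le ε hε0).mul_left _
    have hterm_nonneg : ∀ (n p : ℕ), 0 ≤ (c : ℝ) *
        ((if ∃ m, n = p ^ m then (1 : ℝ) else 0) * (n : ℝ) ^ (-ε)) := by
      intro n p
      refine mul_nonneg (Nat.cast_nonneg _) (mul_nonneg ?_ (Real.rpow_nonneg (Nat.cast_nonneg _) _))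
      split_ifs <;> norm_num
    refine Summable.of_nonneg_of_le
      (fun n => mul_nonneg (Nat.cast_nonneg _) (Real.rpow_nonneg (Nat.cast_nonneg _) _))
      (fun n => ?_) hB
    by_cases h0 : Nat.card {x // N x = n} = 0
    · rw [h0, Nat.cast_zero, zero_mul]
      exact add_nonneg (mul_nonneg (Nat.cast_nonneg _) (Real.rpow_nonneg (Nat.cast_nonneg _) _))
        (Finset.sum_nonneg fun p _ => hterm_nonneg n p)
    · obtain ⟨p, m, hp, hm, hn, h1, h2⟩ := hb n h0
      have hnpos : (0 : ℝ) < (n : ℝ) := by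
        rw [hn]; exact_mod_cast pow_pos hp.pos m
      have hrpow : (0 : ℝ) ≤ (n : ℝ) ^ (-σ) := Real.rpow_nonneg hnpos.le _
      rcases le_or_gt p₀ p with hpp | hpp
      · obtain ⟨hr0, hle⟩ := h1 hpp
        have hle' : (Nat.card {x // N x = n} : ℝ) ≤ (c : ℝ) * (n : ℝ) ^ ((r : ℝ) - 1) := by
          have : ((r - 1 : ℕ) : ℝ) = (r : ℝ) - 1 := by
            rw [Nat.cast_sub (Nat.one_le_iff_ne_zero.mpr hr0), Nat.cast_one]
          rw [← this, Real.rpow_natCast]
          exact_mod_cast hle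
        calc (Nat.card {x // N x = n} : ℝ) * (n : ℝ) ^ (-σ)
            ≤ ((c : ℝ) * (n : ℝ) ^ ((r : ℝ) - 1)) * (n : ℝ) ^ (-σ) :=
              mul_le_mul_of_nonneg_right hle' hrpow
          _ = (c : ℝ) * (n : ℝ) ^ (-(1 + ε)) := by
              rw [mul_assoc, ← Real.rpow_add hnpos]
              congr 2
              rw [hε]; ring
          _ ≤ B n := le_add_of_nonneg_right (Finset.sum_nonneg fun p _ => hterm_nonneg n p)
      · have hle := h2 hpp
        have hle' : (Nat.card {x // N x = n} : ℝ) ≤ (c : ℝ) * (n : ℝ) ^ (r : ℝ) := by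
          rw [Real.rpow_natCast]
          exact_mod_cast hle
        have hpmem : p ∈ Nat.primesBelow p₀ := Nat.mem_primesBelow.mpr ⟨hpp, hp⟩
        calc (Nat.card {x // N x = n} : ℝ) * (n : ℝ) ^ (-σ)
            ≤ ((c : ℝ) * (n : ℝ) ^ (r : ℝ)) * (n : ℝ) ^ (-σ) :=
              mul_le_mul_of_nonneg_right hle' hrpow
          _ = (c : ℝ) * ((if ∃ m, n = p ^ m then (1 : ℝ) else 0) * (n : ℝ) ^ (-ε)) := by
              rw [if_pos ⟨m, hn⟩, one_mul, mul_assoc, ← Real.rpow_add hnpos]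
              congr 2
              rw [hε]; ring
          _ ≤ ∑ p ∈ Nat.primesBelow p₀,
                (c : ℝ) * ((if ∃ m, n = p ^ m then (1 : ℝ) else 0) * (n : ℝ) ^ (-ε)) :=
              Finset.single_le_sum (f := fun p => (c : ℝ) *
                ((if ∃ m, n = p ^ m then (1 : ℝ) else 0) * (n : ℝ) ^ (-ε)))
                (fun p _ => hterm_nonneg n p) hpmem
          _ ≤ B n := le_add_of_nonneg_left
              (mul_nonneg (Nat.cast_nonneg _) (Real.rpow_nonneg (Nat.cast_nonneg _) _))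

end Groth.Agent.Lib27.EulerCount
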