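import Mathlib
import Groth.Agent.Lib.Helper16.DepthExt

/-!
# `Ext^i(A/J, M) ≃ M^(p choose i)` for `J` generated by a weakly regular sequence, `J M = 0` (helper27)
-/

set_option autoImplicit false
universe u
open CategoryTheory CategoryTheory.Abelian

namespace Groth.Agent.Lib27.ExtReg

variable {A : Type u} [CommRing A]

/-- `J` kills `M` -/
def Killed (J : Ideal A) (M : Type u) [AddCommGroup M] [Module A M] : Prop :=
  ∀ a ∈ J, ∀ y : M, a • y = 0

section scalar

theorem smul_eq_zero_of_killed {X M : ModuleCat.{u} A} {n : ℕ} (a : A) (hM : ∀ y : M, a • y = 0)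
    (ζ : Ext.{u} X M n) : a • ζ = 0 := by
  rw [Ext.smul_eq_comp_mk₀]
  have : a • 𝟙 M = 0 := by
    ext y
    exact hM y
  rw [this, Ext.mk₀_zero, Ext.comp_zero]

theorem mk₀_smul_id_comp {X M : ModuleCat.{u} A} {n : ℕ} (a : A) (ζ : Ext.{u} X M n) :
    (Ext.mk₀ (a • 𝟙 X)).comp ζ (zero_add n) = a • ζ := by
  rw [Ext.mk₀_smul, Ext.smul_comp, Ext.mk₀_id_comp]

end scalar

section G

variable (J : Ideal A) {M : Type u} [AddCommGroup M] [Module A M]

/-- the map `A/J → M`, `1 ↦ m` -/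
noncomputable def Lm (hM : Killed J M) (m : M) : (A ⧸ J) →ₗ[A] M :=
  Submodule.liftQ J (LinearMap.toSpanSingleton A M m) (fun a ha => by
    rw [LinearMap.mem_ker, LinearMap.toSpanSingleton_apply]
    exact hM a ha m)

theorem Lm_mk (hM : Killed J M) (m : M) (a : A) :
    Lm J hM m (Ideal.Quotient.mk J a) = a • m := rfl

theorem Lm_one (hM : Killed J M) (m : M) : Lm J hM m 1 = m :=
  (Lm_mk J hM m 1).trans (one_smul _ _)

/-- `Lm` as a linear map -/
noncomputable def LmLin (hM : Killed J M) : M →ₗ[A] ((A ⧸ J) →ₗ[A] M) where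
  toFun := Lm J hM
  map_add' m m' := by
    refine LinearMap.ext fun v => ?_
    obtain ⟨a, rfl⟩ := Ideal.Quotient.mk_surjective v
    rw [LinearMap.add_apply, Lm_mk, Lm_mk, Lm_mk, smul_add]
  map_smul' c m := by
    refine LinearMap.ext fun v => ?_
    obtain ⟨a, rfl⟩ := Ideal.Quotient.mk_surjective v
    rw [LinearMap.smul_apply, RingHom.id_apply, Lm_mk, Lm_mk, smul_comm]

theorem LmLin_apply (hM : Killed J M) (m : M) : LmLin J hM m = Lm J hM m := rfl

theorem LmLin_bijective (hM : Killed J M) : Function.Bijective (LmLin J hM) := by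
  constructor
  · intro m m' h
    have := congrArg (fun φ => φ 1) h
    simpa [LmLin_apply, Lm_one] using this
  · intro φ
    refine ⟨φ 1, ?_⟩
    refine LinearMap.ext fun v => ?_
    obtain ⟨a, rfl⟩ := Ideal.Quotient.mk_surjective v
    rw [LmLin_apply, Lm_mk]
    have : Ideal.Quotient.mk J a = a • (1 : A ⧸ J) := by
      rw [Algebra.smul_def, mul_one]
      rfl
    rw [this, map_smul]

variable {ι : Type} [Fintype ι]

/-- the map `(A/J)^ι → M` determined by `m : ι → M` -/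
noncomputable def Glin (hM : Killed J M) : (ι → M) →ₗ[A] ((ι → A ⧸ J) →ₗ[A] M) :=
  ∑ k, (LinearMap.lcomp A M (LinearMap.proj k : (ι → A ⧸ J) →ₗ[A] A ⧸ J)) ∘ₗ
    (LmLin J hM) ∘ₗ (LinearMap.proj k : (ι → M) →ₗ[A] M)

theorem Glin_apply (hM : Killed J M) (m : ι → M) (v : ι → A ⧸ J) :
    Glin J hM m v = ∑ k, Lm J hM (m k) (v k) := by
  simp [Glin, LmLin_apply]

theorem Glin_single [DecidableEq ι] (hM : Killed J M) (m : ι → M) (k : ι) :
    Glin J hM m (Pi.single k 1) = m k := by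
  rw [Glin_apply, Finset.sum_eq_single k]
  · rw [Pi.single_eq_same, Lm_one]
  · intro j _ hj
    rw [Pi.single_eq_of_ne hj, map_zero]
  · intro h
    exact absurd (Finset.mem_univ k) h

theorem Glin_nat {M' : Type u} [AddCommGroup M'] [Module A M'] (hM : Killed J M)
    (hM' : Killed J M') (g : M →ₗ[A] M') (m : ι → M) :
    g ∘ₗ Glin J hM m = Glin J hM' (fun k => g (m k)) := by
  ext v
  rw [LinearMap.comp_apply, Glin_apply, Glin_apply, map_sum]
  refine Finset.sum_congr rfl fun k _ => ?_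
  obtain ⟨a, ha⟩ := Ideal.Quotient.mk_surjective (v k)
  rw [← ha, Lm_mk, Lm_mk, map_smul]

end G

section fam

/-- a natural family of linear bijections `M^ι ≃ Ext^i(A/J, M)` for `M` killed by `J` -/
def HasFam (J : Ideal A) (i : ℕ) (ι : Type) : Prop :=
  ∃ e : ∀ (M : ModuleCat.{u} A), Killed J M →
      ((ι → M) →ₗ[A] Ext.{u} (ModuleCat.of A (A ⧸ J)) M i),
    (∀ M hM, Function.Bijective (e M hM)) ∧
    (∀ (M M' : ModuleCat.{u} A) (hM : Killed J M) (hM' : Killed J M') (g : M ⟶ M') (m : ι → M),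
      e M' hM' (fun k => g.hom (m k)) = (e M hM m).comp (Ext.mk₀ g) (add_zero i))

theorem hasFam_reindex {J : Ideal A} {i : ℕ} {ι κ : Type} (h : HasFam J i ι) (σ : κ ≃ ι) :
    HasFam J i κ := by
  obtain ⟨e, hb, hn⟩ := h
  refine ⟨fun M hM => (e M hM) ∘ₗ (LinearEquiv.funCongrLeft A M σ.symm).toLinearMap, ?_, ?_⟩
  · intro M hM
    exact (hb M hM).comp (LinearEquiv.funCongrLeft A M σ.symm).bijective
  · intro M M' hM hM' g m
    simp only [LinearMap.comp_apply, LinearEquiv.coe_coe]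
    rw [← hn M M' hM hM' g]
    rfl

/-- the map `mk₀ ∘ ofHom` as a linear map -/
noncomputable def mkLin (P : Type u) [AddCommGroup P] [Module A P] (M : ModuleCat.{u} A) :
    (P →ₗ[A] M) →ₗ[A] Ext.{u} (ModuleCat.of A P) M 0 :=
  (Ext.linearEquiv₀ (R := A) (X := ModuleCat.of A P) (Y := M)).symm.toLinearMap ∘ₗ
    (ModuleCat.homLinearEquiv (S := A) (M := ModuleCat.of A P) (N := M)).symm.toLinearMap

theorem mkLin_apply (P : Type u) [AddCommGroup P] [Module A P] (M : ModuleCat.{u} A)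
    (φ : P →ₗ[A] M) : mkLin P M φ = Ext.mk₀ (ModuleCat.ofHom φ) := rfl

theorem mkLin_bijective (P : Type u) [AddCommGroup P] [Module A P] (M : ModuleCat.{u} A) :
    Function.Bijective (mkLin (A := A) P M) :=
  (Ext.linearEquiv₀ (R := A) (X := ModuleCat.of A P) (Y := M)).symm.bijective.comp
    (ModuleCat.homLinearEquiv (S := A) (M := ModuleCat.of A P) (N := M)).symm.bijective

theorem hasFam_zero (J : Ideal A) : HasFam J 0 Unit := by
  refine ⟨fun M hM => mkLin (A ⧸ J) M ∘ₗ LmLin J hM ∘ₗ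
    (LinearMap.proj () : (Unit → M) →ₗ[A] M), ?_, ?_⟩
  · intro M hM
    refine (mkLin_bijective (A ⧸ J) M).comp ((LmLin_bijective J hM).comp ?_)
    exact (LinearEquiv.funUnique Unit A M).bijective
  · intro M M' hM hM' g m
    simp only [LinearMap.comp_apply, LinearMap.proj_apply, mkLin_apply, LmLin_apply]
    rw [Ext.mk₀_comp_mk₀]
    congr 1
    apply ModuleCat.hom_ext
    refine LinearMap.ext fun v => ?_
    obtain ⟨a, rfl⟩ := Ideal.Quotient.mk_surjective v
    rw [ModuleCat.hom_comp, ModuleCat.hom_ofHom, ModuleCat.hom_ofHom, LinearMap.comp_apply,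
      Lm_mk, Lm_mk, map_smul]

theorem hasFam_bot_succ (i : ℕ) : HasFam (⊥ : Ideal A) (i + 1) PEmpty := by
  have hproj : Projective (ModuleCat.of A (A ⧸ (⊥ : Ideal A))) := by
    have : Module.Projective A (A ⧸ (⊥ : Ideal A)) :=
      Module.Projective.of_equiv (Submodule.quotEquivOfEqBot (⊥ : Ideal A) rfl).symm
    exact (IsProjective.iff_projective _).mp this
  refine ⟨fun M hM => 0, ?_, ?_⟩
  · intro M hM
    constructor
    · intro m m' _
      exact Subsingleton.elim _ _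
    · intro ξ
      exact ⟨0, (Ext.eq_zero_of_projective ξ).symm⟩
  · intro M M' hM hM' g m
    simp only [LinearMap.zero_apply, Ext.zero_comp]

end fam

section step

open Groth.Agent.Lib.Helper16.Depth

variable (J₀ : Ideal A) (x : A)

/-- the projection `A/J₀ → A/(J₀ + x)` -/
noncomputable def qmap : (A ⧸ J₀) →ₗ[A] (A ⧸ (J₀ ⊔ Ideal.span {x})) :=
  Submodule.mapQ J₀ (J₀ ⊔ Ideal.span {x}) LinearMap.id (by
    rw [Submodule.comap_id]
    exact le_sup_left)

theorem qmap_mk (a : A) : qmap J₀ x (Ideal.Quotient.mk J₀ a) = Ideal.Quotient.mk _ a := rfl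

theorem qmap_surjective : Function.Surjective (qmap J₀ x) := by
  intro y
  obtain ⟨a, rfl⟩ := Ideal.Quotient.mk_surjective y
  exact ⟨Ideal.Quotient.mk J₀ a, rfl⟩

theorem exact_aux : Function.Exact (LinearMap.lsmul A (A ⧸ J₀) x) (qmap J₀ x) := by
  intro y
  obtain ⟨a, rfl⟩ := Ideal.Quotient.mk_surjective y
  rw [qmap_mk, Ideal.Quotient.eq_zero_iff_mem]
  constructor
  · intro ha
    obtain ⟨j, hj, z, hz, rfl⟩ := Submodule.mem_sup.mp ha
    obtain ⟨b, rfl⟩ := Ideal.mem_span_singleton'.mp hz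
    refine ⟨Ideal.Quotient.mk J₀ b, ?_⟩
    rw [LinearMap.lsmul_apply, map_add, Ideal.Quotient.eq_zero_iff_mem.mpr hj, zero_add,
      Algebra.smul_def, mul_comm]
    rfl
  · rintro ⟨v, hv⟩
    obtain ⟨b, rfl⟩ := Ideal.Quotient.mk_surjective v
    rw [LinearMap.lsmul_apply, Algebra.smul_def] at hv
    have : Ideal.Quotient.mk J₀ (x * b) = Ideal.Quotient.mk J₀ a := hv
    rw [Ideal.Quotient.eq] at this
    have h1 : x * b ∈ J₀ ⊔ Ideal.span {x} :=
      Ideal.mul_mem_right _ _ (le_sup_right (a := J₀) (Ideal.mem_span_singleton_self x))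
    have h2 : x * b - a ∈ J₀ ⊔ Ideal.span {x} := le_sup_left (b := Ideal.span {x}) this
    have := sub_mem h1 h2
    rwa [sub_sub_cancel] at this

theorem step (hx : IsSMulRegular (A ⧸ J₀) x) (i : ℕ) {ι' ι'' : Type} [Fintype ι'] [Fintype ι'']
    [DecidableEq ι''] (h' : HasFam J₀ i ι') (h'' : HasFam J₀ (i + 1) ι'') :
    HasFam (J₀ ⊔ Ideal.span {x}) (i + 1) (ι' ⊕ ι'') := by
  classical
  set J := J₀ ⊔ Ideal.span {x} with hJ
  have hJ₀J : J₀ ≤ J := le_sup_left
  have hxJ : x ∈ J := le_sup_right (a := J₀) (Ideal.mem_span_singleton_self x)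
  obtain ⟨e', hb', hn'⟩ := h'
  obtain ⟨e'', hb'', hn''⟩ := h''
  have hS := shortExact_of_linearMaps (LinearMap.lsmul A (A ⧸ J₀) x) (qmap J₀ x) hx
    (qmap_surjective J₀ x) (exact_aux J₀ x)
  set S := ModuleCat.shortComplexOfCompEqZero (LinearMap.lsmul A (A ⧸ J₀) x) (qmap J₀ x)
    (exact_aux J₀ x).linearMap_comp_eq_zero with hSdef
  have hSf : S.f = x • 𝟙 (ModuleCat.of A (A ⧸ J₀)) := by
    apply ModuleCat.hom_ext
    refine LinearMap.ext fun v => ?_
    rfl
  -- killed modules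
  have hk₀ : ∀ {M : ModuleCat.{u} A}, Killed J M → Killed J₀ M := fun hM a ha => hM a (hJ₀J ha)
  have hfz : ∀ {M : ModuleCat.{u} A} (_ : Killed J M) {n : ℕ} (ζ : Ext.{u} S.X₂ M n),
      (Ext.mk₀ S.f).comp ζ (zero_add n) = 0 := by
    intro M hM n ζ
    rw [hSf, mk₀_smul_id_comp]
    exact smul_eq_zero_of_killed x (hM x hxJ) ζ
  -- LES facts
  have factA : ∀ {M : ModuleCat.{u} A} (_ : Killed J M) (η : Ext.{u} S.X₁ M i),
      hS.extClass.comp η (add_comm 1 i) = 0 → η = 0 := by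
    intro M hM η h0
    obtain ⟨ζ, hζ⟩ := Ext.contravariant_sequence_exact₁ hS M η (add_comm 1 i) h0
    rw [← hζ]
    exact hfz hM ζ
  have factB : ∀ {M : ModuleCat.{u} A} (ξ : Ext.{u} S.X₃ M (i + 1)),
      (Ext.mk₀ S.g).comp ξ (zero_add (i + 1)) = 0 →
        ∃ η : Ext.{u} S.X₁ M i, hS.extClass.comp η (add_comm 1 i) = ξ := by
    intro M ξ h0
    exact Ext.contravariant_sequence_exact₃ hS M ξ h0 (add_comm 1 i)
  have factC : ∀ {M : ModuleCat.{u} A} (_ : Killed J M) (ζ : Ext.{u} S.X₂ M (i + 1)),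
      ∃ ξ : Ext.{u} S.X₃ M (i + 1), (Ext.mk₀ S.g).comp ξ (zero_add (i + 1)) = ζ := by
    intro M hM ζ
    exact Ext.contravariant_sequence_exact₂ hS M ζ (hfz hM ζ)
  -- the universal module
  set P : ModuleCat.{u} A := ModuleCat.of A (ι'' → A ⧸ J) with hPdef
  have hP : Killed J P := by
    intro a ha v
    funext k
    obtain ⟨b, hb⟩ := Ideal.Quotient.mk_surjective (v k)
    change a • v k = 0
    rw [← hb, Algebra.smul_def]
    change Ideal.Quotient.mk J a * Ideal.Quotient.mk J b = 0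
    rw [Ideal.Quotient.eq_zero_iff_mem.mpr ha, zero_mul]
  let std : ι'' → P := fun k => Pi.single k 1
  obtain ⟨ũ, hũ⟩ := factC hP (e'' P (hk₀ hP) std)
  -- the section
  have hsec : ∀ {M : ModuleCat.{u} A} (hM : Killed J M) (m : ι'' → M),
      (Ext.mk₀ S.g).comp (ũ.comp (Ext.mk₀ (ModuleCat.ofHom (Glin J hM m))) (add_zero (i + 1)))
        (zero_add (i + 1)) = e'' M (hk₀ hM) m := by
    intro M hM m
    rw [← Ext.comp_assoc_of_third_deg_zero, hũ, ← hn'' P M (hk₀ hP) (hk₀ hM)]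
    congr 1
    funext k
    exact Glin_single J hM m k
  -- the family
  let E : ∀ (M : ModuleCat.{u} A), Killed J M →
      ((ι' ⊕ ι'' → M) →ₗ[A] Ext.{u} (ModuleCat.of A (A ⧸ J)) M (i + 1)) := fun M hM =>
    (Ext.precompOfLinear hS.extClass A M (add_comm 1 i)) ∘ₗ (e' M (hk₀ hM)) ∘ₗ
      (LinearMap.funLeft A M Sum.inl)
    + (Ext.precompOfLinear ũ A M (add_zero (i + 1))) ∘ₗ mkLin (ι'' → A ⧸ J) M ∘ₗ
      Glin J hM ∘ₗ (LinearMap.funLeft A M Sum.inr)
  have hE : ∀ (M : ModuleCat.{u} A) (hM : Killed J M) (w : ι' ⊕ ι'' → M),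
      E M hM w = hS.extClass.comp (e' M (hk₀ hM) (fun k => w (Sum.inl k))) (add_comm 1 i)
        + ũ.comp (Ext.mk₀ (ModuleCat.ofHom (Glin J hM (fun k => w (Sum.inr k)))))
          (add_zero (i + 1)) := by
    intro M hM w
    rfl
  have hgE : ∀ (M : ModuleCat.{u} A) (hM : Killed J M) (w : ι' ⊕ ι'' → M),
      (Ext.mk₀ S.g).comp (E M hM w) (zero_add (i + 1))
        = e'' M (hk₀ hM) (fun k => w (Sum.inr k)) := by
    intro M hM w
    rw [hE, Ext.comp_add, hsec hM, hS.comp_extClass_assoc, zero_add]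
  refine ⟨E, ?_, ?_⟩
  · intro M hM
    constructor
    · rw [injective_iff_map_eq_zero]
      intro w hw
      have h1 := hgE M hM w
      rw [hw, Ext.comp_zero] at h1
      have h2 : (fun k => w (Sum.inr k)) = 0 := by
        apply (hb'' M (hk₀ hM)).1
        rw [← h1, map_zero]
      have h3 := hE M hM w
      rw [hw, h2, map_zero] at h3
      have h4 : ModuleCat.ofHom (0 : (ι'' → A ⧸ J) →ₗ[A] M) = 0 := rfl
      rw [h4, Ext.mk₀_zero, Ext.comp_zero, add_zero] at h3
      have h5 := factA hM _ h3.symm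
      have h6 : (fun k => w (Sum.inl k)) = 0 := by
        apply (hb' M (hk₀ hM)).1
        rw [h5, map_zero]
      funext k
      rcases k with k | k
      · exact congrFun h6 k
      · exact congrFun h2 k
    · intro ξ
      obtain ⟨m'', hm''⟩ := (hb'' M (hk₀ hM)).2 ((Ext.mk₀ S.g).comp ξ (zero_add (i + 1)))
      set ξ₂ := ũ.comp (Ext.mk₀ (ModuleCat.ofHom (Glin J hM m''))) (add_zero (i + 1)) with hξ₂
      have h1 : (Ext.mk₀ S.g).comp (ξ + -ξ₂) (zero_add (i + 1)) = 0 := by
        rw [Ext.comp_add, Ext.comp_neg, hξ₂, hsec hM m'', hm'', add_neg_cancel]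
      obtain ⟨η, hη⟩ := factB _ h1
      obtain ⟨m', hm'⟩ := (hb' M (hk₀ hM)).2 η
      refine ⟨Sum.elim m' m'', ?_⟩
      rw [hE]
      simp only [Sum.elim_inl, Sum.elim_inr]
      rw [hm', hη, ← hξ₂]
      abel
  · intro M M' hM hM' g w
    rw [hE, hE, Ext.add_comp, hn' M M' (hk₀ hM) (hk₀ hM') g,
      Ext.comp_assoc_of_third_deg_zero, Ext.comp_assoc_of_third_deg_zero, Ext.mk₀_comp_mk₀]
    congr 3
    apply ModuleCat.hom_ext
    rw [ModuleCat.hom_comp, ModuleCat.hom_ofHom, ModuleCat.hom_ofHom]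
    exact (Glin_nat J hM hM' g.hom _).symm

end step

section main

open RingTheory.Sequence

theorem hasFam_of_isWeaklyRegular : ∀ (n : ℕ) (xs : List A), xs.length = n →
    IsWeaklyRegular A xs → ∀ i : ℕ, HasFam (Ideal.ofList xs) i (Fin (n.choose i)) := by
  intro n
  induction n with
  | zero =>
    intro xs hlen _ i
    have : xs = [] := List.length_eq_zero_iff.mp hlen
    subst this
    rw [Ideal.ofList_nil]
    cases i with
    | zero =>
      exact hasFam_reindex (hasFam_zero ⊥)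
        ((finCongr (Nat.choose_zero_right 0)).trans finOneEquiv)
    | succ i =>
      exact hasFam_reindex (hasFam_bot_succ i)
        ((finCongr (Nat.choose_zero_succ i)).trans finZeroEquiv')
  | succ n ih =>
    intro xs hlen hreg i
    have hne : xs ≠ [] := by
      intro h
      rw [h] at hlen
      simp at hlen
    obtain ⟨ys, x, rfl⟩ : ∃ ys x, xs = ys ++ [x] :=
      ⟨xs.dropLast, xs.getLast hne, (List.dropLast_append_getLast hne).symm⟩
    have hlen' : ys.length = n := by simpa using hlen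
    rw [isWeaklyRegular_append_iff] at hreg
    obtain ⟨hys, hx⟩ := hreg
    rw [isWeaklyRegular_singleton_iff] at hx
    have heq : (Ideal.ofList ys • (⊤ : Submodule A A)) = Ideal.ofList ys := by
      rw [smul_eq_mul, Ideal.mul_top]
    have hx' : IsSMulRegular (A ⧸ Ideal.ofList ys) x :=
      ((Submodule.quotEquivOfEq _ _ heq).isSMulRegular_congr x).mp hx
    rw [Ideal.ofList_append, Ideal.ofList_singleton]
    cases i with
    | zero =>
      exact hasFam_reindex (hasFam_zero _)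
        ((finCongr (Nat.choose_zero_right (n + 1))).trans finOneEquiv)
    | succ i =>
      have := step (Ideal.ofList ys) x hx' i (ih ys hlen' hys i) (ih ys hlen' hys (i + 1))
      exact hasFam_reindex this
        ((finCongr (Nat.choose_succ_succ n i)).trans finSumFinEquiv.symm)

theorem main (xs : List A) (hreg : IsWeaklyRegular A xs) (M : Type u) [AddCommGroup M]
    [Module A M] (hJM : Ideal.ofList xs • (⊤ : Submodule A M) = ⊥) (i : ℕ) :
    Nonempty (Abelian.Ext.{u} (ModuleCat.of A (A ⧸ Ideal.ofList xs)) (ModuleCat.of A M) i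
      ≃ₗ[A] (Fin (xs.length.choose i) → M)) := by
  obtain ⟨e, hb, -⟩ := hasFam_of_isWeaklyRegular xs.length xs rfl hreg i
  have hM : Killed (Ideal.ofList xs) (ModuleCat.of A M) := by
    intro a ha y
    have : a • y ∈ Ideal.ofList xs • (⊤ : Submodule A M) :=
      Submodule.smul_mem_smul ha Submodule.mem_top
    rw [hJM] at this
    exact (Submodule.mem_bot A).mp this
  exact ⟨(LinearEquiv.ofBijective (e _ hM) (hb _ hM)).symm⟩

end main

end Groth.Agent.Lib27.ExtReg
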