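import Mathlib.Data.Int.Basic
import Mathlib.Order.Basic
import Mathlib.Logic.Function.Basic
import Mathlib.Tactic.Ring
import Mathlib.Tactic.Linarith

/-!
# Recursion principles on `ℤ` for families without transports

`exists_desc_family`: descending construction of a family `g p` (all `p : ℤ`) starting from a
default family which is good for `p ≥ b`.
`exists_asc_family`: ascending version.
-/

namespace Groth.Agent.Lib27.FilDRec

section desc

variable {α : ℤ → Type*} (Q : ∀ p, α p → Prop) (C : ∀ p, α (p + 1) → α p → Prop)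

private def GoodD (m : ℤ) (g : ∀ p, α p) : Prop :=
  (∀ p, m ≤ p → Q p (g p)) ∧ (∀ p, m ≤ p → C p (g (p + 1)) (g p))

private lemma goodD_step
    (step : ∀ p (x' : α (p + 1)), Q (p + 1) x' → ∃ x : α p, Q p x ∧ C p x' x)
    (m : ℤ) (g : ∀ p, α p) (hg : GoodD Q C (m + 1) g) :
    ∃ g' : ∀ p, α p, GoodD Q C m g' ∧ ∀ p, m + 1 ≤ p → g' p = g p := by
  classical
  obtain ⟨x, hx, hC⟩ := step m (g (m + 1)) (hg.1 _ le_rfl)
  refine ⟨Function.update g m x, ⟨?_, ?_⟩, ?_⟩
  · intro p hp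
    by_cases h : p = m
    · subst h
      simpa using hx
    · rw [Function.update_of_ne h]
      exact hg.1 p (by omega)
  · intro p hp
    by_cases h : p = m
    · subst h
      rw [Function.update_self, Function.update_of_ne (by omega)]
      exact hC
    · rw [Function.update_of_ne h, Function.update_of_ne (by omega)]
      exact hg.2 p (by omega)
  · intro p hp
    rw [Function.update_of_ne (by omega)]

theorem exists_desc_family (b : ℤ)
    (g₀ : ∀ p, α p) (hQ₀ : ∀ p, b ≤ p → Q p (g₀ p)) (hC₀ : ∀ p, b ≤ p → C p (g₀ (p + 1)) (g₀ p))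
    (step : ∀ p (x' : α (p + 1)), Q (p + 1) x' → ∃ x : α p, Q p x ∧ C p x' x) :
    ∃ g : ∀ p, α p, (∀ p, Q p (g p)) ∧ ∀ p, C p (g (p + 1)) (g p) := by
  classical
  -- the sequence of partial solutions
  have hstep : ∀ (k : ℕ) (s : {g : ∀ p, α p // GoodD Q C (b - k) g}),
      ∃ s' : {g : ∀ p, α p // GoodD Q C (b - (k + 1 : ℕ)) g},
        ∀ p, b - k ≤ p → s'.1 p = s.1 p := by
    intro k s
    have e : b - ((k + 1 : ℕ) : ℤ) + 1 = b - k := by push_cast; ring
    obtain ⟨g', hg', hag⟩ := goodD_step Q C step (b - ((k + 1 : ℕ) : ℤ)) s.1 (by rw [e]; exact s.2)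
    exact ⟨⟨g', hg'⟩, fun p hp => hag p (by rw [e]; exact hp)⟩
  choose nxt hnxt using hstep
  let s : ∀ k : ℕ, {g : ∀ p, α p // GoodD Q C (b - k) g} := fun k =>
    Nat.rec (motive := fun k => {g : ∀ p, α p // GoodD Q C (b - k) g})
      ⟨g₀, ⟨fun p hp => hQ₀ p (by simpa using hp), fun p hp => hC₀ p (by simpa using hp)⟩⟩
      (fun k sk => nxt k sk) k
  have hs : ∀ (k : ℕ) (p : ℤ), b - k ≤ p → (s (k + 1)).1 p = (s k).1 p := fun k p hp => hnxt k (s k) p hp
  have hs' : ∀ (k k' : ℕ) (p : ℤ), k ≤ k' → b - k ≤ p → (s k').1 p = (s k).1 p := by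
    intro k k' p hkk' hp
    induction k', hkk' using Nat.le_induction with
    | base => rfl
    | succ n hn ih =>
      rw [hs n p (by omega), ih]
  refine ⟨fun p => (s (b - p).toNat).1 p, ?_, ?_⟩
  · intro p
    exact (s (b - p).toNat).2.1 p (by omega)
  · intro p
    have h1 : (s (b - (p + 1)).toNat).1 (p + 1) = (s (b - p).toNat).1 (p + 1) :=
      (hs' (b - (p + 1)).toNat (b - p).toNat (p + 1) (by omega) (by omega)).symm
    show C p ((s (b - (p + 1)).toNat).1 (p + 1)) ((s (b - p).toNat).1 p)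
    rw [h1]
    exact (s (b - p).toNat).2.2 p (by omega)

end desc

section asc

variable {α : ℤ → Type*} (Q : ∀ p, α p → Prop) (C : ∀ p, α p → α (p + 1) → Prop)

private def GoodA (m : ℤ) (g : ∀ p, α p) : Prop :=
  (∀ p, p ≤ m → Q p (g p)) ∧ (∀ p, p + 1 ≤ m → C p (g p) (g (p + 1)))

private lemma goodA_step
    (step : ∀ p (x : α p), Q p x → ∃ x' : α (p + 1), Q (p + 1) x' ∧ C p x x')
    (m : ℤ) (g : ∀ p, α p) (hg : GoodA Q C m g) :
    ∃ g' : ∀ p, α p, GoodA Q C (m + 1) g' ∧ ∀ p, p ≤ m → g' p = g p := by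
  classical
  obtain ⟨x, hx, hC⟩ := step m (g m) (hg.1 _ le_rfl)
  refine ⟨Function.update g (m + 1) x, ⟨?_, ?_⟩, ?_⟩
  · intro p hp
    by_cases h : p = m + 1
    · subst h
      simpa using hx
    · rw [Function.update_of_ne h]
      exact hg.1 p (by omega)
  · intro p hp
    by_cases h : p = m
    · subst h
      rw [Function.update_self, Function.update_of_ne (by omega)]
      exact hC
    · rw [Function.update_of_ne (by omega), Function.update_of_ne (by omega)]
      exact hg.2 p (by omega)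
  · intro p hp
    rw [Function.update_of_ne (by omega)]

theorem exists_asc_family (a : ℤ)
    (g₀ : ∀ p, α p) (hQ₀ : ∀ p, p ≤ a → Q p (g₀ p)) (hC₀ : ∀ p, p + 1 ≤ a → C p (g₀ p) (g₀ (p + 1)))
    (step : ∀ p (x : α p), Q p x → ∃ x' : α (p + 1), Q (p + 1) x' ∧ C p x x') :
    ∃ g : ∀ p, α p, (∀ p, Q p (g p)) ∧ ∀ p, C p (g p) (g (p + 1)) := by
  classical
  have hstep : ∀ (k : ℕ) (s : {g : ∀ p, α p // GoodA Q C (a + k) g}),
      ∃ s' : {g : ∀ p, α p // GoodA Q C (a + (k + 1 : ℕ)) g},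
        ∀ p, p ≤ a + k → s'.1 p = s.1 p := by
    intro k s
    have e : a + ((k + 1 : ℕ) : ℤ) = a + k + 1 := by push_cast; ring
    obtain ⟨g', hg', hag⟩ := goodA_step Q C step (a + k) s.1 s.2
    exact ⟨⟨g', by rw [e]; exact hg'⟩, fun p hp => hag p hp⟩
  choose nxt hnxt using hstep
  let s : ∀ k : ℕ, {g : ∀ p, α p // GoodA Q C (a + k) g} := fun k =>
    Nat.rec (motive := fun k => {g : ∀ p, α p // GoodA Q C (a + k) g})
      ⟨g₀, ⟨fun p hp => hQ₀ p (by simpa using hp), fun p hp => hC₀ p (by simpa using hp)⟩⟩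
      (fun k sk => nxt k sk) k
  have hs : ∀ (k : ℕ) (p : ℤ), p ≤ a + k → (s (k + 1)).1 p = (s k).1 p := fun k p hp => hnxt k (s k) p hp
  have hs' : ∀ (k k' : ℕ) (p : ℤ), k ≤ k' → p ≤ a + k → (s k').1 p = (s k).1 p := by
    intro k k' p hkk' hp
    induction k', hkk' using Nat.le_induction with
    | base => rfl
    | succ n hn ih =>
      rw [hs n p (by omega), ih]
  refine ⟨fun p => (s (p + 1 - a).toNat).1 p, ?_, ?_⟩
  · intro p
    exact (s (p + 1 - a).toNat).2.1 p (by omega)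
  · intro p
    have h1 : (s (p + 1 - a).toNat).1 p = (s (p + 1 + 1 - a).toNat).1 p :=
      (hs' (p + 1 - a).toNat (p + 1 + 1 - a).toNat p (by omega) (by omega)).symm
    show C p ((s (p + 1 - a).toNat).1 p) ((s (p + 1 + 1 - a).toNat).1 (p + 1))
    rw [h1]
    exact (s (p + 1 + 1 - a).toNat).2.2 p (by omega)


private lemma goodA_step' (m : ℤ)
    (step : ∀ (x : α m), Q m x → ∃ x' : α (m + 1), Q (m + 1) x' ∧ C m x x')
    (g : ∀ p, α p) (hg : GoodA Q C m g) :
    ∃ g' : ∀ p, α p, GoodA Q C (m + 1) g' ∧ ∀ p, p ≤ m → g' p = g p := by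
  classical
  obtain ⟨x, hx, hC⟩ := step (g m) (hg.1 _ le_rfl)
  refine ⟨Function.update g (m + 1) x, ⟨?_, ?_⟩, ?_⟩
  · intro p hp
    by_cases h : p = m + 1
    · subst h
      simpa using hx
    · rw [Function.update_of_ne h]
      exact hg.1 p (by omega)
  · intro p hp
    by_cases h : p = m
    · subst h
      rw [Function.update_self, Function.update_of_ne (by omega)]
      exact hC
    · rw [Function.update_of_ne (by omega), Function.update_of_ne (by omega)]
      exact hg.2 p (by omega)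
  · intro p hp
    rw [Function.update_of_ne (by omega)]

/-- Ascending construction where the step is only required above the threshold `a`, and the
resulting family agrees with the default family below the threshold. -/
theorem exists_asc_family' (a : ℤ)
    (g₀ : ∀ p, α p) (hQ₀ : ∀ p, p ≤ a → Q p (g₀ p)) (hC₀ : ∀ p, p + 1 ≤ a → C p (g₀ p) (g₀ (p + 1)))
    (step : ∀ p, a ≤ p → ∀ (x : α p), Q p x → ∃ x' : α (p + 1), Q (p + 1) x' ∧ C p x x') :
    ∃ g : ∀ p, α p, (∀ p, Q p (g p)) ∧ (∀ p, C p (g p) (g (p + 1))) ∧ ∀ p, p ≤ a → g p = g₀ p := by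
  classical
  have hstep : ∀ (k : ℕ) (s : {g : ∀ p, α p // GoodA Q C (a + k) g}),
      ∃ s' : {g : ∀ p, α p // GoodA Q C (a + (k + 1 : ℕ)) g},
        ∀ p, p ≤ a + k → s'.1 p = s.1 p := by
    intro k s
    have e : a + ((k + 1 : ℕ) : ℤ) = a + k + 1 := by push_cast; ring
    obtain ⟨g', hg', hag⟩ := goodA_step' Q C (a + k) (step (a + k) (by omega)) s.1 s.2
    exact ⟨⟨g', by rw [e]; exact hg'⟩, fun p hp => hag p hp⟩
  choose nxt hnxt using hstep
  let s : ∀ k : ℕ, {g : ∀ p, α p // GoodA Q C (a + k) g} := fun k =>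
    Nat.rec (motive := fun k => {g : ∀ p, α p // GoodA Q C (a + k) g})
      ⟨g₀, ⟨fun p hp => hQ₀ p (by simpa using hp), fun p hp => hC₀ p (by simpa using hp)⟩⟩
      (fun k sk => nxt k sk) k
  have hs : ∀ (k : ℕ) (p : ℤ), p ≤ a + k → (s (k + 1)).1 p = (s k).1 p :=
    fun k p hp => hnxt k (s k) p hp
  have hs' : ∀ (k k' : ℕ) (p : ℤ), k ≤ k' → p ≤ a + k → (s k').1 p = (s k).1 p := by
    intro k k' p hkk' hp
    induction k', hkk' using Nat.le_induction with
    | base => rfl
    | succ n hn ih =>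
      rw [hs n p (by omega), ih]
  refine ⟨fun p => (s (p + 1 - a).toNat).1 p, ?_, ?_, ?_⟩
  · intro p
    exact (s (p + 1 - a).toNat).2.1 p (by omega)
  · intro p
    have h1 : (s (p + 1 - a).toNat).1 p = (s (p + 1 + 1 - a).toNat).1 p :=
      (hs' (p + 1 - a).toNat (p + 1 + 1 - a).toNat p (by omega) (by omega)).symm
    show C p ((s (p + 1 - a).toNat).1 p) ((s (p + 1 + 1 - a).toNat).1 (p + 1))
    rw [h1]
    exact (s (p + 1 + 1 - a).toNat).2.2 p (by omega)
  · intro p hp
    exact hs' 0 (p + 1 - a).toNat p (Nat.zero_le _) (by simpa using hp)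

end asc

end Groth.Agent.Lib27.FilDRec
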