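import Groth.Prelude.Def_FilD
import Groth.Agent.Lib27.FilDRec
import Mathlib.CategoryTheory.Abelian.Refinements
import Mathlib.CategoryTheory.Abelian.Exact
import Mathlib.CategoryTheory.Limits.FunctorCategory.EpiMono
import Mathlib.Algebra.Homology.ShortComplex.ExactFunctor
import Mathlib.CategoryTheory.Abelian.Injective.Basic

/-!
# Finite filtered objects: basic levelwise API, strictness, kernels, key extension lemma
-/

universe v u
open CategoryTheory CategoryTheory.Limits Opposite

namespace Groth.Agent.Lib27.FilDLib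

open FilD

variable {A : Type u} [Category.{v} A] [Abelian A]

section hom

variable {X Y : FilF A}

@[simp] lemma add_hom (f g : X ⟶ Y) : (f + g).hom = f.hom + g.hom := rfl
@[simp] lemma zero_hom : (0 : X ⟶ Y).hom = 0 := rfl
@[simp] lemma neg_hom (f : X ⟶ Y) : (-f).hom = -f.hom := rfl
@[simp] lemma sub_hom (f g : X ⟶ Y) : (f - g).hom = f.hom - g.hom := rfl

end hom

section trans

variable (F G : ℤᵒᵖ ⥤ A)

lemma hom_eq {x y : ℤᵒᵖ} (f g : x ⟶ y) : f = g := Subsingleton.elim _ _

lemma map_trans {p q r : ℤ} (h₁ : p ≤ q) (h₂ : q ≤ r) :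
    F.map (homOfLE h₂).op ≫ F.map (homOfLE h₁).op = F.map (homOfLE (h₁.trans h₂)).op := by
  rw [← F.map_comp]
  congr 1

lemma map_refl (p : ℤ) : F.map (homOfLE (le_refl p)).op = 𝟙 _ := by
  rw [← F.map_id]
  congr 1

lemma map_step_trans {p q : ℤ} (h : p ≤ q) :
    F.map (stepHom q) ≫ F.map (homOfLE h).op = F.map (homOfLE (h.trans (Int.le_add_one le_rfl))).op := by
  rw [← F.map_comp]
  congr 1

lemma map_trans_step {p q : ℤ} (h : p + 1 ≤ q) :
    F.map (homOfLE h).op ≫ F.map (stepHom p) =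
      F.map (homOfLE ((Int.le_add_one le_rfl).trans h)).op := by
  rw [← F.map_comp]
  congr 1

variable {F G}

lemma naturality_of_steps (g : ∀ p : ℤ, F.obj (op p) ⟶ G.obj (op p))
    (hg : ∀ p, F.map (stepHom p) ≫ g p = g (p + 1) ≫ G.map (stepHom p))
    (p q : ℤ) (h : p ≤ q) :
    F.map (homOfLE h).op ≫ g p = g q ≫ G.map (homOfLE h).op := by
  induction q, h using Int.le_induction with
  | base => simp [map_refl]
  | succ q hq ih =>
    rw [← map_step_trans F hq, ← map_step_trans G hq, Category.assoc, ih, reassoc_of% (hg q)]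

/-- A natural transformation between functors on `ℤᵒᵖ` from a family compatible with steps. -/
def natTransOfSteps (g : ∀ p : ℤ, F.obj (op p) ⟶ G.obj (op p))
    (hg : ∀ p, F.map (stepHom p) ≫ g p = g (p + 1) ≫ G.map (stepHom p)) : F ⟶ G where
  app x := g x.unop
  naturality x y f := by
    have h : y.unop ≤ x.unop := leOfHom f.unop
    have hf : f = (homOfLE h).op := hom_eq _ _
    rw [hf]
    exact naturality_of_steps g hg _ _ h

@[simp] lemma natTransOfSteps_app (g : ∀ p : ℤ, F.obj (op p) ⟶ G.obj (op p)) (hg) (p : ℤ) :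
    (natTransOfSteps g hg).app (op p) = g p := rfl

end trans

section gr

variable (F : ℤᵒᵖ ⥤ A) (p : ℤ)

/-- The projection `F p ⟶ gr^p F`. -/
noncomputable abbrev grπ : F.obj (op p) ⟶ (gr A p).obj F := cokernel.π (F.map (stepHom p))

@[reassoc (attr := simp)]
lemma step_grπ : F.map (stepHom p) ≫ grπ F p = 0 := cokernel.condition _

variable {F} in
@[reassoc]
lemma grπ_naturality {G : ℤᵒᵖ ⥤ A} (φ : F ⟶ G) :
    grπ F p ≫ (gr A p).map φ = φ.app (op p) ≫ grπ G p := by
  simp [gr]

instance : Epi (grπ F p) := coequalizer.π_epi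

variable {F p}

lemma gr_lift {T : A} (z : T ⟶ (gr A p).obj F) :
    ∃ (T' : A) (π : T' ⟶ T) (_ : Epi π) (x : T' ⟶ F.obj (op p)), π ≫ z = x ≫ grπ F p :=
  surjective_up_to_refinements_of_epi _ z

lemma gr_ker {T : A} (x : T ⟶ F.obj (op p)) (hx : x ≫ grπ F p = 0) :
    ∃ (T' : A) (π : T' ⟶ T) (_ : Epi π) (x' : T' ⟶ F.obj (op (p + 1))),
      π ≫ x = x' ≫ F.map (stepHom p) :=
  (ShortComplex.exact_cokernel (F.map (stepHom p))).exact_up_to_refinements x hx

end gr

section strict

variable {F G : ℤᵒᵖ ⥤ A} (φ : F ⟶ G)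

/-- Strictness in refinement form. -/
def StrictR : Prop :=
  ∀ (p q : ℤ) (h : p ≤ q) ⦃T : A⦄ (y : T ⟶ G.obj (op q)) (x : T ⟶ F.obj (op p)),
    y ≫ G.map (homOfLE h).op = x ≫ φ.app (op p) →
    ∃ (T' : A) (π : T' ⟶ T) (_ : Epi π) (x' : T' ⟶ F.obj (op q)), π ≫ y = x' ≫ φ.app (op q)

/-- Strictness in refinement form, one step at a time. -/
def StrictStep : Prop :=
  ∀ (p : ℤ) ⦃T : A⦄ (y : T ⟶ G.obj (op (p + 1))) (x : T ⟶ F.obj (op p)),
    y ≫ G.map (stepHom p) = x ≫ φ.app (op p) →
    ∃ (T' : A) (π : T' ⟶ T) (_ : Epi π) (x' : T' ⟶ F.obj (op (p + 1))),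
      π ≫ y = x' ≫ φ.app (op (p + 1))

variable {φ}

lemma StrictR.step (h : StrictR φ) : StrictStep φ := fun p _ y x hyx =>
  h p (p + 1) (Int.le_add_one le_rfl) y x hyx

lemma StrictStep.strictR (h : StrictStep φ) : StrictR φ := by
  intro p q hpq
  obtain ⟨k, rfl⟩ : ∃ k : ℕ, q = p + k := ⟨(q - p).toNat, by omega⟩
  revert hpq
  induction k generalizing p with
  | zero =>
    intro hpq T y x hyx
    obtain ⟨e⟩ : ∃ e : p + (0 : ℕ) = p, True := ⟨by simp, trivial⟩
    refine ⟨T, 𝟙 _, inferInstance, x ≫ F.map (homOfLE (by omega : p + ((0 : ℕ) : ℤ) ≤ p)).op, ?_⟩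
    have h1 : G.map (homOfLE hpq).op ≫ G.map (homOfLE (by omega : p + ((0 : ℕ) : ℤ) ≤ p)).op = 𝟙 _ := by
      rw [← G.map_comp, ← G.map_id]; congr 1
    rw [Category.id_comp, Category.assoc, φ.naturality, ← Category.assoc, ← hyx, Category.assoc, h1,
      Category.comp_id]
  | succ k ih =>
    intro hpq T y x hyx
    have hq : p + 1 ≤ p + ((k + 1 : ℕ) : ℤ) := by push_cast; omega
    obtain ⟨T₁, π₁, _, x₁, hx₁⟩ := h p (y ≫ G.map (homOfLE hq).op) x (by
      rw [Category.assoc, map_trans_step]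
      exact hyx)
    have e : p + 1 + (k : ℤ) = p + ((k + 1 : ℕ) : ℤ) := by push_cast; ring
    have hq' : p + 1 ≤ p + 1 + (k : ℤ) := by omega
    obtain ⟨T₂, π₂, _, x₂, hx₂⟩ := ih (p + 1) hq'
      (π₁ ≫ y ≫ G.map (eqToHom (by rw [e])))
      x₁ (by
        rw [← hx₁, Category.assoc, Category.assoc, ← G.map_comp]
        congr 3)
    refine ⟨T₂, π₂ ≫ π₁, epi_comp _ _, x₂ ≫ F.map (eqToHom (by rw [e])), ?_⟩
    have h2 : G.map (eqToHom (by rw [e]) : op (p + ((k + 1 : ℕ) : ℤ)) ⟶ op (p + 1 + (k : ℤ))) ≫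
        G.map (eqToHom (by rw [e]) : op (p + 1 + (k : ℤ)) ⟶ op (p + ((k + 1 : ℕ) : ℤ))) = 𝟙 _ := by
      rw [← G.map_comp, ← G.map_id]; congr 1
    rw [Category.assoc, Category.assoc, φ.naturality, ← reassoc_of% hx₂, h2, Category.comp_id]

end strict


section image

lemma factors_image_iff {X Y T : A} (f : X ⟶ Y) (k : T ⟶ Y) :
    (imageSubobject f).Factors k ↔
      ∃ (T' : A) (π : T' ⟶ T) (_ : Epi π) (x : T' ⟶ X), π ≫ k = x ≫ f := by
  have hS := ShortComplex.exact_cokernel f
  have e : imageSubobject f = kernelSubobject (cokernel.π f) :=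
    (ShortComplex.exact_iff_image_eq_kernel _).1 hS
  rw [e, kernelSubobject_factors_iff]
  constructor
  · intro h
    exact hS.exact_up_to_refinements k h
  · rintro ⟨T', π, _, x, hx⟩
    rw [← cancel_epi π, reassoc_of% hx]
    simp

lemma isStrict_iff {X Y : FilF A} (φ : X ⟶ Y) : IsStrict φ ↔ StrictR φ.hom := by
  constructor
  · intro h p q hpq T y x hyx
    have hY : Mono (Y.obj.map (homOfLE hpq).op) := Y.property.1 _
    have h1 : (imageSubobject (φ.hom.app (op p)) ⊓
        Subobject.mk (Y.obj.map (homOfLE hpq).op)).Factors (x ≫ φ.hom.app (op p)) := by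
      rw [Subobject.inf_factors]
      refine ⟨imageSubobject_factors_comp_self _ _, ?_⟩
      rw [← hyx]
      exact ⟨y, rfl⟩
    rw [← h p q hpq, factors_image_iff] at h1
    obtain ⟨T', π, hπ, x', hx'⟩ := h1
    refine ⟨T', π, hπ, x', ?_⟩
    rw [← cancel_mono (Y.obj.map (homOfLE hpq).op), Category.assoc, hyx, hx', Category.assoc]
  · intro h p q hpq
    have hY : Mono (Y.obj.map (homOfLE hpq).op) := Y.property.1 _
    apply le_antisymm
    · apply le_inf
      · refine imageSubobject_le _ (X.obj.map (homOfLE hpq).op ≫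
          factorThruImageSubobject (φ.hom.app (op p))) ?_
        rw [Category.assoc, imageSubobject_arrow_comp]
        exact φ.hom.naturality _
      · exact imageSubobject_le_mk _ _ (φ.hom.app (op q)) rfl
    · have hP := Subobject.factors_self (imageSubobject (φ.hom.app (op p)) ⊓
        Subobject.mk (Y.obj.map (homOfLE hpq).op))
      have hP' := hP
      rw [Subobject.inf_factors] at hP'
      obtain ⟨h1, h2⟩ := hP'
      rw [factors_image_iff] at h1
      obtain ⟨T', π, hπ, x, hx⟩ := h1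
      obtain ⟨y, hy⟩ : ∃ y : _ ⟶ Y.obj.obj (op q), y ≫ Y.obj.map (homOfLE hpq).op =
          (imageSubobject (φ.hom.app (op p)) ⊓
            Subobject.mk (Y.obj.map (homOfLE hpq).op)).arrow := h2
      obtain ⟨T'', π', hπ', x', hx'⟩ := h p q hpq (π ≫ y) x (by
        rw [Category.assoc, ← hx, hy])
      have hfac : (imageSubobject (φ.hom.app (op q) ≫ Y.obj.map (homOfLE hpq).op)).Factors
          (imageSubobject (φ.hom.app (op p)) ⊓
            Subobject.mk (Y.obj.map (homOfLE hpq).op)).arrow := by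
        rw [factors_image_iff]
        refine ⟨T'', π' ≫ π, epi_comp _ _, x', ?_⟩
        rw [← reassoc_of% hx', Category.assoc, hy]
      exact Subobject.le_of_comm (Subobject.factorThru _ _ hfac) (Subobject.factorThru_arrow _ _ _)

end image

section filf

variable (X : FilF A)

instance mono_map {p q : ℤᵒᵖ} (f : p ⟶ q) : Mono (X.obj.map f) := X.property.1 f

lemma exists_isZero_ge : ∃ b : ℤ, ∀ p : ℤ, b ≤ p → IsZero (X.obj.obj (op p)) := X.property.2.1

lemma exists_isIso_le : ∃ a : ℤ, ∀ ⦃p q : ℤᵒᵖ⦄ (f : p ⟶ q), p.unop ≤ a → IsIso (X.obj.map f) :=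
  X.property.2.2

end filf

section kernel

variable {X Y : FilF A} (φ : X ⟶ Y)

lemma kernel_level_exact (p : ℤᵒᵖ) :
    (ShortComplex.mk ((kernel.ι φ.hom).app p) (φ.hom.app p)
      (by rw [← NatTrans.comp_app, kernel.condition]; rfl)).Exact :=
  (ShortComplex.exact_kernel φ.hom).map ((evaluation ℤᵒᵖ A).obj p)

instance kernel_level_mono (p : ℤᵒᵖ) : Mono ((kernel.ι φ.hom).app p) :=
  (NatTrans.mono_iff_mono_app _).1 inferInstance p

/-- Lift to the levelwise kernel. -/
noncomputable def kerLift {p : ℤᵒᵖ} {T : A} (x : T ⟶ X.obj.obj p) (hx : x ≫ φ.hom.app p = 0) :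
    T ⟶ (kernel φ.hom).obj p :=
  (kernel_level_exact φ p).lift x hx

@[reassoc (attr := simp)]
lemma kerLift_ι {p : ℤᵒᵖ} {T : A} (x : T ⟶ X.obj.obj p) (hx : x ≫ φ.hom.app p = 0) :
    kerLift φ x hx ≫ (kernel.ι φ.hom).app p = x :=
  (kernel_level_exact φ p).lift_f x hx

@[reassoc (attr := simp)]
lemma kernel_ι_app_comp (p : ℤᵒᵖ) : (kernel.ι φ.hom).app p ≫ φ.hom.app p = 0 := by
  rw [← NatTrans.comp_app, kernel.condition]; rfl

lemma isFinFil_kernel : IsFinFil A (kernel φ.hom) := by
  refine ⟨?_, ?_, ?_⟩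
  · intro p q f
    have : Mono ((kernel φ.hom).map f ≫ (kernel.ι φ.hom).app q) := by
      rw [(kernel.ι φ.hom).naturality f]
      infer_instance
    exact mono_of_mono _ ((kernel.ι φ.hom).app q)
  · obtain ⟨b, hb⟩ := exists_isZero_ge X
    exact ⟨b, fun p hp => IsZero.of_mono ((kernel.ι φ.hom).app (op p)) (hb p hp)⟩
  · obtain ⟨a₁, ha₁⟩ := exists_isIso_le X
    obtain ⟨a₂, ha₂⟩ := exists_isIso_le Y
    refine ⟨min a₁ a₂, ?_⟩
    intro p q f hp
    have : IsIso (X.obj.map f) := ha₁ f (hp.trans (min_le_left _ _))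
    have : IsIso (Y.obj.map f) := ha₂ f (hp.trans (min_le_right _ _))
    have hnat : inv (X.obj.map f) ≫ φ.hom.app p = φ.hom.app q ≫ inv (Y.obj.map f) := by
      rw [IsIso.inv_comp_eq, ← Category.assoc, IsIso.eq_comp_inv, φ.hom.naturality]
    refine ⟨kerLift φ ((kernel.ι φ.hom).app q ≫ inv (X.obj.map f)) (by
      rw [Category.assoc, hnat, kernel_ι_app_comp_assoc, zero_comp]), ?_, ?_⟩
    · rw [← cancel_mono ((kernel.ι φ.hom).app p), Category.assoc, kerLift_ι,
        (kernel.ι φ.hom).naturality_assoc, IsIso.hom_inv_id, Category.comp_id, Category.id_comp]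
    · rw [← cancel_mono ((kernel.ι φ.hom).app q), Category.assoc, (kernel.ι φ.hom).naturality,
        kerLift_ι_assoc, Category.assoc, IsIso.inv_hom_id, Category.comp_id, Category.id_comp]

/-- The kernel of a morphism of finite filtered objects, as a finite filtered object. -/
noncomputable def kerObj : FilF A := ⟨kernel φ.hom, isFinFil_kernel φ⟩

/-- The inclusion of the kernel. -/
noncomputable def kerι : kerObj φ ⟶ X := (IsFinFil A).homMk (kernel.ι φ.hom)

@[simp] lemma kerι_hom : (kerι φ).hom = kernel.ι φ.hom := rfl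

@[reassoc (attr := simp)]
lemma kerι_comp : kerι φ ≫ φ = 0 := by
  apply ObjectProperty.hom_ext
  exact kernel.condition φ.hom

instance mono_hom_of_mono [Mono φ] : Mono φ.hom := by
  apply Abelian.mono_of_kernel_ι_eq_zero
  have h : kerι φ ≫ φ = 0 ≫ φ := by simp
  have h' := (cancel_mono φ).1 h
  exact congrArg (fun f => f.hom) h'

instance mono_app_of_mono [Mono φ] (p : ℤᵒᵖ) : Mono (φ.hom.app p) :=
  (NatTrans.mono_iff_mono_app _).1 inferInstance p

lemma mono_of_mono_app (h : ∀ p : ℤ, Mono (φ.hom.app (op p))) : Mono φ := by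
  have : Mono φ.hom := (NatTrans.mono_iff_mono_app _).2 (fun k => h k.unop)
  exact (IsFinFil A).ι.mono_of_mono_map (by simpa using this)

end kernel


section injective

lemma gr_shortExact (X : FilF A) (p : ℤ) :
    (ShortComplex.mk (X.obj.map (stepHom p)) (grπ X.obj p) (step_grπ _ _)).ShortExact where
  exact := ShortComplex.exact_cokernel _

lemma injective_of_shortExact {S : ShortComplex A} (hS : S.ShortExact)
    (h₁ : Injective S.X₁) (h₃ : Injective S.X₃) : Injective S.X₂ := by
  have := hS.mono_f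
  have := hS.epi_g
  have hr : S.f ≫ Injective.factorThru (𝟙 S.X₁) S.f = 𝟙 _ := Injective.comp_factorThru _ _
  let spl := ShortComplex.Splitting.ofExactOfRetraction S hS.exact _ hr inferInstance
  exact Injective.of_iso spl.isoBinaryBiproduct.symm inferInstance

lemma injective_level {I : FilF A} (hI : IsFilteredInjective I) (p : ℤ) :
    Injective (I.obj.obj (op p)) := by
  obtain ⟨b, hb⟩ := exists_isZero_ge I
  have key : ∀ (k : ℕ) (p : ℤ), b - k ≤ p → Injective (I.obj.obj (op p)) := by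
    intro k
    induction k with
    | zero =>
      intro p hp
      exact Injective.of_iso ((hb p (by simpa using hp)).isoZero).symm inferInstance
    | succ k ih =>
      intro p hp
      have h1 : Injective (I.obj.obj (op (p + 1))) := ih (p + 1) (by push_cast at hp; omega)
      have h3 : Injective ((gr A p).obj I.obj) := hI p
      exact injective_of_shortExact (gr_shortExact I p) h1 h3
  exact key (b - p).toNat p (by omega)

lemma inj_ext {W Y I : A} [Injective I] (m : W ⟶ Y) (hh : W ⟶ I) (key : kernel.ι m ≫ hh = 0) :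
    ∃ g : Y ⟶ I, m ≫ g = hh := by
  refine ⟨Injective.factorThru (cokernel.desc (kernel.ι m) hh key) (Abelian.factorThruCoimage m), ?_⟩
  calc m ≫ Injective.factorThru (cokernel.desc (kernel.ι m) hh key) (Abelian.factorThruCoimage m)
      = (Abelian.coimage.π m ≫ Abelian.factorThruCoimage m) ≫
        Injective.factorThru (cokernel.desc (kernel.ι m) hh key) (Abelian.factorThruCoimage m) := by
          rw [Abelian.coimage.fac]
    _ = hh := by
      rw [Category.assoc, Injective.comp_factorThru]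
      exact cokernel.π_desc _ _ _

lemma ext_step {Xp Y1 Yp Ip : A} [Injective Ip] (dp : Xp ⟶ Yp) (tY : Y1 ⟶ Yp) (ψp : Xp ⟶ Ip)
    (k : Y1 ⟶ Ip)
    (H : ∀ ⦃T : A⦄ (a : T ⟶ Xp) (b : T ⟶ Y1), a ≫ dp + b ≫ tY = 0 → a ≫ ψp + b ≫ k = 0) :
    ∃ g : Yp ⟶ Ip, dp ≫ g = ψp ∧ tY ≫ g = k := by
  obtain ⟨g, hg⟩ := inj_ext (biprod.desc dp tY) (biprod.desc ψp k) (by
    have h0 : kernel.ι (biprod.desc dp tY) ≫ (biprod.fst ≫ dp + biprod.snd ≫ tY) = 0 := by
      rw [← biprod.desc_eq]
      exact kernel.condition _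
    rw [Preadditive.comp_add, ← Category.assoc, ← Category.assoc] at h0
    have h1 := H _ _ h0
    rw [show biprod.desc ψp k = biprod.fst ≫ ψp + biprod.snd ≫ k from biprod.desc_eq,
      Preadditive.comp_add, ← Category.assoc, ← Category.assoc]
    exact h1)
  refine ⟨g, ?_, ?_⟩
  · have := biprod.inl ≫= hg
    simpa using this
  · have := biprod.inr ≫= hg
    simpa using this

/-- **Key extension lemma.** Let `d : X ⟶ Y` be a strict morphism of finite filtered objects and
`ψ : X ⟶ I` a morphism into a filtered injective object killing the levelwise kernel of `d`.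
Then `ψ` extends along `d`. -/
theorem exists_extension {X Y I : FilF A} (d : X ⟶ Y) (hd : StrictStep d.hom)
    (hI : IsFilteredInjective I) (ψ : X ⟶ I)
    (hψ : ∀ (p : ℤ) ⦃T : A⦄ (x : T ⟶ X.obj.obj (op p)),
      x ≫ d.hom.app (op p) = 0 → x ≫ ψ.hom.app (op p) = 0) :
    ∃ h : Y ⟶ I, d ≫ h = ψ := by
  obtain ⟨b, hb⟩ := exists_isZero_ge Y
  obtain ⟨g, hQ, hC⟩ := FilDRec.exists_desc_family
    (α := fun p => Y.obj.obj (op p) ⟶ I.obj.obj (op p))
    (fun p g => d.hom.app (op p) ≫ g = ψ.hom.app (op p))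
    (fun p g' g => Y.obj.map (stepHom p) ≫ g = g' ≫ I.obj.map (stepHom p)) b
    (fun _ => 0)
    (fun p hp => by
      have := hψ p (𝟙 _) ((hb p hp).eq_of_tgt _ _)
      rw [Category.id_comp] at this
      rw [this, comp_zero])
    (fun p _ => by rw [comp_zero, zero_comp])
    (by
      intro p g' hg'
      have hIp : Injective (I.obj.obj (op p)) := injective_level hI p
      have natd : X.obj.map (stepHom p) ≫ d.hom.app (op p) =
        d.hom.app (op (p + 1)) ≫ Y.obj.map (stepHom p) := d.hom.naturality _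
      have natψ : X.obj.map (stepHom p) ≫ ψ.hom.app (op p) =
        ψ.hom.app (op (p + 1)) ≫ I.obj.map (stepHom p) := ψ.hom.naturality _
      apply ext_step
      intro T a b' hκ
      have h1 : (-b') ≫ Y.obj.map (stepHom p) = a ≫ d.hom.app (op p) := by
        rw [Preadditive.neg_comp]
        exact (eq_neg_of_add_eq_zero_left hκ).symm
      obtain ⟨T', π, hπ, x', hx'⟩ := hd p _ _ h1
      rw [← cancel_epi π, comp_zero]
      have e2 : (π ≫ a - x' ≫ X.obj.map (stepHom p)) ≫ d.hom.app (op p) = 0 := by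
        rw [Preadditive.sub_comp, Category.assoc, Category.assoc, natd, ← reassoc_of% hx', h1,
          sub_self]
      have e3 := hψ p _ e2
      rw [Preadditive.sub_comp, sub_eq_zero, Category.assoc, Category.assoc, natψ] at e3
      have e4 : π ≫ b' = -(x' ≫ d.hom.app (op (p + 1))) := by
        rw [← hx', Preadditive.comp_neg, neg_neg]
      rw [Preadditive.comp_add, e3, ← Category.assoc π, e4, Preadditive.neg_comp,
        Category.assoc, reassoc_of% hg', add_neg_cancel])
  refine ⟨(IsFinFil A).homMk (natTransOfSteps g hC), ?_⟩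
  apply ObjectProperty.hom_ext
  ext x
  exact hQ x.unop

end injective

end Groth.Agent.Lib27.FilDLib
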