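import Groth.Agent.Lib27.FilD9
import Mathlib.Algebra.Homology.Embedding.CochainComplex

/-!
# Filtered injective resolutions: assembly of the stages
-/

universe v u
open CategoryTheory CategoryTheory.Limits Opposite

namespace Groth.Agent.Lib27.FilDLib

open FilD ZeroObject

variable {A : Type u} [Category.{v} A] [Abelian A]

section cone

open CochainComplex

lemma quasiIso_of_mappingCone_exactAt {K L : CochainComplex A ℤ} (γ : K ⟶ L)
    (h : ∀ n, (mappingCone γ).ExactAt n) : QuasiIso γ := by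
  have h2 : HomotopyCategory.subcategoryAcyclic A
      ((HomotopyCategory.quotient _ _).obj (mappingCone γ)) :=
    (HomotopyCategory.quotient_obj_mem_subcategoryAcyclic_iff_exactAt _).2 h
  have h1 := ((HomotopyCategory.subcategoryAcyclic A).trW_iff_of_distinguished _
    (HomotopyCategory.mappingCone_triangleh_distinguished γ)).2 h2
  rw [← HomotopyCategory.quasiIso_eq_trW_subcategoryAcyclic] at h1
  exact (HomologicalComplex.mem_quasiIso_iff γ).1
    ((HomotopyCategory.quotient_map_mem_quasiIso_iff γ).1 h1)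

lemma isFilteredQuasiIso_of_acyclic_mappingCone {K L : CochainComplex (FilF A) ℤ} (α : K ⟶ L)
    (h : IsFilteredAcyclic (mappingCone α)) : IsFilteredQuasiIso α := by
  intro p
  apply quasiIso_of_mappingCone_exactAt
  intro n
  exact (h p n).of_iso (mappingCone.mapHomologicalComplexIso α (grF A p))

section coneBiprod

variable {C : Type*} [Category C] [Preadditive C] [HasBinaryBiproducts C]
  {K L : CochainComplex C ℤ} (φ : K ⟶ L)

/-- the terms of the mapping cone as biproducts -/
noncomputable def coneIso (m : ℤ) : (mappingCone φ).X m ≅ K.X (m + 1) ⊞ L.X m where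
  hom := biprod.lift ((mappingCone.fst φ).1.v m (m + 1) rfl)
    ((mappingCone.snd φ).v m m (add_zero m))
  inv := biprod.desc ((mappingCone.inl φ).v (m + 1) m (by omega)) ((mappingCone.inr φ).f m)
  hom_inv_id := by
    rw [biprod.lift_desc]
    exact mappingCone.id_X φ m (m + 1) rfl
  inv_hom_id := by
    apply biprod.hom_ext <;> apply biprod.hom_ext' <;> simp

/-- the differential of the mapping cone in biproduct form -/
noncomputable def coneδ (m : ℤ) : K.X (m + 1) ⊞ L.X m ⟶ K.X (m + 1 + 1) ⊞ L.X (m + 1) :=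
  biprod.lift (biprod.fst ≫ (-K.d (m + 1) (m + 1 + 1)))
    (biprod.desc (φ.f (m + 1)) (L.d m (m + 1)))

lemma coneIso_comm (m : ℤ) :
    (mappingCone φ).d m (m + 1) ≫ (coneIso φ (m + 1)).hom = (coneIso φ m).hom ≫ coneδ φ m := by
  apply biprod.hom_ext
  · simp only [coneIso, coneδ, Category.assoc, biprod.lift_fst, biprod.lift_fst_assoc]
    rw [mappingCone.d_fst_v φ m (m + 1) (m + 1 + 1) rfl rfl]
    simp
  · simp only [coneIso, coneδ, Category.assoc, biprod.lift_snd]
    rw [mappingCone.d_snd_v φ m (m + 1) rfl, biprod.lift_desc]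

end coneBiprod

end cone

section assembly

open CochainComplex

variable [EnoughInjectives A]

theorem exists_resolution (K : CochainComplex (FilF A) ℤ) (a : ℤ) [K.IsStrictlyGE a] :
    ∃ (I : CochainComplex (FilF A) ℤ) (φ : K ⟶ I), I.IsStrictlyGE a ∧
      (∀ n, IsFilteredInjective (I.X n)) ∧ IsFilteredQuasiIso φ ∧
      ∀ n, Mono (φ.f n) ∧ IsStrict (φ.f n) := by
  obtain ⟨s, hQ, hC, _⟩ := FilDRec.exists_asc_family' (α := Stage K)
    (fun n s => Stage.Good a s) (fun n s s' => ∃ ψ, Stage.Link s s' ψ) (a - 1)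
    (fun n => Stage.base K n) (fun n hn => Stage.base_good a hn)
    (fun n hn => ⟨0, Stage.base_link a hn⟩) (fun n hn s hs => Stage.step a hn s hs)
  choose ψ hψ using hC
  -- the differential
  let dI : ∀ n, (s n).I ⟶ (s (n + 1)).I := fun n => biprod.inr ≫ (s n).q ≫ ψ n
  have E2 : ∀ n, biprod.lift (s n).r (ψ n) ≫ (s (n + 1)).q = 0 := fun n =>
    cancel_level_epi (s n).q (hQ n).epi (by
      rw [comp_zero, ← Category.assoc]
      exact (hψ n).zero)
  have E2' : ∀ n, (s n).r ≫ biprod.inl ≫ (s (n + 1)).q ≫ ψ (n + 1) +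
      ψ n ≫ biprod.inr ≫ (s (n + 1)).q ≫ ψ (n + 1) = 0 := fun n => by
    have := E2 n =≫ ψ (n + 1)
    rw [zero_comp, Category.assoc, biprod.lift_eq, Preadditive.add_comp, Category.assoc,
      Category.assoc] at this
    exact this
  have e1 : ∀ n, biprod.inl ≫ (s n).q ≫ ψ n = (s (n + 1)).φ := fun n => (hψ n).φ_eq.symm
  have e3 : ∀ n, biprod.inl ≫ (s n).q ≫ (s n).r = -K.d (n + 1) (n + 1 + 1) := fun n => by
    rw [(hQ n).qr, biprod.inl_fst_assoc]
  have e4 : ∀ n, biprod.inr ≫ (s n).q ≫ (s n).r = 0 := fun n => by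
    rw [(hQ n).qr, biprod.inr_fst_assoc, zero_comp]
  have E3 : ∀ n, (s (n + 1)).φ ≫ dI (n + 1) = K.d (n + 1) (n + 1 + 1) ≫ (s (n + 1 + 1)).φ := by
    intro n
    have h : biprod.inl ≫ (s n).q ≫ ((s n).r ≫ biprod.inl ≫ (s (n + 1)).q ≫ ψ (n + 1) +
        ψ n ≫ biprod.inr ≫ (s (n + 1)).q ≫ ψ (n + 1)) = 0 := by
      rw [E2' n, comp_zero, comp_zero]
    rw [Preadditive.comp_add, Preadditive.comp_add, e1 (n + 1), reassoc_of% (e3 n),
      reassoc_of% (e1 n), Preadditive.neg_comp, neg_add_eq_zero] at h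
    exact h.symm
  have E4 : ∀ n, dI n ≫ dI (n + 1) = 0 := by
    intro n
    have h : biprod.inr ≫ (s n).q ≫ ((s n).r ≫ biprod.inl ≫ (s (n + 1)).q ≫ ψ (n + 1) +
        ψ n ≫ biprod.inr ≫ (s (n + 1)).q ≫ ψ (n + 1)) = 0 := by
      rw [E2' n, comp_zero, comp_zero]
    rw [Preadditive.comp_add, Preadditive.comp_add, reassoc_of% (e4 n), zero_comp, zero_add] at h
    simpa [dI] using h
  -- the complex and the comparison map
  let I : CochainComplex (FilF A) ℤ := CochainComplex.of (fun n => (s n).I) dI E4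
  have hId : ∀ n, I.d n (n + 1) = dI n := fun n => CochainComplex.of_d (fun n => (s n).I) dI n
  let φ : K ⟶ I :=
    { f := fun n => (s n).φ
      comm' := by
        intro i j hij
        obtain rfl : i + 1 = j := hij
        obtain ⟨m, rfl⟩ : ∃ m, i = m + 1 := ⟨i - 1, by omega⟩
        rw [hId]
        exact E3 m }
  have hφf : ∀ n, φ.f n = (s n).φ := fun n => rfl
  refine ⟨I, φ, ?_, fun n => (hQ n).inj, ?_, ?_⟩
  · rw [CochainComplex.isStrictlyGE_iff]
    intro i hi
    exact (hQ i).zero hi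
  · apply isFilteredQuasiIso_of_acyclic_mappingCone
    intro p n
    obtain ⟨m, rfl⟩ : ∃ m, n = m + 1 := ⟨n - 1, by omega⟩
    -- the cone differential equals the stage differential
    have hδ : ∀ m, coneδ φ m = Stage.δ (s m) (s (m + 1)) (ψ m) := by
      intro m
      apply biprod.hom_ext
      · rw [coneδ, biprod.lift_fst, Stage.δ, Category.assoc, biprod.lift_fst, (hQ m).qr]
      · rw [coneδ, biprod.lift_snd, Stage.δ, Category.assoc, biprod.lift_snd]
        apply biprod.hom_ext'
        · rw [biprod.inl_desc, hφf, (hψ m).φ_eq]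
        · rw [biprod.inr_desc, hId]
    have hδδ : coneδ φ m ≫ coneδ φ (m + 1) = 0 := by
      rw [hδ, hδ, Stage.δ, Stage.δ, Category.assoc, reassoc_of% (E2 m), zero_comp, comp_zero]
    rw [HomologicalComplex.exactAt_iff' _ m (m + 1) (m + 1 + 1) (by simp) (by simp)]
    let S₂ : ShortComplex (FilF A) := ShortComplex.mk (coneδ φ m) (coneδ φ (m + 1)) hδδ
    let e : (mappingCone φ).sc' m (m + 1) (m + 1 + 1) ≅ S₂ :=
      ShortComplex.isoMk (coneIso φ m) (coneIso φ (m + 1)) (coneIso φ (m + 1 + 1))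
        (coneIso_comm φ m).symm (coneIso_comm φ (m + 1)).symm
    have key : ∀ ⦃T : A⦄ (y : T ⟶ (grF A p).obj (K.X (m + 1 + 1) ⊞ (s (m + 1)).I)),
        y ≫ (grF A p).map (coneδ φ (m + 1)) = 0 →
        ∃ (T' : A) (π : T' ⟶ T) (_ : Epi π) (x : T' ⟶ (grF A p).obj (K.X (m + 1) ⊞ (s m).I)),
          π ≫ y = x ≫ (grF A p).map (coneδ φ m) := by
      intro T y hy'
      rw [hδ, Stage.δ, Functor.map_comp, ← Category.assoc] at hy'
      have hm_gr : GrMono (biprod.lift (s (m + 1)).r (ψ (m + 1))) :=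
        GrMono.of_fac (g := biprod.snd) (h := ψ (m + 1)) (hψ (m + 1)).grψ (biprod.lift_snd _ _)
      have h0 := hm_gr.cancel p _ hy'
      obtain ⟨T', π, hπ, x, hx⟩ := gr_rightExact (hψ m).exact (hQ (m + 1)).epi p y h0
      refine ⟨T', π, hπ, x, ?_⟩
      rw [hδ]
      exact hx
    have hex : (S₂.map (grF A p)).Exact := by
      rw [ShortComplex.exact_iff_exact_up_to_refinements]
      exact key
    exact (ShortComplex.exact_iff_of_iso ((grF A p).mapShortComplex.mapIso e)).2 hex
  · intro n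
    obtain ⟨h1, h2⟩ := strict_mono_of_gr_mono (s n).φ (hQ n).grφ
    exact ⟨mono_of_mono_app _ h2, (isStrict_iff _).2 h1.strictR⟩

end assembly

end Groth.Agent.Lib27.FilDLib
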