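import Groth.Agent.Lib27.FilD10
import Mathlib.Algebra.Homology.Refinements

/-!
# Quotient complexes of complexes of finite filtered objects, truncation from below
-/

universe v u
open CategoryTheory CategoryTheory.Limits Opposite

namespace Groth.Agent.Lib27.FilDLib

open FilD ZeroObject

variable {A : Type u} [Category.{v} A] [Abelian A]

section abstract

variable {G H : CochainComplex A ℤ} (γ : G ⟶ H)

/-- criterion for a degreewise epimorphism to be a quasi-isomorphism in one degree -/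
lemma quasiIsoAt_of_epi (m : ℤ) [Epi (γ.f m)] [Epi (γ.f (m + 1))] [Mono (γ.f (m + 1 + 1))]
    (hker : ∀ ⦃T : A⦄ (x : T ⟶ G.X (m + 1)), x ≫ γ.f (m + 1) = 0 →
      ∃ (T' : A) (π : T' ⟶ T) (_ : Epi π) (x₁ : T' ⟶ G.X m), π ≫ x = x₁ ≫ G.d m (m + 1)) :
    QuasiIsoAt γ (m + 1) := by
  rw [quasiIsoAt_iff_isIso_homologyMap]
  have hm : Mono (HomologicalComplex.homologyMap γ (m + 1)) := by
    rw [HomologicalComplex.mono_homologyMap_iff_up_to_refinements γ m (m + 1) (m + 1 + 1)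
      (by simp) (by simp)]
    intro T x₂ hx₂ y₁ hy₁
    obtain ⟨T₁, π₁, _, y₁', hy₁'⟩ := surjective_up_to_refinements_of_epi (γ.f m) y₁
    have h0 : (π₁ ≫ x₂ - y₁' ≫ G.d m (m + 1)) ≫ γ.f (m + 1) = 0 := by
      rw [Preadditive.sub_comp, Category.assoc, Category.assoc, hy₁, ← γ.comm, reassoc_of% hy₁',
        sub_self]
    obtain ⟨T₂, π₂, _, x₁, hx₁⟩ := hker _ h0
    refine ⟨T₂, π₂ ≫ π₁, epi_comp _ _, x₁ + π₂ ≫ y₁', ?_⟩
    rw [Preadditive.add_comp, ← hx₁, Preadditive.comp_sub]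
    simp
  have he : Epi (HomologicalComplex.homologyMap γ (m + 1)) := by
    rw [HomologicalComplex.epi_homologyMap_iff_up_to_refinements γ m (m + 1) (m + 1 + 1)
      (by simp) (by simp)]
    intro T y₂ hy₂
    obtain ⟨T₁, π₁, _, x₂, hx₂⟩ := surjective_up_to_refinements_of_epi (γ.f (m + 1)) y₂
    refine ⟨T₁, π₁, inferInstance, x₂, ?_, 0, ?_⟩
    · rw [← cancel_mono (γ.f (m + 1 + 1)), Category.assoc, ← γ.comm, ← reassoc_of% hx₂, hy₂,
        comp_zero, zero_comp]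
    · rw [zero_comp, add_zero, hx₂]
  exact isIso_of_mono_of_epi _

end abstract

section cokerMore

variable {X Y : FilF A} (δ : X ⟶ Y) (hδ : StrictStep δ.hom)

lemma comp_cokerπ_of_fac {T : FilF A} (f : T ⟶ Y) (v : T ⟶ X) (hf : f = v ≫ δ) :
    f ≫ cokerπ δ hδ = 0 := by
  rw [hf, Category.assoc, comp_cokerπ, comp_zero]

lemma cokerπ_level_epi (p : ℤ) : Epi ((cokerπ δ hδ).hom.app (op p)) :=
  cokernel_level_epi δ (op p)

lemma isZero_cokerObj_of_section (σ : Y ⟶ X) (hσ : σ ≫ δ = 𝟙 Y) : IsZero (cokerObj δ hδ) := by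
  rw [IsZero.iff_id_eq_zero]
  apply cancel_level_epi (cokerπ δ hδ) (cokerπ_level_epi δ hδ)
  rw [Category.comp_id, comp_zero]
  have := comp_cokerπ_of_fac δ hδ _ σ hσ.symm
  rwa [Category.id_comp] at this

lemma gr_epi_of_level_epi (q : X ⟶ Y) (hq : ∀ p : ℤ, Epi (q.hom.app (op p))) (p : ℤ) :
    Epi ((grF A p).map q) := by
  have := hq p
  have h : grπ X.obj p ≫ (gr A p).map q.hom = q.hom.app (op p) ≫ grπ Y.obj p :=
    grπ_naturality p q.hom
  have : Epi (grπ X.obj p ≫ (gr A p).map q.hom) := by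
    rw [h]
    exact epi_comp _ _
  exact epi_of_epi (grπ X.obj p) ((gr A p).map q.hom)

lemma gr_cokerπ_epi (p : ℤ) : Epi ((grF A p).map (cokerπ δ hδ)) :=
  gr_epi_of_level_epi _ (cokerπ_level_epi δ hδ) p

lemma gr_cokerπ_exact (p : ℤ) ⦃T : A⦄ (x : T ⟶ (grF A p).obj Y)
    (hx : x ≫ (grF A p).map (cokerπ δ hδ) = 0) :
    ∃ (T' : A) (π : T' ⟶ T) (_ : Epi π) (z : T' ⟶ (grF A p).obj X),
      π ≫ x = z ≫ (grF A p).map δ :=
  gr_rightExact (levelExact_cokernel δ) (fun p => cokernel_level_epi δ (op p)) p x hx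

lemma gr_cokerπ_mono_of_zero (h : δ = 0) (p : ℤ) : Mono ((grF A p).map (cokerπ δ hδ)) := by
  apply Preadditive.mono_of_cancel_zero
  intro T x hx
  obtain ⟨T', π, _, z, hz⟩ := gr_cokerπ_exact δ hδ p x hx
  rw [h, Functor.map_zero, comp_zero] at hz
  rw [← cancel_epi π, hz, comp_zero]

lemma strictStep_of_section (σ : Y ⟶ X) (hσ : σ ≫ δ = 𝟙 Y) : StrictStep δ.hom := by
  intro p T y x _
  refine ⟨T, 𝟙 _, inferInstance, y ≫ σ.hom.app (op (p + 1)), ?_⟩
  have h := app_congr hσ (op (p + 1))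
  rw [comp_hom_app] at h
  rw [Category.id_comp, Category.assoc, h]
  simp

lemma strictStep_zero : StrictStep (0 : X ⟶ Y).hom := by
  intro p T y x hyx
  have : Mono (Y.obj.map (stepHom p)) := Y.property.1 _
  have hy : y = 0 := by
    rw [← cancel_mono (Y.obj.map (stepHom p)), hyx, zero_comp]
    show x ≫ (0 : X.obj ⟶ Y.obj).app (op p) = 0
    simp
  refine ⟨T, 𝟙 _, inferInstance, 0, ?_⟩
  rw [hy, comp_zero, zero_comp]

end cokerMore

section quotCx

variable (K : CochainComplex (FilF A) ℤ) {Z : ℤ → FilF A} (δ : ∀ n, Z n ⟶ K.X n)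
  (hδ : ∀ n, StrictStep (δ n).hom)
  (h2 : ∀ n, δ n ≫ K.d n (n + 1) ≫ cokerπ (δ (n + 1)) (hδ (n + 1)) = 0)

/-- the differential of the quotient complex -/
noncomputable def quotD (n : ℤ) : cokerObj (δ n) (hδ n) ⟶ cokerObj (δ (n + 1)) (hδ (n + 1)) :=
  cokerDesc (δ n) (hδ n) (K.d n (n + 1) ≫ cokerπ (δ (n + 1)) (hδ (n + 1))) (h2 n)

@[reassoc]
lemma π_quotD (n : ℤ) : cokerπ (δ n) (hδ n) ≫ quotD K δ hδ h2 n =
    K.d n (n + 1) ≫ cokerπ (δ (n + 1)) (hδ (n + 1)) :=
  cokerπ_desc _ _ _ _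

lemma quotD_comp (n : ℤ) : quotD K δ hδ h2 n ≫ quotD K δ hδ h2 (n + 1) = 0 := by
  apply cancel_level_epi (cokerπ (δ n) (hδ n)) (cokerπ_level_epi _ _)
  rw [π_quotD_assoc, π_quotD, K.d_comp_d_assoc, zero_comp, comp_zero]

/-- the quotient complex -/
noncomputable def quotCx : CochainComplex (FilF A) ℤ :=
  CochainComplex.of (fun n => cokerObj (δ n) (hδ n)) (quotD K δ hδ h2) (quotD_comp K δ hδ h2)

lemma quotCx_d (n : ℤ) : (quotCx K δ hδ h2).d n (n + 1) = quotD K δ hδ h2 n :=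
  CochainComplex.of_d (fun n => cokerObj (δ n) (hδ n)) (quotD K δ hδ h2) n

/-- the projection to the quotient complex -/
noncomputable def quotπ : K ⟶ quotCx K δ hδ h2 where
  f n := cokerπ (δ n) (hδ n)
  comm' i j hij := by
    obtain rfl : i + 1 = j := hij
    rw [quotCx_d]
    exact π_quotD K δ hδ h2 i

lemma quotπ_quasiIsoAt (p m : ℤ) (h0 : δ (m + 1 + 1) = 0) (u : Z (m + 1) ⟶ K.X m)
    (hu : δ (m + 1) = u ≫ K.d m (m + 1)) :
    QuasiIsoAt ((grCx p).map (quotπ K δ hδ h2)) (m + 1) := by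
  have i1 : Epi (((grCx p).map (quotπ K δ hδ h2)).f m) := gr_cokerπ_epi (δ m) (hδ m) p
  have i2 : Epi (((grCx p).map (quotπ K δ hδ h2)).f (m + 1)) :=
    gr_cokerπ_epi (δ (m + 1)) (hδ (m + 1)) p
  have i3 : Mono (((grCx p).map (quotπ K δ hδ h2)).f (m + 1 + 1)) :=
    gr_cokerπ_mono_of_zero (δ (m + 1 + 1)) (hδ (m + 1 + 1)) h0 p
  apply quasiIsoAt_of_epi
  intro T x hx
  change T ⟶ (grF A p).obj (K.X (m + 1)) at x
  have hx' : x ≫ (grF A p).map (cokerπ (δ (m + 1)) (hδ (m + 1))) = 0 := hx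
  obtain ⟨T', π, hπ, z, hz⟩ := gr_cokerπ_exact (δ (m + 1)) (hδ (m + 1)) p x hx'
  refine ⟨T', π, hπ, z ≫ (grF A p).map u, ?_⟩
  have key : π ≫ x = (z ≫ (grF A p).map u) ≫ (grF A p).map (K.d m (m + 1)) := by
    rw [hz, hu, Functor.map_comp, Category.assoc]
  exact key

end quotCx

section truncGE

lemma level_epi_of_section {X Y : FilF A} (q : X ⟶ Y) (σ : Y ⟶ X) (h : σ ≫ q = 𝟙 Y) (p : ℤ) :
    Epi (q.hom.app (op p)) := by
  have h' := app_congr h (op p)
  rw [comp_hom_app, ObjectProperty.FullSubcategory.id_hom, NatTrans.id_app] at h'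
  exact epi_of_epi_fac h'

variable (K : CochainComplex (FilF A) ℤ) (a : ℤ)

lemma d_fac (i j : ℤ) (hij : i + 1 = j) :
    ∃ v : K.X i ⟶ K.X (j - 1) ⊞ K.X j, K.d i j = v ≫ biprod.fst ≫ K.d (j - 1) j := by
  obtain rfl : i = j - 1 := by omega
  exact ⟨biprod.inl, by simp⟩

lemma d_fac' (i j : ℤ) (hij : i + 1 = j) :
    ∃ u : K.X (j - 1) ⊞ K.X j ⟶ K.X i, biprod.fst ≫ K.d (j - 1) j = u ≫ K.d i j := by
  obtain rfl : i = j - 1 := by omega
  exact ⟨biprod.fst, rfl⟩

/-- the family of maps whose cokernels give the truncation -/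
noncomputable def tδ (n : ℤ) : K.X (n - 1) ⊞ K.X n ⟶ K.X n :=
  if n < a then biprod.snd else if n = a then biprod.fst ≫ K.d (n - 1) n else 0

lemma tδ_lt {n : ℤ} (h : n < a) : tδ K a n = biprod.snd := if_pos h

lemma tδ_eq {n : ℤ} (h : n = a) : tδ K a n = biprod.fst ≫ K.d (n - 1) n := by
  rw [tδ, if_neg (by omega), if_pos h]

lemma tδ_gt {n : ℤ} (h : a < n) : tδ K a n = 0 := by
  rw [tδ, if_neg (by omega), if_neg (by omega)]

variable (hK : ∀ (p n : ℤ), n < a → IsZero (((grCx p).obj K).homology n))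
include hK

lemma strictStep_d_of_exact (n : ℤ) (hn : n - 1 < a) : StrictStep (K.d (n - 1) n).hom := by
  refine strictStep_g_of_exact (K.sc' (n - 1 - 1) (n - 1) n) (fun p => ?_)
  have h1 : ((grCx p).obj K).ExactAt (n - 1) := by
    rw [HomologicalComplex.exactAt_iff_isZero_homology]
    exact hK p (n - 1) hn
  rw [HomologicalComplex.exactAt_iff' _ (n - 1 - 1) (n - 1) n (by simp) (by simp)] at h1
  exact h1

lemma tδ_strict (n : ℤ) : StrictStep (tδ K a n).hom := by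
  rcases lt_trichotomy n a with h | h | h
  · rw [tδ_lt K a h]
    exact strictStep_of_section _ biprod.inr biprod.inr_snd
  · rw [tδ_eq K a h]
    exact strictStep_comp_of_epi biprod.fst _
      (level_epi_of_section _ biprod.inl biprod.inl_fst)
      (strictStep_d_of_exact K a hK n (by omega))
  · rw [tδ_gt K a h]
    exact strictStep_zero

lemma tδ_h2 (n : ℤ) : tδ K a n ≫ K.d n (n + 1) ≫
    cokerπ (tδ K a (n + 1)) (tδ_strict K a hK (n + 1)) = 0 := by
  rcases lt_trichotomy (n + 1) a with h | h | h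
  · have : K.d n (n + 1) ≫ cokerπ (tδ K a (n + 1)) (tδ_strict K a hK (n + 1)) = 0 :=
      comp_cokerπ_of_fac _ _ _ (K.d n (n + 1) ≫ biprod.inr) (by
        rw [tδ_lt K a h, Category.assoc, biprod.inr_snd, Category.comp_id])
    rw [this, comp_zero]
  · obtain ⟨v, hv⟩ := d_fac K n (n + 1) rfl
    have : K.d n (n + 1) ≫ cokerπ (tδ K a (n + 1)) (tδ_strict K a hK (n + 1)) = 0 :=
      comp_cokerπ_of_fac _ _ _ v (by rw [tδ_eq K a h]; exact hv)
    rw [this, comp_zero]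
  · have : tδ K a n ≫ K.d n (n + 1) = 0 := by
      rcases (show n = a ∨ a < n by omega) with h' | h'
      · rw [tδ_eq K a h', Category.assoc, K.d_comp_d, comp_zero]
      · rw [tδ_gt K a h', zero_comp]
    rw [reassoc_of% this, zero_comp]

theorem exists_truncGE : ∃ (L : CochainComplex (FilF A) ℤ) (φ : K ⟶ L),
    L.IsStrictlyGE a ∧ IsFilteredQuasiIso φ := by
  refine ⟨quotCx K (tδ K a) (tδ_strict K a hK) (tδ_h2 K a hK), quotπ _ _ _ _, ?_, ?_⟩
  · rw [CochainComplex.isStrictlyGE_iff]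
    intro i hi
    exact isZero_cokerObj_of_section (tδ K a i) (tδ_strict K a hK i) biprod.inr
      (by rw [tδ_lt K a hi, biprod.inr_snd])
  · intro p
    rw [quasiIso_iff]
    intro n
    by_cases hn : n < a
    · have h1 : ((grCx p).obj K).ExactAt n := by
        rw [HomologicalComplex.exactAt_iff_isZero_homology]
        exact hK p n hn
      rw [quasiIsoAt_iff_exactAt _ _ h1, HomologicalComplex.exactAt_iff]
      apply ShortComplex.exact_of_isZero_X₂
      exact Functor.map_isZero (grF A p) (isZero_cokerObj_of_section (tδ K a n)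
        (tδ_strict K a hK n) biprod.inr (by rw [tδ_lt K a hn, biprod.inr_snd]))
    · obtain ⟨m, rfl⟩ : ∃ m, n = m + 1 := ⟨n - 1, by omega⟩
      have h0 : tδ K a (m + 1 + 1) = 0 := tδ_gt K a (by omega)
      obtain ⟨u, hu⟩ : ∃ u : K.X (m + 1 - 1) ⊞ K.X (m + 1) ⟶ K.X m,
          tδ K a (m + 1) = u ≫ K.d m (m + 1) := by
        rcases (show m + 1 = a ∨ a < m + 1 by omega) with h' | h'
        · rw [tδ_eq K a h']
          exact d_fac' K m (m + 1) rfl
        · exact ⟨0, by rw [tδ_gt K a h', zero_comp]⟩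
      exact quotπ_quasiIsoAt K _ _ _ p m h0 u hu

end truncGE

end Groth.Agent.Lib27.FilDLib
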