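import Groth.Agent.Lib27.FilD11

/-!
# Subcomplexes of complexes of finite filtered objects, truncation from above
-/

universe v u
open CategoryTheory CategoryTheory.Limits Opposite

namespace Groth.Agent.Lib27.FilDLib

open FilD ZeroObject

variable {A : Type u} [Category.{v} A] [Abelian A]

section abstract

variable {G H : CochainComplex A ℤ} (γ : G ⟶ H)

/-- criterion for a degreewise monomorphism to be a quasi-isomorphism in one degree -/
lemma quasiIsoAt_of_mono (m : ℤ) [Epi (γ.f m)] [Mono (γ.f (m + 1))] [Mono (γ.f (m + 1 + 1))]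
    (hcyc : ∀ ⦃T : A⦄ (y : T ⟶ H.X (m + 1)), y ≫ H.d (m + 1) (m + 1 + 1) = 0 →
      ∃ (T' : A) (π : T' ⟶ T) (_ : Epi π) (x : T' ⟶ G.X (m + 1)), π ≫ y = x ≫ γ.f (m + 1)) :
    QuasiIsoAt γ (m + 1) := by
  rw [quasiIsoAt_iff_isIso_homologyMap]
  have hm : Mono (HomologicalComplex.homologyMap γ (m + 1)) := by
    rw [HomologicalComplex.mono_homologyMap_iff_up_to_refinements γ m (m + 1) (m + 1 + 1)
      (by simp) (by simp)]
    intro T x₂ hx₂ y₁ hy₁
    obtain ⟨T₁, π₁, _, x₁, hx₁⟩ := surjective_up_to_refinements_of_epi (γ.f m) y₁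
    refine ⟨T₁, π₁, inferInstance, x₁, ?_⟩
    rw [← cancel_mono (γ.f (m + 1)), Category.assoc, Category.assoc, hy₁, ← γ.comm,
      reassoc_of% hx₁]
  have he : Epi (HomologicalComplex.homologyMap γ (m + 1)) := by
    rw [HomologicalComplex.epi_homologyMap_iff_up_to_refinements γ m (m + 1) (m + 1 + 1)
      (by simp) (by simp)]
    intro T y₂ hy₂
    obtain ⟨T₁, π₁, hπ₁, x₂, hx₂⟩ := hcyc y₂ hy₂
    refine ⟨T₁, π₁, hπ₁, x₂, ?_, 0, ?_⟩
    · rw [← cancel_mono (γ.f (m + 1 + 1)), Category.assoc, ← γ.comm, ← reassoc_of% hx₂, hy₂,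
        comp_zero, zero_comp]
    · rw [zero_comp, add_zero, hx₂]
  exact isIso_of_mono_of_epi _

end abstract

section kerMore

variable {X Y : FilF A} (ε : X ⟶ Y)

/-- lift to the kernel object -/
noncomputable def kerLiftF {T : FilF A} (f : T ⟶ X) (hf : f ≫ ε = 0) : T ⟶ kerObj ε :=
  (IsFinFil A).homMk (kernel.lift ε.hom f.hom (congrArg (fun φ => φ.hom) hf))

@[reassoc (attr := simp)]
lemma kerLiftF_ι {T : FilF A} (f : T ⟶ X) (hf : f ≫ ε = 0) : kerLiftF ε f hf ≫ kerι ε = f := by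
  apply ObjectProperty.hom_ext
  exact kernel.lift_ι _ _ _

instance kernel_ι_app_mono (p : ℤᵒᵖ) : Mono ((kernel.ι ε.hom).app p) :=
  (NatTrans.mono_iff_mono_app _).1 inferInstance p

instance kerι_mono : Mono (kerι ε) :=
  mono_of_mono_app _ (fun p => by rw [kerι_hom]; exact kernel_ι_app_mono ε (op p))

lemma kerι_comp_of_fac {T : FilF A} (g : X ⟶ T) (w : Y ⟶ T) (hg : g = ε ≫ w) :
    kerι ε ≫ g = 0 := by
  rw [hg, kerι_comp_assoc, zero_comp]

lemma isZero_kerObj_of_retraction (ρ : Y ⟶ X) (h : ε ≫ ρ = 𝟙 X) : IsZero (kerObj ε) := by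
  rw [IsZero.iff_id_eq_zero, ← cancel_mono (kerι ε), zero_comp, Category.id_comp]
  have := kerι_comp_of_fac ε (𝟙 X) ρ h.symm
  rwa [Category.comp_id] at this

lemma gr_kernel_ι_mono (p : ℤ) : Mono ((gr A p).map (kernel.ι ε.hom)) := by
  apply Preadditive.mono_of_cancel_zero
  intro T x hx0
  obtain ⟨T₁, π₁, _, x', hx'⟩ := gr_lift x
  have h1 : (x' ≫ (kernel.ι ε.hom).app (op p)) ≫ grπ X.obj p = 0 := by
    rw [Category.assoc, ← grπ_naturality, ← reassoc_of% hx', hx0, comp_zero]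
  obtain ⟨T₂, π₂, _, w, hw⟩ := gr_ker _ h1
  have hY : Mono (Y.obj.map (stepHom p)) := Y.property.1 _
  have h2 : w ≫ ε.hom.app (op (p + 1)) = 0 := by
    rw [← cancel_mono (Y.obj.map (stepHom p)), Category.assoc, ← ε.hom.naturality,
      ← reassoc_of% hw, kernel_ι_app_comp, comp_zero, comp_zero, zero_comp]
  have h3 : π₂ ≫ x' = kerLift ε w h2 ≫ (kernel ε.hom).map (stepHom p) := by
    rw [← cancel_mono ((kernel.ι ε.hom).app (op p)), Category.assoc, Category.assoc, hw,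
      (kernel.ι ε.hom).naturality, kerLift_ι_assoc]
  rw [← cancel_epi π₁, ← cancel_epi π₂, hx', reassoc_of% h3, step_grπ, comp_zero, comp_zero,
    comp_zero]

lemma gr_kerι_mono (p : ℤ) : Mono ((grF A p).map (kerι ε)) := gr_kernel_ι_mono ε p

lemma gr_kerι_epi_of_zero (h : ε = 0) (p : ℤ) : Epi ((grF A p).map (kerι ε)) := by
  have h1 : kerLiftF ε (𝟙 X) (by rw [h, comp_zero]) ≫ kerι ε = 𝟙 X := kerLiftF_ι _ _ _
  have h2 : (grF A p).map (kerLiftF ε (𝟙 X) (by rw [h, comp_zero])) ≫ (grF A p).map (kerι ε) =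
      𝟙 _ := by
    rw [← Functor.map_comp, h1, CategoryTheory.Functor.map_id]
  exact epi_of_epi_fac h2

lemma gr_kerι_exact (hε : StrictStep ε.hom) (p : ℤ) ⦃T : A⦄ (y : T ⟶ (grF A p).obj X)
    (hy : y ≫ (grF A p).map ε = 0) :
    ∃ (T' : A) (π : T' ⟶ T) (_ : Epi π) (x : T' ⟶ (grF A p).obj (kerObj ε)),
      π ≫ y = x ≫ (grF A p).map (kerι ε) :=
  grExact_kernel_of_strict ε hε p y hy

lemma strictStep_of_retraction (ρ : Y ⟶ X) (h : ε ≫ ρ = 𝟙 X) :
    StrictStep ε.hom ∧ ∀ p : ℤ, Mono (ε.hom.app (op p)) := by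
  refine strict_mono_of_gr_mono ε (fun p => ?_)
  have h2 : (grF A p).map ε ≫ (grF A p).map ρ = 𝟙 _ := by
    rw [← Functor.map_comp, h, CategoryTheory.Functor.map_id]
  exact mono_of_mono_fac h2

lemma strictStep_comp_of_mono {Z : FilF A} (f : X ⟶ Y) (m : Y ⟶ Z) (hf : StrictStep f.hom)
    (hm : StrictStep m.hom) (hmono : ∀ p : ℤ, Mono (m.hom.app (op p))) :
    StrictStep (f ≫ m).hom := by
  intro p T y x hyx
  obtain ⟨T₁, π₁, _, y', hy'⟩ := hm p y (x ≫ f.hom.app (op p)) (by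
    rw [hyx, Category.assoc]; rfl)
  have := hmono p
  have h1 : y' ≫ Y.obj.map (stepHom p) = (π₁ ≫ x) ≫ f.hom.app (op p) := by
    rw [← cancel_mono (m.hom.app (op p)), Category.assoc, m.hom.naturality, ← reassoc_of% hy',
      hyx, Category.assoc, Category.assoc]
    rfl
  obtain ⟨T₂, π₂, _, x', hx'⟩ := hf p y' (π₁ ≫ x) h1
  refine ⟨T₂, π₂ ≫ π₁, epi_comp _ _, x', ?_⟩
  rw [Category.assoc, hy', reassoc_of% hx']
  rfl

end kerMore

section subCx

variable (K : CochainComplex (FilF A) ℤ) {Y : ℤ → FilF A} (ε : ∀ n, K.X n ⟶ Y n)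
  (h2 : ∀ n, kerι (ε n) ≫ K.d n (n + 1) ≫ ε (n + 1) = 0)

/-- the differential of the subcomplex -/
noncomputable def subD (n : ℤ) : kerObj (ε n) ⟶ kerObj (ε (n + 1)) :=
  kerLiftF (ε (n + 1)) (kerι (ε n) ≫ K.d n (n + 1)) (by rw [Category.assoc]; exact h2 n)

@[reassoc]
lemma subD_ι (n : ℤ) : subD K ε h2 n ≫ kerι (ε (n + 1)) = kerι (ε n) ≫ K.d n (n + 1) :=
  kerLiftF_ι _ _ _

lemma subD_comp (n : ℤ) : subD K ε h2 n ≫ subD K ε h2 (n + 1) = 0 := by
  rw [← cancel_mono (kerι (ε (n + 1 + 1))), Category.assoc, subD_ι, subD_ι_assoc, K.d_comp_d,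
    comp_zero, zero_comp]

/-- the subcomplex -/
noncomputable def subCx : CochainComplex (FilF A) ℤ :=
  CochainComplex.of (fun n => kerObj (ε n)) (subD K ε h2) (subD_comp K ε h2)

lemma subCx_d (n : ℤ) : (subCx K ε h2).d n (n + 1) = subD K ε h2 n :=
  CochainComplex.of_d (fun n => kerObj (ε n)) (subD K ε h2) n

/-- the inclusion of the subcomplex -/
noncomputable def subι : subCx K ε h2 ⟶ K where
  f n := kerι (ε n)
  comm' i j hij := by
    obtain rfl : i + 1 = j := hij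
    rw [subCx_d]
    exact (subD_ι K ε h2 i).symm

lemma subι_quasiIsoAt (hε : ∀ n, StrictStep (ε n).hom) (p m : ℤ) (h0 : ε m = 0)
    (w : K.X (m + 1 + 1) ⟶ Y (m + 1)) (hw : ε (m + 1) = K.d (m + 1) (m + 1 + 1) ≫ w) :
    QuasiIsoAt ((grCx p).map (subι K ε h2)) (m + 1) := by
  have i1 : Epi (((grCx p).map (subι K ε h2)).f m) := gr_kerι_epi_of_zero (ε m) h0 p
  have i2 : Mono (((grCx p).map (subι K ε h2)).f (m + 1)) := gr_kerι_mono (ε (m + 1)) p
  have i3 : Mono (((grCx p).map (subι K ε h2)).f (m + 1 + 1)) := gr_kerι_mono (ε (m + 1 + 1)) p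
  apply quasiIsoAt_of_mono
  intro T y hy
  have key : ∀ (y : T ⟶ (grF A p).obj (K.X (m + 1))),
      y ≫ (grF A p).map (K.d (m + 1) (m + 1 + 1)) = 0 →
      ∃ (T' : A) (π : T' ⟶ T) (_ : Epi π) (x : T' ⟶ (grF A p).obj (kerObj (ε (m + 1)))),
        π ≫ y = x ≫ (grF A p).map (kerι (ε (m + 1))) := by
    intro y hy
    apply gr_kerι_exact (ε (m + 1)) (hε (m + 1)) p y
    rw [hw, Functor.map_comp, ← Category.assoc, hy, zero_comp]
  exact key y hy

end subCx

section truncLE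

variable (K : CochainComplex (FilF A) ℤ) (b : ℤ)

/-- the family of maps whose kernels give the truncation -/
noncomputable def tε (n : ℤ) : K.X n ⟶ K.X (n + 1) ⊞ K.X n :=
  if b < n then biprod.inr else if n = b then K.d n (n + 1) ≫ biprod.inl else 0

lemma tε_gt {n : ℤ} (h : b < n) : tε K b n = biprod.inr := if_pos h

lemma tε_eq {n : ℤ} (h : n = b) : tε K b n = K.d n (n + 1) ≫ biprod.inl := by
  rw [tε, if_neg (by omega), if_pos h]

lemma tε_lt {n : ℤ} (h : n < b) : tε K b n = 0 := by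
  rw [tε, if_neg (by omega), if_neg (by omega)]

lemma tε_h2 (n : ℤ) : kerι (tε K b n) ≫ K.d n (n + 1) ≫ tε K b (n + 1) = 0 := by
  rcases lt_trichotomy (n + 1) b with h | h | h
  · rw [tε_lt K b h, comp_zero, comp_zero]
  · rw [tε_eq K b h, K.d_comp_d_assoc, zero_comp, comp_zero]
  · have : kerι (tε K b n) ≫ K.d n (n + 1) = 0 := by
      rcases (show n = b ∨ b < n by omega) with h' | h'
      · exact kerι_comp_of_fac _ _ biprod.fst (by
          rw [tε_eq K b h', Category.assoc, biprod.inl_fst, Category.comp_id])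
      · exact kerι_comp_of_fac _ _ (biprod.snd ≫ K.d n (n + 1)) (by
          rw [tε_gt K b h', biprod.inr_snd_assoc])
    rw [reassoc_of% this, zero_comp]

variable (hK : ∀ (p n : ℤ), b < n → IsZero (((grCx p).obj K).homology n))
include hK

lemma strictStep_d_of_exact' (n : ℤ) (hn : b < n + 1) : StrictStep (K.d n (n + 1)).hom := by
  refine strictStep_f_of_exact (K.sc' n (n + 1) (n + 1 + 1)) (fun p => ?_)
  have h1 : ((grCx p).obj K).ExactAt (n + 1) := by
    rw [HomologicalComplex.exactAt_iff_isZero_homology]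
    exact hK p (n + 1) hn
  rw [HomologicalComplex.exactAt_iff' _ n (n + 1) (n + 1 + 1) (by simp) (by simp)] at h1
  exact h1

lemma tε_strict (n : ℤ) : StrictStep (tε K b n).hom := by
  rcases lt_trichotomy n b with h | h | h
  · rw [tε_lt K b h]
    exact strictStep_zero
  · rw [tε_eq K b h]
    obtain ⟨h1, h2⟩ := strictStep_of_retraction (biprod.inl : K.X (n + 1) ⟶ K.X (n + 1) ⊞ K.X n)
      biprod.fst biprod.inl_fst
    exact strictStep_comp_of_mono _ _ (strictStep_d_of_exact' K b hK n (by omega)) h1 h2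
  · rw [tε_gt K b h]
    exact (strictStep_of_retraction (biprod.inr : K.X n ⟶ K.X (n + 1) ⊞ K.X n)
      biprod.snd biprod.inr_snd).1

theorem exists_truncLE : ∃ (M : CochainComplex (FilF A) ℤ) (φ : M ⟶ K),
    M.IsStrictlyLE b ∧ IsFilteredQuasiIso φ := by
  refine ⟨subCx K (tε K b) (tε_h2 K b), subι _ _ _, ?_, ?_⟩
  · rw [CochainComplex.isStrictlyLE_iff]
    intro i hi
    exact isZero_kerObj_of_retraction (tε K b i) biprod.snd
      (by rw [tε_gt K b hi, biprod.inr_snd])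
  · intro p
    rw [quasiIso_iff]
    intro n
    by_cases hn : b < n
    · have h1 : ((grCx p).obj K).ExactAt n := by
        rw [HomologicalComplex.exactAt_iff_isZero_homology]
        exact hK p n hn
      rw [quasiIsoAt_iff_exactAt' _ _ h1, HomologicalComplex.exactAt_iff]
      apply ShortComplex.exact_of_isZero_X₂
      exact Functor.map_isZero (grF A p) (isZero_kerObj_of_retraction (tε K b n) biprod.snd
        (by rw [tε_gt K b hn, biprod.inr_snd]))
    · obtain ⟨m, rfl⟩ : ∃ m, n = m + 1 := ⟨n - 1, by omega⟩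
      have h0 : tε K b m = 0 := tε_lt K b (by omega)
      obtain ⟨w, hw⟩ : ∃ w : K.X (m + 1 + 1) ⟶ K.X (m + 1 + 1) ⊞ K.X (m + 1),
          tε K b (m + 1) = K.d (m + 1) (m + 1 + 1) ≫ w := by
        rcases (show m + 1 = b ∨ m + 1 < b by omega) with h' | h'
        · exact ⟨biprod.inl, tε_eq K b h'⟩
        · exact ⟨0, by rw [tε_lt K b h', comp_zero]⟩
      exact subι_quasiIsoAt K _ _ (tε_strict K b hK) p m h0 w hw

end truncLE

end Groth.Agent.Lib27.FilDLib
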