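import Groth.Agent.Lib27.FilD1

/-!
# Finite filtered objects: graded exactness implies levelwise exactness and strictness
-/

universe v u
open CategoryTheory CategoryTheory.Limits Opposite

namespace Groth.Agent.Lib27.FilDLib

open FilD

variable {A : Type u} [Category.{v} A] [Abelian A]

section chase

variable {F G H : ℤᵒᵖ ⥤ A} (f : F ⟶ G) (g : G ⟶ H)

/-- Levelwise exactness (in refinement form) at level `p`. -/
def LevelExact (p : ℤ) : Prop :=
  ∀ ⦃T : A⦄ (y : T ⟶ G.obj (op p)), y ≫ g.app (op p) = 0 →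
    ∃ (T' : A) (π : T' ⟶ T) (_ : Epi π) (x : T' ⟶ F.obj (op p)), π ≫ y = x ≫ f.app (op p)

/-- Exactness of the graded pieces (in refinement form) at level `p`. -/
def GrExact (p : ℤ) : Prop :=
  ∀ ⦃T : A⦄ (y : T ⟶ (gr A p).obj G), y ≫ (gr A p).map g = 0 →
    ∃ (T' : A) (π : T' ⟶ T) (_ : Epi π) (x : T' ⟶ (gr A p).obj F), π ≫ y = x ≫ (gr A p).map f

variable {f g}

lemma gr_chase {p : ℤ} (hgr : GrExact f g p) {T : A} (y : T ⟶ G.obj (op p))
    (hy : y ≫ g.app (op p) ≫ grπ H p = 0) :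
    ∃ (T' : A) (π : T' ⟶ T) (_ : Epi π) (x : T' ⟶ F.obj (op p)) (y' : T' ⟶ G.obj (op (p + 1))),
      π ≫ y = x ≫ f.app (op p) + y' ≫ G.map (stepHom p) := by
  have h0 : (y ≫ grπ G p) ≫ (gr A p).map g = 0 := by
    rw [Category.assoc, grπ_naturality, hy]
  obtain ⟨T₁, π₁, _, xb, hxb⟩ := hgr _ h0
  obtain ⟨T₂, π₂, _, x, hx⟩ := gr_lift xb
  have h2 : (π₂ ≫ π₁ ≫ y - x ≫ f.app (op p)) ≫ grπ G p = 0 := by
    rw [Preadditive.sub_comp, Category.assoc, Category.assoc, Category.assoc, hxb,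
      ← grπ_naturality, reassoc_of% hx, sub_self]
  obtain ⟨T₃, π₃, _, y', hy'⟩ := gr_ker _ h2
  refine ⟨T₃, π₃ ≫ π₂ ≫ π₁, epi_comp _ _, π₃ ≫ x, y', ?_⟩
  rw [← hy', Preadditive.comp_sub]
  simp only [Category.assoc]
  abel

lemma levelExact_step (w : f ≫ g = 0) {p : ℤ} [Mono (H.map (stepHom p))] (hgr : GrExact f g p)
    (h1 : LevelExact f g (p + 1)) : LevelExact f g p := by
  intro T y hy
  have wp : f.app (op p) ≫ g.app (op p) = 0 := by rw [← NatTrans.comp_app, w]; rfl
  obtain ⟨T₁, π₁, _, x, y', h⟩ := gr_chase hgr y (by rw [reassoc_of% hy, zero_comp])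
  have h3 : y' ≫ g.app (op (p + 1)) = 0 := by
    rw [← cancel_mono (H.map (stepHom p)), Category.assoc, ← g.naturality, zero_comp]
    have := h =≫ g.app (op p)
    rw [Category.assoc, hy, comp_zero, Preadditive.add_comp, Category.assoc, wp, comp_zero,
      zero_add, Category.assoc] at this
    exact this.symm
  obtain ⟨T₂, π₂, _, x', hx'⟩ := h1 y' h3
  refine ⟨T₂, π₂ ≫ π₁, epi_comp _ _, π₂ ≫ x + x' ≫ F.map (stepHom p), ?_⟩
  rw [Category.assoc, h, Preadditive.comp_add, Preadditive.add_comp, Category.assoc,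
    Category.assoc, f.naturality, ← reassoc_of% hx']

lemma levelExact_of_grExact (w : f ≫ g = 0) (hH : ∀ p, Mono (H.map (stepHom p)))
    (b : ℤ) (hb : ∀ p, b ≤ p → IsZero (G.obj (op p))) (hgr : ∀ p, GrExact f g p) (p : ℤ) :
    LevelExact f g p := by
  have key : ∀ (k : ℕ) (p : ℤ), b - k ≤ p → LevelExact f g p := by
    intro k
    induction k with
    | zero =>
      intro p hp T y _
      exact ⟨T, 𝟙 _, inferInstance, 0, (hb p (by simpa using hp)).eq_of_tgt _ _⟩
    | succ k ih =>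
      intro p hp
      have := hH p
      exact levelExact_step w (hgr p) (ih (p + 1) (by push_cast at hp; omega))
  exact key (b - p).toNat p (by omega)

lemma strictStep_left (w : f ≫ g = 0) (hH : ∀ p, Mono (H.map (stepHom p)))
    (hex : ∀ p, LevelExact f g p) : StrictStep f := by
  intro p T y x hyx
  have wp : f.app (op p) ≫ g.app (op p) = 0 := by rw [← NatTrans.comp_app, w]; rfl
  have := hH p
  refine hex (p + 1) y ?_
  rw [← cancel_mono (H.map (stepHom p)), Category.assoc, ← g.naturality, reassoc_of% hyx, wp,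
    comp_zero, zero_comp]

lemma strictStep_right (w : f ≫ g = 0) (hH : ∀ p, Mono (H.map (stepHom p)))
    (hgr : ∀ p, GrExact f g p) : StrictStep g := by
  intro p T z y hzy
  have wp : f.app (op p) ≫ g.app (op p) = 0 := by rw [← NatTrans.comp_app, w]; rfl
  have := hH p
  obtain ⟨T₁, π₁, _, x, y', h⟩ := gr_chase (hgr p) y (by
    rw [← reassoc_of% hzy, step_grπ, comp_zero])
  refine ⟨T₁, π₁, inferInstance, y', ?_⟩
  rw [← cancel_mono (H.map (stepHom p)), Category.assoc, hzy, reassoc_of% h, Preadditive.add_comp,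
    Category.assoc, wp, comp_zero, zero_add, Category.assoc, Category.assoc, g.naturality]

end chase

section filf

variable (S : ShortComplex (FilF A))

lemma grExact_of_exact (hS : ∀ p : ℤ, (S.map (grF A p)).Exact) (p : ℤ) :
    GrExact S.f.hom S.g.hom p := fun _ y hy => (hS p).exact_up_to_refinements y hy

lemma w_hom : S.f.hom ≫ S.g.hom = 0 := by
  have := S.zero
  exact congrArg (fun φ => φ.hom) this

lemma levelExact_of_exact (hS : ∀ p : ℤ, (S.map (grF A p)).Exact) (p : ℤ) :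
    LevelExact S.f.hom S.g.hom p := by
  obtain ⟨b, hb⟩ := exists_isZero_ge S.X₂
  exact levelExact_of_grExact (w_hom S) (fun p => inferInstance) b hb (grExact_of_exact S hS) p

lemma strictStep_f_of_exact (hS : ∀ p : ℤ, (S.map (grF A p)).Exact) : StrictStep S.f.hom :=
  strictStep_left (w_hom S) (fun p => inferInstance) (levelExact_of_exact S hS)

lemma strictStep_g_of_exact (hS : ∀ p : ℤ, (S.map (grF A p)).Exact) : StrictStep S.g.hom :=
  strictStep_right (w_hom S) (fun p => inferInstance) (grExact_of_exact S hS)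

end filf


section kernelStrict

variable {X Y : FilF A} (φ : X ⟶ Y)

lemma grExact_kernel_of_strict (h : StrictStep φ.hom) (p : ℤ) :
    GrExact (kernel.ι φ.hom) φ.hom p := by
  intro T xb hxb
  obtain ⟨T₁, π₁, _, x, hx⟩ := gr_lift xb
  have h1 : (x ≫ φ.hom.app (op p)) ≫ grπ Y.obj p = 0 := by
    rw [Category.assoc, ← grπ_naturality, ← reassoc_of% hx, hxb, comp_zero]
  obtain ⟨T₂, π₂, _, y', hy'⟩ := gr_ker _ h1
  obtain ⟨T₃, π₃, _, x', hx'⟩ := h p y' (π₂ ≫ x) (by rw [← hy', Category.assoc])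
  have h2 : (π₃ ≫ π₂ ≫ x - x' ≫ X.obj.map (stepHom p)) ≫ φ.hom.app (op p) = 0 := by
    rw [Preadditive.sub_comp, Category.assoc, Category.assoc, Category.assoc, φ.hom.naturality,
      ← reassoc_of% hx', hy', sub_self]
  refine ⟨T₃, π₃ ≫ π₂ ≫ π₁, epi_comp _ _, kerLift φ _ h2 ≫ grπ _ p, ?_⟩
  simp only [Category.assoc]
  rw [grπ_naturality, kerLift_ι_assoc, Preadditive.sub_comp]
  simp only [Category.assoc]
  rw [step_grπ, comp_zero, sub_zero, hx]

lemma strictStep_of_grExact_kernel (h : ∀ p, GrExact (kernel.ι φ.hom) φ.hom p) :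
    StrictStep φ.hom := by
  intro p T y x hyx
  obtain ⟨T₁, π₁, _, k, x', hk⟩ := gr_chase (h p) x (by
    rw [← reassoc_of% hyx, step_grπ, comp_zero])
  refine ⟨T₁, π₁, inferInstance, x', ?_⟩
  rw [← cancel_mono (Y.obj.map (stepHom p)), Category.assoc, hyx, reassoc_of% hk,
    Preadditive.add_comp, Category.assoc, kernel_ι_app_comp, comp_zero, zero_add, Category.assoc,
    Category.assoc, φ.hom.naturality]

end kernelStrict

end Groth.Agent.Lib27.FilDLib
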