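import Groth.Agent.Lib27.FilD2
import Mathlib.Algebra.Homology.Embedding.CochainComplex
import Mathlib.Algebra.Homology.Homotopy

/-!
# Maps from filtered acyclic complexes to bounded below complexes of filtered injectives
-/

universe v u
open CategoryTheory CategoryTheory.Limits Opposite

namespace Groth.Agent.Lib27.FilDLib

open FilD

variable {A : Type u} [Category.{v} A] [Abelian A]

/-- The short complex `K^n ⟶ K^{n+1} ⟶ K^{n+2}` of a cochain complex. -/
abbrev scAt (K : CochainComplex (FilF A) ℤ) (n : ℤ) : ShortComplex (FilF A) :=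
  ShortComplex.mk (K.d n (n + 1)) (K.d (n + 1) (n + 1 + 1)) (K.d_comp_d _ _ _)

lemma scAt_exact_of_exactAt (K : CochainComplex (FilF A) ℤ) (n : ℤ) (p : ℤ)
    (h : ((grCx p).obj K).ExactAt (n + 1)) : ((scAt K n).map (grF A p)).Exact := by
  rw [HomologicalComplex.exactAt_iff' _ n (n + 1) (n + 1 + 1)
    (ComplexShape.prev_eq' _ (show (ComplexShape.up ℤ).Rel n (n + 1) from rfl))
    (ComplexShape.next_eq' _ (show (ComplexShape.up ℤ).Rel (n + 1) (n + 1 + 1) from rfl))] at h
  exact h

lemma scAt_exact (K : CochainComplex (FilF A) ℤ) (hK : IsFilteredAcyclic K) (n : ℤ) (p : ℤ) :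
    ((scAt K n).map (grF A p)).Exact := scAt_exact_of_exactAt K n p (hK p (n + 1))

/-- one-step extension used for building homotopies and twisting cochains -/
lemma exists_extension_of_exact (S : ShortComplex (FilF A))
    (hS : ∀ p : ℤ, (S.map (grF A p)).Exact) {I : FilF A} (hI : IsFilteredInjective I)
    (ψ : S.X₂ ⟶ I) (hψ : S.f ≫ ψ = 0) : ∃ h : S.X₃ ⟶ I, S.g ≫ h = ψ := by
  refine exists_extension S.g (strictStep_g_of_exact S hS) hI ψ ?_
  intro p T x hx
  obtain ⟨T', π, _, w, hw⟩ := levelExact_of_exact S hS p x hx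
  have h0 : S.f.hom.app (op p) ≫ ψ.hom.app (op p) = 0 := by
    have := congrArg (fun φ => φ.hom.app (op p)) hψ
    exact this
  rw [← cancel_epi π, reassoc_of% hw, h0, comp_zero, comp_zero]

theorem homotopy_zero_of_acyclic (K I : CochainComplex (FilF A) ℤ)
    (hK : IsFilteredAcyclic K) (a : ℤ) [I.IsStrictlyGE a]
    (hI : ∀ n, IsFilteredInjective (I.X n)) (φ : K ⟶ I) : Nonempty (Homotopy φ 0) := by
  obtain ⟨hfam, hQ, hC⟩ := FilDRec.exists_asc_family
    (α := fun n => K.X (n + 1) ⟶ I.X n)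
    (fun n h => K.d n (n + 1) ≫ φ.f (n + 1) = K.d n (n + 1) ≫ h ≫ I.d n (n + 1))
    (fun n h h' => φ.f (n + 1) = K.d (n + 1) (n + 1 + 1) ≫ h' + h ≫ I.d n (n + 1))
    (a - 1) (fun _ => 0)
    (fun n hn => by
      have hz : IsZero (I.X n) := I.isZero_of_isStrictlyGE a n (by omega)
      rw [← φ.comm, hz.eq_of_tgt (φ.f n) 0, zero_comp, zero_comp, comp_zero])
    (fun n hn => by
      have hz : IsZero (I.X (n + 1)) := I.isZero_of_isStrictlyGE a (n + 1) (by omega)
      exact hz.eq_of_tgt _ _)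
    (by
      intro n h hQn
      obtain ⟨h', hh'⟩ := exists_extension_of_exact (scAt K n) (scAt_exact K hK n) (hI (n + 1))
        (φ.f (n + 1) - h ≫ I.d n (n + 1)) (by
          dsimp
          rw [Preadditive.comp_sub, hQn, sub_self])
      dsimp at hh'
      refine ⟨h', ?_, ?_⟩
      · rw [reassoc_of% hh', Preadditive.sub_comp, Category.assoc, I.d_comp_d, comp_zero,
          sub_zero, ← φ.comm]
      · rw [hh']
        abel)
  refine ⟨{
    hom := fun i j => if h : j + 1 = i then (K.XIsoOfEq h).inv ≫ hfam j else 0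
    zero := fun i j hij => dif_neg hij
    comm := fun i => ?_ }⟩
  obtain ⟨n, rfl⟩ : ∃ n, i = n + 1 := ⟨i - 1, by omega⟩
  rw [dNext_eq _ (show (ComplexShape.up ℤ).Rel (n + 1) (n + 1 + 1) from rfl),
    prevD_eq _ (show (ComplexShape.up ℤ).Rel n (n + 1) from rfl)]
  simp only [dif_pos, HomologicalComplex.XIsoOfEq_rfl, Iso.refl_inv, Category.id_comp,
    HomologicalComplex.zero_f, add_zero]
  exact hC n

end Groth.Agent.Lib27.FilDLib
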