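import Groth.Agent.Lib27.FilD3
import Mathlib.Algebra.Homology.HomotopyCategory.Acyclic
import Mathlib.Algebra.Homology.HomotopyCategory.Triangulated
import Mathlib.Algebra.Homology.Localization

/-!
# Finite filtered objects: biproducts, cones of filtered quasi-isomorphisms
-/

universe v u
open CategoryTheory CategoryTheory.Limits Opposite

namespace Groth.Agent.Lib27.FilDLib

open FilD

variable {A : Type u} [Category.{v} A] [Abelian A]

section biprod

variable (X Y : FilF A)

lemma biprod_total_app (p : ℤᵒᵖ) :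
    (biprod.fst : X.obj ⊞ Y.obj ⟶ X.obj).app p ≫ (biprod.inl : X.obj ⟶ X.obj ⊞ Y.obj).app p +
      (biprod.snd : X.obj ⊞ Y.obj ⟶ Y.obj).app p ≫ (biprod.inr : Y.obj ⟶ X.obj ⊞ Y.obj).app p =
      𝟙 _ := by
  have := congrArg (fun f => f.app p) (biprod.total (X := X.obj) (Y := Y.obj))
  simp only [NatTrans.app_add, NatTrans.comp_app, NatTrans.id_app] at this
  exact this

lemma isFinFil_biprod : IsFinFil A (X.obj ⊞ Y.obj) := by
  have hmono : ∀ ⦃p q : ℤᵒᵖ⦄ (f : p ⟶ q), Mono ((X.obj ⊞ Y.obj).map f) := by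
    intro p q f
    apply Preadditive.mono_of_cancel_zero
    intro T x hx
    have h1 : x ≫ (biprod.fst : X.obj ⊞ Y.obj ⟶ X.obj).app p = 0 := by
      rw [← cancel_mono (X.obj.map f), Category.assoc, ← NatTrans.naturality, reassoc_of% hx,
        zero_comp, zero_comp]
    have h2 : x ≫ (biprod.snd : X.obj ⊞ Y.obj ⟶ Y.obj).app p = 0 := by
      rw [← cancel_mono (Y.obj.map f), Category.assoc, ← NatTrans.naturality, reassoc_of% hx,
        zero_comp, zero_comp]
    rw [← Category.comp_id x, ← biprod_total_app X Y p, Preadditive.comp_add, reassoc_of% h1,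
      reassoc_of% h2, zero_comp, zero_comp, add_zero]
  refine ⟨hmono, ?_, ?_⟩
  · obtain ⟨b₁, hb₁⟩ := exists_isZero_ge X
    obtain ⟨b₂, hb₂⟩ := exists_isZero_ge Y
    refine ⟨max b₁ b₂, fun p hp => ?_⟩
    rw [IsZero.iff_id_eq_zero, ← biprod_total_app X Y (op p),
      (hb₁ p ((le_max_left _ _).trans hp)).eq_of_tgt
        ((biprod.fst : X.obj ⊞ Y.obj ⟶ X.obj).app (op p)) 0,
      (hb₂ p ((le_max_right _ _).trans hp)).eq_of_tgt
        ((biprod.snd : X.obj ⊞ Y.obj ⟶ Y.obj).app (op p)) 0, zero_comp, zero_comp, add_zero]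
  · obtain ⟨a₁, ha₁⟩ := exists_isIso_le X
    obtain ⟨a₂, ha₂⟩ := exists_isIso_le Y
    refine ⟨min a₁ a₂, ?_⟩
    intro p q f hp
    have : IsIso (X.obj.map f) := ha₁ f (hp.trans (min_le_left _ _))
    have : IsIso (Y.obj.map f) := ha₂ f (hp.trans (min_le_right _ _))
    have := hmono f
    have : Epi ((X.obj ⊞ Y.obj).map f) := by
      apply Preadditive.epi_of_cancel_zero
      intro T x hx
      have h1 : (biprod.inl : X.obj ⟶ X.obj ⊞ Y.obj).app q ≫ x = 0 := by
        rw [← cancel_epi (X.obj.map f), NatTrans.naturality_assoc, hx, comp_zero, comp_zero]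
      have h2 : (biprod.inr : Y.obj ⟶ X.obj ⊞ Y.obj).app q ≫ x = 0 := by
        rw [← cancel_epi (Y.obj.map f), NatTrans.naturality_assoc, hx, comp_zero, comp_zero]
      rw [← Category.id_comp x, ← biprod_total_app X Y q, Preadditive.add_comp, Category.assoc,
        Category.assoc, h1, h2, comp_zero, comp_zero, add_zero]
    exact isIso_of_mono_of_epi _

/-- the binary bicone in `FilF A` -/
noncomputable def biconeFilF : BinaryBicone X Y where
  pt := ⟨X.obj ⊞ Y.obj, isFinFil_biprod X Y⟩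
  fst := (IsFinFil A).homMk biprod.fst
  snd := (IsFinFil A).homMk biprod.snd
  inl := (IsFinFil A).homMk biprod.inl
  inr := (IsFinFil A).homMk biprod.inr
  inl_fst := by apply ObjectProperty.hom_ext; exact biprod.inl_fst
  inl_snd := by apply ObjectProperty.hom_ext; exact biprod.inl_snd
  inr_fst := by apply ObjectProperty.hom_ext; exact biprod.inr_fst
  inr_snd := by apply ObjectProperty.hom_ext; exact biprod.inr_snd

instance hasBinaryBiproducts_filF : HasBinaryBiproducts (FilF A) where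
  has_binary_biproduct X Y := HasBinaryBiproduct.mk
    { bicone := biconeFilF X Y
      isBilimit := isBinaryBilimitOfTotal _ (by
        apply ObjectProperty.hom_ext
        exact biprod.total) }

end biprod


section cone

open CochainComplex

lemma mappingCone_exactAt_of_quasiIso {K L : CochainComplex A ℤ} (γ : K ⟶ L) [QuasiIso γ] (n : ℤ) :
    (mappingCone γ).ExactAt n := by
  have h1 : HomotopyCategory.quasiIso A (ComplexShape.up ℤ)
      ((HomotopyCategory.quotient _ _).map γ) :=
    (HomotopyCategory.quotient_map_mem_quasiIso_iff γ).2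
      ((HomologicalComplex.mem_quasiIso_iff γ).2 inferInstance)
  rw [HomotopyCategory.quasiIso_eq_trW_subcategoryAcyclic] at h1
  have h2 := ((HomotopyCategory.subcategoryAcyclic A).trW_iff_of_distinguished _
    (HomotopyCategory.mappingCone_triangleh_distinguished γ)).1 h1
  exact (HomotopyCategory.quotient_obj_mem_subcategoryAcyclic_iff_exactAt _).1 h2 n

variable {K L : CochainComplex (FilF A) ℤ} (α : K ⟶ L)

lemma isFilteredAcyclic_mappingCone (hα : IsFilteredQuasiIso α) :
    IsFilteredAcyclic (mappingCone α) := by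
  intro p n
  have : QuasiIso ((grCx p).map α) := hα p
  exact (mappingCone_exactAt_of_quasiIso ((grCx p).map α) n).of_iso
    (mappingCone.mapHomologicalComplexIso α (grF A p)).symm

lemma hom_eq_zero_of_acyclic (C I : CochainComplex (FilF A) ℤ) (hC : IsFilteredAcyclic C) (a : ℤ)
    [I.IsStrictlyGE a] (hI : ∀ n, IsFilteredInjective (I.X n))
    (f : (HomotopyCategory.quotient (FilF A) (ComplexShape.up ℤ)).obj C ⟶
      (HomotopyCategory.quotient (FilF A) (ComplexShape.up ℤ)).obj I) : f = 0 := by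
  obtain ⟨φ, rfl⟩ := (HomotopyCategory.quotient _ _).map_surjective f
  obtain ⟨h⟩ := homotopy_zero_of_acyclic C I hC a hI φ
  rw [HomotopyCategory.eq_of_homotopy _ _ h]
  simp

lemma hom_shift_eq_zero_of_acyclic (C I : CochainComplex (FilF A) ℤ) (hC : IsFilteredAcyclic C)
    (a : ℤ) [I.IsStrictlyGE a] (hI : ∀ n, IsFilteredInjective (I.X n))
    (f : (HomotopyCategory.quotient (FilF A) (ComplexShape.up ℤ)).obj C ⟶
      ((HomotopyCategory.quotient (FilF A) (ComplexShape.up ℤ)).obj I)⟦(1 : ℤ)⟧) : f = 0 := by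
  have : (I⟦(1 : ℤ)⟧).IsStrictlyGE (a - 1) := I.isStrictlyGE_shift a 1 (a - 1) (by omega)
  let e := ((HomotopyCategory.quotient (FilF A) (ComplexShape.up ℤ)).commShiftIso (1 : ℤ)).app I
  have h0 := hom_eq_zero_of_acyclic C (I⟦(1 : ℤ)⟧) hC (a - 1) (fun n => hI (n + 1)) (f ≫ e.inv)
  rw [← cancel_mono e.inv, h0, zero_comp]

theorem bijective_precomp (I : CochainComplex (FilF A) ℤ) (a : ℤ) [I.IsStrictlyGE a]
    (hI : ∀ n, IsFilteredInjective (I.X n)) (hα : IsFilteredQuasiIso α) :
    Function.Bijective (fun β : (HomotopyCategory.quotient (FilF A) (ComplexShape.up ℤ)).obj L ⟶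
        (HomotopyCategory.quotient (FilF A) (ComplexShape.up ℤ)).obj I =>
      (HomotopyCategory.quotient (FilF A) (ComplexShape.up ℤ)).map α ≫ β) := by
  have hT := HomotopyCategory.mappingCone_triangleh_distinguished α
  have hC := isFilteredAcyclic_mappingCone α hα
  constructor
  · intro β₁ β₂ h
    have h0 : (HomotopyCategory.quotient (FilF A) (ComplexShape.up ℤ)).map α ≫ (β₁ - β₂) = 0 := by
      rw [Preadditive.comp_sub, sub_eq_zero]
      exact h
    obtain ⟨g, hg⟩ : ∃ g : (HomotopyCategory.quotient (FilF A) (ComplexShape.up ℤ)).obj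
        (mappingCone α) ⟶ (HomotopyCategory.quotient (FilF A) (ComplexShape.up ℤ)).obj I,
        β₁ - β₂ = (HomotopyCategory.quotient (FilF A) (ComplexShape.up ℤ)).map
          (mappingCone.inr α) ≫ g :=
      Pretriangulated.Triangle.yoneda_exact₂ _ hT (β₁ - β₂) h0
    rw [hom_eq_zero_of_acyclic _ I hC a hI g, comp_zero] at hg
    exact sub_eq_zero.1 hg
  · intro h
    have h0 : (mappingCone.triangleh α).mor₃ ≫ h⟦(1 : ℤ)⟧' = 0 :=
      hom_shift_eq_zero_of_acyclic _ I hC a hI _
    obtain ⟨g, hg⟩ : ∃ g : ((HomotopyCategory.quotient (FilF A) (ComplexShape.up ℤ)).obj L)⟦(1 : ℤ)⟧ ⟶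
        ((HomotopyCategory.quotient (FilF A) (ComplexShape.up ℤ)).obj I)⟦(1 : ℤ)⟧,
        h⟦(1 : ℤ)⟧' = (-((HomotopyCategory.quotient (FilF A) (ComplexShape.up ℤ)).map α)⟦(1 : ℤ)⟧') ≫ g :=
      Pretriangulated.Triangle.yoneda_exact₃ _
        (Pretriangulated.rot_of_distTriang _ hT) (h⟦(1 : ℤ)⟧') h0
    obtain ⟨g', rfl⟩ := (CategoryTheory.shiftFunctor _ (1 : ℤ)).map_surjective g
    refine ⟨-g', ?_⟩
    apply (CategoryTheory.shiftFunctor _ (1 : ℤ)).map_injective
    rw [hg]
    simp

end cone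

end Groth.Agent.Lib27.FilDLib
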