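import Groth.Agent.Lib27.FilD4
import Mathlib.Algebra.Homology.HomotopyCategory.SingleFunctors
import Mathlib.Algebra.Homology.QuasiIso

/-!
# Filtered resolutions: data extracted from a filtered quasi-isomorphism `Z[0] ⟶ J`
-/

universe v u
open CategoryTheory CategoryTheory.Limits Opposite

namespace Groth.Agent.Lib27.FilDLib

open FilD

variable {A : Type u} [Category.{v} A] [Abelian A]

section resolution

variable {Z : FilF A} {J : CochainComplex (FilF A) ℤ}
  (c : (CochainComplex.singleFunctor (FilF A) 0).obj Z ⟶ J)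

/-- The identification of the degree zero term of `Z[0]` with `Z`. -/
noncomputable def singleIso (Z : FilF A) :
    ((CochainComplex.singleFunctor (FilF A) 0).obj Z).X 0 ≅ Z :=
  HomologicalComplex.singleObjXSelf (ComplexShape.up ℤ) 0 Z

/-- The augmentation `Z ⟶ J⁰`. -/
noncomputable def aug : Z ⟶ J.X 0 := (singleIso Z).inv ≫ c.f 0

@[reassoc (attr := simp)]
lemma aug_d : aug c ≫ J.d 0 (0 + 1) = 0 := by
  rw [aug, Category.assoc, c.comm 0 (0 + 1), CochainComplex.singleFunctor_obj_d, zero_comp,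
    comp_zero]

@[reassoc (attr := simp)]
lemma singleIso_hom_aug : (singleIso Z).hom ≫ aug c = c.f 0 := by
  simp [aug]

variable (hc : IsFilteredQuasiIso c)
include hc

lemma exactAt_of_ne (p m : ℤ) (hm : m ≠ 0) : ((grCx p).obj J).ExactAt m := by
  have := hc p
  have hq : QuasiIsoAt ((grCx p).map c) m := inferInstance
  rw [quasiIsoAt_iff_exactAt] at hq
  · exact hq
  · apply HomologicalComplex.ExactAt.of_isZero
    exact Functor.map_isZero (grF A p)
      (HomologicalComplex.isZero_single_obj_X (ComplexShape.up ℤ) 0 Z m hm)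

variable [J.IsStrictlyGE 0]

lemma gr_f0 (p : ℤ) : Mono ((grF A p).map (c.f 0)) ∧
    (ShortComplex.mk ((grF A p).map (c.f 0)) ((grF A p).map (J.d 0 (0 + 1)))
      (by rw [← Functor.map_comp, c.comm 0 (0 + 1), CochainComplex.singleFunctor_obj_d, zero_comp,
        Functor.map_zero])).Exact := by
  have := hc p
  have hq : QuasiIsoAt ((grCx p).map c) 0 := inferInstance
  rw [quasiIsoAt_iff' _ (-1) 0 (0 + 1) (by simp) (by simp),
    ShortComplex.quasiIso_iff_of_zeros] at hq
  · exact ⟨hq.2, hq.1⟩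
  · exact (grF A p).map_zero _ _
  · exact (grF A p).map_zero _ _
  · have hz : IsZero (J.X (-1)) := J.isZero_of_isStrictlyGE 0 (-1) (by omega)
    show (grF A p).map (J.d (-1) 0) = 0
    rw [hz.eq_of_src (J.d (-1) 0) 0, Functor.map_zero]

lemma gr_aug_mono (p : ℤ) : Mono ((grF A p).map (aug c)) := by
  have := (gr_f0 c hc p).1
  rw [aug, Functor.map_comp]
  have : IsIso ((grF A p).map (singleIso Z).inv) := inferInstance
  exact mono_comp _ _

lemma gr_aug_exact (p : ℤ) : ((ShortComplex.mk (aug c) (J.d 0 (0 + 1)) (aug_d c)).map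
    (grF A p)).Exact := by
  have h := (gr_f0 c hc p).2
  have z : (grF A p).map (c.f 0) ≫ (grF A p).map (J.d 0 (0 + 1)) = 0 := by
    rw [← Functor.map_comp, c.comm 0 (0 + 1), CochainComplex.singleFunctor_obj_d, zero_comp,
      Functor.map_zero]
  have e : ShortComplex.mk ((grF A p).map (c.f 0)) ((grF A p).map (J.d 0 (0 + 1))) z ≅
      (ShortComplex.mk (aug c) (J.d 0 (0 + 1)) (aug_d c)).map (grF A p) :=
    ShortComplex.isoMk ((grF A p).mapIso (singleIso Z)) (Iso.refl _) (Iso.refl _)
      (by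
        show ((grF A p).map (singleIso Z).hom) ≫ (grF A p).map (aug c) =
          (grF A p).map (c.f 0) ≫ 𝟙 _
        rw [Category.comp_id, ← Functor.map_comp, singleIso_hom_aug])
      (by
        show 𝟙 _ ≫ (grF A p).map (J.d 0 (0 + 1)) = (grF A p).map (J.d 0 (0 + 1)) ≫ 𝟙 _
        rw [Category.comp_id, Category.id_comp])
  exact (ShortComplex.exact_iff_of_iso e).1 h

/-- the short complex `0 ⟶ Z ⟶ J⁰` -/
noncomputable abbrev augSc : ShortComplex (FilF A) :=
  ShortComplex.mk (0 : Z ⟶ Z) (aug c) zero_comp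

omit hc [J.IsStrictlyGE 0] in
lemma augSc_exact' (h : ∀ p, Mono ((grF A p).map (aug c))) (p : ℤ) :
    ((augSc c).map (grF A p)).Exact := by
  have := h p
  refine (ShortComplex.exact_iff_mono _ ((grF A p).map_zero _ _)).2 ?_
  show Mono ((grF A p).map (aug c))
  infer_instance

lemma augSc_exact (p : ℤ) : ((augSc c).map (grF A p)).Exact :=
  augSc_exact' c (gr_aug_mono c hc) p

lemma aug_strictStep : StrictStep (aug c).hom :=
  strictStep_g_of_exact (augSc c) (augSc_exact c hc)

lemma aug_mono_level (p : ℤ) : Mono ((aug c).hom.app (op p)) := by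
  apply Preadditive.mono_of_cancel_zero
  intro T x hx
  obtain ⟨T', π, _, w, hw⟩ := levelExact_of_exact (augSc c) (augSc_exact c hc) p x hx
  rw [← cancel_epi π, hw, comp_zero]
  exact comp_zero

lemma aug_levelExact (p : ℤ) : LevelExact (aug c).hom (J.d 0 (0 + 1)).hom p :=
  levelExact_of_exact (ShortComplex.mk (aug c) (J.d 0 (0 + 1)) (aug_d c)) (gr_aug_exact c hc) p

omit [J.IsStrictlyGE 0] in
lemma scAt_exact_of_resolution (n : ℤ) (hn : 0 ≤ n) (p : ℤ) :
    ((scAt J n).map (grF A p)).Exact :=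
  scAt_exact_of_exactAt J n p (exactAt_of_ne c hc p (n + 1) (by omega))

end resolution

end Groth.Agent.Lib27.FilDLib
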