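import Mathlib.Algebra.Homology.HomologicalComplex
import Mathlib.Algebra.Homology.Additive
import Mathlib.CategoryTheory.Preadditive.Biproducts

/-!
# Twisted direct sum of two cochain complexes along a degree one cocycle
-/

open CategoryTheory CategoryTheory.Limits

namespace Groth.Agent.Lib27.TwistedSum

variable {C : Type*} [Category C] [Preadditive C] [HasBinaryBiproducts C]
variable (I J : CochainComplex C ℤ) (τ : ∀ n, J.X n ⟶ I.X (n + 1))

/-- the twisting cochain extended by zero -/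
noncomputable def tw (i j : ℤ) : J.X i ⟶ I.X j :=
  if h : i + 1 = j then τ i ≫ (I.XIsoOfEq h).hom else 0

@[simp] lemma tw_self (i : ℤ) : tw I J τ i (i + 1) = τ i := by simp [tw]

lemma tw_ne (i j : ℤ) (h : ¬ i + 1 = j) : tw I J τ i j = 0 := dif_neg h

variable (hτ : ∀ n, τ n ≫ I.d (n + 1) (n + 1 + 1) + J.d n (n + 1) ≫ τ (n + 1) = 0)

/-- The twisted direct sum. -/
noncomputable def cx : CochainComplex C ℤ where
  X n := I.X n ⊞ J.X n
  d i j := biprod.desc (I.d i j ≫ biprod.inl) (biprod.lift (tw I J τ i j) (J.d i j))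
  shape i j hij := by
    have h : ¬ i + 1 = j := hij
    have hI : I.d i j = 0 := I.shape i j hij
    have hJ : J.d i j = 0 := J.shape i j hij
    apply biprod.hom_ext'
    · simp [hI]
    · apply biprod.hom_ext
      · simp [tw_ne I J τ i j h]
      · simp [hJ]
  d_comp_d' i j k hij hjk := by
    obtain rfl : i + 1 = j := hij
    obtain rfl : i + 1 + 1 = k := hjk
    apply biprod.hom_ext'
    · simp
    · apply biprod.hom_ext
      · simp [hτ i]
      · simp

/-- The inclusion of the first summand. -/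
noncomputable def inl : I ⟶ cx I J τ hτ where
  f n := biprod.inl
  comm' i j _ := by simp [cx]

/-- The projection to the second summand. -/
noncomputable def snd : cx I J τ hτ ⟶ J where
  f n := biprod.snd
  comm' i j _ := by
    apply biprod.hom_ext' <;> simp [cx]

@[simp] lemma inl_f (n : ℤ) : (inl I J τ hτ).f n = biprod.inl := rfl
@[simp] lemma snd_f (n : ℤ) : (snd I J τ hτ).f n = biprod.snd := rfl

lemma cx_d (i j : ℤ) : (cx I J τ hτ).d i j =
    biprod.desc (I.d i j ≫ biprod.inl) (biprod.lift (tw I J τ i j) (J.d i j)) := rfl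


lemma split (n : ℤ) : ∃ (r : (cx I J τ hτ).X n ⟶ I.X n) (s : J.X n ⟶ (cx I J τ hτ).X n),
    (inl I J τ hτ).f n ≫ r = 𝟙 _ ∧ s ≫ (snd I J τ hτ).f n = 𝟙 _ ∧
      (inl I J τ hτ).f n ≫ (snd I J τ hτ).f n = 0 ∧
      r ≫ (inl I J τ hτ).f n + (snd I J τ hτ).f n ≫ s = 𝟙 _ :=
  ⟨(biprod.fst : I.X n ⊞ J.X n ⟶ I.X n), (biprod.inr : J.X n ⟶ I.X n ⊞ J.X n),
    biprod.inl_fst, biprod.inr_snd, biprod.inl_snd, biprod.total⟩

/-- a morphism to the twisted sum in degree `0` which is a cocycle -/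
lemma lift_comp_d (n : ℤ) {W : C} (u : W ⟶ I.X n) (v : W ⟶ J.X n)
    (h₁ : u ≫ I.d n (n + 1) + v ≫ τ n = 0) (h₂ : v ≫ J.d n (n + 1) = 0) :
    (biprod.lift u v : W ⟶ I.X n ⊞ J.X n) ≫ (cx I J τ hτ).d n (n + 1) = 0 := by
  rw [cx_d, tw_self]
  have : (biprod.lift u v : W ⟶ I.X n ⊞ J.X n) ≫
      biprod.desc (I.d n (n + 1) ≫ biprod.inl) (biprod.lift (τ n) (J.d n (n + 1))) =
      (0 : W ⟶ I.X (n + 1) ⊞ J.X (n + 1)) := by
    apply biprod.hom_ext
    · simp [h₁]
    · simp [h₂]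
  exact this

lemma lift_comp_inl {W : C} (n : ℤ) (u : W ⟶ I.X n) :
    u ≫ (inl I J τ hτ).f n = (biprod.lift u 0 : W ⟶ I.X n ⊞ J.X n) := by
  rw [inl_f]
  have : u ≫ (biprod.inl : I.X n ⟶ I.X n ⊞ J.X n) = biprod.lift u 0 := by
    apply biprod.hom_ext <;> simp
  exact this

lemma lift_comp_snd {W : C} (n : ℤ) (u : W ⟶ I.X n) (v : W ⟶ J.X n) :
    (biprod.lift u v : W ⟶ I.X n ⊞ J.X n) ≫ (snd I J τ hτ).f n = v := by
  rw [snd_f]
  exact biprod.lift_snd _ _

end Groth.Agent.Lib27.TwistedSum
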