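import Groth.Agent.Lib27.FilD5
import Groth.Agent.Lib27.TwistedSum

/-!
# Twisting cochains into filtered injective complexes; horseshoe lemma
-/

universe v u
open CategoryTheory CategoryTheory.Limits Opposite

namespace Groth.Agent.Lib27.FilDLib

open FilD

variable {A : Type u} [Category.{v} A] [Abelian A]

section app

variable {X Y W : FilF A}

@[simp] lemma comp_hom_app (φ : X ⟶ Y) (ψ : Y ⟶ W) (x : ℤᵒᵖ) :
    (φ ≫ ψ).hom.app x = φ.hom.app x ≫ ψ.hom.app x := rfl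
@[simp] lemma zero_hom_app (x : ℤᵒᵖ) : (0 : X ⟶ Y).hom.app x = 0 := rfl
@[simp] lemma neg_hom_app (φ : X ⟶ Y) (x : ℤᵒᵖ) : (-φ).hom.app x = -φ.hom.app x := rfl
@[simp] lemma add_hom_app (φ ψ : X ⟶ Y) (x : ℤᵒᵖ) :
    (φ + ψ).hom.app x = φ.hom.app x + ψ.hom.app x := rfl

lemma app_congr {φ ψ : X ⟶ Y} (h : φ = ψ) (x : ℤᵒᵖ) : φ.hom.app x = ψ.hom.app x := by rw [h]

/-- `ψ` kills the levelwise kernel of `d`. -/
def KillsKer (d : X ⟶ Y) (ψ : X ⟶ W) : Prop :=
  ∀ (p : ℤ) ⦃T : A⦄ (x : T ⟶ X.obj.obj (op p)),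
    x ≫ d.hom.app (op p) = 0 → x ≫ ψ.hom.app (op p) = 0

lemma killsKer_of_mono (d : X ⟶ Y) (ψ : X ⟶ W) (h : ∀ p : ℤ, Mono (d.hom.app (op p))) :
    KillsKer d ψ := by
  intro p T x hx
  have := h p
  have h0 : x = 0 := (cancel_mono (d.hom.app (op p))).1 (hx.trans zero_comp.symm)
  rw [h0, zero_comp]

lemma killsKer_of_levelExact {V : FilF A} (f : V ⟶ X) (d : X ⟶ Y) (ψ : X ⟶ W)
    (hex : ∀ p, LevelExact f.hom d.hom p) (h : f ≫ ψ = 0) : KillsKer d ψ := by
  intro p T x hx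
  obtain ⟨T', π, _, w, hw⟩ := hex p x hx
  have h0 := app_congr h (op p)
  rw [comp_hom_app, zero_hom_app] at h0
  rw [← cancel_epi π, reassoc_of% hw, h0, comp_zero, comp_zero]

end app

section twist

variable {Z : FilF A} {I J : CochainComplex (FilF A) ℤ} [J.IsStrictlyGE 0]
  (hI : ∀ n, IsFilteredInjective (I.X n))
  (c : (CochainComplex.singleFunctor (FilF A) 0).obj Z ⟶ J) (hc : IsFilteredQuasiIso c)
  (θ : Z ⟶ I.X (0 + 1)) (hθ : θ ≫ I.d (0 + 1) (0 + 1 + 1) = 0)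

include hI hc hθ in
theorem exists_twist : ∃ τ : ∀ n, J.X n ⟶ I.X (n + 1),
    aug c ≫ τ 0 = -θ ∧ ∀ n, τ n ≫ I.d (n + 1) (n + 1 + 1) + J.d n (n + 1) ≫ τ (n + 1) = 0 := by
  classical
  obtain ⟨τ₀, hτ₀⟩ := exists_extension (aug c) (aug_strictStep c hc) (hI (0 + 1)) (-θ)
    (killsKer_of_mono _ _ (aug_mono_level c hc))
  obtain ⟨τ, hQ, hC, hag⟩ := FilDRec.exists_asc_family'
    (α := fun n => J.X n ⟶ I.X (n + 1))
    (fun n τ => KillsKer (J.d n (n + 1)) (τ ≫ I.d (n + 1) (n + 1 + 1)))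
    (fun n τ τ' => τ ≫ I.d (n + 1) (n + 1 + 1) + J.d n (n + 1) ≫ τ' = 0) 0
    (Function.update (fun _ => 0) 0 τ₀)
    (by
      intro n hn
      by_cases h : n = 0
      · subst h
        rw [Function.update_self]
        refine killsKer_of_levelExact (aug c) _ _ (aug_levelExact c hc) ?_
        rw [reassoc_of% hτ₀, Preadditive.neg_comp, hθ, neg_zero]
      · rw [Function.update_of_ne h]
        intro p T x _
        simp)
    (by
      intro n hn
      have hz : IsZero (J.X n) := J.isZero_of_isStrictlyGE 0 n (by omega)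
      rw [Function.update_of_ne (by omega), zero_comp, zero_add, hz.eq_of_src (J.d n (n + 1)) 0,
        zero_comp])
    (by
      intro n hn τ hQn
      have hS := scAt_exact_of_resolution c hc n hn
      obtain ⟨τ', hτ'⟩ := exists_extension (J.d n (n + 1))
        (strictStep_f_of_exact (scAt J n) hS) (hI (n + 1 + 1))
        (-(τ ≫ I.d (n + 1) (n + 1 + 1))) (by
          intro p T x hx
          have := hQn p x hx
          rw [neg_hom_app, Preadditive.comp_neg, this, neg_zero])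
      refine ⟨τ', ?_, ?_⟩
      · refine killsKer_of_levelExact (J.d n (n + 1)) _ _
          (levelExact_of_exact (scAt J n) hS) ?_
        rw [reassoc_of% hτ', Preadditive.neg_comp, Category.assoc, I.d_comp_d, comp_zero, neg_zero]
      · rw [hτ', add_neg_cancel])
  refine ⟨τ, ?_, hC⟩
  rw [hag 0 le_rfl, Function.update_self]
  exact hτ₀

end twist

section horseshoe

open Groth.Agent.Lib27

theorem horseshoe (S : ShortComplex (FilF A))
    (hS : ∀ p : ℤ, (S.map ((IsFinFil A).ι ⋙ (evaluation ℤᵒᵖ A).obj (op p))).ShortExact)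
    (I : CochainComplex (FilF A) ℤ) (hI : ∀ n, IsFilteredInjective (I.X n))
    (a : (CochainComplex.singleFunctor (FilF A) 0).obj S.X₁ ⟶ I)
    (J : CochainComplex (FilF A) ℤ) [J.IsStrictlyGE 0]
    (c : (CochainComplex.singleFunctor (FilF A) 0).obj S.X₃ ⟶ J) (hc : IsFilteredQuasiIso c) :
    ∃ (M : CochainComplex (FilF A) ℤ) (α : I ⟶ M) (β : M ⟶ J)
      (b : (CochainComplex.singleFunctor (FilF A) 0).obj S.X₂ ⟶ M),
      (∀ n, ∃ (r : M.X n ⟶ I.X n) (s : J.X n ⟶ M.X n), α.f n ≫ r = 𝟙 _ ∧ s ≫ β.f n = 𝟙 _ ∧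
        α.f n ≫ β.f n = 0 ∧ r ≫ α.f n + β.f n ≫ s = 𝟙 _) ∧
      a ≫ α = (CochainComplex.singleFunctor (FilF A) 0).map S.f ≫ b ∧
      b ≫ β = (CochainComplex.singleFunctor (FilF A) 0).map S.g ≫ c := by
  have hmono : ∀ p : ℤ, Mono (S.f.hom.app (op p)) := fun p => (hS p).mono_f
  have hepi : ∀ p : ℤ, Epi (S.g.hom.app (op p)) := fun p => (hS p).epi_g
  have hex : ∀ p, LevelExact S.f.hom S.g.hom p :=
    fun p T y hy => (hS p).exact.exact_up_to_refinements y hy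
  have hsf : StrictStep S.f.hom := strictStep_left (w_hom S) (fun p => inferInstance) hex
  have hsg : StrictStep S.g.hom := fun p T z y _ =>
    surjective_up_to_refinements_of_epi (S.g.hom.app (op (p + 1))) z
  -- the map `Y ⟶ I⁰`
  obtain ⟨β₀, hβ₀⟩ := exists_extension S.f hsf (hI 0) (aug a) (killsKer_of_mono _ _ hmono)
  -- the map `Z ⟶ I¹`
  obtain ⟨θ, hθ'⟩ := exists_extension S.g hsg (hI (0 + 1)) (β₀ ≫ I.d 0 (0 + 1))
    (killsKer_of_levelExact S.f _ _ hex (by rw [reassoc_of% hβ₀, aug_d]))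
  have hθ : θ ≫ I.d (0 + 1) (0 + 1 + 1) = 0 := by
    have e : S.g ≫ θ ≫ I.d (0 + 1) (0 + 1 + 1) = 0 := by
      rw [reassoc_of% hθ', I.d_comp_d, comp_zero]
    apply ObjectProperty.hom_ext
    ext x
    have := hepi x.unop
    have e' := app_congr e x
    rw [comp_hom_app, zero_hom_app] at e'
    exact (cancel_epi (S.g.hom.app x)).1 (e'.trans comp_zero.symm)
  obtain ⟨τ, hτ0, hτ⟩ := exists_twist hI c hc θ hθ
  have hb : (biprod.lift β₀ (S.g ≫ aug c) : S.X₂ ⟶ I.X 0 ⊞ J.X 0) ≫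
      (TwistedSum.cx I J τ hτ).d 0 (0 + 1) = 0 :=
    TwistedSum.lift_comp_d I J τ hτ 0 β₀ (S.g ≫ aug c)
      (by rw [Category.assoc, hτ0, Preadditive.comp_neg, hθ', add_neg_cancel])
      (by rw [Category.assoc, aug_d, comp_zero])
  obtain ⟨b, hb0⟩ : ∃ b : (CochainComplex.singleFunctor (FilF A) 0).obj S.X₂ ⟶
      TwistedSum.cx I J τ hτ, b.f 0 = (singleIso S.X₂).hom ≫
        (biprod.lift β₀ (S.g ≫ aug c) : S.X₂ ⟶ I.X 0 ⊞ J.X 0) :=
    ⟨HomologicalComplex.mkHomFromSingle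
      (biprod.lift β₀ (S.g ≫ aug c) : S.X₂ ⟶ I.X 0 ⊞ J.X 0) (by
        rintro k (rfl : 0 + 1 = k)
        exact hb), HomologicalComplex.mkHomFromSingle_f _ _⟩
  have hf0 : ((CochainComplex.singleFunctor (FilF A) 0).map S.f).f 0 =
      (singleIso S.X₁).hom ≫ S.f ≫ (singleIso S.X₂).inv :=
    HomologicalComplex.single_map_f_self _ _ _
  have hg0 : ((CochainComplex.singleFunctor (FilF A) 0).map S.g).f 0 =
      (singleIso S.X₂).hom ≫ S.g ≫ (singleIso S.X₃).inv :=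
    HomologicalComplex.single_map_f_self _ _ _
  refine ⟨TwistedSum.cx I J τ hτ, TwistedSum.inl I J τ hτ, TwistedSum.snd I J τ hτ, b,
    TwistedSum.split I J τ hτ, ?_, ?_⟩
  · apply HomologicalComplex.from_single_hom_ext
    have key1 : a.f 0 ≫ (biprod.inl : I.X 0 ⟶ I.X 0 ⊞ J.X 0) =
        ((singleIso S.X₁).hom ≫ S.f ≫ (singleIso S.X₂).inv) ≫ ((singleIso S.X₂).hom ≫
          (biprod.lift β₀ (S.g ≫ aug c) : S.X₂ ⟶ I.X 0 ⊞ J.X 0)) := by
      simp only [Category.assoc, Iso.inv_hom_id_assoc]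
      rw [← singleIso_hom_aug a, Category.assoc]
      congr 1
      apply biprod.hom_ext
      · simp [hβ₀]
      · simp
    rw [HomologicalComplex.comp_f, HomologicalComplex.comp_f, hb0, hf0]
    exact key1
  · apply HomologicalComplex.from_single_hom_ext
    have key2 : ((singleIso S.X₂).hom ≫
          (biprod.lift β₀ (S.g ≫ aug c) : S.X₂ ⟶ I.X 0 ⊞ J.X 0)) ≫
          (biprod.snd : I.X 0 ⊞ J.X 0 ⟶ J.X 0) =
        ((singleIso S.X₂).hom ≫ S.g ≫ (singleIso S.X₃).inv) ≫ c.f 0 := by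
      simp only [Category.assoc, biprod.lift_snd]
      rw [← singleIso_hom_aug c, Iso.inv_hom_id_assoc]
    rw [HomologicalComplex.comp_f, HomologicalComplex.comp_f, hb0, hg0]
    exact key2

end horseshoe

end Groth.Agent.Lib27.FilDLib
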