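import Groth.Agent.Lib27.FilD6

/-!
# Pure filtered objects `E n M`, total object of a finite filtered object, enough filtered injectives
-/

universe v u
open CategoryTheory CategoryTheory.Limits Opposite

namespace Groth.Agent.Lib27.FilDLib

open FilD ZeroObject

variable {A : Type u} [Category.{v} A] [Abelian A]

section pure

variable (n : ℤ) (M : A)

/-- The filtered object with `M` in filtration degrees `≤ n` and zero above. -/
noncomputable def pureFun : ℤᵒᵖ ⥤ A where
  obj p := if p.unop ≤ n then M else 0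
  map {p q} f :=
    if h : p.unop ≤ n then eqToHom (if_pos h) ≫ eqToHom (if_pos ((leOfHom f.unop).trans h)).symm
    else 0
  map_id p := by
    by_cases h : p.unop ≤ n
    · simp [dif_pos h]
    · rw [dif_neg h]
      have hz : IsZero (if p.unop ≤ n then M else (0 : A)) := by
        rw [if_neg h]; exact isZero_zero A
      exact hz.eq_of_src _ _
  map_comp {p q r} f g := by
    by_cases h : p.unop ≤ n
    · have hq : q.unop ≤ n := (leOfHom f.unop).trans h
      simp [dif_pos h, dif_pos hq]
    · simp [dif_neg h]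

/-- identification of the low levels of `pureFun` -/
noncomputable def pureIso {p : ℤ} (h : p ≤ n) : (pureFun n M).obj (op p) ≅ M :=
  eqToIso (if_pos h)

lemma pure_isZero {p : ℤ} (h : n < p) : IsZero ((pureFun n M).obj (op p)) := by
  have : ¬ p ≤ n := not_le.2 h
  show IsZero (if p ≤ n then M else (0 : A))
  rw [if_neg this]
  exact isZero_zero A

lemma pure_map {p q : ℤ} (f : op q ⟶ op p) (h : q ≤ n) :
    (pureFun n M).map f = (pureIso n M h).hom ≫
      (pureIso n M ((leOfHom f.unop).trans h)).inv := by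
  dsimp [pureFun, pureIso]
  rw [dif_pos h]

lemma pure_map_isIso {p q : ℤ} (f : op q ⟶ op p) (h : q ≤ n) :
    IsIso ((pureFun n M).map f) := by
  rw [pure_map n M f h]
  infer_instance

lemma isFinFil_pure : IsFinFil A (pureFun n M) := by
  refine ⟨?_, ⟨n + 1, fun p hp => pure_isZero n M (by omega)⟩, ⟨n, ?_⟩⟩
  · intro p q f
    by_cases h : p.unop ≤ n
    · have := pure_map_isIso n M (p := q.unop) (q := p.unop) f h
      infer_instance
    · exact ⟨fun _ _ _ => (pure_isZero n M (not_le.1 h)).eq_of_tgt _ _⟩
  · intro p q f hp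
    exact pure_map_isIso n M (p := q.unop) (q := p.unop) f hp

/-- The pure filtered object `E n M`. -/
noncomputable abbrev pureObj : FilF A := ⟨pureFun n M, isFinFil_pure n M⟩

lemma isZero_gr_pure_of_ne (p : ℤ) (hp : p ≠ n) : IsZero ((gr A p).obj (pureFun n M)) := by
  rcases lt_or_gt_of_ne hp with h | h
  · -- the step map is an isomorphism
    have : IsIso ((pureFun n M).map (stepHom p)) := pure_map_isIso n M _ (by omega)
    exact isZero_cokernel_of_epi _
  · have hz := pure_isZero n M h
    exact IsZero.of_epi (grπ (pureFun n M) p) hz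

lemma grπ_pure_isIso : IsIso (grπ (pureFun n M) n) := by
  have hz := pure_isZero n M (p := n + 1) (by omega)
  have h0 : (pureFun n M).map (stepHom n) = 0 := hz.eq_of_src _ _
  have : Mono (grπ (pureFun n M) n) := by
    apply Preadditive.mono_of_cancel_zero
    intro T x hx
    obtain ⟨T', π, _, x', hx'⟩ := gr_ker x hx
    rw [← cancel_epi π, hx', h0, comp_zero, comp_zero]
  exact isIso_of_mono_of_epi _

lemma injective_gr_pure [Injective M] (p : ℤ) : Injective ((gr A p).obj (pureFun n M)) := by
  by_cases hp : p = n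
  · subst hp
    have := grπ_pure_isIso p M
    exact Injective.of_iso ((pureIso p M le_rfl).symm ≪≫ asIso (grπ (pureFun p M) p)) inferInstance
  · exact Injective.of_iso (isZero_gr_pure_of_ne n M p hp).isoZero.symm inferInstance

lemma isFilteredInjective_pure [Injective M] : IsFilteredInjective (pureObj n M) :=
  fun p => injective_gr_pure n M p

end pure


section total

variable (X : FilF A) (a : ℤ)
  (ha : ∀ ⦃p q : ℤᵒᵖ⦄ (f : p ⟶ q), p.unop ≤ a → IsIso (X.obj.map f))

/-- The leg `X^p ⟶ X^a` of the cocone exhibiting `X^a` as the total object. -/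
noncomputable def toTot (p : ℤ) : X.obj.obj (op p) ⟶ X.obj.obj (op a) :=
  have := ha (homOfLE (min_le_right p a)).op le_rfl
  X.obj.map (homOfLE (min_le_left p a)).op ≫ inv (X.obj.map (homOfLE (min_le_right p a)).op)

lemma toTot_spec (p : ℤ) :
    toTot X a ha p ≫ X.obj.map (homOfLE (min_le_right p a)).op =
      X.obj.map (homOfLE (min_le_left p a)).op := by
  have := ha (homOfLE (min_le_right p a)).op le_rfl
  simp [toTot]

instance (p : ℤ) : Mono (toTot X a ha p) := by
  have := ha (homOfLE (min_le_right p a)).op le_rfl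
  dsimp [toTot]
  infer_instance

lemma toTot_nat {p q : ℤ} (h : p ≤ q) :
    X.obj.map (homOfLE h).op ≫ toTot X a ha p = toTot X a ha q := by
  rw [← cancel_mono (X.obj.map (homOfLE (min_le_right p a)).op), Category.assoc, toTot_spec,
    ← X.obj.map_comp]
  have hm : min p a ≤ min q a := min_le_min_right a h
  have e : X.obj.map (homOfLE (min_le_right p a)).op =
      X.obj.map (homOfLE (min_le_right q a)).op ≫ X.obj.map (homOfLE hm).op := by
    rw [← X.obj.map_comp]
    congr 1
  rw [e, ← Category.assoc, toTot_spec, ← X.obj.map_comp]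
  congr 1

lemma toTot_step (p : ℤ) :
    X.obj.map (stepHom p) ≫ toTot X a ha p = toTot X a ha (p + 1) :=
  toTot_nat X a ha (Int.le_add_one le_rfl)

variable (n : ℤ) {M : A} (v : X.obj.obj (op a) ⟶ M) (hv : toTot X a ha (n + 1) ≫ v = 0)

include hv in
lemma toTot_comp_eq_zero {q : ℤ} (hq : n < q) : toTot X a ha q ≫ v = 0 := by
  have h : n + 1 ≤ q := hq
  rw [← toTot_nat X a ha h, Category.assoc, hv, comp_zero]

/-- The morphism `X ⟶ E n M` attached to `v : X^a ⟶ M` vanishing on `X^{n+1}`. -/
noncomputable def toPure : X ⟶ pureObj n M := (IsFinFil A).homMk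
  { app := fun x => if h : x.unop ≤ n then toTot X a ha x.unop ≫ v ≫ (pureIso n M h).inv else 0
    naturality := by
      intro x y f
      have hyx : y.unop ≤ x.unop := leOfHom f.unop
      have hf : f = (homOfLE hyx).op := hom_eq _ _
      by_cases hx : x.unop ≤ n
      · have hy : y.unop ≤ n := hyx.trans hx
        rw [dif_pos hx, dif_pos hy]
        have e : (pureObj n M).obj.map f = (pureIso n M hx).hom ≫ (pureIso n M hy).inv :=
          pure_map n M (p := y.unop) (q := x.unop) f hx
        rw [e]
        simp only [Category.assoc, Iso.inv_hom_id_assoc]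
        rw [hf, ← Category.assoc, toTot_nat X a ha hyx]
      · rw [dif_neg hx, zero_comp]
        by_cases hy : y.unop ≤ n
        · rw [dif_pos hy, hf, ← Category.assoc, toTot_nat X a ha hyx,
            reassoc_of% (toTot_comp_eq_zero X a ha n v hv (not_le.1 hx)), zero_comp]
        · rw [dif_neg hy, comp_zero] }

lemma toPure_app_self :
    (toPure X a ha n v hv).hom.app (op n) = toTot X a ha n ≫ v ≫ (pureIso n M le_rfl).inv := by
  dsimp [toPure]
  exact dif_pos le_rfl

include hv in
/-- if `v` has kernel exactly `X^{n+1}`, then `gr^n` of `toPure` is a monomorphism. -/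
lemma mono_gr_toPure
    (hker : ∀ ⦃T : A⦄ (x : T ⟶ X.obj.obj (op a)), x ≫ v = 0 →
      ∃ (T' : A) (π : T' ⟶ T) (_ : Epi π) (x' : T' ⟶ X.obj.obj (op (n + 1))),
        π ≫ x = x' ≫ toTot X a ha (n + 1)) :
    Mono ((grF A n).map (toPure X a ha n v hv)) := by
  have key : Mono ((gr A n).map (toPure X a ha n v hv).hom) := by
    apply Preadditive.mono_of_cancel_zero
    intro T xb hxb
    obtain ⟨T₁, π₁, _, x, hx⟩ := gr_lift xb
    have := grπ_pure_isIso n M
    have h1 : x ≫ (toPure X a ha n v hv).hom.app (op n) = 0 := by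
      have e := grπ_naturality n (toPure X a ha n v hv).hom
      have e2 : (x ≫ (toPure X a ha n v hv).hom.app (op n)) ≫ grπ (pureFun n M) n = 0 := by
        rw [Category.assoc]
        erw [← e]
        rw [← reassoc_of% hx, hxb, comp_zero]
      exact (cancel_mono (grπ (pureFun n M) n)).1 (e2.trans zero_comp.symm)
    rw [toPure_app_self] at h1
    have h2 : (x ≫ toTot X a ha n) ≫ v = 0 := by
      rw [← cancel_mono (pureIso n M le_rfl).inv, zero_comp]
      simpa using h1
    obtain ⟨T₂, π₂, _, x', hx'⟩ := hker _ h2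
    rw [← toTot_step, ← Category.assoc, ← Category.assoc, cancel_mono] at hx'
    rw [← cancel_epi π₁, ← cancel_epi π₂, comp_zero, comp_zero, hx, reassoc_of% hx', step_grπ,
      comp_zero]
  exact key

end total


section enough

lemma strict_mono_of_gr_mono {X I : FilF A} (u : X ⟶ I) (h : ∀ p, Mono ((grF A p).map u)) :
    StrictStep u.hom ∧ ∀ p : ℤ, Mono (u.hom.app (op p)) := by
  have hS : ∀ p, ((ShortComplex.mk (0 : X ⟶ X) u zero_comp).map (grF A p)).Exact := fun p => by
    have := h p
    refine (ShortComplex.exact_iff_mono _ ((grF A p).map_zero _ _)).2 ?_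
    show Mono ((grF A p).map u)
    infer_instance
  refine ⟨strictStep_g_of_exact _ hS, fun p => ?_⟩
  apply Preadditive.mono_of_cancel_zero
  intro T x hx
  obtain ⟨T', π, _, w, hw⟩ := levelExact_of_exact _ hS p x hx
  rw [← cancel_epi π, hw, comp_zero]
  exact comp_zero

lemma isZero_gr_of_isZero (X : ℤᵒᵖ ⥤ A) (p : ℤ) (h : IsZero (X.obj (op p))) :
    IsZero ((gr A p).obj X) := IsZero.of_epi (grπ X p) h

lemma isZero_gr_of_isIso (X : ℤᵒᵖ ⥤ A) (p : ℤ) [IsIso (X.map (stepHom p))] :
    IsZero ((gr A p).obj X) := isZero_cokernel_of_epi _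

variable [EnoughInjectives A]

theorem exists_gr_mono (X : FilF A) (b : ℤ) (hb : ∀ p, b ≤ p → IsZero (X.obj.obj (op p)))
    (a : ℤ) (ha : ∀ ⦃p q : ℤᵒᵖ⦄ (f : p ⟶ q), p.unop ≤ a → IsIso (X.obj.map f)) (k : ℕ) :
    ∃ (I : FilF A) (u : X ⟶ I), IsFilteredInjective I ∧
      ∀ p, b - k ≤ p → Mono ((grF A p).map u) := by
  induction k with
  | zero =>
    refine ⟨pureObj b (0 : A), 0, isFilteredInjective_pure b 0, fun p hp => ?_⟩
    have hz : IsZero ((grF A p).obj X) := isZero_gr_of_isZero X.obj p (hb p (by simpa using hp))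
    exact ⟨fun _ _ _ => hz.eq_of_tgt _ _⟩
  | succ k ih =>
    obtain ⟨I, u, hI, hu⟩ := ih
    obtain ⟨n, hn⟩ : ∃ n : ℤ, n = b - ((k + 1 : ℕ) : ℤ) := ⟨_, rfl⟩
    have hv : toTot X a ha (n + 1) ≫ cokernel.π (toTot X a ha (n + 1)) ≫
        Injective.ι (cokernel (toTot X a ha (n + 1))) = 0 := by simp
    have hker : ∀ ⦃T : A⦄ (x : T ⟶ X.obj.obj (op a)),
        x ≫ cokernel.π (toTot X a ha (n + 1)) ≫ Injective.ι (cokernel (toTot X a ha (n + 1))) = 0 →
        ∃ (T' : A) (π : T' ⟶ T) (_ : Epi π) (x' : T' ⟶ X.obj.obj (op (n + 1))),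
          π ≫ x = x' ≫ toTot X a ha (n + 1) := by
      intro T x hx
      have h0 : x ≫ cokernel.π (toTot X a ha (n + 1)) = 0 := by
        rw [← cancel_mono (Injective.ι (cokernel (toTot X a ha (n + 1)))), Category.assoc, hx,
          zero_comp]
      exact (ShortComplex.exact_cokernel _).exact_up_to_refinements x h0
    have hm := mono_gr_toPure X a ha n _ hv hker
    refine ⟨I ⊞ pureObj n (Injective.under (cokernel (toTot X a ha (n + 1)))),
      biprod.lift u (toPure X a ha n _ hv), ?_, ?_⟩
    · intro p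
      haveI : PreservesBinaryBiproducts (grF A p) :=
        preservesBinaryBiproducts_of_preservesBiproducts _
      haveI : Injective ((grF A p).obj I) := hI p
      haveI : Injective ((grF A p).obj
          (pureObj n (Injective.under (cokernel (toTot X a ha (n + 1)))))) :=
        injective_gr_pure n _ p
      exact Injective.of_iso ((grF A p).mapBiprod I
        (pureObj n (Injective.under (cokernel (toTot X a ha (n + 1)))))).symm inferInstance
    · intro p hp
      by_cases h : p = n
      · subst h
        exact mono_of_mono_fac (show (grF A p).map (biprod.lift u (toPure X a ha p _ hv)) ≫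
          (grF A p).map biprod.snd = (grF A p).map (toPure X a ha p _ hv) by
            rw [← Functor.map_comp, biprod.lift_snd])
      · have := hu p (by push_cast at hn; omega)
        exact mono_of_mono_fac (show (grF A p).map (biprod.lift u (toPure X a ha n _ hv)) ≫
          (grF A p).map biprod.fst = (grF A p).map u by
            rw [← Functor.map_comp, biprod.lift_fst])

theorem exists_strict_mono_injective (X : FilF A) :
    ∃ (I : FilF A) (u : X ⟶ I), IsFilteredInjective I ∧ StrictStep u.hom ∧
      (∀ p : ℤ, Mono (u.hom.app (op p))) ∧ ∀ p : ℤ, Mono ((grF A p).map u) := by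
  obtain ⟨b, hb⟩ := exists_isZero_ge X
  obtain ⟨a, ha⟩ := exists_isIso_le X
  obtain ⟨I, u, hI, hu⟩ := exists_gr_mono X b hb a ha (b - a).toNat
  have hall : ∀ p : ℤ, Mono ((grF A p).map u) := by
    intro p
    by_cases hp : b - ((b - a).toNat : ℤ) ≤ p
    · exact hu p hp
    · have : IsIso (X.obj.map (stepHom p)) := ha _ (by show p + 1 ≤ a; omega)
      have hz : IsZero ((grF A p).obj X) := isZero_gr_of_isIso X.obj p
      exact ⟨fun _ _ _ => hz.eq_of_tgt _ _⟩
  obtain ⟨h1, h2⟩ := strict_mono_of_gr_mono u hall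
  exact ⟨I, u, hI, h1, h2, hall⟩

end enough

end Groth.Agent.Lib27.FilDLib
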