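import Groth.Agent.Lib27.FilD7

/-!
# Cokernels of strict morphisms of finite filtered objects; right exactness of `gr`
-/

universe v u
open CategoryTheory CategoryTheory.Limits Opposite

namespace Groth.Agent.Lib27.FilDLib

open FilD

variable {A : Type u} [Category.{v} A] [Abelian A]

section rightExact

variable {F G H : ℤᵒᵖ ⥤ A} {f : F ⟶ G} {g : G ⟶ H}

/-- `gr` is right exact: a levelwise right exact sequence is right exact on graded pieces. -/
lemma gr_rightExact (hex : ∀ p, LevelExact f g p) (hepi : ∀ p : ℤ, Epi (g.app (op p))) (p : ℤ) :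
    GrExact f g p := by
  intro T yb hyb
  obtain ⟨T₁, π₁, _, y, hy⟩ := gr_lift yb
  have h1 : (y ≫ g.app (op p)) ≫ grπ H p = 0 := by
    rw [Category.assoc, ← grπ_naturality, ← reassoc_of% hy, hyb, comp_zero]
  obtain ⟨T₂, π₂, _, h', hh'⟩ := gr_ker _ h1
  have := hepi (p + 1)
  obtain ⟨T₃, π₃, _, y', hy'⟩ := surjective_up_to_refinements_of_epi (g.app (op (p + 1))) h'
  have h2 : (π₃ ≫ π₂ ≫ y - y' ≫ G.map (stepHom p)) ≫ g.app (op p) = 0 := by
    rw [Preadditive.sub_comp, Category.assoc, Category.assoc, Category.assoc, g.naturality,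
      ← reassoc_of% hy', hh', sub_self]
  obtain ⟨T₄, π₄, _, x, hx⟩ := hex p _ h2
  refine ⟨T₄, π₄ ≫ π₃ ≫ π₂ ≫ π₁, epi_comp _ _, x ≫ grπ F p, ?_⟩
  simp only [Category.assoc]
  rw [grπ_naturality, ← reassoc_of% hx, Preadditive.sub_comp]
  simp only [Category.assoc]
  rw [step_grπ, comp_zero, sub_zero, hy]

end rightExact

section steps

lemma mono_of_step_mono (F : ℤᵒᵖ ⥤ A) (h : ∀ p, Mono (F.map (stepHom p))) {p q : ℤ} (hpq : p ≤ q) :
    Mono (F.map (homOfLE hpq).op) := by
  induction q, hpq using Int.le_induction with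
  | base => rw [map_refl]; infer_instance
  | succ q hq ih =>
    rw [← map_step_trans F hq]
    have := h q
    exact mono_comp _ _

lemma mono_map_of_step_mono (F : ℤᵒᵖ ⥤ A) (h : ∀ p, Mono (F.map (stepHom p)))
    ⦃x y : ℤᵒᵖ⦄ (f : x ⟶ y) : Mono (F.map f) := by
  have hyx : y.unop ≤ x.unop := leOfHom f.unop
  have hf : f = (homOfLE hyx).op := hom_eq _ _
  rw [hf]
  exact mono_of_step_mono F h hyx

end steps

section coker

variable {X Y : FilF A} (δ : X ⟶ Y)

lemma cokernel_level_exact (p : ℤᵒᵖ) :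
    (ShortComplex.mk (δ.hom.app p) ((cokernel.π δ.hom).app p)
      (by rw [← NatTrans.comp_app, cokernel.condition]; rfl)).Exact :=
  (ShortComplex.exact_cokernel δ.hom).map ((evaluation ℤᵒᵖ A).obj p)

instance cokernel_level_epi (p : ℤᵒᵖ) : Epi ((cokernel.π δ.hom).app p) :=
  (NatTrans.epi_iff_epi_app _).1 inferInstance p

lemma levelExact_cokernel (p : ℤ) : LevelExact δ.hom (cokernel.π δ.hom) p :=
  fun _ y hy => (cokernel_level_exact δ (op p)).exact_up_to_refinements y hy

variable (hδ : StrictStep δ.hom)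
include hδ

lemma isFinFil_cokernel : IsFinFil A (cokernel δ.hom) := by
  have hstep : ∀ p, Mono ((cokernel δ.hom).map (stepHom p)) := by
    intro p
    apply Preadditive.mono_of_cancel_zero
    intro T w hw
    obtain ⟨T₁, π₁, _, y, hy⟩ :=
      surjective_up_to_refinements_of_epi ((cokernel.π δ.hom).app (op (p + 1))) w
    have h1 : (y ≫ Y.obj.map (stepHom p)) ≫ (cokernel.π δ.hom).app (op p) = 0 := by
      rw [Category.assoc, (cokernel.π δ.hom).naturality, ← reassoc_of% hy, hw, comp_zero]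
    obtain ⟨T₂, π₂, _, x, hx⟩ := levelExact_cokernel δ p _ h1
    obtain ⟨T₃, π₃, _, x', hx'⟩ := hδ p (π₂ ≫ y) x (by rw [Category.assoc, hx])
    have h0 : δ.hom.app (op (p + 1)) ≫ (cokernel.π δ.hom).app (op (p + 1)) = 0 := by
      rw [← NatTrans.comp_app, cokernel.condition]; rfl
    rw [← cancel_epi π₁, ← cancel_epi π₂, ← cancel_epi π₃, comp_zero, comp_zero, comp_zero, hy,
      reassoc_of% hx', h0, comp_zero]
  refine ⟨mono_map_of_step_mono _ hstep, ?_, ?_⟩
  · obtain ⟨b, hb⟩ := exists_isZero_ge Y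
    exact ⟨b, fun p hp => IsZero.of_epi ((cokernel.π δ.hom).app (op p)) (hb p hp)⟩
  · obtain ⟨a, ha⟩ := exists_isIso_le Y
    refine ⟨a, fun p q f hp => ?_⟩
    have : IsIso (Y.obj.map f) := ha f hp
    have := mono_map_of_step_mono _ hstep f
    have : Epi ((cokernel.π δ.hom).app p ≫ (cokernel δ.hom).map f) := by
      rw [← (cokernel.π δ.hom).naturality]
      infer_instance
    have : Epi ((cokernel δ.hom).map f) := epi_of_epi ((cokernel.π δ.hom).app p) _
    exact isIso_of_mono_of_epi _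

/-- The cokernel of a strict morphism. -/
noncomputable def cokerObj : FilF A := ⟨cokernel δ.hom, isFinFil_cokernel δ hδ⟩

/-- The projection to the cokernel. -/
noncomputable def cokerπ : Y ⟶ cokerObj δ hδ := (IsFinFil A).homMk (cokernel.π δ.hom)

@[simp] lemma cokerπ_hom : (cokerπ δ hδ).hom = cokernel.π δ.hom := rfl

@[reassoc (attr := simp)]
lemma comp_cokerπ : δ ≫ cokerπ δ hδ = 0 := by
  apply ObjectProperty.hom_ext
  exact cokernel.condition δ.hom

/-- descent to the cokernel -/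
noncomputable def cokerDesc {Z : FilF A} (g : Y ⟶ Z) (hg : δ ≫ g = 0) : cokerObj δ hδ ⟶ Z :=
  (IsFinFil A).homMk (cokernel.desc δ.hom g.hom (congrArg (fun φ => φ.hom) hg))

@[reassoc (attr := simp)]
lemma cokerπ_desc {Z : FilF A} (g : Y ⟶ Z) (hg : δ ≫ g = 0) :
    cokerπ δ hδ ≫ cokerDesc δ hδ g hg = g := by
  apply ObjectProperty.hom_ext
  exact cokernel.π_desc _ _ _

end coker

section misc

variable {X Y Z : FilF A}

/-- cancellation of a levelwise epimorphism -/
lemma cancel_level_epi (q : X ⟶ Y) (hq : ∀ p : ℤ, Epi (q.hom.app (op p))) {f g : Y ⟶ Z}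
    (h : q ≫ f = q ≫ g) : f = g := by
  apply ObjectProperty.hom_ext
  ext x
  have := hq x.unop
  have h' := app_congr h x
  rw [comp_hom_app, comp_hom_app] at h'
  exact (cancel_epi (q.hom.app x)).1 h'

/-- a levelwise epimorphism followed by a strict morphism is strict -/
lemma strictStep_comp_of_epi (q : X ⟶ Y) (m : Y ⟶ Z) (hq : ∀ p : ℤ, Epi (q.hom.app (op p)))
    (hm : StrictStep m.hom) : StrictStep (q ≫ m).hom := by
  intro p T y x hyx
  obtain ⟨T₁, π₁, _, w', hw'⟩ := hm p y (x ≫ q.hom.app (op p)) (by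
    rw [hyx, Category.assoc]; rfl)
  have := hq (p + 1)
  obtain ⟨T₂, π₂, _, x'', hx''⟩ := surjective_up_to_refinements_of_epi (q.hom.app (op (p + 1))) w'
  refine ⟨T₂, π₂ ≫ π₁, epi_comp _ _, x'', ?_⟩
  rw [Category.assoc, hw', reassoc_of% hx'']
  rfl

end misc

end Groth.Agent.Lib27.FilDLib
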