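import Groth.Agent.Lib27.FilD8

/-!
# Filtered injective resolutions of bounded below complexes of finite filtered objects
-/

universe v u
open CategoryTheory CategoryTheory.Limits Opposite

namespace Groth.Agent.Lib27.FilDLib

open FilD ZeroObject

variable {A : Type u} [Category.{v} A] [Abelian A]

/-- a morphism inducing monomorphisms on all graded pieces -/
def GrMono {X Y : FilF A} (f : X ⟶ Y) : Prop := ∀ p : ℤ, Mono ((grF A p).map f)

lemma GrMono.comp {X Y Z : FilF A} {f : X ⟶ Y} {g : Y ⟶ Z} (hf : GrMono f) (hg : GrMono g) :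
    GrMono (f ≫ g) := fun p => by
  have := hf p
  have := hg p
  rw [Functor.map_comp]
  exact mono_comp _ _

lemma GrMono.of_fac {X Y Z : FilF A} {f : X ⟶ Y} {g : Y ⟶ Z} {h : X ⟶ Z} (hh : GrMono h)
    (e : f ≫ g = h) : GrMono f := fun p => by
  have := hh p
  exact mono_of_mono_fac (show (grF A p).map f ≫ (grF A p).map g = (grF A p).map h by
    rw [← Functor.map_comp, e])

lemma GrMono.of_isZero {X Y : FilF A} (f : X ⟶ Y) (hX : IsZero X) : GrMono f := fun p => by
  have hz : IsZero ((grF A p).obj X) := Functor.map_isZero _ hX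
  exact ⟨fun _ _ _ => hz.eq_of_tgt _ _⟩

lemma GrMono.cancel {X Y : FilF A} {f : X ⟶ Y} (hf : GrMono f) (p : ℤ) {T : A}
    (z : T ⟶ (grF A p).obj X) (hz : z ≫ (grF A p).map f = 0) : z = 0 := by
  have := hf p
  exact (cancel_mono ((grF A p).map f)).1 (hz.trans zero_comp.symm)

variable (K : CochainComplex (FilF A) ℤ)

/-- The data of one stage of the inductive construction. -/
structure Stage (n : ℤ) where
  /-- the filtered injective object in degree `n` -/
  I : FilF A
  /-- the cokernel of the previous differential of the partial cone -/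
  W : FilF A
  /-- the component of the comparison map -/
  φ : K.X n ⟶ I
  /-- the projection from the term of the cone -/
  q : K.X (n + 1) ⊞ I ⟶ W
  /-- the remaining part of the differential of the cone -/
  r : W ⟶ K.X (n + 1 + 1)

namespace Stage

variable {K} {n : ℤ}

/-- invariants of a stage -/
structure Good (a : ℤ) (s : Stage K n) : Prop where
  qr : s.q ≫ s.r = biprod.fst ≫ (-(K.d (n + 1) (n + 1 + 1)))
  inj : IsFilteredInjective s.I
  zero : n < a → IsZero s.I
  grInl : GrMono (biprod.inl ≫ s.q)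
  grφ : GrMono s.φ
  epi : ∀ p : ℤ, Epi (s.q.hom.app (op p))

/-- the differential of the cone -/
noncomputable def δ (s : Stage K n) (s' : Stage K (n + 1)) (ψ : s.W ⟶ s'.I) :
    K.X (n + 1) ⊞ s.I ⟶ K.X (n + 1 + 1) ⊞ s'.I := s.q ≫ biprod.lift s.r ψ

/-- the relation between consecutive stages -/
structure Link (s : Stage K n) (s' : Stage K (n + 1)) (ψ : s.W ⟶ s'.I) : Prop where
  grψ : GrMono ψ
  φ_eq : s'.φ = biprod.inl ≫ s.q ≫ ψ
  zero : δ s s' ψ ≫ s'.q = 0
  exact : ∀ p, LevelExact (δ s s' ψ).hom s'.q.hom p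

variable (K) in
/-- the trivial stage -/
noncomputable def base (n : ℤ) : Stage K n where
  I := 0
  W := K.X (n + 1) ⊞ 0
  φ := 0
  q := 𝟙 _
  r := biprod.fst ≫ (-(K.d (n + 1) (n + 1 + 1)))

lemma isFilteredInjective_zero : IsFilteredInjective (0 : FilF A) := fun p =>
  Injective.of_iso (Functor.map_isZero (grF A p) (isZero_zero (FilF A))).isoZero.symm inferInstance

lemma base_good (a : ℤ) [K.IsStrictlyGE a] (hn : n ≤ a - 1) : Good a (base K n) where
  qr := Category.id_comp _
  inj := isFilteredInjective_zero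
  zero _ := isZero_zero _
  grInl := GrMono.of_fac (h := 𝟙 (K.X (n + 1))) (g := biprod.fst) (fun p => by
    rw [CategoryTheory.Functor.map_id]; infer_instance) (by simp [base])
  grφ := GrMono.of_isZero _ (K.isZero_of_isStrictlyGE a n (by omega))
  epi p := by
    show Epi ((𝟙 (K.X (n + 1) ⊞ (0 : FilF A))).hom.app (op p))
    rw [ObjectProperty.FullSubcategory.id_hom, NatTrans.id_app]
    infer_instance

lemma isZero_biprod {X Y : FilF A} (hX : IsZero X) (hY : IsZero Y) : IsZero (X ⊞ Y) := by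
  rw [IsZero.iff_id_eq_zero]
  apply biprod.hom_ext
  · exact hX.eq_of_tgt _ _
  · exact hY.eq_of_tgt _ _

lemma base_link (a : ℤ) [K.IsStrictlyGE a] (hn : n + 1 ≤ a - 1) :
    Link (base K n) (base K (n + 1)) 0 := by
  have hz : IsZero (K.X (n + 1) ⊞ (0 : FilF A)) :=
    isZero_biprod (K.isZero_of_isStrictlyGE a (n + 1) (by omega)) (isZero_zero _)
  refine ⟨GrMono.of_isZero _ hz, ?_, hz.eq_of_src _ _, ?_⟩
  · exact (isZero_zero (FilF A)).eq_of_tgt _ _
  · intro p T y hy
    refine ⟨T, 𝟙 _, inferInstance, 0, ?_⟩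
    have : y ≫ 𝟙 _ = 0 := hy
    rw [Category.comp_id] at this
    rw [this, comp_zero, zero_comp]


variable [EnoughInjectives A]

lemma step (a : ℤ) (hn : a - 1 ≤ n) (s : Stage K n) (hs : Good a s) :
    ∃ s' : Stage K (n + 1), Good a s' ∧ ∃ ψ : s.W ⟶ s'.I, Link s s' ψ := by
  obtain ⟨I', ψ, hI', _, _, hψg⟩ := exists_strict_mono_injective s.W
  have hψg' : GrMono ψ := hψg
  have hm_gr : GrMono (biprod.lift s.r ψ : s.W ⟶ K.X (n + 1 + 1) ⊞ I') :=
    GrMono.of_fac (g := biprod.snd) (h := ψ) hψg' (biprod.lift_snd _ _)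
  obtain ⟨hm_strict, _⟩ := strict_mono_of_gr_mono _ hm_gr
  have hδ : StrictStep (s.q ≫ (biprod.lift s.r ψ : s.W ⟶ K.X (n + 1 + 1) ⊞ I')).hom :=
    strictStep_comp_of_epi s.q _ hs.epi hm_strict
  have e_snd : (s.q ≫ (biprod.lift s.r ψ : s.W ⟶ K.X (n + 1 + 1) ⊞ I')) ≫ biprod.snd = s.q ≫ ψ := by
    rw [Category.assoc, biprod.lift_snd]
  have e_fst : (s.q ≫ (biprod.lift s.r ψ : s.W ⟶ K.X (n + 1 + 1) ⊞ I')) ≫ biprod.fst =
      s.q ≫ s.r := by
    rw [Category.assoc, biprod.lift_fst]
  have hr0 : (s.q ≫ (biprod.lift s.r ψ : s.W ⟶ K.X (n + 1 + 1) ⊞ I')) ≫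
      biprod.fst ≫ (-(K.d (n + 1 + 1) (n + 1 + 1 + 1))) = 0 := by
    rw [← Category.assoc, e_fst, hs.qr]
    simp
  refine ⟨⟨I', cokerObj _ hδ, biprod.inl ≫ s.q ≫ ψ, cokerπ _ hδ, cokerDesc _ hδ _ hr0⟩,
    ⟨cokerπ_desc _ hδ _ hr0, hI', fun h => by omega, ?_, ?_, fun p => cokernel_level_epi _ (op p)⟩,
    ψ, ⟨hψg', rfl, comp_cokerπ _ hδ, levelExact_cokernel _⟩⟩
  · intro p
    apply Preadditive.mono_of_cancel_zero
    intro T x hx
    have hx' : (x ≫ (grF A p).map biprod.inl) ≫ (grF A p).map (cokerπ _ hδ) = 0 := by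
      rw [Category.assoc, ← Functor.map_comp]
      exact hx
    obtain ⟨T', π, _, z, hz⟩ := gr_rightExact
      (levelExact_cokernel (s.q ≫ (biprod.lift s.r ψ : s.W ⟶ K.X (n + 1 + 1) ⊞ I')))
      (fun p => cokernel_level_epi _ (op p)) p (x ≫ (grF A p).map biprod.inl) hx'
    have hz' : π ≫ x ≫ (grF A p).map biprod.inl =
        z ≫ (grF A p).map (s.q ≫ (biprod.lift s.r ψ : s.W ⟶ K.X (n + 1 + 1) ⊞ I')) := hz
    have h1 : z ≫ (grF A p).map s.q = 0 := by
      apply hψg'.cancel p
      have := hz' =≫ (grF A p).map biprod.snd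
      simp only [Category.assoc, ← Functor.map_comp] at this
      rw [biprod.lift_snd, biprod.inl_snd, Functor.map_zero, comp_zero, comp_zero] at this
      rw [Category.assoc, ← Functor.map_comp]
      exact this.symm
    have h2 := hz' =≫ (grF A p).map biprod.fst
    simp only [Category.assoc, ← Functor.map_comp] at h2
    rw [biprod.lift_fst, biprod.inl_fst, CategoryTheory.Functor.map_id, Category.comp_id,
      Functor.map_comp, ← Category.assoc, h1, zero_comp] at h2
    rw [← cancel_epi π, h2, comp_zero]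
  · have := hs.grInl.comp hψg'
    rwa [Category.assoc] at this

end Stage

end Groth.Agent.Lib27.FilDLib
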