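import Mathlib
import Groth.Prelude.Def_Magnet

/-!
# The fixed-point subfunctor of an action is a sheaf for any subcanonical topology (helper27)
-/

universe v₁ u₁

open CategoryTheory CategoryTheory.Limits MonoidalCategory CartesianMonoidalCategory MonObj Opposite

namespace Groth.Agent.Lib27.FixedSheaf

variable {C : Type u₁} [Category.{v₁} C] [CartesianMonoidalCategory C]
variable {A X : C} [MonObj A]

theorem isSheaf_fixedPsh (J : GrothendieckTopology C) [J.Subcanonical] (a : Magnet.MonAct A X) :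
    Presieve.IsSheaf J (Magnet.MonAct.fixedPsh a) := by
  have hY : Presieve.IsSheaf J (yoneda.obj X) :=
    GrothendieckTopology.Subcanonical.isSheaf_of_isRepresentable _
  intro T R hR x hx
  -- the underlying family of points of `X`
  let y : Presieve.FamilyOfElements (yoneda.obj X) R.arrows := fun Y f hf => (x f hf).1
  have hy : y.Compatible := by
    intro Y₁ Y₂ Z g₁ g₂ f₁ f₂ h₁ h₂ e
    exact congrArg Subtype.val (hx g₁ g₂ h₁ h₂ e)
  obtain ⟨t, ht, htu⟩ := hY R hR y hy
  have ht' : ∀ ⦃Y : C⦄ (f : Y ⟶ T) (hf : R.arrows f), f ≫ t = (x f hf).1 := fun Y f hf => ht f hf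
  -- `t` is fixed
  have hfix : ∀ (T' : C) (s : T' ⟶ T) (g : T' ⟶ A), lift g (s ≫ t) ≫ a.act = s ≫ t := by
    intro T' s g
    have hS : (R.pullback s) ∈ J T' := J.pullback_stable s hR
    refine (hY (R.pullback s) hS).isSeparatedFor.ext ?_
    intro T'' u hu
    change u ≫ lift g (s ≫ t) ≫ a.act = u ≫ s ≫ t
    have h1 : (u ≫ s) ≫ t = (x (u ≫ s) hu).1 := ht' (u ≫ s) hu
    have h2 := (x (u ≫ s) hu).2 T'' (𝟙 _) (u ≫ g)
    rw [Category.id_comp] at h2
    rw [← Category.assoc u, comp_lift, ← Category.assoc u s t, h1, h2]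
  refine ⟨⟨t, hfix⟩, ?_, ?_⟩
  · intro Y f hf
    exact Subtype.ext (ht' f hf)
  · intro t' ht'am
    apply Subtype.ext
    apply htu
    intro Y f hf
    exact congrArg Subtype.val (ht'am f hf)

end Groth.Agent.Lib27.FixedSheaf
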