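import Groth.Agent.Lib27.Resol

/-!
# Resolutions by iterated covers, for classes closed under kernels of the covering epimorphisms
-/

set_option autoImplicit false
universe v u

open CategoryTheory CategoryTheory.Limits

namespace Groth.Agent.Lib27.Resol

variable {C : Type u} [Category.{v} C] [Abelian C]

namespace Cover

variable (D : Cover C) (Q : C → Prop)

/-- weaker hypotheses on the class `Q`: only kernels of the covering maps stay in `Q`. -/
structure Good2 : Prop where
  iso : ∀ {X Y : C}, (X ≅ Y) → Q X → Q Y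
  epi : ∀ X, Q X → Epi (D.π X)
  kerπ : ∀ X, Q X → Q (kernel (D.π X))

variable {D Q}

lemma Q_ker_d (h : D.Good2 Q) {X Y : C} (f : X ⟶ Y) (hk : Q (kernel f)) :
    Q (kernel (D.d f)) :=
  h.iso (kernelCompMono (D.π (kernel f)) (kernel.ι f)).symm (h.kerπ _ hk)

lemma Q_ker_complex (h : D.Good2 Q) (Z : C) (hZ : Q Z) :
    ∀ n, Q (kernel ((D.complex Z).d (n + 1) n))
  | 0 => by
    rw [complex_d_1_0]
    exact Q_ker_d h _ (h.kerπ Z hZ)
  | n + 1 => by
    rw [complex_d]
    exact h.iso (kernelIsIsoComp (D.complexXIso Z n).hom _).symm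
      (Q_ker_d h _ (Q_ker_complex h Z hZ n))

lemma exact_d2 (h : D.Good2 Q) {X Y : C} (f : X ⟶ Y) (hk : Q (kernel f)) :
    (ShortComplex.mk (D.d f) f (D.d_comp f)).Exact := by
  have := h.epi _ hk
  let α : ShortComplex.mk (D.d f) f (D.d_comp f) ⟶ ShortComplex.mk (kernel.ι f) f (by simp) :=
    { τ₁ := D.π _
      τ₂ := 𝟙 _
      τ₃ := 𝟙 _
      comm₁₂ := by simp [d] }
  rw [ShortComplex.exact_iff_of_epi_of_isIso_of_mono α]
  apply ShortComplex.exact_of_f_is_kernel
  apply kernelIsKernel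

lemma exactAt_succ2 (h : D.Good2 Q) (Z : C) (hZ : Q Z) (n : ℕ) :
    (D.complex Z).ExactAt (n + 1) := by
  rw [HomologicalComplex.exactAt_iff' _ (n + 1 + 1) (n + 1) n (by simp) (by simp)]
  have ex := exact_d2 h ((D.complex Z).d (n + 1) n) (Q_ker_complex h Z hZ n)
  show (ShortComplex.mk ((D.complex Z).d (n + 2) (n + 1)) ((D.complex Z).d (n + 1) n)
    ((D.complex Z).d_comp_d _ _ _)).Exact
  let α : ShortComplex.mk ((D.complex Z).d (n + 2) (n + 1)) ((D.complex Z).d (n + 1) n)
      ((D.complex Z).d_comp_d _ _ _) ⟶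
      ShortComplex.mk (D.d ((D.complex Z).d (n + 1) n)) ((D.complex Z).d (n + 1) n)
        (D.d_comp _) :=
    { τ₁ := (D.complexXIso Z n).hom
      τ₂ := 𝟙 ((D.complex Z).X (n + 1))
      τ₃ := 𝟙 ((D.complex Z).X n)
      comm₁₂ := by
        dsimp
        rw [Category.comp_id]
        exact (D.complex_d Z n).symm
      comm₂₃ := by
        dsimp
        rw [Category.comp_id, Category.id_comp] }
  have : IsIso α.τ₂ := inferInstanceAs (IsIso (𝟙 _))
  have : Mono α.τ₃ := inferInstanceAs (Mono (𝟙 _))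
  have : Epi α.τ₁ := inferInstanceAs (Epi (D.complexXIso Z n).hom)
  rw [ShortComplex.exact_iff_of_epi_of_isIso_of_mono α]
  exact ex

lemma quasiIso_aug2 (h : D.Good2 Q) (Z : C) (hZ : Q Z) : QuasiIso (D.aug Z) := by
  refine ⟨fun n => ?_⟩
  cases n with
  | zero =>
    rw [ChainComplex.quasiIsoAt₀_iff, ShortComplex.quasiIso_iff_of_zeros']
    · have := h.epi Z hZ
      refine (ShortComplex.exact_and_epi_g_iff_of_iso ?_).2
        ⟨exact_d2 h (D.π Z) (h.kerπ _ hZ), by dsimp; infer_instance⟩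
      exact ShortComplex.isoMk (Iso.refl _) (Iso.refl _) (Iso.refl _)
        (by
          show 𝟙 _ ≫ D.d (D.π Z) = (D.complex Z).d 1 0 ≫ 𝟙 _
          rw [complex_d_1_0, Category.id_comp, Category.comp_id])
        (by
          show 𝟙 _ ≫ D.π Z = (D.aug Z).f 0 ≫ 𝟙 _
          rw [Category.id_comp, Category.comp_id, aug,
            ChainComplex.toSingle₀Equiv_symm_apply_f_zero])
    all_goals rfl
  | succ n =>
    rw [quasiIsoAt_iff_exactAt']
    · exact exactAt_succ2 h Z hZ n
    · apply ChainComplex.exactAt_succ_single_obj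

/-- every term of the complex is (isomorphic to) a cover. -/
lemma exists_X_iso_cov (Z : C) (n : ℕ) :
    ∃ Y, Nonempty ((D.complex Z).X n ≅ D.cov Y) := by
  match n with
  | 0 => exact ⟨Z, ⟨Iso.refl _⟩⟩
  | 1 => exact ⟨_, ⟨Iso.refl _⟩⟩
  | n + 2 => exact ⟨_, ⟨D.complexXIso Z n⟩⟩

end Cover

end Groth.Agent.Lib27.Resol
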