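import Groth.Agent.Lib27.TorTools
import Groth.Agent.Lib.Helper9.FlatCrit

/-!
# S6377, part 1: `Tor_i(N, M) = 0` for modules `N` killed by `I` (helper27)
-/

set_option autoImplicit false
universe u
open CategoryTheory CategoryTheory.Limits TensorProduct

namespace Groth.Agent.Lib27.FlatTor

open Groth.Agent.Lib27.TorTools

variable {A : Type u} [CommRing A] (M : Type u) [AddCommGroup M] [Module A M] (I : Ideal A)

/-- `N` is killed by `I`. -/
def Killed (N : Type u) [AddCommGroup N] [Module A N] : Prop := ∀ a ∈ I, ∀ y : N, a • y = 0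

variable {I}

theorem Killed.isTorsionBySet {N : Type u} [AddCommGroup N] [Module A N] (h : Killed I N) :
    Module.IsTorsionBySet A N (I : Set A) := fun y a => h a.1 a.2 y

theorem Killed.submodule {N : Type u} [AddCommGroup N] [Module A N] (h : Killed I N)
    (N' : Submodule A N) : Killed I N' := fun a ha y => Subtype.ext (h a ha y.1)

theorem Killed.quotient {N : Type u} [AddCommGroup N] [Module A N] (h : Killed I N)
    (N' : Submodule A N) : Killed I (N ⧸ N') := by
  intro a ha y
  obtain ⟨y, rfl⟩ := Submodule.Quotient.mk_surjective _ y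
  rw [← Submodule.Quotient.mk_smul, h a ha y, Submodule.Quotient.mk_zero]

theorem killed_quotient_ideal : Killed I (A ⧸ I) := by
  intro a ha y
  obtain ⟨y, rfl⟩ := Ideal.Quotient.mk_surjective y
  rw [Algebra.smul_def, Ideal.Quotient.algebraMap_eq, ← map_mul, Ideal.Quotient.eq_zero_iff_mem]
  exact I.mul_mem_right _ ha

variable [Module.Flat (A ⧸ I) ((A ⧸ I) ⊗[A] M)]

/-- the cyclic step -/
theorem W_cyclic {i : ℕ} (hAI : W (ModuleCat.of A M) (i + 1) (A ⧸ I))
    (hprev : i = 0 ∨ ∀ (N : Type u) [AddCommGroup N] [Module A N], Killed I N →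
      W (ModuleCat.of A M) i N) (J : Ideal A) (hIJ : I ≤ J) :
    W (ModuleCat.of A M) (i + 1) (A ⧸ J) := by
  let g : (A ⧸ I) →ₗ[A] (A ⧸ J) := Submodule.mapQ I J LinearMap.id hIJ
  have hg : Function.Surjective g := by
    intro y
    obtain ⟨y, rfl⟩ := Ideal.Quotient.mk_surjective y
    exact ⟨Ideal.Quotient.mk I y, rfl⟩
  let X₁ := LinearMap.ker g
  have hX₁ : Killed I X₁ := (killed_quotient_ideal (I := I)).submodule X₁
  have hex : Function.Exact X₁.subtype g := LinearMap.exact_subtype_ker_map g
  rcases hprev with rfl | hprev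
  · refine W_one_right X₁.subtype g (Submodule.injective_subtype _) hg hex hAI ?_
    exact Groth.Agent.Lib.Helper9.rTensor_injective_of_isTorsionBySet M I hX₁.isTorsionBySet
      (killed_quotient_ideal (I := I)).isTorsionBySet X₁.subtype (Submodule.injective_subtype _)
  · exact W_right X₁.subtype g (Submodule.injective_subtype _) hg hex hAI (hprev X₁ hX₁)

/-- finitely generated `I`-killed modules, by induction on the number of generators -/
theorem W_of_span_range {i : ℕ}
    (hcyc : ∀ J : Ideal A, I ≤ J → W (ModuleCat.of A M) (i + 1) (A ⧸ J)) :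
    ∀ (k : ℕ) (N : Type u) [AddCommGroup N] [Module A N], Killed I N →
      ∀ x : Fin k → N, Submodule.span A (Set.range x) = ⊤ → W (ModuleCat.of A M) (i + 1) N := by
  intro k
  induction k with
  | zero =>
    intro N _ _ _ x hx
    have : Subsingleton N := by
      rw [← Submodule.subsingleton_iff A, ← subsingleton_iff_bot_eq_top, ← hx]
      simp
    exact W_of_subsingleton i N
  | succ k ih =>
    intro N _ _ hN x hx
    let N₁ : Submodule A N := Submodule.span A (Set.range (x ∘ Fin.castSucc))
    let y : N := x (Fin.last k)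
    have hsup : N₁ ⊔ Submodule.span A {y} = ⊤ := by
      rw [eq_top_iff, ← hx, Submodule.span_le]
      rintro _ ⟨j, rfl⟩
      induction j using Fin.lastCases with
      | last => exact Submodule.mem_sup_right (Submodule.subset_span rfl)
      | cast j => exact Submodule.mem_sup_left (Submodule.subset_span ⟨j, rfl⟩)
    -- `N₁` is generated by `k` elements
    have h1 : W (ModuleCat.of A M) (i + 1) N₁ := by
      refine ih N₁ (hN.submodule N₁) (fun j => ⟨x (Fin.castSucc j), Submodule.subset_span ⟨j, rfl⟩⟩) ?_
      apply Submodule.map_injective_of_injective (Submodule.injective_subtype N₁)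
      rw [Submodule.map_span, Submodule.map_top, Submodule.range_subtype, ← Set.range_comp]
      rfl
    -- the quotient is cyclic
    let φ : A →ₗ[A] (N ⧸ N₁) := LinearMap.toSpanSingleton A (N ⧸ N₁) (N₁.mkQ y)
    have hφ : Function.Surjective φ := by
      intro z
      obtain ⟨z, rfl⟩ := Submodule.Quotient.mk_surjective _ z
      have hz : z ∈ N₁ ⊔ Submodule.span A {y} := by rw [hsup]; trivial
      obtain ⟨n₁, hn₁, w, hw, rfl⟩ := Submodule.mem_sup.mp hz
      obtain ⟨c, rfl⟩ := Submodule.mem_span_singleton.mp hw
      refine ⟨c, ?_⟩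
      change c • N₁.mkQ y = _
      rw [Submodule.Quotient.mk_add, (Submodule.Quotient.mk_eq_zero N₁).mpr hn₁, zero_add]
      rfl
    let J : Ideal A := LinearMap.ker φ
    have hIJ : I ≤ J := by
      intro a ha
      change φ a = 0
      change a • N₁.mkQ y = 0
      exact hN.quotient N₁ a ha _
    have h3 : W (ModuleCat.of A M) (i + 1) (N ⧸ N₁) :=
      W_of_equiv (φ.quotKerEquivOfSurjective hφ) (hcyc J hIJ)
    exact W_mid N₁.subtype N₁.mkQ (Submodule.injective_subtype _) (Submodule.mkQ_surjective _)
      (LinearMap.exact_subtype_mkQ N₁) h1 h3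

/-- all `I`-killed modules -/
theorem W_of_killed : ∀ (n : ℕ),
    (∀ i, i < n → W (ModuleCat.of A M) (i + 1) (A ⧸ I)) →
    ∀ i, i < n → ∀ (N : Type u) [AddCommGroup N] [Module A N], Killed I N →
      W (ModuleCat.of A M) (i + 1) N := by
  intro n hAI i
  induction i with
  | zero =>
    intro hi N _ _ hN
    apply W_of_fg_submodules
    intro N' hN'
    obtain ⟨k, x, hx⟩ := Submodule.fg_iff_exists_fin_generating_family.mp hN'
    refine W_of_span_range M (fun J hIJ => W_cyclic M (hAI 0 hi) (Or.inl rfl) J hIJ) k N'
      (hN.submodule N') (fun j => ⟨x j, hx ▸ Submodule.subset_span ⟨j, rfl⟩⟩) ?_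
    apply Submodule.map_injective_of_injective (Submodule.injective_subtype N')
    rw [Submodule.map_span, Submodule.map_top, Submodule.range_subtype, ← Set.range_comp]
    exact hx
  | succ i ih =>
    intro hi N _ _ hN
    have ih' := ih (by omega)
    apply W_of_fg_submodules
    intro N' hN'
    obtain ⟨k, x, hx⟩ := Submodule.fg_iff_exists_fin_generating_family.mp hN'
    refine W_of_span_range M (fun J hIJ => W_cyclic M (hAI (i + 1) hi)
      (Or.inr fun N _ _ hN => ih' N hN) J hIJ) k N'
      (hN.submodule N') (fun j => ⟨x j, hx ▸ Submodule.subset_span ⟨j, rfl⟩⟩) ?_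
    apply Submodule.map_injective_of_injective (Submodule.injective_subtype N')
    rw [Submodule.map_span, Submodule.map_top, Submodule.range_subtype, ← Set.range_comp]
    exact hx

end Groth.Agent.Lib27.FlatTor
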