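import Groth.Agent.Lib27.FlatTor1

/-!
# S6377, part 2: modules killed by powers of the generators (helper27)
-/

set_option autoImplicit false
universe u
open CategoryTheory CategoryTheory.Limits TensorProduct

namespace Groth.Agent.Lib27.FlatTor

open Groth.Agent.Lib27.TorTools

variable {A : Type u} [CommRing A] (M : ModuleCat.{u} A) {r : ℕ} (f : Fin r → A)

/-- `X` is killed by `f j ^ a j` for all `j`. -/
def Kill (a : Fin r → ℕ) (X : Type u) [AddCommGroup X] [Module A X] : Prop :=
  ∀ (j : Fin r) (x : X), f j ^ a j • x = 0

variable {M f}

theorem W_of_kill {i : ℕ}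
    (hI : ∀ (N : Type u) [AddCommGroup N] [Module A N], Killed (Ideal.span (Set.range f)) N →
      W M i N) :
    ∀ (s : ℕ) (a : Fin r → ℕ), ∑ j, a j = s → ∀ (X : Type u) [AddCommGroup X] [Module A X],
      Kill f a X → W M i X := by
  intro s
  induction s using Nat.strong_induction_on with
  | _ s ih =>
    intro a ha X _ _ hX
    by_cases hsmall : ∀ j, a j ≤ 1
    · apply hI
      intro c hc x
      induction hc using Submodule.span_induction with
      | mem c hc =>
        obtain ⟨j, rfl⟩ := hc
        have h1 := hX j x
        rcases Nat.le_one_iff_eq_zero_or_eq_one.mp (hsmall j) with h0 | h0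
        · rw [h0, pow_zero, one_smul] at h1
          rw [h1, smul_zero]
        · rwa [h0, pow_one] at h1
      | zero => exact zero_smul _ _
      | add c d _ _ hc hd => rw [add_smul, hc, hd, add_zero]
      | smul c d _ hd => rw [smul_eq_mul, mul_smul, hd, smul_zero]
    · push Not at hsmall
      obtain ⟨j₀, hj₀⟩ := hsmall
      let X₁ : Submodule A X := LinearMap.range (LinearMap.lsmul A X (f j₀))
      have hsum : ∑ j, a j = a j₀ + ∑ j ∈ Finset.univ.erase j₀, a j :=
        (Finset.add_sum_erase _ _ (Finset.mem_univ j₀)).symm
      -- the submodule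
      have h1 : W M i X₁ := by
        refine ih (s - 1) (by omega) (Function.update a j₀ (a j₀ - 1)) ?_ X₁ ?_
        · rw [← Finset.add_sum_erase _ _ (Finset.mem_univ j₀), Function.update_self]
          have : ∑ j ∈ Finset.univ.erase j₀, Function.update a j₀ (a j₀ - 1) j =
              ∑ j ∈ Finset.univ.erase j₀, a j := by
            apply Finset.sum_congr rfl
            intro j hj
            rw [Function.update_of_ne (Finset.ne_of_mem_erase hj)]
          rw [this]
          omega
        · rintro j ⟨_, ⟨x, rfl⟩⟩
          apply Subtype.ext
          change f j ^ (Function.update a j₀ (a j₀ - 1) j) • (f j₀ • x) = 0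
          by_cases hj : j = j₀
          · subst hj
            rw [Function.update_self, smul_smul, ← pow_succ]
            have : a j - 1 + 1 = a j := by omega
            rw [this]
            exact hX j x
          · rw [Function.update_of_ne hj, smul_comm, hX j x, smul_zero]
      have h3 : W M i (X ⧸ X₁) := by
        refine ih (s - a j₀ + 1) (by omega) (Function.update a j₀ 1) ?_ (X ⧸ X₁) ?_
        · rw [← Finset.add_sum_erase _ _ (Finset.mem_univ j₀), Function.update_self]
          have : ∑ j ∈ Finset.univ.erase j₀, Function.update a j₀ 1 j =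
              ∑ j ∈ Finset.univ.erase j₀, a j := by
            apply Finset.sum_congr rfl
            intro j hj
            rw [Function.update_of_ne (Finset.ne_of_mem_erase hj)]
          rw [this]
          omega
        · intro j x
          obtain ⟨x, rfl⟩ := Submodule.Quotient.mk_surjective _ x
          rw [← Submodule.Quotient.mk_smul]
          by_cases hj : j = j₀
          · subst hj
            rw [Function.update_self, pow_one, Submodule.Quotient.mk_eq_zero]
            exact ⟨x, rfl⟩
          · rw [Function.update_of_ne hj, hX j x, Submodule.Quotient.mk_zero]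
      exact W_mid X₁.subtype X₁.mkQ (Submodule.injective_subtype _) (Submodule.mkQ_surjective _)
        (LinearMap.exact_subtype_mkQ X₁) h1 h3

/-- `N` is `f j`-power torsion for all `j < k`. -/
def Tors (f : Fin r → A) (k : ℕ) (N : Type u) [AddCommGroup N] [Module A N] : Prop :=
  ∀ (x : N) (j : Fin r), j.val < k → ∃ n : ℕ, f j ^ n • x = 0

/-- finitely generated submodules of a module which is `f j`-power torsion for all `j` are killed
by uniform powers -/
theorem exists_kill_of_fg {N : Type u} [AddCommGroup N] [Module A N] (hN : Tors f r N)
    (N' : Submodule A N) (hN' : N'.FG) : ∃ a : Fin r → ℕ, Kill f a N' := by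
  classical
  obtain ⟨S, rfl⟩ := hN'
  choose n hn using fun (x : N) (j : Fin r) => hN x j j.2
  refine ⟨fun j => ∑ s ∈ S, n s j, ?_⟩
  rintro j ⟨x, hx⟩
  apply Subtype.ext
  change f j ^ (∑ s ∈ S, n s j) • x = 0
  induction hx using Submodule.span_induction with
  | mem x hx =>
    have hxS : x ∈ S := hx
    rw [← Finset.add_sum_erase _ _ hxS, add_comm, pow_add, mul_smul, hn x j, smul_zero]
  | zero => exact smul_zero _
  | add x y _ _ hx hy => rw [smul_add, hx, hy, add_zero]
  | smul c x _ hx => rw [smul_comm, hx, smul_zero]

end Groth.Agent.Lib27.FlatTor
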