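import Groth.Agent.Lib27.FlatTor2
import Groth.Agent.Lib.Helper28.TorBC
import Mathlib.RingTheory.Localization.BaseChange

/-!
# S6377, part 3: localization and the downward induction (helper27)
-/

set_option autoImplicit false
universe u
open CategoryTheory CategoryTheory.Limits TensorProduct

namespace Groth.Agent.Lib27.FlatTor

open Groth.Agent.Lib27.TorTools Groth.Agent.Lib.Helper4 Groth.Agent.Lib.Helper9.TorSymm

variable {A : Type u} [CommRing A] (M : Type u) [AddCommGroup M] [Module A M]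

/-- `Tor_i^A(P', M) = 0` for `i > 0` when `P'` is a module over `A_g` and `M_g` is flat over
`A_g`. -/
theorem W_of_localization (g : A)
    (hflat : Module.Flat (Localization (Submonoid.powers g))
      (LocalizedModule (Submonoid.powers g) M))
    (P' : Type u) [AddCommGroup P'] [Module (Localization (Submonoid.powers g)) P'] [Module A P']
    [IsScalarTower A (Localization (Submonoid.powers g)) P'] (i : ℕ) (hi : 0 < i) :
    W (ModuleCat.of A M) i P' := by
  let A' := Localization (Submonoid.powers g)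
  obtain ⟨e⟩ := Groth.Agent.Lib.Helper28.TorBC.nonempty_restrict_tor_iso A A' P'
    (ModuleCat.of A M) i
  have e1 : A' ⊗[A] M ≃ₗ[A'] LocalizedModule (Submonoid.powers g) M :=
    (IsLocalizedModule.isBaseChange (Submonoid.powers g) A'
      (LocalizedModule.mkLinearMap (Submonoid.powers g) M)).equiv
  have hfl1 : Module.Flat A' (A' ⊗[A] M) := Module.Flat.of_linearEquiv e1
  have hfl : Module.Flat A'
      ((ModuleCat.extendScalars.{u, u, u} (algebraMap A A')).obj (ModuleCat.of A M)) :=
    Module.Flat.of_linearEquiv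
      (Groth.Agent.Lib.Helper28.FlatCx.extendScalarsEquiv A' (ModuleCat.of A M))
  have hz : IsZero (((Tor (ModuleCat.{u} A') i).obj (ModuleCat.of A' P')).obj
      ((ModuleCat.extendScalars.{u, u, u} (algebraMap A A')).obj (ModuleCat.of A M))) :=
    isZero_tor_swap (isZero_tor_of_flat _ _ i hi)
  exact ((ModuleCat.restrictScalars.{u} (algebraMap A A')).map_isZero hz).of_iso e.symm


variable {M} {r : ℕ} {f : Fin r → A}

/-- the downward step -/
theorem step (h1 : ∀ i, Module.Flat (Localization.Away (f i))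
      (LocalizedModule (Submonoid.powers (f i)) M))
    (k : ℕ) (hk : k < r)
    (ih : ∀ (N : Type u) [AddCommGroup N] [Module A N], Tors f (k + 1) N →
      ∀ i, 1 ≤ i → i ≤ k + 2 → W (ModuleCat.of A M) i N)
    (N : Type u) [AddCommGroup N] [Module A N] (hN : Tors f k N) (i : ℕ) (hi1 : 1 ≤ i)
    (hi2 : i ≤ k + 1) : W (ModuleCat.of A M) i N := by
  set g := f ⟨k, hk⟩ with hg
  let S := Submonoid.powers g
  let T : Submodule A N := Submodule.torsion' A N S
  have hT_mem : ∀ x : N, x ∈ T ↔ ∃ n : ℕ, g ^ n • x = 0 := by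
    intro x
    rw [Submodule.mem_torsion'_iff]
    constructor
    · rintro ⟨⟨_, n, rfl⟩, hn⟩
      exact ⟨n, hn⟩
    · rintro ⟨n, hn⟩
      exact ⟨⟨g ^ n, n, rfl⟩, hn⟩
  have hTt : Tors f (k + 1) T := by
    rintro ⟨x, hx⟩ j hj
    by_cases hjk : j.val < k
    · obtain ⟨n, hn⟩ := hN x j hjk
      exact ⟨n, Subtype.ext hn⟩
    · have hj' : j = ⟨k, hk⟩ := Fin.ext (by simp only; omega)
      obtain ⟨n, hn⟩ := (hT_mem x).mp hx
      refine ⟨n, Subtype.ext ?_⟩
      rw [hj']
      exact hn
  let N' := N ⧸ T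
  have hN' : Tors f k N' := by
    intro x j hj
    obtain ⟨x, rfl⟩ := Submodule.Quotient.mk_surjective _ x
    obtain ⟨n, hn⟩ := hN x j hj
    exact ⟨n, by rw [← Submodule.Quotient.mk_smul, hn, Submodule.Quotient.mk_zero]⟩
  let ι : N' →ₗ[A] LocalizedModule S N' := LocalizedModule.mkLinearMap S N'
  have hι : Function.Injective ι := by
    rw [← LinearMap.ker_eq_bot, eq_bot_iff]
    intro x hx
    rw [Submodule.mem_bot]
    obtain ⟨x, rfl⟩ := Submodule.Quotient.mk_surjective _ x
    obtain ⟨⟨_, n, rfl⟩, hc⟩ := (IsLocalizedModule.eq_zero_iff S ι).mp hx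
    have hc' : (Submodule.Quotient.mk (g ^ n • x) : N ⧸ T) = 0 := hc
    rw [Submodule.Quotient.mk_eq_zero, hT_mem] at hc'
    obtain ⟨m, hm⟩ := hc'
    rw [Submodule.Quotient.mk_eq_zero, hT_mem]
    exact ⟨m + n, by rw [pow_add, mul_smul, hm]⟩
  let Q := LocalizedModule S N' ⧸ LinearMap.range ι
  have hQ : Tors f (k + 1) Q := by
    intro q j hj
    obtain ⟨y, rfl⟩ := Submodule.Quotient.mk_surjective _ q
    obtain ⟨⟨m, ⟨_, n, rfl⟩⟩, hms⟩ := IsLocalizedModule.surj S ι y
    have hms' : g ^ n • y = ι m := hms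
    by_cases hjk : j.val < k
    · obtain ⟨b, hb⟩ := hN' m j hjk
      refine ⟨b, ?_⟩
      rw [← Submodule.Quotient.mk_smul]
      have : f j ^ b • y = 0 := by
        apply IsLocalizedModule.smul_injective ι (⟨g ^ n, n, rfl⟩ : S)
        change g ^ n • (f j ^ b • y) = g ^ n • 0
        rw [smul_zero, smul_comm, hms', ← map_smul, hb, map_zero]
      rw [this, Submodule.Quotient.mk_zero]
    · have hj' : j = ⟨k, hk⟩ := Fin.ext (by simp only; omega)
      refine ⟨n, ?_⟩
      rw [hj', ← Submodule.Quotient.mk_smul, Submodule.Quotient.mk_eq_zero]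
      exact ⟨m, hms'.symm⟩
  have hLoc : ∀ i, 0 < i → W (ModuleCat.of A M) i (LocalizedModule S N') := fun i hi =>
    W_of_localization M g (h1 ⟨k, hk⟩) (LocalizedModule S N') i hi
  have hN'W : W (ModuleCat.of A M) i N' :=
    W_left ι (LinearMap.range ι).mkQ hι (Submodule.mkQ_surjective _)
      (LinearMap.exact_map_mkQ_range ι) (ih Q hQ (i + 1) (by omega) (by omega)) (hLoc i (by omega))
  exact W_mid T.subtype T.mkQ (Submodule.injective_subtype _) (Submodule.mkQ_surjective _)
    (LinearMap.exact_subtype_mkQ T) (ih T hTt i hi1 (by omega)) hN'W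

theorem main {r : ℕ} (f : Fin r → A)
    (h1 : ∀ i, Module.Flat (Localization.Away (f i)) (LocalizedModule (Submonoid.powers (f i)) M))
    (h2 : Module.Flat (A ⧸ Ideal.span (Set.range f)) ((A ⧸ Ideal.span (Set.range f)) ⊗[A] M))
    (h3 : ∀ i : ℕ, 1 ≤ i → i ≤ r + 1 →
      Limits.IsZero (((CategoryTheory.Tor (ModuleCat.{u} A) i).obj (ModuleCat.of A M)).obj
        (ModuleCat.of A (A ⧸ Ideal.span (Set.range f))))) :
    Module.Flat A M := by
  have hAI : ∀ i, i < r + 1 →
      W (ModuleCat.of A M) (i + 1) (A ⧸ Ideal.span (Set.range f)) := fun i hi =>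
    isZero_tor_swap (h3 (i + 1) (by omega) (by omega))
  have hkilled := W_of_killed M (r + 1) hAI
  -- the base of the downward induction
  have base : ∀ (N : Type u) [AddCommGroup N] [Module A N], Tors f r N →
      ∀ i, 1 ≤ i → i ≤ r + 1 → W (ModuleCat.of A M) i N := by
    intro N _ _ hN i hi1 hi2
    obtain ⟨i, rfl⟩ : ∃ j, i = j + 1 := ⟨i - 1, by omega⟩
    apply W_of_fg_submodules
    intro N' hN'
    obtain ⟨a, ha⟩ := exists_kill_of_fg hN N' hN'
    exact W_of_kill (fun X _ _ hX => hkilled i (by omega) X hX) _ a rfl N' ha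
  have key : ∀ d, d ≤ r → ∀ (N : Type u) [AddCommGroup N] [Module A N], Tors f (r - d) N →
      ∀ i, 1 ≤ i → i ≤ r - d + 1 → W (ModuleCat.of A M) i N := by
    intro d
    induction d with
    | zero => intro _ N _ _ hN i hi1 hi2; exact base N hN i hi1 hi2
    | succ d ih =>
      intro hd N _ _ hN i hi1 hi2
      have ih' := ih (by omega)
      have hkk : r - (d + 1) + 1 = r - d := by omega
      refine step h1 (r - (d + 1)) (by omega) ?_ N hN i hi1 hi2
      intro N₂ _ _ hN₂ j hj1 hj2
      rw [hkk] at hN₂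
      exact ih' N₂ hN₂ j hj1 (by omega)
  apply flat_of_isZero_tor_one_quotient
  intro J
  have := key r le_rfl (A ⧸ J) (by intro x j hj; omega) 1 le_rfl (by omega)
  exact this

end Groth.Agent.Lib27.FlatTor
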