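import Mathlib.RingTheory.IntegralClosure.IsIntegral.Basic
import Mathlib.RingTheory.Artinian.Module
import Mathlib.RingTheory.Spectrum.Prime.Topology
import Mathlib.RingTheory.Ideal.Quotient.Operations
import Mathlib.RingTheory.FiniteType

/-!
# Finiteness of a zero locus cut out by "Frobenius-fixed" equations
-/

set_option autoImplicit false

namespace Groth.Agent.Lib27.FrobFinite

theorem finite_zeroLocus_of_periodic_generators {K C : Type*} [Field K] [CommRing C]
    (β : K →+* C) (q : ℕ) (hq : 1 < q) (I : Ideal C) {ι : Type*} [Finite ι] (x : ι → C)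
    (hx : ∀ i, x i ^ q - x i ∈ I)
    (hgen : ∀ S : Subring C, (∀ c, β c ∈ S) → (∀ i, x i ∈ S) → S = ⊤) :
    (PrimeSpectrum.zeroLocus (I : Set C)).Finite := by
  letI : Algebra K C := β.toAlgebra
  have hadj : Algebra.adjoin K (Set.range x) = ⊤ := by
    apply Subalgebra.toSubring_injective
    rw [Algebra.top_toSubring]
    exact hgen _ (fun c => (Algebra.adjoin K (Set.range x)).algebraMap_mem c)
      (fun i => Algebra.subset_adjoin ⟨i, rfl⟩)
  let m : C →ₐ[K] C ⧸ I := Ideal.Quotient.mkₐ K I
  have hm : Function.Surjective m := Ideal.Quotient.mkₐ_surjective K I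
  have hadj' : Algebra.adjoin K (Set.range (fun i => m (x i))) = ⊤ := by
    have h1 := congrArg (Subalgebra.map m) hadj
    rw [AlgHom.map_adjoin, Algebra.map_top, (AlgHom.range_eq_top m).mpr hm, ← Set.range_comp] at h1
    exact h1
  have hint : ∀ y ∈ Set.range (fun i => m (x i)), IsIntegral K y := by
    rintro _ ⟨i, rfl⟩
    refine ⟨Polynomial.X ^ q - Polynomial.X, Polynomial.monic_X_pow_sub ?_, ?_⟩
    · rw [Polynomial.degree_X]
      exact_mod_cast hq
    · have h0 : m (x i ^ q - x i) = 0 := Ideal.Quotient.eq_zero_iff_mem.mpr (hx i)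
      rw [map_sub, map_pow] at h0
      simpa using h0
  have hfg := fg_adjoin_of_finite (Set.finite_range _) hint
  rw [hadj', Algebra.top_toSubmodule] at hfg
  haveI : Module.Finite K (C ⧸ I) := ⟨hfg⟩
  haveI : IsArtinianRing (C ⧸ I) := IsArtinianRing.of_finite K _
  have : PrimeSpectrum.zeroLocus (I : Set C) =
      Set.range (PrimeSpectrum.comap (Ideal.Quotient.mk I)) := by
    rw [_root_.range_comap_of_surjective _ _ Ideal.Quotient.mk_surjective, Ideal.mk_ker]
  rw [this]
  exact Set.finite_range _

/-- A finite-type ring map has finitely many generators, in subring form. -/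
theorem exists_finset_generators {R A : Type*} [CommRing R] [CommRing A] (φ : R →+* A)
    (hφ : φ.FiniteType) :
    ∃ s : Finset A, ∀ S : Subring A, (∀ r, φ r ∈ S) → (∀ a ∈ s, a ∈ S) → S = ⊤ := by
  letI : Algebra R A := φ.toAlgebra
  obtain ⟨s, hs⟩ := (hφ : Algebra.FiniteType R A).out
  refine ⟨s, fun S h1 h2 => ?_⟩
  let S' : Subalgebra R A := { S.toSubsemiring with algebraMap_mem' := h1 }
  have hle : Algebra.adjoin R (s : Set A) ≤ S' := Algebra.adjoin_le (fun a ha => h2 a ha)
  rw [hs] at hle
  rw [eq_top_iff]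
  intro a _
  exact hle (Algebra.mem_top)

end Groth.Agent.Lib27.FrobFinite
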