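import Mathlib.Algebra.CharP.Lemmas
import Mathlib.Algebra.CharP.Algebra
import Mathlib.FieldTheory.Finite.Basic
import Mathlib.FieldTheory.IntermediateField.Adjoin.Basic
import Mathlib.RingTheory.Nilpotent.Basic

/-!
# Frobenius-periodic elements

An element `x` of a ring with `p = 0` is *periodic* if `x ^ p ^ n = x` for some `n > 0`.
Periodic elements form a subring; a ring all of whose elements are periodic is reduced.
-/

set_option autoImplicit false

namespace Groth.Agent.Lib27.FrobPeriodic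

variable {R : Type*} [CommRing R] (p : ℕ) [hp : Fact p.Prime]

/-- `x ^ p ^ n = x` for some `n > 0`. -/
def IsPer (x : R) : Prop := ∃ n : ℕ, 0 < n ∧ x ^ p ^ n = x

variable {p}

lemma pow_mul_of_pow_eq {x : R} {n : ℕ} (h : x ^ p ^ n = x) (m : ℕ) : x ^ p ^ (n * m) = x := by
  induction m with
  | zero => simp
  | succ m ih => rw [Nat.mul_succ, pow_add, pow_mul, ih, h]

lemma IsPer.mul {x y : R} (hx : IsPer p x) (hy : IsPer p y) : IsPer p (x * y) := by
  obtain ⟨n, hn, hx⟩ := hx
  obtain ⟨m, hm, hy⟩ := hy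
  refine ⟨n * m, Nat.mul_pos hn hm, ?_⟩
  rw [mul_pow, pow_mul_of_pow_eq hx m, Nat.mul_comm, pow_mul_of_pow_eq hy n]

lemma IsPer.add (hpR : (p : R) = 0) {x y : R} (hx : IsPer p x) (hy : IsPer p y) :
    IsPer p (x + y) := by
  obtain ⟨n, hn, hx⟩ := hx
  obtain ⟨m, hm, hy⟩ := hy
  refine ⟨n * m, Nat.mul_pos hn hm, ?_⟩
  rcases subsingleton_or_nontrivial R with h | h
  · exact Subsingleton.elim _ _
  · haveI : CharP R p := (CharP.charP_iff_prime_eq_zero hp.out).mpr hpR
    rw [add_pow_char_pow, pow_mul_of_pow_eq hx m, Nat.mul_comm, pow_mul_of_pow_eq hy n]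

lemma isPer_one : IsPer p (1 : R) := ⟨1, one_pos, one_pow _⟩

lemma isPer_zero : IsPer p (0 : R) := ⟨1, one_pos, zero_pow (pow_pos hp.out.pos 1).ne'⟩

lemma isPer_natCast (hpR : (p : R) = 0) (n : ℕ) : IsPer p (n : R) := by
  induction n with
  | zero => simpa using isPer_zero (R := R) (p := p)
  | succ n ih =>
    rw [Nat.cast_succ]
    exact IsPer.add hpR ih isPer_one

lemma IsPer.neg (hpR : (p : R) = 0) {x : R} (hx : IsPer p x) : IsPer p (-x) := by
  have h2 : -x = ((p - 1 : ℕ) : R) * x := by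
    have : ((p - 1 : ℕ) : R) = -1 := by
      rw [Nat.cast_sub hp.out.one_le, hpR]
      simp
    rw [this]
    ring
  rw [h2]
  exact IsPer.mul (isPer_natCast hpR _) hx

variable (R p) in
/-- The subring of periodic elements. -/
def perSub (hpR : (p : R) = 0) : Subring R where
  carrier := {x | IsPer p x}
  mul_mem' := IsPer.mul
  one_mem' := isPer_one
  add_mem' := IsPer.add hpR
  zero_mem' := isPer_zero
  neg_mem' := IsPer.neg hpR

lemma mem_perSub (hpR : (p : R) = 0) (x : R) : x ∈ perSub R p hpR ↔ IsPer p x := Iff.rfl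

lemma IsPer.map {S : Type*} [CommRing S] (φ : R →+* S) {x : R} (hx : IsPer p x) :
    IsPer p (φ x) := by
  obtain ⟨n, hn, hx⟩ := hx
  exact ⟨n, hn, by rw [← map_pow, hx]⟩

lemma IsPer.of_mul_eq {s u v : R} (hu : IsUnit u) (hpu : IsPer p u) (hpv : IsPer p v)
    (h : s * u = v) : IsPer p s := by
  obtain ⟨n, hn, hu'⟩ := hpu
  obtain ⟨m, hm, hv'⟩ := hpv
  refine ⟨n * m, Nat.mul_pos hn hm, ?_⟩
  have hu'' := pow_mul_of_pow_eq hu' m
  have hv'' : v ^ p ^ (n * m) = v := by
    rw [Nat.mul_comm]
    exact pow_mul_of_pow_eq hv' n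
  have : s ^ p ^ (n * m) * u = s * u := by
    conv_lhs => rw [← hu'']
    rw [← mul_pow, h, hv'']
  exact hu.mul_left_injective this

lemma isReduced_of_forall_isPer (h : ∀ x : R, IsPer p x) : IsReduced R := by
  constructor
  rintro x ⟨N, hN⟩
  obtain ⟨n, hn, hx⟩ := h x
  have h1 := pow_mul_of_pow_eq hx N
  have h2 : N ≤ p ^ (n * N) :=
    (Nat.le_mul_of_pos_left N hn).trans (Nat.lt_pow_self hp.out.one_lt).le
  rw [← h1]
  exact pow_eq_zero_of_le h2 hN

/-- Elements of a finite field of characteristic `p` are periodic. -/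
lemma isPer_of_finite {F : Type*} [Field F] [Finite F] [CharP F p] (c : F) : IsPer p c := by
  classical
  haveI := Fintype.ofFinite F
  obtain ⟨n, -, hn⟩ := FiniteField.card F p
  refine ⟨n, n.pos, ?_⟩
  rw [← hn]
  exact FiniteField.pow_card c

/-- Algebraic elements over a finite field of characteristic `p` are periodic. -/
lemma isPer_of_isIntegral {k K : Type*} [Field k] [Finite k] [CharP k p] [Field K] [Algebra k K]
    (c : K) (hc : IsIntegral k c) : IsPer p c := by
  let F := IntermediateField.adjoin k {c}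
  haveI : FiniteDimensional k F := IntermediateField.adjoin.finiteDimensional hc
  haveI : Finite F := Module.finite_of_finite k
  haveI : CharP F p := charP_of_injective_algebraMap (algebraMap k F).injective p
  have hcF : c ∈ F := IntermediateField.mem_adjoin_simple_self k c
  have := isPer_of_finite (p := p) (⟨c, hcF⟩ : F)
  exact this.map (algebraMap F K)

lemma IsPer.of_map_injective {R S : Type*} [CommRing R] [CommRing S] {p : ℕ} (φ : R →+* S)
    (hφ : Function.Injective φ) {x : R} (hx : IsPer p (φ x)) : IsPer p x := by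
  obtain ⟨n, hn, hx⟩ := hx
  exact ⟨n, hn, hφ (by rw [map_pow, hx])⟩

end Groth.Agent.Lib27.FrobPeriodic
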