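import Groth.Agent.Lib27.Gamma
import Groth.Agent.Lib27.Lam
import Groth.Prelude.Def_LambdaSp
set_option autoImplicit false
universe u v
open LambdaRing LambdaRing.LambdaOps Finset

namespace Groth.Agent.Lib27.GammaFil

lemma gamma_zero_arg {A : Type*} [CommRing A] [LambdaOps A] (i : ℕ) (hi : 1 ≤ i) :
    gamma i (0 : A) = 0 := by
  rw [gamma, if_neg (by omega)]
  apply Finset.sum_eq_zero
  intro j _
  split_ifs with h
  · simp
  · rw [Groth.Agent.Lib27.Lam.lam_zero_arg j (by omega)]; simp

variable {K : Type u} [CommRing K] {A : Type v} [CommRing A] [LambdaOps A] [Algebra K A]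

/-- the generators: products of `γ^i(s - ε s)` with `s ∈ S`, total weight `≥ n`. -/
def G (ε : A →ₐ[K] K) (S : Set A) (n : ℕ) : Set A :=
  {y : A | ∃ l : List (ℕ × A), (∀ p ∈ l, p.2 ∈ S) ∧ n ≤ (l.map Prod.fst).sum ∧
    y = (l.map fun p => gamma p.1 (p.2 - algebraMap K A (ε p.2))).prod}

/-- their `K`-span. -/
def M (ε : A →ₐ[K] K) (S : Set A) (n : ℕ) : Submodule K A := Submodule.span K (G ε S n)

variable (ε : A →ₐ[K] K) (S : Set A)

lemma G_anti {a b : ℕ} (h : b ≤ a) : G ε S a ⊆ G ε S b := by
  rintro y ⟨l, hl, hn, rfl⟩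
  exact ⟨l, hl, h.trans hn, rfl⟩

lemma M_anti {a b : ℕ} (h : b ≤ a) : M ε S a ≤ M ε S b := Submodule.span_mono (G_anti ε S h)

lemma one_mem_M0 : (1 : A) ∈ M ε S 0 :=
  Submodule.subset_span ⟨[], by simp, by simp, by simp⟩

lemma M_mul {a b : ℕ} {x y : A} (hx : x ∈ M ε S a) (hy : y ∈ M ε S b) : x * y ∈ M ε S (a + b) := by
  have h1 : x * y ∈ M ε S a * M ε S b := Submodule.mul_mem_mul hx hy
  rw [M, M, Submodule.span_mul_span] at h1
  refine Submodule.span_mono ?_ h1
  rintro _ ⟨u, ⟨l, hl, hn, rfl⟩, w, ⟨l', hl', hn', rfl⟩, rfl⟩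
  refine ⟨l ++ l', ?_, ?_, ?_⟩
  · intro p hp
    rcases List.mem_append.1 hp with hp | hp
    · exact hl p hp
    · exact hl' p hp
  · simp only [List.map_append, List.sum_append]; omega
  · simp only [List.map_append, List.prod_append]

/-- all `γ^i(x)` lie in the `i`-th span. -/
def Good (x : A) : Prop := ∀ i, gamma i x ∈ M ε S i

lemma good_zero : Good ε S (0 : A) := by
  intro i
  rcases Nat.eq_zero_or_pos i with rfl | hi
  · rw [Groth.Agent.Lib27.Gamma.gamma_zero]; exact one_mem_M0 ε S
  · rw [gamma_zero_arg i hi]; exact zero_mem _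

lemma good_add {x y : A} (hx : Good ε S x) (hy : Good ε S y) : Good ε S (x + y) := by
  intro i
  rw [Groth.Agent.Lib27.Gamma.gamma_add]
  refine Submodule.sum_mem _ fun a ha => ?_
  have ha' : a ≤ i := Nat.lt_succ_iff.1 (Finset.mem_range.1 ha)
  have := M_mul ε S (hx a) (hy (i - a))
  rwa [Nat.add_sub_cancel' ha'] at this

lemma good_neg {x : A} (hx : Good ε S x) : Good ε S (-x) := by
  intro i
  induction i using Nat.strong_induction_on with
  | _ i ih =>
    rcases Nat.eq_zero_or_pos i with rfl | hi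
    · rw [Groth.Agent.Lib27.Gamma.gamma_zero]; exact one_mem_M0 ε S
    · have h := Groth.Agent.Lib27.Gamma.gamma_add i x (-x)
      rw [add_neg_cancel, gamma_zero_arg i hi, Finset.sum_range_succ',
        Groth.Agent.Lib27.Gamma.gamma_zero, one_mul, Nat.sub_zero] at h
      have h2 : gamma i (-x) = -∑ a ∈ range i, gamma (a + 1) x * gamma (i - (a + 1)) (-x) := by
        rw [eq_neg_iff_add_eq_zero, add_comm]; exact h.symm
      rw [h2]
      refine neg_mem (Submodule.sum_mem _ fun a ha => ?_)
      have ha' : a < i := Finset.mem_range.1 ha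
      have := M_mul ε S (hx (a + 1)) (ih (i - (a + 1)) (by omega))
      rwa [Nat.add_sub_cancel' (by omega)] at this

lemma good_sub_aug (hS : AddSubgroup.closure S = ⊤) (x : A) :
    Good ε S (x - algebraMap K A (ε x)) := by
  have hx : x ∈ AddSubgroup.closure S := by rw [hS]; trivial
  induction hx using AddSubgroup.closure_induction with
  | mem s hs =>
    intro i
    exact Submodule.subset_span ⟨[(i, s)], by simpa using hs, by simp, by simp⟩
  | zero => simpa using good_zero ε S
  | add x y _ _ hx hy =>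
    have : x + y - algebraMap K A (ε (x + y)) =
        (x - algebraMap K A (ε x)) + (y - algebraMap K A (ε y)) := by
      rw [map_add, map_add]; ring
    rw [this]; exact good_add ε S hx hy
  | neg x _ hx =>
    have : -x - algebraMap K A (ε (-x)) = -(x - algebraMap K A (ε x)) := by
      rw [map_neg, map_neg]; ring
    rw [this]; exact good_neg ε S hx

lemma mem_M0 (hS : AddSubgroup.closure S = ⊤) (a : A) : a ∈ M ε S 0 := by
  have h1 := good_sub_aug ε S hS a 1
  rw [Groth.Agent.Lib27.Gamma.gamma_one] at h1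
  have h2 : algebraMap K A (ε a) ∈ M ε S 0 := by
    rw [Algebra.algebraMap_eq_smul_one]
    exact Submodule.smul_mem _ _ (one_mem_M0 ε S)
  have := add_mem (M_anti ε S (Nat.zero_le 1) h1) h2
  rwa [sub_add_cancel] at this

lemma prod_mem_M (hS : AddSubgroup.closure S = ⊤) (l : List (ℕ × A))
    (hl : ∀ p ∈ l, ε p.2 = 0) :
    (l.map fun p => gamma p.1 p.2).prod ∈ M ε S (l.map Prod.fst).sum := by
  induction l with
  | nil => simpa using one_mem_M0 ε S
  | cons p l ih =>
    simp only [List.map_cons, List.prod_cons, List.sum_cons]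
    refine M_mul ε S ?_ (ih fun q hq => hl q (List.mem_cons_of_mem _ hq))
    have := good_sub_aug ε S hS p.2 p.1
    rwa [hl p List.mem_cons_self, map_zero, sub_zero] at this

theorem gammaFil_eq_span (hS : AddSubgroup.closure S = ⊤) (n : ℕ) :
    (gammaFil (ε : A →+* K) n).restrictScalars K = M ε S n := by
  apply le_antisymm
  · intro z hz
    rw [Submodule.restrictScalars_mem] at hz
    unfold gammaFil at hz
    induction hz using Submodule.span_induction with
    | mem y hy =>
      obtain ⟨l, hl, hn, rfl⟩ := hy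
      exact M_anti ε S hn (prod_mem_M ε S hS l hl)
    | zero => exact zero_mem _
    | add x y _ _ hx hy => exact add_mem hx hy
    | smul a x _ hx =>
      have := M_mul ε S (mem_M0 ε S hS a) hx
      rwa [Nat.zero_add] at this
  · refine Submodule.span_le.2 ?_
    rintro y ⟨l, hl, hn, rfl⟩
    rw [SetLike.mem_coe, Submodule.restrictScalars_mem]
    apply Ideal.subset_span
    refine ⟨l.map (fun p => (p.1, p.2 - algebraMap K A (ε p.2))), ?_, ?_, ?_⟩
    · intro p hp
      obtain ⟨q, _, rfl⟩ := List.mem_map.1 hp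
      simp
    · simpa [List.map_map, Function.comp_def] using hn
    · simp [List.map_map, Function.comp_def]

end Groth.Agent.Lib27.GammaFil
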