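import Groth.Agent.S5804
import Groth.Agent.Lib.Helper16.ExtFlatBaseChange
import Mathlib.RingTheory.Flat.FaithfullyFlat.Basic
import Mathlib.RingTheory.Flat.FaithfullyFlat.Algebra

set_option autoImplicit false
universe u
open CategoryTheory TensorProduct Abelian

namespace Groth.Agent.Lib27.GlDimFlat

theorem main (A B : Type u) [CommRing A] [CommRing B] [IsNoetherianRing A] [Algebra A B]
    [Module.FaithfullyFlat A B] (n : ℕ)
    (hB : ∀ (N : Type u) [AddCommGroup N] [Module B N],
      HasProjectiveDimensionLT (ModuleCat.of B N) (n + 1))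
    (M : Type u) [AddCommGroup M] [Module A M] :
    HasProjectiveDimensionLT (ModuleCat.of A M) (n + 1) := by
  apply Groth.Agent.S5804.result A n _ M
  intro I
  rw [hasProjectiveDimensionLT_iff]
  intro i hi Y e
  have hsub : Subsingleton (Ext (ModuleCat.of A (A ⧸ I)) (ModuleCat.of A Y) i) := by
    obtain ⟨eq⟩ := Groth.Agent.Lib.Helper16.ExtBC.nonempty_ext_baseChange_equiv (A := A) B Y i (A ⧸ I)
    haveI := hB (B ⊗[A] (A ⧸ I))
    have h2 : Subsingleton (Ext (ModuleCat.of B (B ⊗[A] (A ⧸ I))) (ModuleCat.of B (B ⊗[A] Y)) i) :=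
      HasProjectiveDimensionLT.subsingleton _ (n + 1) i hi _
    have h3 : Subsingleton (B ⊗[A] Ext (ModuleCat.of A (A ⧸ I)) (ModuleCat.of A Y) i) :=
      eq.toEquiv.subsingleton
    exact (Module.FaithfullyFlat.subsingleton_tensorProduct_iff_right A B).mp h3
  exact hsub.elim _ _

end Groth.Agent.Lib27.GlDimFlat
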