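import Mathlib
import Groth.Prelude.Def_GLin

/-!
# Diagonal actions of the multiplicative group on affine space: weights (helper27)
-/

universe u

open TensorProduct LaurentPolynomial

set_option linter.unusedSectionVars false

noncomputable section

namespace Groth.Agent.Lib27.GmWeights

variable {k : Type u} [Field k] {ι : Type u} [Fintype ι]
  [HopfRep.Comod k k[T;T⁻¹] (MvPolynomial ι k)] [GLin.IsCoactAlg k k[T;T⁻¹] (MvPolynomial ι k)]

/-- The weight of a monomial. -/
def wt (r : ι → ℤ) (s : ι →₀ ℕ) : ℤ := s.sum fun i n => (n : ℤ) * r i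

/-- The diagonal coaction as an evaluation map. -/
def diag (r : ι → ℤ) : MvPolynomial ι k →ₐ[k] MvPolynomial ι k ⊗[k] k[T;T⁻¹] :=
  MvPolynomial.aeval fun i => (MvPolynomial.X i : MvPolynomial ι k) ⊗ₜ[k] (T (r i) : k[T;T⁻¹])

lemma coact_eq_diag (r : ι → ℤ)
    (hr : ∀ i : ι, HopfRep.Comod.coact (k := k) (A := k[T;T⁻¹]) (MvPolynomial.X i : MvPolynomial ι k) =
      (MvPolynomial.X i : MvPolynomial ι k) ⊗ₜ[k] (T (r i) : k[T;T⁻¹])) (F : MvPolynomial ι k) :
    HopfRep.Comod.coact (k := k) (A := k[T;T⁻¹]) F = diag r F := by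
  have : GLin.coactAlgHom k k[T;T⁻¹] (MvPolynomial ι k) = diag r := by
    apply MvPolynomial.algHom_ext
    intro i
    rw [GLin.coactAlgHom_apply, hr, diag, MvPolynomial.aeval_X]
  rw [← this, GLin.coactAlgHom_apply]

lemma prod_tmul {α : Type*} (S : Finset α) (f : α → MvPolynomial ι k) (g : α → k[T;T⁻¹]) :
    ∏ a ∈ S, (f a ⊗ₜ[k] g a) = (∏ a ∈ S, f a) ⊗ₜ[k] (∏ a ∈ S, g a) := by
  classical
  induction S using Finset.induction_on with
  | empty => simp [Algebra.TensorProduct.one_def]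
  | insert a S ha ih =>
    rw [Finset.prod_insert ha, Finset.prod_insert ha, Finset.prod_insert ha, ih,
      Algebra.TensorProduct.tmul_mul_tmul]

lemma prod_T {α : Type*} (S : Finset α) (g : α → ℤ) :
    ∏ a ∈ S, (T (g a) : k[T;T⁻¹]) = T (∑ a ∈ S, g a) := by
  classical
  induction S using Finset.induction_on with
  | empty => simp
  | insert a S ha ih =>
    rw [Finset.prod_insert ha, Finset.sum_insert ha, ih, T_add]

lemma diag_monomial (r : ι → ℤ) (s : ι →₀ ℕ) (c : k) :
    diag r (MvPolynomial.monomial s c) = (MvPolynomial.monomial s c) ⊗ₜ[k] (T (wt r s) : k[T;T⁻¹]) := by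
  rw [diag, MvPolynomial.aeval_monomial, Finsupp.prod]
  simp_rw [Algebra.TensorProduct.tmul_pow, T_pow]
  rw [prod_tmul, prod_T, Algebra.TensorProduct.algebraMap_apply, Algebra.TensorProduct.tmul_mul_tmul,
    one_mul, MvPolynomial.monomial_eq, Finsupp.prod, MvPolynomial.algebraMap_eq]
  rfl

/-- The coefficient functional `p ⊗ q ↦ coeff s p * coeff n q`. -/
def coeffFun (s : ι →₀ ℕ) (n : ℤ) : MvPolynomial ι k ⊗[k] k[T;T⁻¹] →ₗ[k] k :=
  (TensorProduct.lid k k).toLinearMap ∘ₗ
    TensorProduct.map (MvPolynomial.lcoeff k s)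
      ((Finsupp.lapply n) ∘ₗ (AddMonoidAlgebra.coeffLinearEquiv k).toLinearMap)

lemma coeffFun_tmul (s : ι →₀ ℕ) (n : ℤ) (p : MvPolynomial ι k) (q : k[T;T⁻¹]) :
    coeffFun s n (p ⊗ₜ[k] q) = MvPolynomial.coeff s p * q.coeff n := by
  simp [coeffFun, MvPolynomial.lcoeff]

/-- Invariant polynomials are supported on monomials of weight zero. -/
lemma wt_eq_zero_of_mem_invariants (r : ι → ℤ)
    (hr : ∀ i : ι, HopfRep.Comod.coact (k := k) (A := k[T;T⁻¹]) (MvPolynomial.X i : MvPolynomial ι k) =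
      (MvPolynomial.X i : MvPolynomial ι k) ⊗ₜ[k] (T (r i) : k[T;T⁻¹]))
    (F : MvPolynomial ι k) (hF : F ∈ GLin.invariants k k[T;T⁻¹] (MvPolynomial ι k))
    (s : ι →₀ ℕ) (hs : s ∈ F.support) : wt r s = 0 := by
  classical
  by_contra hne
  have h1 : HopfRep.Comod.coact (k := k) (A := k[T;T⁻¹]) F = F ⊗ₜ[k] (1 : k[T;T⁻¹]) := hF
  rw [coact_eq_diag r hr] at h1
  have h2 := congrArg (coeffFun s (wt r s)) h1
  rw [coeffFun_tmul] at h2
  conv_lhs at h2 => rw [← MvPolynomial.support_sum_monomial_coeff F, map_sum, map_sum]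
  simp_rw [diag_monomial, coeffFun_tmul, MvPolynomial.coeff_monomial, T_apply] at h2
  rw [Finset.sum_eq_single s] at h2
  · rw [if_pos rfl, if_pos rfl, mul_one, ← T_zero, T_apply, if_neg (Ne.symm hne), mul_zero] at h2
    exact (MvPolynomial.mem_support_iff.mp hs) h2
  · intro s' _ hs'
    rw [if_neg hs', zero_mul]
  · intro h; exact absurd hs h

/-! ### The orbit morphism -/

/-- The orbit morphism of `v` for the diagonal action with weights `r`. -/
lemma orbitHom_eq (r : ι → ℤ)
    (hr : ∀ i : ι, HopfRep.Comod.coact (k := k) (A := k[T;T⁻¹]) (MvPolynomial.X i : MvPolynomial ι k) =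
      (MvPolynomial.X i : MvPolynomial ι k) ⊗ₜ[k] (T (r i) : k[T;T⁻¹])) (v : ι → k) :
    GLin.orbitHom k k[T;T⁻¹] (GLin.vecPt k ι v) =
      MvPolynomial.aeval fun i => (v i) • (T (r i) : k[T;T⁻¹]) := by
  apply MvPolynomial.algHom_ext
  intro i
  rw [MvPolynomial.aeval_X]
  simp only [GLin.orbitHom, AlgHom.comp_apply, GLin.coactAlgHom_apply, hr]
  simp [GLin.vecPt]

lemma isUnit_T (n : ℤ) : IsUnit (T n : k[T;T⁻¹]) := by
  refine ⟨⟨T n, T (-n), ?_, ?_⟩, rfl⟩
  · rw [← T_add, add_neg_cancel, T_zero]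
  · rw [← T_add, neg_add_cancel, T_zero]

/-- If some nonzero coordinate has negative weight and some nonzero coordinate has positive weight,
every `T n` is integral over the image of the orbit morphism. -/
lemma isIntegral_orbit (r : ι → ℤ) (v : ι → k) {i j : ι} (hvi : v i ≠ 0) (hvj : v j ≠ 0)
    (hri : r i < 0) (hrj : 0 < r j) :
    (MvPolynomial.aeval fun i => (v i) • (T (r i) : k[T;T⁻¹]) :
      MvPolynomial ι k →ₐ[k] k[T;T⁻¹]).toRingHom.IsIntegral := by
  set φ : MvPolynomial ι k →ₐ[k] k[T;T⁻¹] :=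
    MvPolynomial.aeval fun i => (v i) • (T (r i) : k[T;T⁻¹]) with hφ
  have hTi : φ (MvPolynomial.C (v i)⁻¹ * MvPolynomial.X i) = T (r i) := by
    rw [map_mul, hφ, MvPolynomial.aeval_X, MvPolynomial.aeval_C, Algebra.algebraMap_eq_smul_one,
      smul_mul_assoc, one_mul, smul_smul, inv_mul_cancel₀ hvi, one_smul]
  have hTj : φ (MvPolynomial.C (v j)⁻¹ * MvPolynomial.X j) = T (r j) := by
    rw [map_mul, hφ, MvPolynomial.aeval_X, MvPolynomial.aeval_C, Algebra.algebraMap_eq_smul_one,
      smul_mul_assoc, one_mul, smul_smul, inv_mul_cancel₀ hvj, one_smul]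
  let _ : Algebra (MvPolynomial ι k) k[T;T⁻¹] := φ.toRingHom.toAlgebra
  have halg : ∀ p : MvPolynomial ι k, algebraMap (MvPolynomial ι k) k[T;T⁻¹] p = φ p := fun p => rfl
  have hT : ∀ n : ℤ, IsIntegral (MvPolynomial ι k) (T n : k[T;T⁻¹]) := by
    intro n
    rcases le_or_gt 0 n with hn | hn
    · -- `(T n) ^ (r j) = (T (r j)) ^ n`
      refine IsIntegral.of_pow (n := (r j).toNat) (by omega) ?_
      have : (T n : k[T;T⁻¹]) ^ (r j).toNat = (T (r j)) ^ n.toNat := by
        rw [T_pow, T_pow, Int.toNat_of_nonneg hrj.le, Int.toNat_of_nonneg hn, mul_comm]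
      rw [this, ← hTj, ← halg, ← map_pow]
      exact isIntegral_algebraMap
    · refine IsIntegral.of_pow (n := (-r i).toNat) (by omega) ?_
      have : (T n : k[T;T⁻¹]) ^ (-r i).toNat = (T (r i)) ^ (-n).toNat := by
        rw [T_pow, T_pow, Int.toNat_of_nonneg (by omega), Int.toNat_of_nonneg (by omega)]
        congr 1; ring
      rw [this, ← hTi, ← halg, ← map_pow]
      exact isIntegral_algebraMap
  intro x
  change IsIntegral (MvPolynomial ι k) x
  refine LaurentPolynomial.induction_on' x (fun p q hp hq => hp.add hq) (fun n a => ?_)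
  refine IsIntegral.mul ?_ (hT n)
  have : (C a : k[T;T⁻¹]) = algebraMap (MvPolynomial ι k) k[T;T⁻¹] (MvPolynomial.C a) := by
    rw [halg, hφ, MvPolynomial.aeval_C]; rfl
  rw [this]
  exact isIntegral_algebraMap

/-- With weights of both signs on the support of `v`, the orbit is closed. -/
lemma isClosed_range_orbit (r : ι → ℤ) (v : ι → k) {i j : ι} (hvi : v i ≠ 0) (hvj : v j ≠ 0)
    (hri : r i < 0) (hrj : 0 < r j) :
    IsClosed (Set.range (PrimeSpectrum.comap (MvPolynomial.aeval fun i => (v i) • (T (r i) : k[T;T⁻¹]) :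
      MvPolynomial ι k →ₐ[k] k[T;T⁻¹]).toRingHom)) :=
  (PrimeSpectrum.isClosedMap_comap_of_isIntegral _ (isIntegral_orbit r v hvi hvj hri hrj)).isClosed_range

/-- An ideal of the Laurent polynomial ring containing `T n - 1`, `n ≠ 0`, has finite quotient. -/
lemma finite_quotient_of_T_sub_one_mem (J : Ideal k[T;T⁻¹]) {n : ℤ} (hn : n ≠ 0)
    (hJ : (T n : k[T;T⁻¹]) - 1 ∈ J) : Module.Finite k (k[T;T⁻¹] ⧸ J) := by
  have h1 : Ideal.Quotient.mk J (T n) = 1 := by
    rw [← sub_eq_zero, ← map_one (Ideal.Quotient.mk J), ← map_sub]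
    exact Ideal.Quotient.eq_zero_iff_mem.mpr hJ
  have h1' : Ideal.Quotient.mk J (T (-n)) = 1 := by
    have : Ideal.Quotient.mk J (T (-n)) * Ideal.Quotient.mk J (T n) = 1 := by
      rw [← map_mul, ← T_add, neg_add_cancel, T_zero, map_one]
    rwa [h1, _root_.mul_one] at this
  have h2 : ∀ m : ℤ, Ideal.Quotient.mk J (T (n * m)) = 1 := by
    intro m
    induction m using Int.induction_on with
    | zero => rw [mul_zero, T_zero, map_one]
    | succ m ih => rw [mul_add, _root_.mul_one, T_add, map_mul, ih, h1, _root_.mul_one]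
    | pred m ih => rw [mul_sub, _root_.mul_one, sub_eq_add_neg, T_add, map_mul, ih, h1', _root_.mul_one]
  have hT : ∀ m : ℤ, IsIntegral k (Ideal.Quotient.mk J (T m)) := by
    intro m
    refine IsIntegral.of_pow (n := n.natAbs) (Int.natAbs_pos.mpr hn) ?_
    rw [← map_pow, T_pow]
    rcases Int.natAbs_eq n with h | h
    · have : (n.natAbs : ℤ) * m = n * m := by rw [← h]
      rw [this, h2]; exact isIntegral_one
    · have : (n.natAbs : ℤ) * m = n * (-m) := by
        have h' : (n.natAbs : ℤ) = -n := by omega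
        rw [h', mul_neg, neg_mul]
      rw [this, h2]; exact isIntegral_one
  have hint : Algebra.IsIntegral k (k[T;T⁻¹] ⧸ J) := by
    refine ⟨fun x => ?_⟩
    obtain ⟨a, rfl⟩ := Ideal.Quotient.mk_surjective x
    refine LaurentPolynomial.induction_on' a (fun p q hp hq => ?_) (fun m a => ?_)
    · rw [map_add]; exact hp.add hq
    · rw [map_mul]
      refine IsIntegral.mul ?_ (hT m)
      have : Ideal.Quotient.mk J (C a : k[T;T⁻¹]) = algebraMap k (k[T;T⁻¹] ⧸ J) a := rfl
      rw [this]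
      exact isIntegral_algebraMap
  have hft : Algebra.FiniteType k (k[T;T⁻¹] ⧸ J) :=
    Algebra.FiniteType.of_surjective (Ideal.Quotient.mkₐ k J) (Ideal.Quotient.mkₐ_surjective k J)
  exact Algebra.IsIntegral.finite

/-- The Laurent polynomial ring is not a finite module over the base field. -/
lemma not_finite_laurent : ¬ Module.Finite k k[T;T⁻¹] := by
  intro h
  have : Module.Finite k (Polynomial k) :=
    Module.Finite.of_injective (Polynomial.toLaurentAlg (R := k)).toLinearMap
      Polynomial.toLaurent_injective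
  exact Polynomial.not_finite this

/-- With all weights nonnegative on the support of `v` and one positive, the orbit is not closed. -/
lemma not_isClosed_range_orbit (r : ι → ℤ) (v : ι → k) (h : ∀ i, v i ≠ 0 → 0 ≤ r i)
    {i₀ : ι} (hv₀ : v i₀ ≠ 0) (hr₀ : 0 < r i₀) :
    ¬ IsClosed (Set.range (PrimeSpectrum.comap (MvPolynomial.aeval fun i => (v i) • (T (r i) : k[T;T⁻¹]) :
      MvPolynomial ι k →ₐ[k] k[T;T⁻¹]).toRingHom)) := by
  intro hcl
  set φ : MvPolynomial ι k →ₐ[k] k[T;T⁻¹] :=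
    MvPolynomial.aeval fun i => (v i) • (T (r i) : k[T;T⁻¹]) with hφ
  let φ₀ : MvPolynomial ι k →ₐ[k] Polynomial k :=
    MvPolynomial.aeval fun i => Polynomial.C (v i) * Polynomial.X ^ (r i).toNat
  have hcomp : φ = (Polynomial.toLaurentAlg (R := k)).comp φ₀ := by
    apply MvPolynomial.algHom_ext
    intro i
    rw [hφ, MvPolynomial.aeval_X, AlgHom.comp_apply, MvPolynomial.aeval_X, map_mul, map_pow]
    by_cases hvi : v i = 0
    · rw [hvi, zero_smul, map_zero, map_zero, zero_mul]
    · rw [Polynomial.toLaurentAlg_apply, Polynomial.toLaurentAlg_apply, Polynomial.toLaurent_C,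
        Polynomial.toLaurent_X, T_pow, _root_.mul_one, Int.toNat_of_nonneg (h i hvi),
        Algebra.smul_def]
      rfl
  let q : PrimeSpectrum (Polynomial k) :=
    ⟨Ideal.span {Polynomial.X}, (Ideal.span_singleton_prime Polynomial.X_ne_zero).mpr Polynomial.prime_X⟩
  let p₀ : PrimeSpectrum (MvPolynomial ι k) := PrimeSpectrum.comap φ₀.toRingHom q
  have hmem : p₀ ∈ closure (Set.range (PrimeSpectrum.comap φ.toRingHom)) := by
    rw [PrimeSpectrum.closure_range_comap, PrimeSpectrum.mem_zeroLocus]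
    intro F hF
    have hF' : φ F = 0 := hF
    rw [hcomp, AlgHom.comp_apply] at hF'
    have : φ₀ F = 0 := by
      apply Polynomial.toLaurent_injective
      rw [map_zero]
      exact hF'
    change φ₀ F ∈ Ideal.span {Polynomial.X}
    rw [this]
    exact Ideal.zero_mem _
  rw [hcl.closure_eq] at hmem
  obtain ⟨P, hP⟩ := hmem
  have hX : MvPolynomial.X i₀ ∈ p₀.asIdeal := by
    change φ₀ (MvPolynomial.X i₀) ∈ Ideal.span {Polynomial.X}
    rw [MvPolynomial.aeval_X, Ideal.mem_span_singleton]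
    refine Dvd.dvd.mul_left (dvd_pow_self _ ?_) _
    omega
  rw [← hP] at hX
  have hX' : φ (MvPolynomial.X i₀) ∈ P.asIdeal := hX
  rw [hφ, MvPolynomial.aeval_X] at hX'
  have hu : IsUnit ((v i₀) • (T (r i₀) : k[T;T⁻¹])) := by
    rw [Algebra.smul_def]
    exact ((IsUnit.mk0 _ hv₀).map (algebraMap k k[T;T⁻¹])).mul (isUnit_T _)
  exact P.isPrime.ne_top (Ideal.eq_top_of_isUnit_mem _ hX' hu)

/-- Inverting the parameter does not change the image of the orbit morphism. -/
lemma range_comap_invert (φ : MvPolynomial ι k →ₐ[k] k[T;T⁻¹]) :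
    Set.range (PrimeSpectrum.comap ((LaurentPolynomial.invert (R := k)).toAlgHom.comp φ).toRingHom) =
      Set.range (PrimeSpectrum.comap φ.toRingHom) := by
  have : ((LaurentPolynomial.invert (R := k)).toAlgHom.comp φ).toRingHom =
      (LaurentPolynomial.invert (R := k)).toRingEquiv.toRingHom.comp φ.toRingHom := rfl
  rw [this, PrimeSpectrum.comap_comp]
  change Set.range (PrimeSpectrum.comap φ.toRingHom ∘
    PrimeSpectrum.comap (LaurentPolynomial.invert (R := k)).toRingEquiv.toRingHom) = _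
  rw [Set.range_comp, Set.range_eq_univ.mpr, Set.image_univ]
  exact (PrimeSpectrum.comapEquiv (LaurentPolynomial.invert (R := k)).toRingEquiv).surjective

end Groth.Agent.Lib27.GmWeights
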