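import Groth.Prelude.Def_GrLC
import Mathlib.RingTheory.GradedAlgebra.Basic
import Mathlib.RingTheory.Finiteness.Ideal
import Mathlib.Tactic

set_option autoImplicit false
universe u
open DirectSum

namespace Groth.Agent.Lib27.Gr

variable {R A : Type u} [CommRing R] [CommRing A] [Algebra R A]
  (𝒜 : ℤ → Submodule R A) [GradedAlgebra 𝒜]

lemma pow_le_graded (d : ℤ) (n : ℕ) : (𝒜 d) ^ n ≤ 𝒜 ((n : ℤ) * d) := by
  induction n with
  | zero =>
    rw [pow_zero, Submodule.one_le]
    simpa using SetLike.GradedOne.one_mem (A := 𝒜)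
  | succ n ih =>
    rw [pow_succ, Submodule.mul_le]
    intro a ha b hb
    have := SetLike.mul_mem_graded (ih ha) hb
    have e : ((n + 1 : ℕ) : ℤ) * d = (n : ℤ) * d + d := by push_cast; ring
    rw [e]
    exact this

lemma step13 {p : ℕ} (f : Fin p → A) (deg : Fin p → ℤ) (hdeg : ∀ i, 0 < deg i)
    (hf : ∀ i, f i ∈ 𝒜 (deg i))
    (hgen : Ideal.span {a : A | ∃ n : ℤ, 0 < n ∧ a ∈ 𝒜 n} = Ideal.span (Set.range f))
    (k : ℕ) : ∀ n : ℤ, (k : ℤ) * (∑ i, deg i) < n → ∀ a ∈ 𝒜 n,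
      a ∈ Ideal.span (Set.range f) ^ (k + 1) := by
  have hD : ∀ i, deg i ≤ ∑ j, deg j := fun i =>
    Finset.single_le_sum (fun j _ => (hdeg j).le) (Finset.mem_univ i)
  have hD0 : 0 ≤ ∑ j, deg j := Finset.sum_nonneg (fun j _ => (hdeg j).le)
  induction k with
  | zero =>
    intro n hn a ha
    rw [zero_add, pow_one, ← hgen]
    exact Ideal.subset_span ⟨n, by simpa using hn, ha⟩
  | succ k ih =>
    intro n hn a ha
    have hn0 : 0 < n := lt_of_le_of_lt (mul_nonneg (Int.natCast_nonneg _) hD0) hn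
    have haI : a ∈ Ideal.span (Set.range f) := by
      rw [← hgen]; exact Ideal.subset_span ⟨n, hn0, ha⟩
    obtain ⟨c, hc⟩ := Ideal.mem_span_range_iff_exists_fun.1 haI
    have h1 : a = ∑ i, (decompose 𝒜 (c i) (n - deg i) : A) * f i := by
      have h2 : (decompose 𝒜 a n : A) = a := decompose_of_mem_same 𝒜 ha
      rw [← h2, ← hc, decompose_sum, DFinsupp.finsetSum_apply, AddSubmonoidClass.coe_finsetSum]
      apply Finset.sum_congr rfl
      intro i _
      have h3 := coe_decompose_mul_add_of_right_mem 𝒜 (i := n - deg i) (a := c i) (hf i)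
      rw [sub_add_cancel] at h3
      exact h3
    rw [h1]
    refine Ideal.sum_mem _ (fun i _ => ?_)
    rw [pow_succ]
    refine Ideal.mul_mem_mul (ih (n - deg i) ?_ _ (SetLike.coe_mem _)) (Ideal.subset_span ⟨i, rfl⟩)
    have := hD i
    push_cast at hn
    nlinarith

theorem tfae_gam {p : ℕ} (f : Fin p → A) (deg : Fin p → ℤ) (hdeg : ∀ i, 0 < deg i)
    (hf : ∀ i, f i ∈ 𝒜 (deg i))
    (hgen : Ideal.span {a : A | ∃ n : ℤ, 0 < n ∧ a ∈ 𝒜 n} = Ideal.span (Set.range f))
    (d : ℤ) (hd : 0 < d) (hdvd : ∀ i, deg i ∣ d)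
    {M : Type u} [AddCommGroup M] [Module A M] (x : M) :
    [x ∈ GrLC.gam (Ideal.span (Set.range f)) M,
     ∃ n₀ : ℕ, ∀ n : ℕ, n₀ ≤ n → ∀ r ∈ (𝒜 d) ^ n, r • x = 0,
     ∃ s : ℤ, ∀ n : ℤ, s ≤ n → ∀ r ∈ 𝒜 n, r • x = 0].TFAE := by
  tfae_have 1 → 3 := by
    rintro ⟨N, hN⟩
    refine ⟨(N : ℤ) * (∑ i, deg i) + 1, fun n hn r hr => ?_⟩
    have h1 := step13 𝒜 f deg hdeg hf hgen N n (by omega) r hr
    exact hN r (Ideal.pow_le_pow_right (Nat.le_succ N) h1)
  tfae_have 3 → 2 := by
    rintro ⟨s, hs⟩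
    refine ⟨s.toNat, fun n hn r hr => ?_⟩
    refine hs ((n : ℤ) * d) ?_ r (pow_le_graded 𝒜 d n hr)
    have h1 : s ≤ (n : ℤ) := by
      have := Int.self_le_toNat s
      omega
    nlinarith
  tfae_have 2 → 1 := by
    rintro ⟨n₀, hn₀⟩
    let 𝔞 : Ideal A := LinearMap.ker (LinearMap.toSpanSingleton A M x)
    have hmem : ∀ a : A, a ∈ 𝔞 ↔ a • x = 0 := fun a => by
      simp [𝔞, LinearMap.mem_ker]
    have hrad : Ideal.span (Set.range f) ≤ 𝔞.radical := by
      rw [Ideal.span_le]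
      rintro _ ⟨i, rfl⟩
      obtain ⟨e, he⟩ := hdvd i
      have he0 : 0 < e := by
        by_contra h
        push Not at h
        have : deg i * e ≤ 0 := mul_nonpos_of_nonneg_of_nonpos (hdeg i).le h
        omega
      have h1 : f i ^ e.toNat ∈ 𝒜 d := by
        have := SetLike.pow_mem_graded e.toNat (hf i)
        have e2 : e.toNat • deg i = d := by
          rw [nsmul_eq_mul, Int.toNat_of_nonneg he0.le, he, mul_comm]
        rwa [e2] at this
      refine ⟨e.toNat * (n₀ + 1), ?_⟩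
      rw [hmem, pow_mul]
      exact hn₀ (n₀ + 1) (Nat.le_succ _) _ (Submodule.pow_mem_pow _ h1 _)
    have hfg : (Ideal.span (Set.range f)).FG := by
      classical
      exact ⟨(Finset.univ.image f), by simp⟩
    obtain ⟨N, hN⟩ := Ideal.exists_pow_le_of_le_radical_of_fg hrad hfg
    exact ⟨N, fun r hr => (hmem r).1 (hN hr)⟩
  tfae_finish

lemma exists_homog_coeffs {p : ℕ} (g : Fin p → A) (δ : Fin p → ℤ) (hg : ∀ i, g i ∈ 𝒜 (δ i))
    (n : ℤ) (a : A) (ha : a ∈ 𝒜 n) (haI : a ∈ Ideal.span (Set.range g)) :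
    ∃ b : Fin p → A, (∀ i, b i ∈ 𝒜 (n - δ i)) ∧ a = ∑ i, b i * g i := by
  obtain ⟨c, hc⟩ := Ideal.mem_span_range_iff_exists_fun.1 haI
  refine ⟨fun i => (decompose 𝒜 (c i) (n - δ i) : A), fun i => SetLike.coe_mem _, ?_⟩
  have h2 : (decompose 𝒜 a n : A) = a := decompose_of_mem_same 𝒜 ha
  rw [← h2, ← hc, decompose_sum, DFinsupp.finsetSum_apply, AddSubmonoidClass.coe_finsetSum]
  apply Finset.sum_congr rfl
  intro i _
  have h3 := coe_decompose_mul_add_of_right_mem 𝒜 (i := n - δ i) (a := c i) (hg i)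
  rw [sub_add_cancel] at h3
  exact h3

lemma mem_of_weights {p : ℕ} (f : Fin p → A) (deg : Fin p → ℤ) (hdeg : ∀ i, 0 < deg i)
    (hf : ∀ i, f i ∈ 𝒜 (deg i))
    (hgen : Ideal.span {a : A | ∃ n : ℤ, 0 < n ∧ a ∈ 𝒜 n} = Ideal.span (Set.range f))
    (𝔟 : Ideal A) (s : ℕ) : ∀ (w : Fin p → ℕ), ∑ i, w i = s → ∀ g : A,
      (∀ i, f i ^ (w i + 1) * g ∈ 𝔟) → ∀ n : ℤ, ∑ i, (w i : ℤ) * deg i < n → ∀ a ∈ 𝒜 n,
        a * g ∈ 𝔟 := by
  induction s with
  | zero =>
    intro w hw g hg n hn a ha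
    have hw0 : ∀ i, w i = 0 := fun i =>
      (Finset.sum_eq_zero_iff.1 hw) i (Finset.mem_univ i)
    have hn0 : 0 < n := by
      have : ∑ i, (w i : ℤ) * deg i = 0 := Finset.sum_eq_zero (fun i _ => by simp [hw0 i])
      omega
    have haI : a ∈ Ideal.span (Set.range f) := by
      rw [← hgen]; exact Ideal.subset_span ⟨n, hn0, ha⟩
    obtain ⟨b, -, hb⟩ := exists_homog_coeffs 𝒜 f deg hf n a ha haI
    rw [hb, Finset.sum_mul]
    refine Ideal.sum_mem _ (fun i _ => ?_)
    have := hg i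
    rw [hw0 i, zero_add, pow_one] at this
    rw [mul_assoc]
    exact Ideal.mul_mem_left _ _ this
  | succ s ih =>
    intro w hw g hg n hn a ha
    have hn0 : 0 < n := by
      have : 0 ≤ ∑ i, (w i : ℤ) * deg i :=
        Finset.sum_nonneg (fun i _ => mul_nonneg (Int.natCast_nonneg _) (hdeg i).le)
      omega
    have haI : a ∈ Ideal.span (Set.range f) := by
      rw [← hgen]; exact Ideal.subset_span ⟨n, hn0, ha⟩
    obtain ⟨b, hbdeg, hb⟩ := exists_homog_coeffs 𝒜 f deg hf n a ha haI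
    rw [hb, Finset.sum_mul]
    refine Ideal.sum_mem _ (fun i _ => ?_)
    rw [mul_assoc]
    by_cases hwi : w i = 0
    · have := hg i
      rw [hwi, zero_add, pow_one] at this
      exact Ideal.mul_mem_left _ _ this
    · -- decrease the weight at `i`
      let w' : Fin p → ℕ := Function.update w i (w i - 1)
      have hw'i : w' i = w i - 1 := Function.update_self i _ w
      have hw'j : ∀ j, j ≠ i → w' j = w j := fun j hj => Function.update_of_ne hj _ w
      have hsum : ∑ j, w' j + 1 = ∑ j, w j := by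
        rw [← Finset.add_sum_erase _ _ (Finset.mem_univ i),
          ← Finset.add_sum_erase _ w (Finset.mem_univ i), hw'i]
        have : ∑ j ∈ Finset.univ.erase i, w' j = ∑ j ∈ Finset.univ.erase i, w j :=
          Finset.sum_congr rfl (fun j hj => hw'j j (Finset.ne_of_mem_erase hj))
        rw [this]
        omega
      have hsumd : ∑ j, (w' j : ℤ) * deg j + deg i = ∑ j, (w j : ℤ) * deg j := by
        rw [← Finset.add_sum_erase _ _ (Finset.mem_univ i),
          ← Finset.add_sum_erase _ (fun j => (w j : ℤ) * deg j) (Finset.mem_univ i), hw'i]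
        have : ∑ j ∈ Finset.univ.erase i, (w' j : ℤ) * deg j =
            ∑ j ∈ Finset.univ.erase i, (w j : ℤ) * deg j :=
          Finset.sum_congr rfl (fun j hj => by rw [hw'j j (Finset.ne_of_mem_erase hj)])
        rw [this]
        have : ((w i - 1 : ℕ) : ℤ) = (w i : ℤ) - 1 := by
          have : 1 ≤ w i := Nat.one_le_iff_ne_zero.2 hwi
          push_cast [this]; ring
        rw [this]; ring
      refine ih w' (by omega) (f i * g) (fun j => ?_) (n - deg i) (by linarith) (b i) (hbdeg i)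
      by_cases hj : j = i
      · subst hj
        rw [hw'i, ← mul_assoc, ← pow_succ]
        have : w j - 1 + 1 + 1 = w j + 1 := by
          have : 1 ≤ w j := Nat.one_le_iff_ne_zero.2 hwi
          omega
        rw [this]
        exact hg j
      · rw [hw'j j hj, mul_left_comm]
        exact Ideal.mul_mem_left _ _ (hg j)

theorem piece_eq_mul {p : ℕ} (f : Fin p → A) (deg : Fin p → ℤ) (hdeg : ∀ i, 0 < deg i)
    (hf : ∀ i, f i ∈ 𝒜 (deg i))
    (hgen : Ideal.span {a : A | ∃ n : ℤ, 0 < n ∧ a ∈ 𝒜 n} = Ideal.span (Set.range f))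
    (d : ℤ) (hd : 0 < d) (hdvd : ∀ i, deg i ∣ d) (N : ℤ) (hN : d * p - ∑ i, deg i < N) :
    𝒜 N = 𝒜 d * 𝒜 (N - d) := by
  apply le_antisymm
  · intro a ha
    -- exponents
    have hex : ∀ i, ∃ e : ℕ, 1 ≤ e ∧ deg i * (e : ℤ) = d := by
      intro i
      obtain ⟨k, hk⟩ := hdvd i
      have hkpos : 0 < k := by
        by_contra hneg
        rw [not_lt] at hneg
        have : deg i * k ≤ 0 := mul_nonpos_of_nonneg_of_nonpos (hdeg i).le hneg
        omega
      refine ⟨k.toNat, by omega, ?_⟩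
      rw [Int.toNat_of_nonneg hkpos.le, hk]
    choose e he1 hed using hex
    let 𝔟 : Ideal A := Ideal.span (Set.range fun i => f i ^ e i)
    have hmem : a * 1 ∈ 𝔟 := by
      refine mem_of_weights 𝒜 f deg hdeg hf hgen 𝔟 _ (fun i => e i - 1) rfl 1 (fun i => ?_) N ?_ a ha
      · rw [mul_one]
        have : e i - 1 + 1 = e i := by have := he1 i; omega
        rw [this]
        exact Ideal.subset_span ⟨i, rfl⟩
      · have : ∑ i, (((e i - 1 : ℕ) : ℤ)) * deg i = d * p - ∑ i, deg i := by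
          have h1 : ∀ i, (((e i - 1 : ℕ) : ℤ)) * deg i = d - deg i := by
            intro i
            have : ((e i - 1 : ℕ) : ℤ) = (e i : ℤ) - 1 := by
              have := he1 i
              push_cast [this]; ring
            rw [this, sub_mul, one_mul, mul_comm, hed i]
          rw [Finset.sum_congr rfl (fun i _ => h1 i), Finset.sum_sub_distrib]
          simp [mul_comm]
        rw [this]; exact hN
    rw [mul_one] at hmem
    have hgd : ∀ i, f i ^ e i ∈ 𝒜 d := by
      intro i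
      have := SetLike.pow_mem_graded (e i) (hf i)
      rw [nsmul_eq_mul, mul_comm, hed i] at this
      exact this
    obtain ⟨b, hb, hab⟩ := exists_homog_coeffs 𝒜 (fun i => f i ^ e i) (fun _ => d) hgd N a ha hmem
    rw [hab]
    refine Submodule.sum_mem _ (fun i _ => ?_)
    rw [mul_comm (b i)]
    exact Submodule.mul_mem_mul (hgd i) (hb i)
  · rw [Submodule.mul_le]
    intro x hx y hy
    have := SetLike.mul_mem_graded hx hy
    rw [add_sub_cancel] at this
    exact this

end Groth.Agent.Lib27.Gr
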