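import Groth.Agent.Lib27.Kos1
import Groth.Agent.Lib.Helper11.GrFieldC
import Groth.Agent.Lib.Helper11.GrLesH
import Groth.Agent.Lib.Helper16.LocCohArtinian

/-!
# Pieces of an Artinian graded module over a non-negatively graded ring
-/

set_option autoImplicit false
set_option linter.unusedSectionVars false
set_option linter.unusedVariables false
set_option linter.style.haveILetI false
universe u

namespace Groth.Agent.Lib27.GrArt

open DirectSum GrLC Groth.Agent.Lib.Helper11.GrLCLib Groth.Agent.Lib.Helper11.GrLes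

variable {R : Type u} [CommRing R] {𝒜 : ℤ → AddSubgroup R} [GradedRing 𝒜]
variable {N : Type u} [AddCommGroup N] [Module R N] (𝒩 : ℤ → AddSubgroup N)
  [DirectSum.Decomposition 𝒩] [SetLike.GradedSMul 𝒜 𝒩]

/-- the components of `r • u` for homogeneous `u`. -/
lemma decompose_smul_of_mem {j : ℤ} {u : N} (hu : u ∈ 𝒩 j) (r : R) (n : ℤ) :
    (decompose 𝒩 (r • u) n : N) = (decompose 𝒜 r (n - j) : R) • u := by
  classical
  conv_lhs => rw [← DirectSum.sum_support_decompose 𝒜 r]
  rw [Finset.sum_smul, decompose_sum, DFinsupp.finsetSum_apply, AddSubmonoidClass.coe_finsetSum]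
  have hmem : ∀ e : ℤ, (decompose 𝒜 r e : R) • u ∈ 𝒩 (e + j) := fun e => by
    have := SetLike.GradedSMul.smul_mem (A := 𝒜) (B := 𝒩) (SetLike.coe_mem (decompose 𝒜 r e)) hu
    rwa [vadd_eq_add] at this
  have hterm : ∀ e : ℤ, (decompose 𝒩 ((decompose 𝒜 r e : R) • u) n : N) =
      if e = n - j then (decompose 𝒜 r (n - j) : R) • u else 0 := by
    intro e
    split_ifs with he
    · subst he
      have := hmem (n - j)
      rw [sub_add_cancel] at this
      exact decompose_of_mem_same 𝒩 this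
    · exact decompose_of_mem_ne 𝒩 (hmem e) (fun h => he (by omega))
  rw [Finset.sum_congr rfl (fun e _ => hterm e), Finset.sum_ite_eq']
  split_ifs with h0
  · rfl
  · rw [DFinsupp.notMem_support_iff.1 h0, ZeroMemClass.coe_zero, zero_smul]

lemma cp_neg (hpos : ∀ n : ℤ, n < 0 → 𝒜 n = ⊥) (e : ℤ) (r : R) (he : e < 0) :
    (decompose 𝒜 r e : R) = 0 := by
  have hmem : ((decompose 𝒜 r e : 𝒜 e) : R) ∈ (⊥ : AddSubgroup R) := hpos e he ▸ SetLike.coe_mem _
  exact (AddSubgroup.mem_bot).1 hmem

/-- the pieces of an Artinian graded module vanish in high degrees. -/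
theorem exists_eq_bot_of_isArtinian (hpos : ∀ n : ℤ, n < 0 → 𝒜 n = ⊥) [IsArtinian R N] :
    ∃ K : ℤ, ∀ n : ℤ, K ≤ n → 𝒩 n = ⊥ := by
  classical
  let F : ℤ → Submodule R N := fun n => Submodule.span R (⋃ j ∈ Set.Ici n, (𝒩 j : Set N))
  have hanti : ∀ n n' : ℤ, n ≤ n' → F n' ≤ F n := by
    intro n n' h
    apply Submodule.span_mono
    intro y hy
    obtain ⟨j, hj, hyj⟩ := Set.mem_iUnion₂.1 hy
    exact Set.mem_iUnion₂.2 ⟨j, le_trans h hj, hyj⟩
  let f : ℕ →o (Submodule R N)ᵒᵈ :=
    ⟨fun k => OrderDual.toDual (F k), fun k k' h => hanti k k' (by exact_mod_cast h)⟩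
  obtain ⟨K, hK⟩ := IsArtinian.monotone_stabilizes f
  have hcomp : ∀ n : ℤ, ∀ w ∈ F (n + 1), (decompose 𝒩 w n : N) = 0 := by
    intro n w hw
    have key : ∀ w ∈ F (n + 1), ∀ r : R, (decompose 𝒩 (r • w) n : N) = 0 := by
      intro w hw
      induction hw using Submodule.span_induction with
      | mem w hw =>
        intro r
        obtain ⟨j, hj, hwj⟩ := Set.mem_iUnion₂.1 hw
        rw [decompose_smul_of_mem (𝒜 := 𝒜) 𝒩 hwj, cp_neg hpos (n - j) r (by
          have : n + 1 ≤ j := hj
          omega), zero_smul]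
      | zero => intro r; rw [smul_zero, decompose_zero, DirectSum.zero_apply, ZeroMemClass.coe_zero]
      | add w w' _ _ h h' =>
        intro r
        rw [smul_add, decompose_add, DirectSum.add_apply, AddSubgroup.coe_add, h r, h' r, add_zero]
      | smul c w _ h =>
        intro r
        rw [smul_smul]
        exact h (r * c)
    have := key w hw 1
    rwa [one_smul] at this
  refine ⟨K, fun n hn => ?_⟩
  rw [eq_bot_iff]
  intro z hz
  rw [AddSubgroup.mem_bot]
  obtain ⟨k, rfl⟩ : ∃ k : ℕ, n = k := ⟨n.toNat, by omega⟩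
  have hk : K ≤ k := by exact_mod_cast hn
  have h1 : F (k : ℤ) = F ((k : ℤ) + 1) := by
    have e1 := hK k hk
    have e2 := hK (k + 1) (by omega)
    have e3 : f k = f (k + 1) := e1.symm.trans e2
    have e4 : F ((k : ℕ) : ℤ) = F (((k + 1 : ℕ)) : ℤ) := congrArg OrderDual.ofDual e3
    rw [e4]
    congr 1
  have hzF : z ∈ F (k : ℤ) := Submodule.subset_span (Set.mem_iUnion₂.2 ⟨k, Set.mem_Ici.2 le_rfl, hz⟩)
  rw [h1] at hzF
  have := hcomp k z hzF
  rwa [decompose_of_mem_same 𝒩 hz] at this

/-- the pieces of an Artinian graded module are Artinian over the degree-zero subring. -/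
theorem isArtinian_piece (hpos : ∀ n : ℤ, n < 0 → 𝒜 n = ⊥) [IsArtinian R N] (n : ℤ)
    (C : Submodule (GrLC.deg0 𝒜) N) (hC : ∀ z, z ∈ C ↔ z ∈ 𝒩 n) :
    IsArtinian (GrLC.deg0 𝒜) C := by
  classical
  let f : Submodule (GrLC.deg0 𝒜) C → Submodule R N := fun U =>
    Submodule.span R (((↑) : C → N) '' (U : Set C))
  have hmono : Monotone f := fun U U' h => Submodule.span_mono (Set.image_mono h)
  have hback : ∀ (U : Submodule (GrLC.deg0 𝒜) C) (z : C), (z : N) ∈ f U → z ∈ U := by
    intro U z hz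
    have key : ∀ w ∈ f U, ∀ r : R, ∃ u ∈ U, ((u : C) : N) = (decompose 𝒩 (r • w) n : N) := by
      intro w hw
      induction hw using Submodule.span_induction with
      | mem w hw =>
        intro r
        obtain ⟨u, hu, rfl⟩ := hw
        have hun : (u : N) ∈ 𝒩 n := (hC _).1 u.2
        rw [decompose_smul_of_mem (𝒜 := 𝒜) 𝒩 hun, sub_self]
        let c : GrLC.deg0 𝒜 := ⟨(decompose 𝒜 r 0 : R), SetLike.coe_mem _⟩
        exact ⟨c • u, U.smul_mem c hu, rfl⟩
      | zero =>
        intro r
        exact ⟨0, zero_mem _, by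
          rw [smul_zero, decompose_zero, DirectSum.zero_apply, ZeroMemClass.coe_zero]; rfl⟩
      | add w w' _ _ h h' =>
        intro r
        obtain ⟨u, hu, e⟩ := h r
        obtain ⟨u', hu', e'⟩ := h' r
        refine ⟨u + u', add_mem hu hu', ?_⟩
        rw [smul_add, decompose_add, DirectSum.add_apply, AddSubgroup.coe_add, ← e, ← e']
        rfl
      | smul c w _ h =>
        intro r
        rw [smul_smul]
        exact h (r * c)
    obtain ⟨u, hu, e⟩ := key _ hz 1
    rw [one_smul, decompose_of_mem_same 𝒩 ((hC _).1 z.2)] at e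
    have : u = z := Subtype.ext e
    rw [← this]
    exact hu
  have hstrict : StrictMono f := by
    intro U U' hlt
    refine lt_of_le_of_ne (hmono hlt.le) ?_
    intro heq
    apply hlt.not_ge
    intro z hz
    apply hback U z
    rw [heq]
    exact Submodule.subset_span ⟨z, hz, rfl⟩
  haveI : WellFoundedLT (Submodule R N) := inferInstance
  exact ⟨hstrict.wellFoundedLT.wf⟩

end Groth.Agent.Lib27.GrArt
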