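import Mathlib

/-!
# Finitely generated projective graded modules over a graded-complete ring are graded-complete
-/

set_option autoImplicit false

universe u

namespace Groth.Agent.Lib27.GrCompl

open DirectSum

variable {S : Type*} [CommRing S] (𝒜 : ℤ → AddSubgroup S) [GradedRing 𝒜]
  {M : Type*} [AddCommGroup M] [Module S M] (ℳ : ℤ → AddSubgroup M)
  [DirectSum.Decomposition ℳ] [SetLike.GradedSMul 𝒜 ℳ]

/-- projection to a component as additive map -/
noncomputable def pr (n : ℤ) : M →+ M where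
  toFun x := (decompose ℳ x n : M)
  map_zero' := by simp
  map_add' x y := by rw [decompose_add, DirectSum.add_apply, AddSubgroup.coe_add]

lemma pr_apply (n : ℤ) (x : M) : pr ℳ n x = (decompose ℳ x n : M) := rfl

lemma pr_smul {d : ℤ} {m : M} (hm : m ∈ ℳ d) (a : S) (n : ℤ) :
    pr ℳ n (a • m) = ((decompose 𝒜 a (n - d) : 𝒜 (n - d)) : S) • m := by
  classical
  conv_lhs => rw [← DirectSum.sum_support_decompose 𝒜 a, Finset.sum_smul, map_sum]
  have : ∀ i ∈ (decompose 𝒜 a).support, pr ℳ n (((decompose 𝒜 a i : 𝒜 i) : S) • m) =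
      if i = n - d then ((decompose 𝒜 a i : 𝒜 i) : S) • m else 0 := by
    intro i _
    have hmem : ((decompose 𝒜 a i : 𝒜 i) : S) • m ∈ ℳ (i + d) := by
      have := SetLike.GradedSMul.smul_mem (A := 𝒜) (B := ℳ) (decompose 𝒜 a i).2 hm
      rwa [vadd_eq_add] at this
    split_ifs with h
    · subst h
      have e : n - d + d = n := by ring
      rw [e] at hmem
      exact DirectSum.decompose_of_mem_same ℳ hmem
    · exact DirectSum.decompose_of_mem_ne ℳ hmem (by omega)
  rw [Finset.sum_congr rfl this, Finset.sum_ite_eq']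
  split_ifs with h
  · rfl
  · rw [DFinsupp.notMem_support_iff.1 h]
    simp

omit [SetLike.GradedSMul 𝒜 ℳ] in
lemma exists_hom_gens [Module.Finite S M] :
    ∃ (T : Finset M), (∀ t ∈ T, ∃ n, t ∈ ℳ n) ∧ Submodule.span S (T : Set M) = ⊤ := by
  classical
  obtain ⟨G, hG⟩ := (Module.finite_def.1 ‹_› : (⊤ : Submodule S M).FG)
  refine ⟨G.biUnion fun g => (decompose ℳ g).support.image fun n =>
    ((decompose ℳ g n : ℳ n) : M), ?_, ?_⟩
  · intro t ht
    obtain ⟨g, _, ht⟩ := Finset.mem_biUnion.1 ht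
    obtain ⟨n, _, rfl⟩ := Finset.mem_image.1 ht
    exact ⟨n, (decompose ℳ g n).2⟩
  · rw [eq_top_iff, ← hG, Submodule.span_le]
    intro g hg
    rw [SetLike.mem_coe, ← DirectSum.sum_support_decompose ℳ g]
    refine Submodule.sum_mem _ fun n hn => Submodule.subset_span ?_
    exact Finset.mem_coe.2 (Finset.mem_biUnion.2 ⟨g, hg, Finset.mem_image.2 ⟨n, hn, rfl⟩⟩)

theorem main (V : ℕ → HomogeneousIdeal 𝒜)
    (hsep : ∀ (n : ℤ) (s : S), s ∈ 𝒜 n → (∀ m, s ∈ (V m).toIdeal) → s = 0)
    (hcpl : ∀ (n : ℤ) (f : ℕ → S), (∀ m, f m ∈ 𝒜 n) →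
      (∀ m, f (m + 1) - f m ∈ (V m).toIdeal) → ∃ s ∈ 𝒜 n, ∀ m, s - f m ∈ (V m).toIdeal)
    [Module.Finite S M] [Module.Projective S M] :
    (∀ (n : ℤ) (x : M), x ∈ ℳ n → (∀ m, x ∈ (V m).toIdeal • (⊤ : Submodule S M)) → x = 0) ∧
    (∀ (n : ℤ) (g : ℕ → M), (∀ m, g m ∈ ℳ n) →
      (∀ m, g (m + 1) - g m ∈ (V m).toIdeal • (⊤ : Submodule S M)) →
      ∃ x ∈ ℳ n, ∀ m, x - g m ∈ (V m).toIdeal • (⊤ : Submodule S M)) := by
  classical
  obtain ⟨T, hTh, hT⟩ := exists_hom_gens (S := S) ℳ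
  choose! deg hdeg using hTh
  let gen : T → M := fun t => t.1
  let p : (T → S) →ₗ[S] M := Fintype.linearCombination S gen
  have hp : Function.Surjective p := by
    rw [← LinearMap.range_eq_top, Fintype.range_linearCombination]
    have : Set.range gen = (T : Set M) := Subtype.range_coe_subtype
    rw [this, hT]
  obtain ⟨s, hs⟩ := Module.projective_lifting_property p LinearMap.id hp
  have key : ∀ n x, x ∈ ℳ n →
      x = ∑ b : T, ((decompose 𝒜 (s x b) (n - deg b.1) : 𝒜 _) : S) • gen b := by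
    intro n x hx
    have h1 : x = p (s x) := (LinearMap.congr_fun hs x).symm
    have h2 : p (s x) = ∑ b : T, s x b • gen b := Fintype.linearCombination_apply S gen (s x)
    calc x = pr ℳ n x := (DirectSum.decompose_of_mem_same ℳ hx).symm
      _ = pr ℳ n (∑ b : T, s x b • gen b) := by rw [← h2, ← h1]
      _ = ∑ b : T, pr ℳ n (s x b • gen b) := map_sum _ _ _
      _ = _ := Finset.sum_congr rfl fun b _ => pr_smul 𝒜 ℳ (hdeg b.1 b.2) _ _
  have hcoord : ∀ (I : Ideal S) (y : M), y ∈ I • (⊤ : Submodule S M) → ∀ b, s y b ∈ I := by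
    intro I y hy b
    refine Submodule.smul_induction_on (p := fun y => s y b ∈ I) hy ?_ ?_
    · intro a ha m _
      show s (a • m) b ∈ I
      rw [map_smul, Pi.smul_apply, smul_eq_mul]
      exact I.mul_mem_right _ ha
    · intro u v hu hv
      show s (u + v) b ∈ I
      rw [map_add, Pi.add_apply]
      exact I.add_mem hu hv
  have hcoordV : ∀ m n (y : M), y ∈ (V m).toIdeal • (⊤ : Submodule S M) → ∀ b : T,
      ((decompose 𝒜 (s y b) (n - deg b.1) : 𝒜 _) : S) ∈ (V m).toIdeal :=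
    fun m n y hy b => (V m).isHomogeneous _ (hcoord _ y hy b)
  refine ⟨?_, ?_⟩
  · intro n x hx hxV
    rw [key n x hx]
    refine Finset.sum_eq_zero fun b _ => ?_
    rw [hsep (n - deg b.1) _ (SetLike.coe_mem _) (fun m => hcoordV m n x (hxV m) b), zero_smul]
  · intro n g hg hgV
    have hf : ∀ b : T, ∃ t ∈ 𝒜 (n - deg b.1), ∀ m,
        t - ((decompose 𝒜 (s (g m) b) (n - deg b.1) : 𝒜 _) : S) ∈ (V m).toIdeal := by
      intro b
      refine hcpl (n - deg b.1)
        (fun m => ((decompose 𝒜 (s (g m) b) (n - deg b.1) : 𝒜 _) : S))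
        (fun m => SetLike.coe_mem _) (fun m => ?_)
      have := hcoordV m n (g (m + 1) - g m) (hgV m) b
      rwa [map_sub, Pi.sub_apply, decompose_sub, DirectSum.sub_apply, AddSubgroup.coe_sub] at this
    choose t ht1 ht2 using hf
    refine ⟨∑ b : T, t b • gen b, ?_, fun m => ?_⟩
    · refine sum_mem fun b _ => ?_
      have := SetLike.GradedSMul.smul_mem (A := 𝒜) (B := ℳ) (ht1 b) (hdeg b.1 b.2)
      rwa [vadd_eq_add, sub_add_cancel] at this
    · have e := key n (g m) (hg m)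
      have : ∑ b : T, t b • gen b - g m =
          ∑ b : T, (t b - ((decompose 𝒜 (s (g m) b) (n - deg b.1) : 𝒜 _) : S)) • gen b := by
        conv_lhs => rw [e]
        rw [← Finset.sum_sub_distrib]
        exact Finset.sum_congr rfl fun b _ => (sub_smul _ _ _).symm
      rw [this]
      exact Submodule.sum_mem _ fun b _ => Submodule.smul_mem_smul (ht2 b m) Submodule.mem_top

end Groth.Agent.Lib27.GrCompl
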