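import Groth.Agent.Lib27.GrFin1

/-!
# Graded prime avoidance over `ℤ`-graded rings and homogeneous regular elements
-/

set_option autoImplicit false
set_option linter.unusedSectionVars false
set_option linter.unusedVariables false
set_option linter.style.haveILetI false
universe u

namespace Groth.Agent.Lib27.GrFin

open DirectSum GrLC Groth.Agent.Lib27.Kos

variable {R : Type u} [CommRing R] (𝒜 : ℤ → AddSubgroup R) [GradedRing 𝒜]

theorem exists_homogeneous_mem_not_mem (hpos : ∀ n : ℤ, n < 0 → 𝒜 n = ⊥)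
    (J K : HomogeneousIdeal 𝒜) (h : ¬ J ≤ K) :
    ∃ d : ℕ, ∃ x ∈ 𝒜 (d : ℤ), x ∈ J.toIdeal ∧ x ∉ K.toIdeal := by
  classical
  obtain ⟨z, hzJ, hzK⟩ := SetLike.not_le_iff_exists.mp h
  by_contra hcon
  push Not at hcon
  apply hzK
  rw [← HomogeneousIdeal.mem_iff, ← DirectSum.sum_support_decompose 𝒜 z]
  refine Ideal.sum_mem _ fun d _ => ?_
  by_cases hd : d < 0
  · rw [cp_neg hpos d z hd]
    exact zero_mem _
  · obtain ⟨d', rfl⟩ := Int.eq_ofNat_of_zero_le (not_lt.1 hd)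
    exact hcon d' _ (decompose 𝒜 z d').2
      (J.isHomogeneous d' (HomogeneousIdeal.mem_iff.mpr hzJ))

theorem graded_prime_avoidance_int (hpos : ∀ n : ℤ, n < 0 → 𝒜 n = ⊥) {ι' : Type*}
    (p : ι' → HomogeneousIdeal 𝒜) (I : HomogeneousIdeal 𝒜)
    (hI0 : ∀ x ∈ I.toIdeal, x ∈ 𝒜 0 → x = 0) (s : Finset ι') :
    (∀ i ∈ s, (p i).toIdeal.IsPrime) → (∀ i ∈ s, ¬ I ≤ p i) →
    ∃ x : R, ∃ d : ℕ, 0 < d ∧ x ∈ 𝒜 (d : ℤ) ∧ x ∈ I.toIdeal ∧ ∀ i ∈ s, x ∉ (p i).toIdeal := by
  classical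
  induction s using Finset.strongInduction with
  | H s ih =>
  intro hp h
  rcases s.eq_empty_or_nonempty with rfl | hne
  · exact ⟨0, 1, one_pos, zero_mem _, zero_mem _, by simp⟩
  obtain ⟨j, hjs, hjmin⟩ := s.exists_minimalFor p hne
  obtain ⟨x, a, ha, hxa, hxI, hx⟩ := ih (s.erase j) (Finset.erase_ssubset hjs)
    (fun i hi => hp i (Finset.mem_of_mem_erase hi))
    (fun i hi => h i (Finset.mem_of_mem_erase hi))
  by_cases hxj : x ∈ (p j).toIdeal
  swap
  · refine ⟨x, a, ha, hxa, hxI, fun i hi => ?_⟩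
    by_cases hij : i = j
    · subst hij; exact hxj
    · exact hx i (Finset.mem_erase.mpr ⟨hij, hi⟩)
  have hnle : ∀ i ∈ s.erase j, ¬ p i ≤ p j := by
    intro i hi hle
    have hji : p j ≤ p i := hjmin (Finset.mem_of_mem_erase hi) hle
    exact hx i hi (HomogeneousIdeal.mem_iff.mp (hji (HomogeneousIdeal.mem_iff.mpr hxj)))
  obtain ⟨du, u, hud, huI, huj⟩ := exists_homogeneous_mem_not_mem 𝒜 hpos I (p j) (h j hjs)
  have hdu : 0 < du := by
    rcases Nat.eq_zero_or_pos du with h0 | h0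
    · exfalso
      subst h0
      have h1 : u = 0 := hI0 u huI hud
      exact huj (h1 ▸ zero_mem _)
    · exact h0
  choose! dv v hvd hvi hvj using fun i (hi : i ∈ s.erase j) =>
    exists_homogeneous_mem_not_mem 𝒜 hpos (p i) (p j) (hnle i hi)
  have hyb : u * ∏ i ∈ s.erase j, v i ∈ 𝒜 (((du + ∑ i ∈ s.erase j, dv i : ℕ)) : ℤ) := by
    have h1 := SetLike.mul_mem_graded hud
      (SetLike.prod_mem_graded 𝒜 (fun i => ((dv i : ℕ) : ℤ)) v (fun i hi => hvd i hi))
    have e : ((du : ℤ) + ∑ i ∈ s.erase j, ((dv i : ℕ) : ℤ)) =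
        ((du + ∑ i ∈ s.erase j, dv i : ℕ) : ℤ) := by
      push_cast
      rfl
    rwa [e] at h1
  have hb : 0 < du + ∑ i ∈ s.erase j, dv i := by omega
  have hyI : u * ∏ i ∈ s.erase j, v i ∈ I.toIdeal := Ideal.mul_mem_right _ _ huI
  have hyj : u * ∏ i ∈ s.erase j, v i ∉ (p j).toIdeal := by
    intro hy
    rcases (hp j hjs).mem_or_mem hy with h1 | h1
    · exact huj h1
    · obtain ⟨i, hi, hvi'⟩ := (hp j hjs).prod_mem_iff.mp h1
      exact hvj i hi hvi'
  have hyi : ∀ i ∈ s.erase j, u * ∏ i ∈ s.erase j, v i ∈ (p i).toIdeal := fun i hi =>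
    Ideal.mul_mem_left _ _
      (Ideal.mem_of_dvd _ (Finset.dvd_prod_of_mem v hi) (hvi i hi))
  generalize u * ∏ i ∈ s.erase j, v i = y at *
  generalize du + ∑ i ∈ s.erase j, dv i = b at *
  refine ⟨x ^ b + y ^ a, a * b, Nat.mul_pos ha hb, ?_, ?_, ?_⟩
  · refine add_mem ?_ ?_
    · have := SetLike.pow_mem_graded b hxa
      have e : b • (a : ℤ) = ((a * b : ℕ) : ℤ) := by
        rw [nsmul_eq_mul]
        push_cast
        ring
      rwa [e] at this
    · have := SetLike.pow_mem_graded a hyb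
      have e : a • (b : ℤ) = ((a * b : ℕ) : ℤ) := by
        rw [nsmul_eq_mul]
        push_cast
        ring
      rwa [e] at this
  · exact add_mem (Ideal.pow_mem_of_mem _ hxI _ hb) (Ideal.pow_mem_of_mem _ hyI _ ha)
  · intro i hi hmem
    by_cases hij : i = j
    · subst hij
      have h1 : x ^ b ∈ (p i).toIdeal := Ideal.pow_mem_of_mem _ hxj _ hb
      have h2 : y ^ a ∈ (p i).toIdeal := ((p i).toIdeal.add_mem_iff_right h1).mp hmem
      exact hyj ((hp i hi).mem_of_pow_mem _ h2)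
    · have hi' := Finset.mem_erase.mpr ⟨hij, hi⟩
      have h1 : y ^ a ∈ (p i).toIdeal := Ideal.pow_mem_of_mem _ (hyi i hi') _ ha
      have h2 : x ^ b ∈ (p i).toIdeal := ((p i).toIdeal.add_mem_iff_left h1).mp hmem
      exact hx i hi' ((hp i hi).mem_of_pow_mem _ h2)

/-- a homogeneous regular element of positive degree, when the socle with respect to `a` vanishes. -/
theorem exists_regular (hpos : ∀ n : ℤ, n < 0 → 𝒜 n = ⊥) [IsNoetherianRing R]
    (a : HomogeneousIdeal 𝒜) (ha0 : ∀ x ∈ a.toIdeal, x ∈ 𝒜 0 → x = 0)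
    (M : Type u) [AddCommGroup M] [Module R M] [Module.Finite R M]
    (hΓ : ∀ y : M, (∀ r ∈ a.toIdeal, r • y = 0) → y = 0) :
    ∃ (c : ℕ) (y : R), 0 < c ∧ y ∈ 𝒜 (c : ℤ) ∧ y ∈ a.toIdeal ∧ ∀ q : M, y • q = 0 → q = 0 := by
  classical
  have hfin := associatedPrimes.finite (A := R) (M := M)
  obtain ⟨y, c, hc, hyc, hya, hy⟩ := graded_prime_avoidance_int 𝒜 hpos
    (fun P : Ideal R => P.homogeneousCore 𝒜) a ha0 hfin.toFinset
    (fun P hP => by
      have hP' : P ∈ associatedPrimes R M := hfin.mem_toFinset.1 hP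
      exact Ideal.IsPrime.homogeneousCore hP'.isPrime)
    (fun P hP hle => by
      have hP' : IsAssociatedPrime P M := hfin.mem_toFinset.1 hP
      obtain ⟨hPprime, x, hx⟩ := (isAssociatedPrime_iff).1 hP'
      have hax : ∀ r ∈ a.toIdeal, r • x = 0 := by
        intro r hr
        have h1 : r ∈ P := Ideal.toIdeal_homogeneousCore_le 𝒜 P
          (HomogeneousIdeal.mem_iff.mp (hle (HomogeneousIdeal.mem_iff.mpr hr)))
        rw [hx, Submodule.mem_colon_singleton] at h1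
        exact (Submodule.mem_bot R).1 h1
      have hx0 : x = 0 := hΓ x hax
      apply hPprime.ne_top
      rw [Ideal.eq_top_iff_one, hx, Submodule.mem_colon_singleton, hx0, smul_zero]
      exact Submodule.zero_mem _)
  refine ⟨c, y, hc, hyc, hya, fun q hq => ?_⟩
  by_contra hq0
  have hmem : y ∈ ⋃ p ∈ associatedPrimes R M, (p : Set R) := by
    rw [biUnion_associatedPrimes_eq_zero_divisors]
    exact ⟨q, hq0, hq⟩
  obtain ⟨P, hP, hyP⟩ := Set.mem_iUnion₂.1 hmem
  exact hy P (hfin.mem_toFinset.2 hP)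
    (Ideal.mem_homogeneousCore_of_homogeneous_of_mem ⟨(c : ℤ), hyc⟩ hyP)

end Groth.Agent.Lib27.GrFin
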