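import Groth.Agent.Lib27.LD7
import Groth.Agent.Lib.Helper11.GrShiftA
import Groth.Agent.Lib.Helper16.LocCohTorsion

/-!
# Vanishing of homogeneous pieces of graded local cohomology: formal consequences of the long exact
sequence
-/

set_option autoImplicit false
set_option linter.unusedSectionVars false
set_option linter.unusedVariables false
set_option linter.style.haveILetI false
universe u

namespace Groth.Agent.Lib27.Kos

open DirectSum GrLC Groth.Agent.Lib.Helper11.GrLCLib Groth.Agent.Lib.Helper11.GrLes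
  Groth.Agent.Lib27.LD Groth.Agent.Lib.Helper11.GrShift

variable {R : Type u} [CommRing R] {𝒜 : ℤ → AddSubgroup R} [GradedRing 𝒜]
variable {M : Type u} [AddCommGroup M] [Module R M] {ℳ : ℤ → AddSubgroup M}
  [DirectSum.Decomposition ℳ] [SetLike.GradedSMul 𝒜 ℳ]
variable {M' : Type u} [AddCommGroup M'] [Module R M'] {ℳ' : ℤ → AddSubgroup M'}
  [DirectSum.Decomposition ℳ'] [SetLike.GradedSMul 𝒜 ℳ']
variable {M'' : Type u} [AddCommGroup M''] [Module R M''] {ℳ'' : ℤ → AddSubgroup M''}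
  [DirectSum.Decomposition ℳ''] [SetLike.GradedSMul 𝒜 ℳ'']

/-- the piece of degree `n` of `*H^i_a(M)` vanishes (for every *injective resolution). -/
def Van (ℳ : ℤ → AddSubgroup M) [DirectSum.Decomposition ℳ] [SetLike.GradedSMul 𝒜 ℳ]
    (a : HomogeneousIdeal 𝒜) (i : ℕ) (n : ℤ) : Prop :=
  ∀ E : StarInjRes 𝒜 ℳ, ∀ z, z ∈ E.Hgr a i n → z = 0

variable {a : HomogeneousIdeal 𝒜} {i : ℕ} {n : ℤ}

/-- transfer along a retraction. -/
lemma van_retract (s : M →ₗ[R] M') (p : M' →ₗ[R] M) (δ δ' : ℤ)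
    (hs : IsGrHomDeg ℳ ℳ' s δ) (hp : IsGrHomDeg ℳ' ℳ p δ') (hps : p ∘ₗ s = LinearMap.id)
    (hδ : δ + δ' = 0) (E' : StarInjRes 𝒜 ℳ') (h : ∀ z, z ∈ E'.Hgr a i (n + δ) → z = 0) :
    Van ℳ a i n := by
  intro E z hz
  have h1 := Hm_comp_apply' (E := E) (E' := E') (E'' := E) (a := a) (q := i) hs hp
    isGrHomDeg_id0 hps hδ z
  rw [Hm_id_apply] at h1
  have h2 := Hm_mem (E := E) (E' := E') hs hz
  rw [← h1, h _ h2, map_zero]

lemma van_of_res (E : StarInjRes 𝒜 ℳ) (h : ∀ z, z ∈ E.Hgr a i n → z = 0) : Van ℳ a i n := by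
  refine van_retract LinearMap.id LinearMap.id 0 0 isGrHomDeg_id0 isGrHomDeg_id0
    (LinearMap.comp_id _) (add_zero 0) E ?_
  intro z hz
  rw [add_zero] at hz
  exact h z hz

/-- transfer along a finite decomposition of the identity through copies of `M`. -/
lemma van_of_sum {β : Type} [Fintype β] [DecidableEq β] (p : β → M' →ₗ[R] M)
    (s : β → M →ₗ[R] M') (δ : ℤ) (hp : ∀ b, IsGrHomDeg ℳ' ℳ (p b) (-δ))
    (hs : ∀ b, IsGrHomDeg ℳ ℳ' (s b) δ) (hsum : ∑ b, s b ∘ₗ p b = LinearMap.id)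
    (h : Van ℳ a i (n - δ)) : Van ℳ' a i n := by
  intro E' z hz
  obtain ⟨E⟩ := nonempty_starInjRes 𝒜 ℳ
  have hc : ∀ b, IsGrHomDeg ℳ' ℳ' (s b ∘ₗ p b) 0 := fun b => by
    have := isGrHomDeg_comp' (hp b) (hs b)
    rwa [neg_add_cancel] at this
  have hsumdeg : IsGrHomDeg ℳ' ℳ' (∑ b, s b ∘ₗ p b) 0 :=
    isGrHomDeg_sum' Finset.univ _ (fun b _ => hc b)
  have h1 : Hm E' E' a i (∑ b, s b ∘ₗ p b) 0 hsumdeg z = z := by
    rw [Hm_congr hsumdeg isGrHomDeg_id0 hsum rfl, Hm_id_apply]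
  rw [Hm_sum Finset.univ _ hc hsumdeg, LinearMap.sum_apply] at h1
  rw [← h1]
  refine Finset.sum_eq_zero fun b _ => ?_
  rw [← Hm_comp_apply' (E := E') (E' := E) (E'' := E') (hp b) (hs b) (hc b) rfl
    (neg_add_cancel δ) z]
  have h2 := Hm_mem (E := E') (E' := E) (hp b) hz
  rw [← sub_eq_add_neg] at h2
  rw [h E _ h2, map_zero]

section LES

variable (u : M' →ₗ[R] M) (v : M →ₗ[R] M'') (hu : IsGrHomDeg ℳ' ℳ u 0)
  (hv : IsGrHomDeg ℳ ℳ'' v 0) (hui : Function.Injective u) (hvs : Function.Surjective v)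
  (hex : LinearMap.ker v = LinearMap.range u)

include hu hv hui hvs hex

lemma van_right (h1 : Van ℳ a i n) (h2 : Van ℳ' a (i + 1) n) : Van ℳ'' a i n := by
  intro E'' z hz
  obtain ⟨E⟩ := nonempty_starInjRes 𝒜 ℳ
  obtain ⟨E'⟩ := nonempty_starInjRes 𝒜 ℳ'
  obtain ⟨γ, hγ, e1, e2, e3, -⟩ := les E' E E'' u v hu hv hui hvs hex a
  have hγz : γ i z = 0 := h2 E' _ (hγ i n z hz)
  obtain ⟨y, hy⟩ := (e2 i z).1 hγz
  have hz' : z ∈ E''.Hgr a i (n + 0) := by rwa [add_zero]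
  obtain ⟨y', hy', hyz⟩ := Hm_exists_hom_preimage hv hz' y hy
  rw [← hyz, h1 E y' hy', map_zero]

lemma van_mid (h1 : Van ℳ' a i n) (h2 : Van ℳ'' a i n) : Van ℳ a i n := by
  intro E z hz
  obtain ⟨E''⟩ := nonempty_starInjRes 𝒜 ℳ''
  obtain ⟨E'⟩ := nonempty_starInjRes 𝒜 ℳ'
  obtain ⟨γ, hγ, e1, e2, e3, -⟩ := les E' E E'' u v hu hv hui hvs hex a
  have hvz : Hm E E'' a i v 0 hv z = 0 := by
    have := Hm_mem (E := E) (E' := E'') hv hz
    rw [add_zero] at this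
    exact h2 E'' _ this
  obtain ⟨w, hw⟩ := (e1 i z).1 hvz
  have hz' : z ∈ E.Hgr a i (n + 0) := by rwa [add_zero]
  obtain ⟨w', hw', hwz⟩ := Hm_exists_hom_preimage hu hz' w hw
  rw [← hwz, h1 E' w' hw', map_zero]

lemma van_left (h1 : Van ℳ'' a i n) (h2 : Van ℳ a (i + 1) n) : Van ℳ' a (i + 1) n := by
  intro E' z hz
  obtain ⟨E''⟩ := nonempty_starInjRes 𝒜 ℳ''
  obtain ⟨E⟩ := nonempty_starInjRes 𝒜 ℳ
  obtain ⟨γ, hγ, e1, e2, e3, -⟩ := les E' E E'' u v hu hv hui hvs hex a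
  have huz : Hm E' E a (i + 1) u 0 hu z = 0 := by
    have := Hm_mem (E := E') (E' := E) hu hz
    rw [add_zero] at this
    exact h2 E _ this
  obtain ⟨w, hw⟩ := (e3 i z).1 huz
  -- homogeneous preimage under γ
  have hint := Hgr_isInternal 𝒜 ℳ'' E'' a i
  have hint' := Hgr_isInternal 𝒜 ℳ' E' a (i + 1)
  have hγdeg : IsGrHomDeg (E''.Hgr a i) (E'.Hgr a (i + 1)) (γ i) 0 := by
    intro g x hx
    rw [add_zero]
    exact hγ i g x hx
  have hz' : z ∈ E'.Hgr a (i + 1) (n + 0) := by rwa [add_zero]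
  obtain ⟨w', hw', hwz⟩ := exists_homogeneous_preimage (E''.Hgr a i) (E'.Hgr a (i + 1)) hint hint'
    _ 0 hγdeg n z hz' w hw
  rw [← hwz, h1 E'' w' hw', map_zero]

end LES

section Torsion

variable [IsNoetherianRing R]

lemma van_of_torsion (ht : ∀ y : M, ∃ k : ℕ, ∀ r ∈ a.toIdeal ^ k, r • y = 0) (i : ℕ) (n : ℤ) :
    Van ℳ a (i + 1) n := by
  intro E z hz
  obtain ⟨e⟩ := Groth.Agent.Lib.Helper11.GrLCOrd.nonempty_H_equiv E a (i + 1)
  haveI : Subsingleton (LocCoh.H a.toIdeal (i + 1) M) :=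
    Groth.Agent.Lib.Helper16.LC.subsingleton_H_succ_of_torsion a.toIdeal i M ht
  exact e.injective (Subsingleton.elim _ _)

lemma van_of_subsingleton [Subsingleton M] (i : ℕ) (n : ℤ) : Van ℳ a i n := by
  intro E z hz
  obtain ⟨e⟩ := Groth.Agent.Lib.Helper11.GrLCOrd.nonempty_H_equiv E a i
  haveI : Subsingleton (LocCoh.H a.toIdeal i M) :=
    Groth.Agent.Lib.Helper16.LC.subsingleton_H_of_subsingleton a.toIdeal i M
  exact e.injective (Subsingleton.elim _ _)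

/-- an injection with torsion cokernel induces surjections on `*H^i`, `i ≥ 1`, degree by degree. -/
lemma van_of_torsion_coker (u : M' →ₗ[R] M) (hu : IsGrHomDeg ℳ' ℳ u 0)
    (hui : Function.Injective u)
    (ht : ∀ y : M, ∃ k : ℕ, ∀ r ∈ a.toIdeal ^ k, r • y ∈ LinearMap.range u) (i : ℕ) (n : ℤ)
    (h : Van ℳ' a (i + 1) n) : Van ℳ a (i + 1) n := by
  have hu' : IsGrHom ℳ' ℳ u := (isGrHomDeg_zero_iff ℳ' ℳ).mp hu
  have hhom : (LinearMap.range u).IsHomogeneous ℳ := range_isHomogeneous ℳ' ℳ hu'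
  letI := quotDecomposition ℳ (LinearMap.range u) hhom
  have hv : IsGrHomDeg ℳ (quotGrM ℳ (LinearMap.range u)) (LinearMap.range u).mkQ 0 := by
    intro j y hy
    rw [add_zero]
    exact mkQ_isGrHom ℳ (LinearMap.range u) j y hy
  refine van_mid u (LinearMap.range u).mkQ hu hv hui (Submodule.mkQ_surjective _)
    (Submodule.ker_mkQ _) h ?_
  apply van_of_torsion
  intro c
  obtain ⟨y, rfl⟩ := Submodule.mkQ_surjective _ c
  obtain ⟨k, hk⟩ := ht y
  refine ⟨k, fun r hr => ?_⟩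
  rw [← map_smul]
  exact (Submodule.Quotient.mk_eq_zero _).2 (hk r hr)

end Torsion

end Groth.Agent.Lib27.Kos
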