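import Groth.Agent.Lib27.GrFin2
import Groth.Agent.Lib27.Kos1
import Groth.Agent.Lib.Helper11.GrShiftA

/-!
# Finiteness and vanishing of the pieces of `*H^i_{R_+}(M)`
-/

set_option autoImplicit false
set_option linter.unusedSectionVars false
set_option linter.unusedVariables false
set_option linter.style.haveILetI false
universe u

namespace Groth.Agent.Lib27.GrFin

open DirectSum GrLC Groth.Agent.Lib.Helper11.GrLCLib Groth.Agent.Lib.Helper11.GrLes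
  Groth.Agent.Lib27.LD Groth.Agent.Lib.Helper11.GrShift Groth.Agent.Lib27.Kos

variable {R : Type u} [CommRing R] {𝒜 : ℤ → AddSubgroup R} [GradedRing 𝒜]
variable {M : Type u} [AddCommGroup M] [Module R M] {ℳ : ℤ → AddSubgroup M}
  [DirectSum.Decomposition ℳ] [SetLike.GradedSMul 𝒜 ℳ]
variable {M' : Type u} [AddCommGroup M'] [Module R M'] {ℳ' : ℤ → AddSubgroup M'}
  [DirectSum.Decomposition ℳ'] [SetLike.GradedSMul 𝒜 ℳ']
variable {M'' : Type u} [AddCommGroup M''] [Module R M''] {ℳ'' : ℤ → AddSubgroup M''}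
  [DirectSum.Decomposition ℳ''] [SetLike.GradedSMul 𝒜 ℳ'']

/-- the piece of degree `n` of `*H^i_a(M)` is finitely generated over `R_0`. -/
def FGp (ℳ : ℤ → AddSubgroup M) [DirectSum.Decomposition ℳ] [SetLike.GradedSMul 𝒜 ℳ]
    (a : HomogeneousIdeal 𝒜) (i : ℕ) (n : ℤ) : Prop :=
  ∀ E : StarInjRes 𝒜 ℳ, (E.Hcomp a i n).FG

variable {a : HomogeneousIdeal 𝒜} {i : ℕ} {n : ℤ}

lemma fgp_of_van (h : Van (𝒜 := 𝒜) ℳ a i n) : FGp (𝒜 := 𝒜) ℳ a i n := by
  intro E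
  have : E.Hcomp a i n = ⊥ := by
    rw [eq_bot_iff]
    intro z hz
    rw [Submodule.mem_bot]
    exact h E z hz
  rw [this]
  exact Submodule.fg_bot

/-- the middle term of an exact sequence of pieces is finitely generated. -/
lemma fg_mid [IsNoetherianRing (GrLC.deg0 𝒜)] {A B C : Type u} [AddCommGroup A] [Module R A]
    [AddCommGroup B] [Module R B] [AddCommGroup C] [Module R C]
    (f : A →ₗ[R] B) (g : B →ₗ[R] C)
    (PA : Submodule (GrLC.deg0 𝒜) A) (PB : Submodule (GrLC.deg0 𝒜) B)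
    (PC : Submodule (GrLC.deg0 𝒜) C)
    (hf : ∀ b ∈ PB, g b = 0 → ∃ x ∈ PA, f x = b) (hg : ∀ b ∈ PB, g b ∈ PC)
    (hA : PA.FG) (hC : PC.FG) : PB.FG := by
  let f₀ : A →ₗ[GrLC.deg0 𝒜] B := f.restrictScalars (GrLC.deg0 𝒜)
  let g₀ : B →ₗ[GrLC.deg0 𝒜] C := g.restrictScalars (GrLC.deg0 𝒜)
  refine Submodule.fg_of_fg_map_of_fg_inf_ker g₀ ?_ ?_
  · refine fg_of_le_fg hC ?_
    rintro _ ⟨b, hb, rfl⟩
    exact hg b hb
  · refine fg_of_le_fg (hA.map f₀) ?_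
    rintro b ⟨hb, hgb⟩
    obtain ⟨x, hx, rfl⟩ := hf b hb hgb
    exact ⟨x, hx, rfl⟩

section LES

variable [IsNoetherianRing (GrLC.deg0 𝒜)]
variable (u : M' →ₗ[R] M) (v : M →ₗ[R] M'') (hu : IsGrHomDeg ℳ' ℳ u 0)
  (hv : IsGrHomDeg ℳ ℳ'' v 0) (hui : Function.Injective u) (hvs : Function.Surjective v)
  (hex : LinearMap.ker v = LinearMap.range u)

include hu hv hui hvs hex

lemma fgp_mid (h1 : FGp (𝒜 := 𝒜) ℳ' a i n) (h2 : FGp (𝒜 := 𝒜) ℳ'' a i n) :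
    FGp (𝒜 := 𝒜) ℳ a i n := by
  intro E
  obtain ⟨E''⟩ := nonempty_starInjRes 𝒜 ℳ''
  obtain ⟨E'⟩ := nonempty_starInjRes 𝒜 ℳ'
  obtain ⟨γ, hγ, e1, e2, e3, -⟩ := les E' E E'' u v hu hv hui hvs hex a
  refine fg_mid (Hm E' E a i u 0 hu) (Hm E E'' a i v 0 hv) (E'.Hcomp a i n) (E.Hcomp a i n)
    (E''.Hcomp a i n) ?_ ?_ (h1 E') (h2 E'')
  · intro z hz hvz
    obtain ⟨w, hw⟩ := (e1 i z).1 hvz
    have hz' : z ∈ E.Hgr a i (n + 0) := by rwa [add_zero]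
    exact Hm_exists_hom_preimage hu hz' w hw
  · intro z hz
    have := Hm_mem (E := E) (E' := E'') hv (show z ∈ E.Hgr a i n from hz)
    rwa [add_zero] at this

end LES

section Reg

variable (y : R) (c : ℤ) (hy : y ∈ 𝒜 c) (hya : y ∈ a.toIdeal)
  (hu : IsGrHomDeg ℳ ℳ (LinearMap.lsmul R M y) c)
  (v : M →ₗ[R] M'') (hv : IsGrHomDeg ℳ ℳ'' v 0)
  (hui : Function.Injective (LinearMap.lsmul R M y)) (hvs : Function.Surjective v)
  (hex : LinearMap.ker v = LinearMap.range (LinearMap.lsmul R M y))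

include hy hya hu hv hui hvs hex

/-- vanishing one step up, for a regular homogeneous element of `a`. -/
lemma reg_van (hc : 0 ≤ c) (r' : ℤ) (hvan'' : ∀ n, r' ≤ n → Van (𝒜 := 𝒜) ℳ'' a i n) :
    ∀ m, r' - c ≤ m → Van (𝒜 := 𝒜) ℳ a (i + 1) m := by
  intro m hm E z hz
  obtain ⟨E''⟩ := nonempty_starInjRes 𝒜 ℳ''
  obtain ⟨γ, hγ, e1, e2, e3⟩ := les_deg E E E'' (LinearMap.lsmul R M y) v c hu hv hui hvs hex a
  have key : ∀ N : ℕ, ∀ m : ℤ, r' - c ≤ m → ∀ z, z ∈ E.Hgr a (i + 1) m → y ^ N • z = 0 →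
      z = 0 := by
    intro N
    induction N with
    | zero =>
      intro m _ z _ h
      simpa using h
    | succ N ih =>
      intro m hm z hz h
      have hyz : y • z ∈ E.Hgr a (i + 1) (m + c) := smul_mem_Hcomp E a (i + 1) hy hz
      have h1 : y • z = 0 := by
        refine ih (m + c) (by omega) (y • z) hyz ?_
        rw [pow_succ, mul_smul] at h
        exact h
      have h2 : Hm E E a (i + 1) (LinearMap.lsmul R M y) c hu z = 0 := by
        rw [Hm_lsmul E a (i + 1) hy hu]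
        exact h1
      obtain ⟨w, hw⟩ := (e3 i z).1 h2
      have hγdeg : IsGrHomDeg (E''.Hgr a i) (E.Hgr a (i + 1)) (γ i) (-c) :=
        fun g x hx => hγ i g x hx
      have hz' : z ∈ E.Hgr a (i + 1) ((m + c) + -c) := by rwa [add_neg_cancel_right]
      obtain ⟨w', hw', hwz⟩ := exists_homogeneous_preimage (E''.Hgr a i) (E.Hgr a (i + 1))
        (Hgr_isInternal 𝒜 ℳ'' E'' a i) (Hgr_isInternal 𝒜 ℳ E a (i + 1)) _ (-c) hγdeg (m + c) z
        hz' w hw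
      rw [← hwz, hvan'' (m + c) (by omega) E'' w' hw', map_zero]
  obtain ⟨N, hN⟩ := exists_pow_smul_eq_zero E a (i + 1) hya z
  exact key N m hm z hz hN

variable [IsNoetherianRing (GrLC.deg0 𝒜)]

lemma reg_fg_step (m : ℤ) (h'' : FGp (𝒜 := 𝒜) ℳ'' a i (m + c))
    (h : FGp (𝒜 := 𝒜) ℳ a (i + 1) (m + c)) : FGp (𝒜 := 𝒜) ℳ a (i + 1) m := by
  intro E
  obtain ⟨E''⟩ := nonempty_starInjRes 𝒜 ℳ''
  obtain ⟨γ, hγ, e1, e2, e3⟩ := les_deg E E E'' (LinearMap.lsmul R M y) v c hu hv hui hvs hex a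
  refine fg_mid (γ i) (Hm E E a (i + 1) (LinearMap.lsmul R M y) c hu) (E''.Hcomp a i (m + c))
    (E.Hcomp a (i + 1) m) (E.Hcomp a (i + 1) (m + c)) ?_ ?_ (h'' E'') (h E)
  · intro z hz h2
    obtain ⟨w, hw⟩ := (e3 i z).1 h2
    have hγdeg : IsGrHomDeg (E''.Hgr a i) (E.Hgr a (i + 1)) (γ i) (-c) :=
      fun g x hx => hγ i g x hx
    have hz' : z ∈ E.Hgr a (i + 1) ((m + c) + -c) := by
      rw [add_neg_cancel_right]
      exact hz
    exact exists_homogeneous_preimage (E''.Hgr a i) (E.Hgr a (i + 1))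
      (Hgr_isInternal 𝒜 ℳ'' E'' a i) (Hgr_isInternal 𝒜 ℳ E a (i + 1)) _ (-c) hγdeg (m + c) z
      hz' w hw
  · intro z hz
    exact Hm_mem (E := E) (E' := E) hu (show z ∈ E.Hgr a (i + 1) m from hz)

lemma reg_fg (hc : 0 < c) (r' : ℤ) (hvanM : ∀ m, r' - c ≤ m → Van (𝒜 := 𝒜) ℳ a (i + 1) m)
    (hfg'' : ∀ n, FGp (𝒜 := 𝒜) ℳ'' a i n) : ∀ m, FGp (𝒜 := 𝒜) ℳ a (i + 1) m := by
  have key : ∀ t : ℕ, ∀ m : ℤ, r' - c ≤ m + t * c → FGp (𝒜 := 𝒜) ℳ a (i + 1) m := by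
    intro t
    induction t with
    | zero =>
      intro m hm
      exact fgp_of_van (hvanM m (by simpa using hm))
    | succ t ih =>
      intro m hm
      have h1 : FGp (𝒜 := 𝒜) ℳ a (i + 1) (m + c) := by
        apply ih (m + c)
        push_cast at hm
        linarith
      exact reg_fg_step y c hy hya hu v hv hui hvs hex m (hfg'' (m + c)) h1
  intro m
  apply key (r' - c - m).toNat m
  have h1 : r' - c - m ≤ ((r' - c - m).toNat : ℤ) := Int.self_le_toNat _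
  have h2 : (0 : ℤ) ≤ ((r' - c - m).toNat : ℤ) := Int.natCast_nonneg _
  nlinarith

end Reg

end Groth.Agent.Lib27.GrFin
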