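import Mathlib
import Groth.Prelude.Def_GrSyz
import Groth.Agent.Lib27.GrHilb3

/-!
# The Hilbert function in terms of graded Betti numbers
-/

set_option autoImplicit false
open MvPolynomial

universe u

namespace Groth.Agent.Lib27.GrHilb

variable (k : Type u) [Field k] (r : ℕ)
  {M : Type u} [AddCommGroup M] [Module k M] [Module (MvPolynomial (Fin (r + 1)) k) M]
  [IsScalarTower k (MvPolynomial (Fin (r + 1)) k) M]
  (ℳ : ℤ → Submodule k M) [DirectSum.Decomposition ℳ]
  [SetLike.GradedSMul (GrSyz.stdGr k (Fin (r + 1))) ℳ]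
  (F : GrSyz.FreeRes (GrSyz.stdGr k (Fin (r + 1))) ℳ)

/-- the finite set of all generator degrees up to homological degree `m`. -/
noncomputable def degSet (m : ℕ) : Finset ℤ :=
  (Finset.range (m + 1)).biUnion fun i => Finset.univ.image (F.deg i)

lemma betti_eq_zero_of_notMem (m : ℕ) (j : ℤ) (hj : j ∉ degSet k r ℳ F m) (i : ℕ)
    (hi : i ∈ Finset.range (m + 1)) : F.betti i j = 0 := by
  unfold GrSyz.FreeRes.betti
  rw [Finset.card_eq_zero, Finset.filter_eq_empty_iff]
  intro b _ hb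
  apply hj
  unfold degSet
  rw [Finset.mem_biUnion]
  exact ⟨i, hi, Finset.mem_image.2 ⟨b, Finset.mem_univ _, hb⟩⟩

/-- the alternating sum of Betti numbers. -/
noncomputable def B (m : ℕ) (j : ℤ) : ℤ :=
  ∑ i ∈ Finset.range (m + 1), (-1 : ℤ) ^ i * (F.betti i j : ℤ)

lemma B_eq_zero_of_notMem (m : ℕ) (j : ℤ) (hj : j ∉ degSet k r ℳ F m) : B k r ℳ F m j = 0 := by
  unfold B
  apply Finset.sum_eq_zero
  intro i hi
  rw [betti_eq_zero_of_notMem k r ℳ F m j hj i hi]
  simp

lemma sum_betti_mul (m : ℕ) (i : ℕ) (hi : i ∈ Finset.range (m + 1)) (g : ℤ → ℤ) :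
    ∑ j ∈ degSet k r ℳ F m, (F.betti i j : ℤ) * g j = ∑ b : Fin (F.rk i), g (F.deg i b) := by
  have hmaps : ∀ b ∈ (Finset.univ : Finset (Fin (F.rk i))), F.deg i b ∈ degSet k r ℳ F m := by
    intro b _
    unfold degSet
    rw [Finset.mem_biUnion]
    exact ⟨i, hi, Finset.mem_image.2 ⟨b, Finset.mem_univ _, rfl⟩⟩
  rw [← Finset.sum_fiberwise_of_maps_to hmaps (fun b => g (F.deg i b))]
  refine Finset.sum_congr rfl fun j _ => ?_
  unfold GrSyz.FreeRes.betti
  rw [Finset.card_eq_sum_ones, Nat.cast_sum, Finset.sum_mul]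
  refine Finset.sum_congr rfl fun b hb => ?_
  rw [(Finset.mem_filter.1 hb).2]
  simp

lemma sum_B_mul (m : ℕ) (g : ℤ → ℤ) :
    ∑ j ∈ degSet k r ℳ F m, B k r ℳ F m j * g j =
      ∑ i ∈ Finset.range (m + 1), (-1 : ℤ) ^ i * ∑ b : Fin (F.rk i), g (F.deg i b) := by
  unfold B
  simp only [Finset.sum_mul]
  rw [Finset.sum_comm]
  refine Finset.sum_congr rfl fun i hi => ?_
  rw [← sum_betti_mul k r ℳ F m i hi g, Finset.mul_sum]
  refine Finset.sum_congr rfl fun j _ => ?_
  ring

theorem betti_formula (m : ℕ) (hF : F.HasLengthLE m) :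
    (∀ d : ℤ, (Module.finrank k ↥(ℳ d) : ℤ) =
        ∑ᶠ j : ℤ, (∑ i ∈ Finset.range (m + 1), (-1 : ℤ) ^ i * (F.betti i j : ℤ)) *
          (if j ≤ d then ((Nat.choose (r + (d - j).toNat) r : ℕ) : ℤ) else 0)) ∧
      ∀ j : ℤ, (∑ i ∈ Finset.range (m + 1), (-1 : ℤ) ^ i * (F.betti i j : ℤ)) =
        (Module.finrank k ↥(ℳ j) : ℤ) -
          ∑ᶠ n : ℤ, (if n < j then (∑ i ∈ Finset.range (m + 1), (-1 : ℤ) ^ i * (F.betti i n : ℤ)) *
            ((Nat.choose (r + (j - n).toNat) r : ℕ) : ℤ) else 0) := by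
  have part1 : ∀ d : ℤ, (Module.finrank k ↥(ℳ d) : ℤ) =
      ∑ᶠ j : ℤ, B k r ℳ F m j *
        (if j ≤ d then ((Nat.choose (r + (d - j).toNat) r : ℕ) : ℤ) else 0) := by
    intro d
    rw [finsum_eq_sum_of_support_subset (s := degSet k r ℳ F m)]
    · rw [sum_B_mul, hilbert_formula k r ℳ F d m hF]
    · intro j hj
      by_contra hjT
      apply hj
      show B k r ℳ F m j * _ = 0
      rw [B_eq_zero_of_notMem k r ℳ F m j hjT, zero_mul]
  refine ⟨part1, ?_⟩
  intro j
  have h1 := part1 j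
  show B k r ℳ F m j = _ - ∑ᶠ n : ℤ, (if n < j then B k r ℳ F m n * _ else 0)
  rw [finsum_eq_sum_of_support_subset (s := insert j (degSet k r ℳ F m))] at h1
  · rw [finsum_eq_sum_of_support_subset (s := insert j (degSet k r ℳ F m))]
    · rw [h1, eq_sub_iff_add_eq]
      have : ∀ n ∈ insert j (degSet k r ℳ F m),
          (if n = j then B k r ℳ F m j else 0) +
            (if n < j then B k r ℳ F m n * ((Nat.choose (r + (j - n).toNat) r : ℕ) : ℤ) else 0) =
          B k r ℳ F m n *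
            (if n ≤ j then ((Nat.choose (r + (j - n).toNat) r : ℕ) : ℤ) else 0) := by
        intro n _
        rcases lt_trichotomy n j with h | h | h
        · rw [if_neg (ne_of_lt h), if_pos h, if_pos (le_of_lt h), zero_add]
        · subst h
          rw [if_pos rfl, if_neg (lt_irrefl _), if_pos le_rfl, sub_self, Int.toNat_zero,
            add_zero, Nat.add_zero, Nat.choose_self, Nat.cast_one, mul_one]
        · rw [if_neg (ne_of_gt h), if_neg (not_lt.2 (le_of_lt h)), if_neg (not_le.2 h), mul_zero,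
            add_zero]
      rw [← Finset.sum_congr rfl this, Finset.sum_add_distrib, Finset.sum_ite_eq',
        if_pos (Finset.mem_insert_self _ _)]
    · intro n hn
      by_contra hnT
      apply hn
      have hnT' : n ∉ degSet k r ℳ F m := fun h => hnT (Finset.mem_insert_of_mem h)
      show (if n < j then B k r ℳ F m n * _ else 0) = 0
      rw [B_eq_zero_of_notMem k r ℳ F m n hnT', zero_mul, ite_self]
  · intro n hn
    by_contra hnT
    apply hn
    have hnT' : n ∉ degSet k r ℳ F m := fun h => hnT (Finset.mem_insert_of_mem h)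
    show B k r ℳ F m n * _ = 0
    rw [B_eq_zero_of_notMem k r ℳ F m n hnT', zero_mul]

end Groth.Agent.Lib27.GrHilb
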