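import Mathlib

/-!
# The graded algebra map `⊕ I^{nc} → A[T]` attached to a splitting of `I^c ⊆ I` (helper27)
-/

set_option autoImplicit false
universe u
open MvPolynomial

namespace Groth.Agent.Lib27.GrHom

variable {A : Type u} [CommRing A] {r : ℕ} (f : Fin r → A) (I : Ideal A) (c : ℕ)
  (φ : Fin r → (↥(I ^ c) →ₗ[A] A))

/-- total extension of `φ j` -/
noncomputable def ext (j : Fin r) (g : A) : A := by
  classical
  exact if hg : g ∈ I ^ c then φ j ⟨g, hg⟩ else 0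

theorem ext_of_mem (j : Fin r) {g : A} (hg : g ∈ I ^ c) : ext I c φ j g = φ j ⟨g, hg⟩ := by
  unfold ext
  rw [dif_pos hg]

theorem ext_add (j : Fin r) {g h : A} (hg : g ∈ I ^ c) (hh : h ∈ I ^ c) :
    ext I c φ j (g + h) = ext I c φ j g + ext I c φ j h := by
  rw [ext_of_mem I c φ j hg, ext_of_mem I c φ j hh, ext_of_mem I c φ j (add_mem hg hh), ← map_add]
  rfl

theorem ext_mul (j : Fin r) (a : A) {g : A} (hg : g ∈ I ^ c) :
    ext I c φ j (a * g) = a * ext I c φ j g := by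
  rw [ext_of_mem I c φ j hg, ext_of_mem I c φ j (Ideal.mul_mem_left _ a hg)]
  have h1 : (⟨a * g, Ideal.mul_mem_left _ a hg⟩ : ↥(I ^ c)) = a • ⟨g, hg⟩ := Subtype.ext rfl
  rw [h1, map_smul, smul_eq_mul]

theorem ext_mem (j : Fin r) (n : ℕ) {g : A} (hg : g ∈ I ^ (n * c + c)) :
    ext I c φ j g ∈ I ^ (n * c) := by
  rw [pow_add] at hg
  have key : g ∈ I ^ c ∧ ext I c φ j g ∈ I ^ (n * c) := by
    refine Submodule.mul_induction_on hg ?_ ?_
    · intro a ha b hb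
      refine ⟨Ideal.mul_mem_left _ a hb, ?_⟩
      rw [ext_mul I c φ j a hb]
      exact Ideal.mul_mem_right _ _ ha
    · rintro x y ⟨hx, hx'⟩ ⟨hy, hy'⟩
      refine ⟨add_mem hx hy, ?_⟩
      rw [ext_add I c φ j hx hy]
      exact add_mem hx' hy'
  exact key.2

theorem mem_pow_c (n : ℕ) {g : A} (hg : g ∈ I ^ (n * c + c)) : g ∈ I ^ c :=
  Ideal.pow_le_pow_right (Nat.le_add_left c (n * c)) hg

/-- the graded map -/
noncomputable def Φ : ℕ → A → MvPolynomial (Fin r) A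
  | 0, a => C a
  | (n + 1), g => ∑ j, X j * Φ n (ext I c φ j g)

theorem Φ_zero (a : A) : Φ I c φ 0 a = C a := rfl

theorem Φ_succ (n : ℕ) (g : A) :
    Φ I c φ (n + 1) g = ∑ j, X j * Φ I c φ n (ext I c φ j g) := rfl

theorem Φ_add : ∀ (n : ℕ) (g h : A), g ∈ I ^ (n * c) → h ∈ I ^ (n * c) →
    Φ I c φ n (g + h) = Φ I c φ n g + Φ I c φ n h := by
  intro n
  induction n with
  | zero => intro g h _ _; simp [Φ_zero]
  | succ n ih =>
    intro g h hg hh
    rw [Nat.succ_mul] at hg hh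
    rw [Φ_succ, Φ_succ, Φ_succ, ← Finset.sum_add_distrib]
    refine Finset.sum_congr rfl fun j _ => ?_
    rw [ext_add I c φ j (mem_pow_c I c n hg) (mem_pow_c I c n hh),
      ih _ _ (ext_mem I c φ j n hg) (ext_mem I c φ j n hh), mul_add]

theorem Φ_smul : ∀ (n : ℕ) (a g : A), g ∈ I ^ (n * c) →
    Φ I c φ n (a * g) = a • Φ I c φ n g := by
  intro n
  induction n with
  | zero =>
    intro a g _
    rw [Φ_zero, Φ_zero, C_mul, ← C_mul']
  | succ n ih =>
    intro a g hg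
    rw [Nat.succ_mul] at hg
    rw [Φ_succ, Φ_succ, Finset.smul_sum]
    refine Finset.sum_congr rfl fun j _ => ?_
    rw [ext_mul I c φ j a (mem_pow_c I c n hg), ih _ _ (ext_mem I c φ j n hg), mul_smul_comm]

theorem Φ_isHomogeneous : ∀ (n : ℕ) (g : A), (Φ I c φ n g).IsHomogeneous n := by
  intro n
  induction n with
  | zero => intro g; exact isHomogeneous_C _ _
  | succ n ih =>
    intro g
    rw [Φ_succ]
    refine IsHomogeneous.sum _ _ _ fun j _ => ?_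
    have := (isHomogeneous_X A j).mul (ih (ext I c φ j g))
    rwa [Nat.add_comm] at this

theorem Φ_mul (m : ℕ) (h : A) (hh : h ∈ I ^ (m * c)) : ∀ (n : ℕ) (g : A), g ∈ I ^ (n * c) →
    Φ I c φ (n + m) (g * h) = Φ I c φ n g * Φ I c φ m h := by
  intro n
  induction n with
  | zero =>
    intro g _
    rw [Nat.zero_add, Φ_smul I c φ m g h hh, Φ_zero, C_mul']
  | succ n ih =>
    intro g hg
    rw [Nat.succ_mul] at hg
    rw [Nat.succ_add, Φ_succ, Φ_succ, Finset.sum_mul]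
    refine Finset.sum_congr rfl fun j _ => ?_
    rw [mul_comm g h, ext_mul I c φ j h (mem_pow_c I c n hg), mul_comm h,
      ih _ (ext_mem I c φ j n hg), mul_assoc]

theorem Φ_one {g : A} (hg : g ∈ I ^ c) :
    Φ I c φ 1 g = ∑ j, C (φ j ⟨g, hg⟩) * X j := by
  rw [Φ_succ]
  refine Finset.sum_congr rfl fun j _ => ?_
  rw [Φ_zero, ext_of_mem I c φ j hg, mul_comm]

theorem aeval_Φ (hφ : ∀ x : ↥(I ^ c), (x : A) = ∑ j, f j * φ j x) :
    ∀ (n : ℕ) (g : A), g ∈ I ^ (n * c) → aeval f (Φ I c φ n g) = g := by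
  intro n
  induction n with
  | zero =>
    intro g _
    rw [Φ_zero, aeval_C]
    rfl
  | succ n ih =>
    intro g hg
    rw [Nat.succ_mul] at hg
    rw [Φ_succ, map_sum]
    have h1 := hφ ⟨g, mem_pow_c I c n hg⟩
    change g = _ at h1
    conv_rhs => rw [h1]
    refine Finset.sum_congr rfl fun j _ => ?_
    rw [map_mul, aeval_X, ih _ (ext_mem I c φ j n hg), ext_of_mem I c φ j (mem_pow_c I c n hg)]

theorem unique (Ψ : ℕ → A → MvPolynomial (Fin r) A)
    (hadd : ∀ n : ℕ, ∀ g ∈ I ^ (n * c), ∀ h ∈ I ^ (n * c), Ψ n (g + h) = Ψ n g + Ψ n h)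
    (hmul : ∀ n m : ℕ, ∀ g ∈ I ^ (n * c), ∀ h ∈ I ^ (m * c), Ψ (n + m) (g * h) = Ψ n g * Ψ m h)
    (h0 : ∀ a : A, Ψ 0 a = C a)
    (h1 : ∀ (g : A) (hg : g ∈ I ^ c), Ψ 1 g = ∑ j, C (φ j ⟨g, hg⟩) * X j) :
    ∀ n : ℕ, ∀ g ∈ I ^ (n * c), Ψ n g = Φ I c φ n g := by
  intro n
  induction n with
  | zero => intro g _; rw [h0, Φ_zero]
  | succ n ih =>
    intro g hg
    have hg' := hg
    rw [Nat.succ_mul, pow_add] at hg'
    have key : g ∈ I ^ ((n + 1) * c) ∧ Ψ (n + 1) g = Φ I c φ (n + 1) g := by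
      refine Submodule.mul_induction_on hg' ?_ ?_
      · intro a ha b hb
        have hb1 : b ∈ I ^ (1 * c) := by rwa [one_mul]
        refine ⟨?_, ?_⟩
        · rw [Nat.succ_mul, pow_add]
          exact Ideal.mul_mem_mul ha hb
        · rw [hmul n 1 a ha b hb1, Φ_mul I c φ 1 b hb1 n a ha, ih a ha, h1 b hb, Φ_one I c φ hb]
      · rintro x y ⟨hx, hx'⟩ ⟨hy, hy'⟩
        refine ⟨add_mem hx hy, ?_⟩
        rw [hadd _ x hx y hy, Φ_add I c φ _ x y hx hy, hx', hy']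
    exact key.2

end Groth.Agent.Lib27.GrHom
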