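import Mathlib
import Groth.Agent.Lib27.GrHom

/-!
# The graded module map `⊕ I^{nc'} N → N[T]` (helper27)
-/

set_option autoImplicit false
universe u
open MvPolynomial TensorProduct

namespace Groth.Agent.Lib27.GrHomMod

section coeff

variable {B : Type u} [CommRing B] {N : Type u} [AddCommGroup N] [Module B N] {σ : Type}

/-- coefficient extraction on `B[T] ⊗ N` -/
noncomputable def κ (α : σ →₀ ℕ) : MvPolynomial σ B ⊗[B] N →ₗ[B] N :=
  TensorProduct.lift ((LinearMap.lsmul B N).comp (MvPolynomial.lcoeff B α))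

theorem κ_tmul (α : σ →₀ ℕ) (p : MvPolynomial σ B) (x : N) :
    κ α (p ⊗ₜ[B] x) = coeff α p • x := by
  simp [κ]

theorem eq_zero_of_κ (z : MvPolynomial σ B ⊗[B] N) (h : ∀ α, κ α z = 0) : z = 0 := by
  classical
  have key : ∀ (z : MvPolynomial σ B ⊗[B] N) (α : σ →₀ ℕ),
      (TensorProduct.equivFinsuppOfBasisLeft (basisMonomials σ B) z) α = κ α z := by
    intro z α
    induction z using TensorProduct.induction_on with
    | zero => simp
    | tmul p x =>
      rw [TensorProduct.equivFinsuppOfBasisLeft_apply_tmul_apply, κ_tmul]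
      rfl
    | add a b ha hb => rw [map_add, map_add, Finsupp.add_apply, ha, hb]
  apply (TensorProduct.equivFinsuppOfBasisLeft (basisMonomials σ B)).injective
  rw [map_zero]
  ext α
  rw [key, h]
  rfl

end coeff

section AR

variable {B : Type u} [CommRing B] [IsNoetherianRing B] (𝔟 : Ideal B)
  (N : Type u) [AddCommGroup N] [Module B N] [Module.Finite B N]

/-- the `𝔟^t`-torsion -/
def tors (t : ℕ) : Submodule B N where
  carrier := {y | ∀ b ∈ 𝔟 ^ t, b • y = 0}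
  add_mem' := by
    intro x y hx hy b hb
    rw [smul_add, hx b hb, hy b hb, add_zero]
  zero_mem' := by
    intro b _
    exact smul_zero b
  smul_mem' := by
    intro a x hx b hb
    rw [smul_comm, hx b hb, smul_zero]

theorem tors_mono : Monotone (tors 𝔟 N) := by
  intro s t hst y hy b hb
  exact hy b (Ideal.pow_le_pow_right hst hb)

theorem exists_AR : ∃ k : ℕ, ∀ y ∈ 𝔟 ^ k • (⊤ : Submodule B N),
    (∃ t, ∀ b ∈ 𝔟 ^ t, b • y = 0) → y = 0 := by
  obtain ⟨t₀, ht₀⟩ := monotone_stabilizes_iff_noetherian.mpr inferInstance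
    ⟨tors 𝔟 N, tors_mono 𝔟 N⟩
  obtain ⟨k, hk⟩ := Ideal.exists_pow_inf_eq_pow_smul 𝔟 (tors 𝔟 N t₀)
  refine ⟨k + t₀, ?_⟩
  rintro y hy ⟨t, ht⟩
  have h1 : y ∈ tors 𝔟 N t₀ := by
    rcases le_total t t₀ with h | h
    · exact tors_mono 𝔟 N h ht
    · have := ht₀ t h
      change tors 𝔟 N t₀ = tors 𝔟 N t at this
      rw [this]
      exact ht
  have h2 : y ∈ 𝔟 ^ (k + t₀) • (⊤ : Submodule B N) ⊓ tors 𝔟 N t₀ := ⟨hy, h1⟩
  rw [hk (k + t₀) (Nat.le_add_right _ _), Nat.add_sub_cancel_left] at h2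
  have h3 : 𝔟 ^ t₀ • (𝔟 ^ k • (⊤ : Submodule B N) ⊓ tors 𝔟 N t₀) ≤ ⊥ := by
    rw [Submodule.smul_le]
    intro b hb z hz
    rw [Submodule.mem_bot]
    exact hz.2 b hb
  exact (Submodule.mem_bot B).mp (h3 h2)

end AR

section abs

variable {A : Type u} [CommRing A] {r : ℕ} (f : Fin r → A) {B : Type u} [CommRing B] [Algebra A B]
  {N : Type u} [AddCommGroup N] [Module B N]
  (J : Ideal A) (Λ : A → MvPolynomial (Fin r) A)

noncomputable def v (p : ↥J × N) : N := algebraMap A B (p.1 : A) • p.2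

noncomputable def w (p : ↥J × N) : MvPolynomial (Fin r) B ⊗[B] N :=
  MvPolynomial.map (algebraMap A B) (Λ p.1) ⊗ₜ[B] p.2

noncomputable def wα (α : Fin r →₀ ℕ) (p : ↥J × N) : N :=
  algebraMap A B (coeff α (Λ p.1)) • p.2

noncomputable def τ : (↥J × N →₀ B) →ₗ[B] N := Finsupp.linearCombination B (v (B := B) J)

noncomputable def τ' : (↥J × N →₀ B) →ₗ[B] (MvPolynomial (Fin r) B ⊗[B] N) :=
  Finsupp.linearCombination B (w (B := B) J Λ)

noncomputable def τα (α : Fin r →₀ ℕ) : (↥J × N →₀ B) →ₗ[B] N :=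
  Finsupp.linearCombination B (wα (B := B) J Λ α)

theorem range_τ : LinearMap.range (τ (B := B) (N := N) J) = Submodule.span B ({y : N | ∃ g ∈ J, ∃ x : N, y = algebraMap A B g • x}) := by
  rw [τ, Finsupp.range_linearCombination]
  congr 1
  ext y
  constructor
  · rintro ⟨p, rfl⟩
    exact ⟨p.1, p.1.2, p.2, rfl⟩
  · rintro ⟨g, hg, x, rfl⟩
    exact ⟨(⟨g, hg⟩, x), rfl⟩

theorem κ_comp_τ' (α : Fin r →₀ ℕ) :
    (κ α).comp (τ' (B := B) (N := N) J Λ) = τα J Λ α := by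
  refine Finsupp.lhom_ext fun p b => ?_
  simp only [LinearMap.comp_apply, τ', τα, Finsupp.linearCombination_single, map_smul, w, wα,
    κ_tmul, coeff_map]

theorem smul_τα (hsmul : ∀ a, ∀ g ∈ J, Λ (a * g) = a • Λ g) (α : Fin r →₀ ℕ) (h : A) (hh : h ∈ J) :
    algebraMap A B h • τα (B := B) (N := N) J Λ α
      = algebraMap A B (coeff α (Λ h)) • τ (B := B) (N := N) J := by
  refine Finsupp.lhom_ext fun p b => ?_
  have key : h * coeff α (Λ p.1) = (p.1 : A) * coeff α (Λ h) := by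
    have e1 := hsmul h p.1 p.1.2
    have e2 := hsmul p.1 h hh
    rw [mul_comm] at e2
    rw [e1] at e2
    have := congrArg (coeff α) e2
    rwa [coeff_smul, coeff_smul, smul_eq_mul, smul_eq_mul] at this
  have key' := congrArg (algebraMap A B) key
  rw [map_mul, map_mul] at key'
  simp only [LinearMap.smul_apply, τ, τα, Finsupp.linearCombination_single, v, wα, smul_smul]
  congr 1
  linear_combination b * key'

theorem ker_le (hsmul : ∀ a, ∀ g ∈ J, Λ (a * g) = a • Λ g)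
    (M : Submodule B N)
    (hM : ∀ g ∈ J, ∀ (α : Fin r →₀ ℕ) (x : N), algebraMap A B (coeff α (Λ g)) • x ∈ M)
    (hker : ∀ y : N, (∀ h ∈ J, algebraMap A B h • y = 0) → y ∈ M → y = 0) :
    LinearMap.ker (τ (B := B) (N := N) J) ≤ LinearMap.ker (τ' (B := B) (N := N) J Λ) := by
  intro l hl
  rw [LinearMap.mem_ker] at hl ⊢
  refine eq_zero_of_κ _ fun α => ?_
  have h1 : κ α (τ' (B := B) (N := N) J Λ l) = τα J Λ α l := by
    rw [← κ_comp_τ']
    rfl
  rw [h1]
  refine hker _ ?_ ?_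
  · intro h hh
    have := congrArg (fun F => F l) (smul_τα (B := B) (N := N) J Λ hsmul α h hh)
    simp only [LinearMap.smul_apply] at this
    rw [this, hl, smul_zero]
  · have : LinearMap.range (τα (B := B) (N := N) J Λ α) ≤ M := by
      rw [τα, Finsupp.range_linearCombination, Submodule.span_le]
      rintro _ ⟨p, rfl⟩
      exact hM p.1 p.1.2 α p.2
    exact this (LinearMap.mem_range_self _ l)

theorem exists_unique_Ψ (hsmul : ∀ a, ∀ g ∈ J, Λ (a * g) = a • Λ g)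
    (haeval : ∀ g ∈ J, aeval f (Λ g) = g)
    (M : Submodule B N)
    (hM : ∀ g ∈ J, ∀ (α : Fin r →₀ ℕ) (x : N), algebraMap A B (coeff α (Λ g)) • x ∈ M)
    (hker : ∀ y : N, (∀ h ∈ J, algebraMap A B h • y = 0) → y ∈ M → y = 0) :
    ∃ Ψ : ↥(Submodule.span B {y : N | ∃ g ∈ J, ∃ x : N, y = algebraMap A B g • x}) →ₗ[B]
        (MvPolynomial (Fin r) B ⊗[B] N),
      (∀ (g : A) (hg : g ∈ J) (x : N),
        Ψ ⟨algebraMap A B g • x, Submodule.subset_span ⟨g, hg, x, rfl⟩⟩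
          = MvPolynomial.map (algebraMap A B) (Λ g) ⊗ₜ[B] x) ∧
      (∀ y : ↥(Submodule.span B {y : N | ∃ g ∈ J, ∃ x : N, y = algebraMap A B g • x}),
        TensorProduct.lift ((LinearMap.lsmul B N).comp
          (MvPolynomial.aeval (fun j ↦ algebraMap A B (f j))).toLinearMap) (Ψ y) = (y : N)) ∧
      (∀ Ψ' : ↥(Submodule.span B {y : N | ∃ g ∈ J, ∃ x : N, y = algebraMap A B g • x}) →ₗ[B]
        (MvPolynomial (Fin r) B ⊗[B] N),
        (∀ (g : A) (hg : g ∈ J) (x : N),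
          Ψ' ⟨algebraMap A B g • x, Submodule.subset_span ⟨g, hg, x, rfl⟩⟩
            = MvPolynomial.map (algebraMap A B) (Λ g) ⊗ₜ[B] x) → Ψ' = Ψ) := by
  have hle := ker_le (B := B) (N := N) J Λ hsmul M hM hker
  have hmem : ∀ l, τ (B := B) (N := N) J l ∈ Submodule.span B ({y : N | ∃ g ∈ J, ∃ x : N, y = algebraMap A B g • x}) := by
    intro l
    rw [← range_τ]
    exact LinearMap.mem_range_self _ l
  let ρ : (↥J × N →₀ B) →ₗ[B] ↥(Submodule.span B ({y : N | ∃ g ∈ J, ∃ x : N, y = algebraMap A B g • x})) :=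
    (τ (B := B) (N := N) J).codRestrict _ hmem
  have hsurj : Function.Surjective ρ := by
    rintro ⟨y, hy⟩
    rw [← range_τ] at hy
    obtain ⟨l, rfl⟩ := hy
    exact ⟨l, rfl⟩
  have hkerρ : LinearMap.ker ρ = LinearMap.ker (τ (B := B) (N := N) J) :=
    LinearMap.ker_codRestrict _ _ _
  have hle' : LinearMap.ker ρ ≤ LinearMap.ker (τ' (B := B) (N := N) J Λ) := by
    rw [hkerρ]
    exact hle
  let Ψ : ↥(Submodule.span B ({y : N | ∃ g ∈ J, ∃ x : N, y = algebraMap A B g • x})) →ₗ[B] (MvPolynomial (Fin r) B ⊗[B] N) :=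
    ((LinearMap.ker ρ).liftQ (τ' (B := B) (N := N) J Λ) hle').comp
      (ρ.quotKerEquivOfSurjective hsurj).symm.toLinearMap
  have hΨ : ∀ l, Ψ (ρ l) = τ' (B := B) (N := N) J Λ l := by
    intro l
    have : (ρ.quotKerEquivOfSurjective hsurj).symm (ρ l) = Submodule.Quotient.mk l := by
      rw [LinearEquiv.symm_apply_eq]
      rfl
    change (LinearMap.ker ρ).liftQ _ hle' ((ρ.quotKerEquivOfSurjective hsurj).symm (ρ l)) = _
    rw [this]
    rfl
  have hgen : ∀ (g : A) (hg : g ∈ J) (x : N),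
      (⟨algebraMap A B g • x, Submodule.subset_span ⟨g, hg, x, rfl⟩⟩ :
        ↥(Submodule.span B ({y : N | ∃ g ∈ J, ∃ x : N, y = algebraMap A B g • x}))) = ρ (Finsupp.single (⟨g, hg⟩, x) 1) := by
    intro g hg x
    apply Subtype.ext
    change _ = τ (B := B) (N := N) J (Finsupp.single (⟨g, hg⟩, x) 1)
    rw [τ, Finsupp.linearCombination_single, one_smul]
    rfl
  refine ⟨Ψ, ?_, ?_, ?_⟩
  · intro g hg x
    rw [hgen g hg x, hΨ, τ', Finsupp.linearCombination_single, one_smul]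
    rfl
  · intro y
    obtain ⟨l, rfl⟩ := hsurj y
    rw [hΨ]
    change _ = τ (B := B) (N := N) J l
    have : (TensorProduct.lift ((LinearMap.lsmul B N).comp
        (MvPolynomial.aeval (fun j ↦ algebraMap A B (f j))).toLinearMap)).comp
        (τ' (B := B) (N := N) J Λ) = τ (B := B) (N := N) J := by
      refine Finsupp.lhom_ext fun p b => ?_
      simp only [LinearMap.comp_apply, τ', τ, Finsupp.linearCombination_single, map_smul, w, v,
        TensorProduct.lift.tmul, AlgHom.toLinearMap_apply, LinearMap.lsmul_apply]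
      rw [MvPolynomial.aeval_map_algebraMap]
      have := MvPolynomial.aeval_algebraMap_apply (R := A) (A := A) B f (Λ p.1)
      change (MvPolynomial.aeval (fun j ↦ algebraMap A B (f j))) (Λ p.1) = _ at this
      rw [this, haeval p.1 p.1.2]
    exact congrArg (fun F => F l) this
  · intro Ψ' hΨ'
    have h1 : Ψ'.comp ρ = Ψ.comp ρ := by
      refine Finsupp.lhom_ext fun p b => ?_
      have e : (Finsupp.single p b : ↥J × N →₀ B) = b • Finsupp.single p 1 := by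
        rw [Finsupp.smul_single, smul_eq_mul, mul_one]
      rw [e, map_smul, map_smul]
      congr 1
      obtain ⟨⟨g, hg⟩, x⟩ := p
      simp only [LinearMap.comp_apply]
      rw [hΨ, ← hgen g hg x, hΨ' g hg x, τ', Finsupp.linearCombination_single, one_smul]
      rfl
    refine LinearMap.ext fun y => ?_
    obtain ⟨l, rfl⟩ := hsurj y
    exact congrArg (fun F => F l) h1

end abs

section main

variable {A : Type u} [CommRing A] {r : ℕ} (f : Fin r → A) (I : Ideal A) (c k : ℕ)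
  (φ : Fin r → (↥(I ^ c) →ₗ[A] A))

/-- restriction of `φ` to `I^(c+k)` -/
noncomputable def φ' (j : Fin r) : ↥(I ^ (c + k)) →ₗ[A] A :=
  (φ j).comp (Submodule.inclusion (Ideal.pow_le_pow_right (Nat.le_add_right c k)))

theorem ext_mem' (j : Fin r) (e : ℕ) {g : A} (hg : g ∈ I ^ (e + (c + k))) :
    GrHom.ext I (c + k) (φ' I c k φ) j g ∈ I ^ (e + k) := by
  have e1 : I ^ (e + (c + k)) = I ^ (e + k) * I ^ c := by
    rw [← pow_add]
    congr 1
    omega
  rw [e1] at hg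
  have key : g ∈ I ^ (c + k) ∧ GrHom.ext I (c + k) (φ' I c k φ) j g ∈ I ^ (e + k) := by
    refine Submodule.mul_induction_on hg ?_ ?_
    · intro a ha b hb
      have hab : a * b ∈ I ^ (c + k) := by
        rw [pow_add, mul_comm a b]
        exact Ideal.mul_mem_mul hb (Ideal.pow_le_pow_right (Nat.le_add_left k e) ha)
      refine ⟨hab, ?_⟩
      rw [GrHom.ext_of_mem I (c + k) _ j hab]
      have h2 : φ' I c k φ j ⟨a * b, hab⟩ = a * φ j ⟨b, hb⟩ := by
        change φ j ⟨a * b, _⟩ = _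
        have h1 : (⟨a * b, Ideal.mul_mem_left _ a hb⟩ : ↥(I ^ c)) = a • ⟨b, hb⟩ := Subtype.ext rfl
        rw [h1, map_smul, smul_eq_mul]
      rw [h2]
      exact Ideal.mul_mem_right _ _ ha
    · rintro x y ⟨hx, hx'⟩ ⟨hy, hy'⟩
      refine ⟨add_mem hx hy, ?_⟩
      rw [GrHom.ext_add I (c + k) _ j hx hy]
      exact add_mem hx' hy'
  exact key.2

theorem Φ_mem_map_C : ∀ (n e : ℕ) (g : A), g ∈ I ^ (e + n * (c + k)) →
    GrHom.Φ I (c + k) (φ' I c k φ) n g
      ∈ Ideal.map (C : A →+* MvPolynomial (Fin r) A) (I ^ e) := by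
  intro n
  induction n with
  | zero =>
    intro e g hg
    rw [Nat.zero_mul, Nat.add_zero] at hg
    rw [GrHom.Φ_zero]
    exact Ideal.mem_map_of_mem _ hg
  | succ n ih =>
    intro e g hg
    rw [GrHom.Φ_succ]
    refine Ideal.sum_mem _ fun j _ => Ideal.mul_mem_left _ _ ?_
    apply ih
    have hg' : g ∈ I ^ ((e + n * (c + k)) + (c + k)) := by
      rw [Nat.succ_mul, ← Nat.add_assoc] at hg
      exact hg
    exact Ideal.pow_le_pow_right (Nat.le_add_right _ k) (ext_mem' I c k φ j _ hg')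

theorem Φ_succ_mem_map_C (n : ℕ) (g : A) (hg : g ∈ I ^ ((n + 1) * (c + k))) :
    GrHom.Φ I (c + k) (φ' I c k φ) (n + 1) g
      ∈ Ideal.map (C : A →+* MvPolynomial (Fin r) A) (I ^ k) := by
  rw [GrHom.Φ_succ]
  refine Ideal.sum_mem _ fun j _ => Ideal.mul_mem_left _ _ ?_
  apply Φ_mem_map_C
  have hg' : g ∈ I ^ (n * (c + k) + (c + k)) := by
    rw [Nat.succ_mul] at hg
    exact hg
  have := ext_mem' I c k φ j _ hg'
  rwa [Nat.add_comm] at this

theorem main (hφ : ∀ x : ↥(I ^ c), (x : A) = ∑ j, f j * φ j x)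
    (B : Type u) [CommRing B] [Algebra A B] [IsNoetherianRing B]
    (N : Type u) [AddCommGroup N] [Module B N] [Module.Finite B N] :
    ∃ c' : ℕ, ∃ hcc' : c ≤ c', ∀ Φ : ℕ → A → MvPolynomial (Fin r) A, ((∀ n : ℕ, ∀ g ∈ I ^ (n * c'), ∀ h ∈ I ^ (n * c'), Φ n (g + h) = Φ n g + Φ n h) ∧ (∀ (n : ℕ) (a : A), ∀ g ∈ I ^ (n * c'), Φ n (a * g) = a • Φ n g) ∧ (∀ n : ℕ, ∀ g ∈ I ^ (n * c'), (Φ n g).IsHomogeneous n) ∧ (∀ n m : ℕ, ∀ g ∈ I ^ (n * c'), ∀ h ∈ I ^ (m * c'), Φ (n + m) (g * h) = Φ n g * Φ m h) ∧ (∀ a : A, Φ 0 a = MvPolynomial.C a) ∧ (∀ (g : A) (hg : g ∈ I ^ c'), Φ 1 g = ∑ j, MvPolynomial.C (φ j ⟨g, Ideal.pow_le_pow_right hcc' hg⟩) * MvPolynomial.X j)) → ∀ n : ℕ, ∃ Ψ : ↥(Submodule.span B {y : N | ∃ g ∈ I ^ (n * c'), ∃ x : N, y = algebraMap A B g • x}) →ₗ[B] (MvPolynomial (Fin r) B ⊗[B] N), (∀ (g : A) (hg : g ∈ I ^ (n * c')) (x : N), Ψ ⟨algebraMap A B g • x, Submodule.subset_span ⟨g, hg, x, rfl⟩⟩ = MvPolynomial.map (algebraMap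 A B) (Φ n g) ⊗ₜ[B] x) ∧ (∀ y : ↥(Submodule.span B {y : N | ∃ g ∈ I ^ (n * c'), ∃ x : N, y = algebraMap A B g • x}), TensorProduct.lift ((LinearMap.lsmul B N).comp (MvPolynomial.aeval (fun j ↦ algebraMap A B (f j))).toLinearMap) (Ψ y) = (y : N)) ∧ (∀ Ψ' : ↥(Submodule.span B {y : N | ∃ g ∈ I ^ (n * c'), ∃ x : N, y = algebraMap A B g • x}) →ₗ[B] (MvPolynomial (Fin r) B ⊗[B] N), (∀ (g : A) (hg : g ∈ I ^ (n * c')) (x : N), Ψ' ⟨algebraMap A B g • x, Submodule.subset_span ⟨g, hg, x, rfl⟩⟩ = MvPolynomial.map (algebraMap A B) (Φ n g) ⊗ₜ[B] x) → Ψ' = Ψ) := by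
  obtain ⟨k, hk⟩ := exists_AR (I.map (algebraMap A B)) N
  refine ⟨c + k, Nat.le_add_right c k, ?_⟩
  rintro Φ ⟨hadd, hsmul, -, hmul, h0, h1⟩ n
  have hΦ : ∀ n, ∀ g ∈ I ^ (n * (c + k)), Φ n g = GrHom.Φ I (c + k) (φ' I c k φ) n g :=
    GrHom.unique I (c + k) (φ' I c k φ) Φ hadd hmul h0 (fun g hg => h1 g hg)
  have hφ' : ∀ x : ↥(I ^ (c + k)), (x : A) = ∑ j, f j * φ' I c k φ j x :=
    fun x => hφ (Submodule.inclusion (Ideal.pow_le_pow_right (Nat.le_add_right c k)) x)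
  have haeval : ∀ n, ∀ g ∈ I ^ (n * (c + k)), aeval f (Φ n g) = g := by
    intro n g hg
    rw [hΦ n g hg]
    exact GrHom.aeval_Φ f I (c + k) _ hφ' n g hg
  rcases Nat.eq_zero_or_pos n with rfl | hn
  · refine exists_unique_Ψ f (I ^ (0 * (c + k))) (Φ 0) (hsmul 0) (haeval 0) ⊤
      (fun _ _ _ _ => Submodule.mem_top) ?_
    intro y hy _
    have h1mem : (1 : A) ∈ I ^ (0 * (c + k)) := by
      rw [Nat.zero_mul, pow_zero, Ideal.one_eq_top]
      exact Submodule.mem_top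
    have := hy 1 h1mem
    rwa [map_one, one_smul] at this
  · obtain ⟨m, rfl⟩ : ∃ m, n = m + 1 := ⟨n - 1, by omega⟩
    refine exists_unique_Ψ f (I ^ ((m + 1) * (c + k))) (Φ (m + 1)) (hsmul (m + 1)) (haeval (m + 1))
      ((I.map (algebraMap A B)) ^ k • ⊤) ?_ ?_
    · intro g hg α x
      refine Submodule.smul_mem_smul ?_ Submodule.mem_top
      rw [← Ideal.map_pow]
      refine Ideal.mem_map_of_mem _ ?_
      rw [hΦ _ g hg]
      exact (MvPolynomial.mem_map_C_iff.mp (Φ_succ_mem_map_C I c k φ m g hg)) α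
    · intro y hy hyM
      refine hk y hyM ⟨(m + 1) * (c + k), ?_⟩
      intro b hb
      rw [← Ideal.map_pow] at hb
      refine Submodule.span_induction (p := fun b _ => b • y = 0) ?_ ?_ ?_ ?_ hb
      · rintro _ ⟨h, hh, rfl⟩
        exact hy h hh
      · exact zero_smul _ _
      · intro a b _ _ ha hb
        rw [add_smul, ha, hb, add_zero]
      · intro a b _ hb
        rw [smul_eq_mul, mul_smul, hb, smul_zero]

end main

end Groth.Agent.Lib27.GrHomMod
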