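import Mathlib
import Groth.Prelude.Def_GrSyz
import Groth.Agent.Lib27.GrMin4

/-!
# Minimality versus irredundancy: the theorem
-/

set_option autoImplicit false

universe u

namespace Groth.Agent.Lib27.GrMin

open Groth.Agent.Lib27.GrHilb MvPolynomial

variable (k : Type u) [Field k] (r : ℕ)

lemma mulVec_single_one' {R : Type*} [CommRing R] {n m : ℕ} (D : Matrix (Fin n) (Fin m) R)
    (b : Fin m) : D.mulVec (Pi.single b 1) = fun a => D a b := by
  funext a
  simp [Matrix.mulVec, dotProduct, Pi.single_apply]

theorem minimal_iff_irredundant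
    {M : Type u} [AddCommGroup M] [Module k M] [Module (MvPolynomial (Fin (r + 1)) k) M]
    (ℳ : ℤ → Submodule k M) [DirectSum.Decomposition ℳ]
    [SetLike.GradedSMul (GrSyz.stdGr k (Fin (r + 1))) ℳ]
    (F : GrSyz.FreeRes (GrSyz.stdGr k (Fin (r + 1))) ℳ) :
    F.IsMinimal (GrSyz.irrel (GrSyz.stdGr k (Fin (r + 1)))).toIdeal ↔
      ((∀ b : Fin (F.rk 0), F.aug b ∉
          Submodule.span (MvPolynomial (Fin (r + 1)) k) (F.aug '' {b' | b' ≠ b})) ∧
        ∀ (i : ℕ) (b : Fin (F.rk (i + 1))),
          (fun a => F.d i a b) ∉ Submodule.span (MvPolynomial (Fin (r + 1)) k)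
            ((fun b' a => F.d i a b') '' {b' | b' ≠ b})) := by
  constructor
  · intro hmin
    refine ⟨fun b hb => ?_, fun i b hb => ?_⟩
    · obtain ⟨w, hwb, hw⟩ := exists_rel_of_mem_span_others F.aug b hb
      have hker : w ∈ LinearMap.ker
          (Fintype.linearCombination (MvPolynomial (Fin (r + 1)) k) F.aug) := by
        rw [LinearMap.mem_ker, Fintype.linearCombination_apply]
        exact hw
      rw [F.exact_zero] at hker
      obtain ⟨v, hv⟩ := hker
      have hmem : w b ∈ (GrSyz.irrel (GrSyz.stdGr k (Fin (r + 1)))).toIdeal := by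
        rw [← hv, Matrix.mulVecLin_apply]
        show ∑ c, F.d 0 b c * v c ∈ _
        exact Ideal.sum_mem _ fun c _ => Ideal.mul_mem_right _ _ (hmin 0 b c)
      rw [hwb] at hmem
      exact one_notMem_irrel k r hmem
    · obtain ⟨w, hwb, hw⟩ := exists_rel_of_mem_span_others (fun b' a => F.d i a b') b hb
      have hker : w ∈ LinearMap.ker (Matrix.mulVecLin (F.d i)) := by
        rw [LinearMap.mem_ker, Matrix.mulVecLin_apply]
        funext a
        have this : ∑ c, (w c • fun a => F.d i a c) a = 0 := by
          have h := congrFun hw a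
          rwa [Finset.sum_apply] at h
        show ∑ c, F.d i a c * w c = 0
        refine Eq.trans ?_ this
        exact Finset.sum_congr rfl fun c _ => mul_comm _ _
      rw [F.exact_succ] at hker
      obtain ⟨v, hv⟩ := hker
      have hmem : w b ∈ (GrSyz.irrel (GrSyz.stdGr k (Fin (r + 1)))).toIdeal := by
        rw [← hv, Matrix.mulVecLin_apply]
        show ∑ c, F.d (i + 1) b c * v c ∈ _
        exact Ideal.sum_mem _ fun c _ => Ideal.mul_mem_right _ _ (hmin (i + 1) b c)
      rw [hwb] at hmem
      exact one_notMem_irrel k r hmem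
  · rintro ⟨h0, h1⟩ i a b
    by_contra hmem
    have hu := isUnit_of_hom_notMem k r (F.d_mem i a b) hmem
    cases i with
    | zero =>
      have hcol : (fun a' => F.d 0 a' b) ∈ LinearMap.ker
          (Fintype.linearCombination (MvPolynomial (Fin (r + 1)) k) F.aug) := by
        rw [F.exact_zero]
        exact ⟨Pi.single b 1, by rw [Matrix.mulVecLin_apply, mulVec_single_one']⟩
      rw [LinearMap.mem_ker, Fintype.linearCombination_apply] at hcol
      exact h0 a (mem_span_others_of_rel F.aug _ hcol a hu)
    | succ i =>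
      have hcol : (fun a' => F.d (i + 1) a' b) ∈ LinearMap.ker (Matrix.mulVecLin (F.d i)) := by
        rw [F.exact_succ]
        exact ⟨Pi.single b 1, by rw [Matrix.mulVecLin_apply, mulVec_single_one']⟩
      rw [LinearMap.mem_ker, Matrix.mulVecLin_apply] at hcol
      have hrel : ∑ a', F.d (i + 1) a' b • (fun a'' => F.d i a'' a') = 0 := by
        funext a''
        rw [Finset.sum_apply]
        have this : (F.d i).mulVec (fun a' => F.d (i + 1) a' b) a'' = 0 := congrFun hcol a''
        show ∑ a', F.d (i + 1) a' b * F.d i a'' a' = 0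
        refine Eq.trans ?_ this
        show _ = ∑ a', F.d i a'' a' * F.d (i + 1) a' b
        exact Finset.sum_congr rfl fun _ _ => mul_comm _ _
      exact h1 i a (mem_span_others_of_rel (fun a' a'' => F.d i a'' a') _ hrel a hu)

end Groth.Agent.Lib27.GrMin
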