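import Groth.Agent.Lib27.HBurch4
import Groth.Agent.Lib27.ABGr
import Groth.Agent.Lib.Helper11.GrFieldA

/-!
# The graded quotient of the polynomial ring by a homogeneous ideal (pieces over the field)
-/

set_option autoImplicit false
set_option linter.unusedSectionVars false
set_option linter.unusedVariables false
set_option linter.style.haveILetI false

universe u

namespace Groth.Agent.Lib27.HBPts

open MvPolynomial DirectSum

variable {k : Type u} [Field k] {r : ℕ}

section Quot

variable (I : Ideal (MvPolynomial (Fin (r + 1)) k))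

/-- the pieces of the quotient. -/
noncomputable def qGr (n : ℤ) : Submodule k (MvPolynomial (Fin (r + 1)) k ⧸ I) :=
  (GrSyz.stdGr k (Fin (r + 1)) n).map ((Submodule.mkQ I).restrictScalars k)

lemma mem_qGr {n : ℤ} {y : MvPolynomial (Fin (r + 1)) k ⧸ I} :
    y ∈ qGr I n ↔ ∃ x ∈ GrSyz.stdGr k (Fin (r + 1)) n, Submodule.mkQ I x = y := Iff.rfl

variable (hI : I.IsHomogeneous (GrSyz.stdGr k (Fin (r + 1))))

/-- component maps on the quotient. -/
noncomputable def qProj (g : ℤ) :
    (MvPolynomial (Fin (r + 1)) k ⧸ I) →+ (MvPolynomial (Fin (r + 1)) k ⧸ I) :=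
  AddMonoidHom.liftOfRightInverseAux (Submodule.mkQ I).toAddMonoidHom
    (Function.surjInv (Submodule.mkQ_surjective I))
    (Function.rightInverse_surjInv (Submodule.mkQ_surjective I))
    ((Submodule.mkQ I).toAddMonoidHom.comp (GradedRing.proj (GrSyz.stdGr k (Fin (r + 1))) g))
    (by
      intro x hx
      rw [AddMonoidHom.mem_ker] at hx ⊢
      have hx' : x ∈ I := (Submodule.Quotient.mk_eq_zero I).mp hx
      exact (Submodule.Quotient.mk_eq_zero I).mpr (hI g hx'))

lemma qProj_mk (g : ℤ) (x : MvPolynomial (Fin (r + 1)) k) :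
    qProj I hI g (Submodule.mkQ I x) =
      Submodule.mkQ I (decompose (GrSyz.stdGr k (Fin (r + 1))) x g : MvPolynomial (Fin (r + 1)) k) :=
  AddMonoidHom.liftOfRightInverseAux_comp_apply _ _ _ _ _ x

include hI in
theorem qGr_isInternal : DirectSum.IsInternal (qGr I) := by
  classical
  refine Groth.Agent.Lib.Helper11.GrField.isInternal_of_proj' (qGr I) (qProj I hI) ?_ ?_ ?_ ?_
  · intro g y
    obtain ⟨x, rfl⟩ := Submodule.mkQ_surjective I y
    rw [qProj_mk]
    exact ⟨_, SetLike.coe_mem _, rfl⟩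
  · rintro g _ ⟨x, hx, rfl⟩
    change qProj I hI g (Submodule.mkQ I x) = Submodule.mkQ I x
    rw [qProj_mk, decompose_of_mem_same _ hx]
  · rintro g g' _ ⟨x, hx, rfl⟩ hne
    change qProj I hI g' (Submodule.mkQ I x) = 0
    rw [qProj_mk, decompose_of_mem_ne _ hx (Ne.symm hne), map_zero]
  · intro y
    obtain ⟨x, rfl⟩ := Submodule.mkQ_surjective I y
    refine ⟨(decompose (GrSyz.stdGr k (Fin (r + 1))) x).support, ?_⟩
    simp only [qProj_mk]
    rw [← map_sum, DirectSum.sum_support_decompose (GrSyz.stdGr k (Fin (r + 1))) x]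

/-- the decomposition of the quotient. -/
@[instance_reducible]
noncomputable def qDec : DirectSum.Decomposition (qGr I) :=
  (qGr_isInternal I hI).chooseDecomposition

instance qGradedSMul : SetLike.GradedSMul (GrSyz.stdGr k (Fin (r + 1))) (qGr I) where
  smul_mem := by
    rintro h g s _ hs ⟨x, hx, rfl⟩
    refine ⟨s * x, SetLike.GradedMul.mul_mem hs hx, ?_⟩
    show Submodule.mkQ I (s • x) = s • Submodule.mkQ I x
    rw [map_smul]

lemma mkQ_isGrHom : GrLC.IsGrHom (GrSyz.stdGr k (Fin (r + 1))) (qGr I) (Submodule.mkQ I) :=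
  fun _ x hx => ⟨x, hx, rfl⟩

end Quot

end Groth.Agent.Lib27.HBPts
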