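import Groth.Agent.Lib27.HBPts2

/-!
# The minimal resolution of the coordinate ring of a finite set of points of the plane
-/

set_option autoImplicit false
set_option linter.unusedSectionVars false
set_option linter.unusedVariables false
set_option linter.style.haveILetI false

universe u

namespace Groth.Agent.Lib27.HBPts

open Groth.Agent.Lib27.GrMin Groth.Agent.Lib27.Syz Groth.Agent.Lib27.RegA Matrix MvPolynomial
  Groth.Agent.Lib27.CMReg Groth.Agent.Lib27.GrHilb Groth.Agent.Lib27.HBurch DirectSum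

section General

variable {k : Type u} [Field k] {r : ℕ}
  {M : Type u} [AddCommGroup M] [Module k M] [Module (MvPolynomial (Fin (r + 1)) k) M]
  {ℳ : ℤ → Submodule k M} [DirectSum.Decomposition ℳ]
  [SetLike.GradedSMul (GrSyz.stdGr k (Fin (r + 1))) ℳ]

/-- the degree inequalities of Hilbert–Burch type, for arbitrary sorted enumerations. -/
theorem ineqs' (F : GrSyz.FreeRes (GrSyz.stdGr k (Fin (r + 1))) ℳ)
    (hF : F.IsMinimal (GrSyz.irrel (GrSyz.stdGr k (Fin (r + 1)))).toIdeal)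
    (hrk3 : F.rk 3 = 0) (t : ℕ) (e1 : Fin (t + 1) ≃ Fin (F.rk 1)) (e2 : Fin t ≃ Fin (F.rk 2))
    (ha : ∀ i j : Fin (t + 1), i ≤ j → F.deg 1 (e1 j) ≤ F.deg 1 (e1 i))
    (hb : ∀ i j : Fin t, i ≤ j → F.deg 2 (e2 j) ≤ F.deg 2 (e2 i))
    (i : Fin t) :
    1 ≤ F.deg 2 (e2 i) - F.deg 1 (e1 i.castSucc) ∧
      1 ≤ F.deg 2 (e2 i) - F.deg 1 (e1 i.succ) := by
  classical
  obtain ⟨D, hD⟩ : ∃ D : Matrix (Fin (t + 1)) (Fin t) (MvPolynomial (Fin (r + 1)) k),
      ∀ p q, D p q = F.d 1 (e1 p) (e2 q) :=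
    ⟨Matrix.of fun p q => F.d 1 (e1 p) (e2 q), fun p q => rfl⟩
  have hinj : ∀ v : Fin t → MvPolynomial (Fin (r + 1)) k, D *ᵥ v = 0 → v = 0 := by
    intro v hv
    have h3 : (fun b : Fin (F.rk 2) => v (e2.symm b)) ∈
        LinearMap.ker (Matrix.mulVecLin (F.d 1)) := by
      rw [LinearMap.mem_ker, Matrix.mulVecLin_apply]
      funext a
      have := congrFun hv (e1.symm a)
      rw [Matrix.mulVec, dotProduct, Pi.zero_apply] at this
      rw [Matrix.mulVec, dotProduct, Pi.zero_apply, ← this]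
      refine Fintype.sum_equiv e2.symm _ _ (fun b => ?_)
      rw [hD, Equiv.apply_symm_apply, Equiv.apply_symm_apply]
    rw [F.exact_succ 1] at h3
    obtain ⟨w, hw⟩ := h3
    funext q
    have h4 := congrFun hw (e2 q)
    simp only [Equiv.symm_apply_apply] at h4
    rw [← h4, Matrix.mulVecLin_apply, Matrix.mulVec, dotProduct]
    refine Finset.sum_eq_zero fun b _ => ?_
    have hrk3' : F.rk (1 + 1 + 1) = 0 := hrk3
    exact absurd b.2 (by omega)
  have hDmem : ∀ p q, D p q ∈ GrSyz.stdGr k (Fin (r + 1))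
      (F.deg 2 (e2 q) - F.deg 1 (e1 p)) := by
    intro p q
    rw [hD]
    exact F.d_mem 1 _ _
  have hDirr : ∀ p q, D p q ∈ (GrSyz.irrel (GrSyz.stdGr k (Fin (r + 1)))).toIdeal := by
    intro p q
    rw [hD]
    exact hF 1 _ _
  constructor
  · by_contra hlt
    push Not at hlt
    have hzero : ∀ (p : Fin (t + 1)) (q : Fin t), p.val ≤ i.val → i ≤ q → D p q = 0 := by
      intro p q hp hq
      have h3 := hb i q hq
      have h4 := ha p i.castSucc (by rw [Fin.le_def]; exact hp)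
      exact eq_zero_of_mem_irrel_of_le (by omega) (hDmem p q) (hDirr p q)
    obtain ⟨e₀, he₀⟩ := exists_d_zero_ne F hF (e1 i.succ)
    apply he₀
    have hg : (fun p : Fin (t + 1) => F.d 0 e₀ (e1 p)) ᵥ* D = 0 := by
      funext q
      have h5 := congrFun (congrFun (d_mul_d F 0) e₀) (e2 q)
      rw [Matrix.mul_apply, Matrix.zero_apply] at h5
      rw [Matrix.vecMul, dotProduct, Pi.zero_apply, ← h5]
      refine Fintype.sum_equiv e1 _ _ (fun b => ?_)
      rw [hD]
    exact (key_matrix D hinj i hzero).1 _ hg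
  · by_contra hlt
    push Not at hlt
    have hzero : ∀ (p : Fin (t + 1)) (q : Fin t), p.val ≤ i.val → i ≤ q → D p q = 0 := by
      intro p q hp hq
      have h3 := hb i q hq
      have h4 := ha p i.succ (by rw [Fin.le_def, Fin.val_succ]; omega)
      exact eq_zero_of_mem_irrel_of_le (by omega) (hDmem p q) (hDirr p q)
    obtain ⟨q, hq, hne⟩ := (key_matrix D hinj i hzero).2
    apply hne
    have h3 := hb i q hq
    exact eq_zero_of_mem_irrel_of_le (by omega) (hDmem i.succ q) (hDirr i.succ q)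

/-- all generator degrees of `F_1` are at least the rank of `F_2`, if the degree sums agree. -/
theorem le_deg_one (F : GrSyz.FreeRes (GrSyz.stdGr k (Fin (r + 1))) ℳ)
    (hF : F.IsMinimal (GrSyz.irrel (GrSyz.stdGr k (Fin (r + 1)))).toIdeal)
    (hrk3 : F.rk 3 = 0) (t : ℕ) (h1 : F.rk 1 = t + 1) (h2 : F.rk 2 = t)
    (hsum : ∑ b, F.deg 1 b = ∑ b, F.deg 2 b) (b : Fin (F.rk 1)) : (t : ℤ) ≤ F.deg 1 b := by
  classical
  obtain ⟨e1, he1⟩ : ∃ e1 : Fin (t + 1) ≃ Fin (F.rk 1),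
      ∀ i j : Fin (t + 1), i ≤ j → F.deg 1 (e1 j) ≤ F.deg 1 (e1 i) := by
    refine ⟨(Tuple.sort (fun p : Fin (t + 1) => - F.deg 1 (Fin.cast h1.symm p))).trans
      (finCongr h1.symm), fun i j hij => ?_⟩
    have := Tuple.monotone_sort (fun p : Fin (t + 1) => - F.deg 1 (Fin.cast h1.symm p)) hij
    simp only [Function.comp_apply, neg_le_neg_iff] at this
    exact this
  obtain ⟨e2, he2⟩ : ∃ e2 : Fin t ≃ Fin (F.rk 2),
      ∀ i j : Fin t, i ≤ j → F.deg 2 (e2 j) ≤ F.deg 2 (e2 i) := by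
    refine ⟨(Tuple.sort (fun p : Fin t => - F.deg 2 (Fin.cast h2.symm p))).trans
      (finCongr h2.symm), fun i j hij => ?_⟩
    have := Tuple.monotone_sort (fun p : Fin t => - F.deg 2 (Fin.cast h2.symm p)) hij
    simp only [Function.comp_apply, neg_le_neg_iff] at this
    exact this
  have hin := fun i => (ineqs' F hF hrk3 t e1 e2 he1 he2 i).1
  have hs1 : ∑ p, F.deg 1 (e1 p) = ∑ b, F.deg 1 b := Equiv.sum_comp e1 (F.deg 1)
  have hs2 : ∑ q, F.deg 2 (e2 q) = ∑ b, F.deg 2 b := Equiv.sum_comp e2 (F.deg 2)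
  rw [← hs1, ← hs2, Fin.sum_univ_castSucc] at hsum
  have h3 : ∑ i : Fin t, (1 : ℤ) ≤ ∑ i : Fin t, (F.deg 2 (e2 i) - F.deg 1 (e1 i.castSucc)) :=
    Finset.sum_le_sum fun i _ => hin i
  rw [Finset.sum_sub_distrib, Finset.sum_const, Finset.card_univ, Fintype.card_fin,
    nsmul_eq_mul, mul_one] at h3
  have h4 : (t : ℤ) ≤ F.deg 1 (e1 (Fin.last t)) := by linarith
  have h5 := he1 (e1.symm b) (Fin.last t) (Fin.le_last _)
  rw [Equiv.apply_symm_apply] at h5
  exact h4.trans h5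

end General

section Points

variable {k : Type u} [Field k]
  {M : Type u} [AddCommGroup M] [Module k M] [Module (MvPolynomial (Fin (2 + 1)) k) M]
  [IsScalarTower k (MvPolynomial (Fin (2 + 1)) k) M]
  {ℳ : ℤ → Submodule k M} [DirectSum.Decomposition ℳ]
  [SetLike.GradedSMul (GrSyz.stdGr k (Fin (2 + 1))) ℳ]
  (Z : Finset (Fin (2 + 1) → k)) (hZ : ∀ p ∈ Z, p ≠ 0) (hZne : Z.Nonempty)
  (I : Ideal (MvPolynomial (Fin (2 + 1)) k))
  (hI : ∀ f : MvPolynomial (Fin (2 + 1)) k, f ∈ I ↔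
    ∀ p ∈ Z, ∀ j : ℕ, MvPolynomial.eval p (MvPolynomial.homogeneousComponent j f) = 0)
  (π : MvPolynomial (Fin (2 + 1)) k →ₗ[MvPolynomial (Fin (2 + 1)) k] M)
  (hπ : Function.Surjective π)
  (hπg : GrLC.IsGrHom (GrSyz.stdGr k (Fin (2 + 1))) ℳ π) (hker : LinearMap.ker π = I)
  (F : GrSyz.FreeRes (GrSyz.stdGr k (Fin (2 + 1))) ℳ)
  (hF : F.IsMinimal (GrSyz.irrel (GrSyz.stdGr k (Fin (2 + 1)))).toIdeal)

include hZ hI hπ hker hF in
theorem rk_three : F.rk 3 = 0 := by
  by_contra h3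
  haveI : Module.Finite (MvPolynomial (Fin (2 + 1)) k) M := Module.Finite.of_surjective π hπ
  have hlen := hasLengthLE_of_isMinimal k 2 ℳ F hF
  have hAB := Groth.Agent.Lib27.ABGr.main F hF 3 hlen h3
  have h1 := one_le_idealDepth Z I hI π hπ hker hZ
  have h2 : ((3 : ℕ) : ℕ∞) + 1 ≤ ((3 : ℕ) : ℕ∞) +
      LocCoh.idealDepth (GrSyz.irrel (GrSyz.stdGr k (Fin (2 + 1)))).toIdeal M :=
    add_le_add le_rfl h1
  rw [hAB] at h2
  exact absurd h2 (by norm_num)

include hZ hI hπ hker hF in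
theorem hasLengthLE_two : F.HasLengthLE 2 := by
  intro i hi
  have hlen := hasLengthLE_of_isMinimal k 2 ℳ F hF
  by_cases h3 : i = 3
  · subst h3
    exact rk_three Z hZ I hI π hπ hker F hF
  · exact hlen i (by omega)

include hZne hI hπ hker hF in
theorem rk_zero : F.rk 0 = 1 := by
  classical
  have hπ1 : π 1 ≠ 0 := fun h0 => one_notMem Z I hI hZne (by rw [← hker]; exact h0)
  have hpos : 0 < F.rk 0 := by
    by_contra h0
    push Not at h0
    apply hπ1
    obtain ⟨v, hv⟩ := F.aug_surjective (π 1)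
    rw [← hv, Fintype.linearCombination_apply]
    refine Finset.sum_eq_zero fun b _ => ?_
    exact absurd b.2 (by omega)
  by_contra hne
  have h2 : 2 ≤ F.rk 0 := by omega
  choose h hh using fun b : Fin (F.rk 0) => hπ (F.aug b)
  have hirr : ∀ b, h b ∈ (GrSyz.irrel (GrSyz.stdGr k (Fin (2 + 1)))).toIdeal := by
    intro b₁
    obtain ⟨b₀, hb⟩ : ∃ b₀ : Fin (F.rk 0), b₀ ≠ b₁ := by
      by_cases hb1 : b₁.val = 0
      · refine ⟨⟨1, by omega⟩, fun h => ?_⟩
        have := congrArg Fin.val h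
        simp only at this
        omega
      · exact ⟨⟨0, by omega⟩, fun h => hb1 (congrArg Fin.val h).symm⟩
    have hu : (Pi.single b₀ (h b₁) - Pi.single b₁ (h b₀) :
        Fin (F.rk 0) → MvPolynomial (Fin (2 + 1)) k) ∈
        LinearMap.ker (Fintype.linearCombination (MvPolynomial (Fin (2 + 1)) k) F.aug) := by
      rw [LinearMap.mem_ker, map_sub, Fintype.linearCombination_apply_single,
        Fintype.linearCombination_apply_single, ← hh b₀, ← hh b₁, ← map_smul, ← map_smul,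
        smul_eq_mul, smul_eq_mul, mul_comm, sub_self]
    rw [F.exact_zero] at hu
    obtain ⟨w, hw⟩ := hu
    have h3 := congrFun hw b₀
    rw [Pi.sub_apply, Pi.single_eq_same, Pi.single_eq_of_ne hb, sub_zero] at h3
    rw [← h3]
    show ∑ q, F.d 0 b₀ q * w q ∈ _
    exact Ideal.sum_mem _ fun q _ => Ideal.mul_mem_right _ _ (hF 0 b₀ q)
  obtain ⟨v, hv⟩ := F.aug_surjective (π 1)
  apply one_sub_notMem Z I hI hZne (∑ b, v b * h b)
    (Ideal.sum_mem _ fun b _ => Ideal.mul_mem_left _ _ (hirr b))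
  rw [← hker, LinearMap.mem_ker, map_sub, ← hv, Fintype.linearCombination_apply, map_sum,
    sub_eq_zero]
  refine Finset.sum_congr rfl fun b _ => ?_
  rw [← smul_eq_mul, map_smul, hh b]

include hZne hI hπ hπg hker in
/-- the generator of `F_0` sits in degree zero. -/
theorem deg_zero (e₀ : Fin (F.rk 0)) (he₀ : ∀ b : Fin (F.rk 0), b = e₀) : F.deg 0 e₀ = 0 := by
  classical
  have hπ1 : π 1 ≠ 0 := fun h0 => one_notMem Z I hI hZne (by rw [← hker]; exact h0)
  have hπ1mem : π 1 ∈ ℳ 0 := hπg 0 1 SetLike.GradedOne.one_mem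
  have hg : F.aug e₀ ∈ ℳ (F.deg 0 e₀) := F.aug_mem e₀
  have hgen : ∀ y : M, ∃ s : MvPolynomial (Fin (2 + 1)) k, s • F.aug e₀ = y := by
    intro y
    obtain ⟨v, hv⟩ := F.aug_surjective y
    refine ⟨v e₀, ?_⟩
    rw [← hv, Fintype.linearCombination_apply,
      Finset.sum_eq_single e₀ (fun b _ hb => absurd (he₀ b) hb)
        (fun h => absurd (Finset.mem_univ e₀) h)]
  apply le_antisymm
  · by_contra hc
    push Not at hc
    obtain ⟨s, hs⟩ := hgen (π 1)
    apply hπ1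
    have h3 := projToM_smul_of_mem (GrSyz.stdGr k (Fin (2 + 1))) ℳ (q := 0) s hg
    rw [hs, projToM_of_mem ℳ hπ1mem] at h3
    rw [h3]
    have h4 : (projTo (GrSyz.stdGr k (Fin (2 + 1))) (0 - F.deg 0 e₀) s :
        MvPolynomial (Fin (2 + 1)) k) = 0 :=
      stdGr_neg k 2 _ (by omega) _ (SetLike.coe_mem _)
    rw [h4, zero_smul]
  · by_contra hc
    push Not at hc
    have hg0 : F.aug e₀ ≠ 0 := by
      intro h0
      obtain ⟨s, hs⟩ := hgen (π 1)
      apply hπ1
      rw [← hs, h0, smul_zero]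
    apply hg0
    obtain ⟨h, hh⟩ := hπ (F.aug e₀)
    have h3 := Groth.Agent.Lib.Helper11.GrLCLib.decompose_map (GrSyz.stdGr k (Fin (2 + 1))) ℳ
      hπg h (F.deg 0 e₀)
    rw [hh, DirectSum.decompose_of_mem_same ℳ hg] at h3
    rw [h3]
    have h4 : (DirectSum.decompose (GrSyz.stdGr k (Fin (2 + 1))) h (F.deg 0 e₀) :
        MvPolynomial (Fin (2 + 1)) k) = 0 :=
      stdGr_neg k 2 _ hc _ (SetLike.coe_mem _)
    rw [h4, map_zero]

include hπ hker in
/-- elements of the ideal are combinations of the entries of the first matrix. -/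
theorem exists_repr (e₀ : Fin (F.rk 0)) (s : MvPolynomial (Fin (2 + 1)) k) (hs : s ∈ I) :
    ∃ w : Fin (F.rk 1) → MvPolynomial (Fin (2 + 1)) k, s = ∑ q, F.d 0 e₀ q * w q := by
  classical
  obtain ⟨h, hh⟩ := hπ (F.aug e₀)
  have hs0 : π s = 0 := by rw [← hker] at hs; exact hs
  have hu : (Pi.single e₀ s : Fin (F.rk 0) → MvPolynomial (Fin (2 + 1)) k) ∈
      LinearMap.ker (Fintype.linearCombination (MvPolynomial (Fin (2 + 1)) k) F.aug) := by
    rw [LinearMap.mem_ker, Fintype.linearCombination_apply_single, ← hh, ← map_smul, smul_eq_mul,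
      mul_comm, ← smul_eq_mul, map_smul, hs0, smul_zero]
  rw [F.exact_zero] at hu
  obtain ⟨w, hw⟩ := hu
  have h3 := congrFun hw e₀
  rw [Pi.single_eq_same] at h3
  exact ⟨w, h3.symm⟩

include hπ hker in
/-- the ideal is generated by the entries of the first matrix. -/
theorem I_eq_span (e₀ : Fin (F.rk 0)) (he₀ : ∀ b : Fin (F.rk 0), b = e₀) :
    I = Ideal.span (Set.range fun p => F.d 0 e₀ p) := by
  classical
  apply le_antisymm
  · intro s hs
    obtain ⟨w, rfl⟩ := exists_repr I π hπ hker F e₀ s hs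
    exact Ideal.sum_mem _ fun q _ => Ideal.mul_mem_right _ _ (Ideal.subset_span ⟨q, rfl⟩)
  · rw [Ideal.span_le]
    rintro _ ⟨p, rfl⟩
    show F.d 0 e₀ p ∈ I
    obtain ⟨v, hv⟩ := F.aug_surjective (π 1)
    have hv' : v e₀ • F.aug e₀ = π 1 := by
      rw [← hv, Fintype.linearCombination_apply,
        Finset.sum_eq_single e₀ (fun b _ hb => absurd (he₀ b) hb)
          (fun h => absurd (Finset.mem_univ e₀) h)]
    have h1 : (F.d 0).mulVec (Pi.single p 1) ∈
        LinearMap.ker (Fintype.linearCombination (MvPolynomial (Fin (2 + 1)) k) F.aug) := by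
      rw [F.exact_zero]
      exact ⟨_, rfl⟩
    rw [LinearMap.mem_ker, Fintype.linearCombination_apply,
      Finset.sum_eq_single e₀ (fun b _ hb => absurd (he₀ b) hb)
        (fun h => absurd (Finset.mem_univ e₀) h)] at h1
    have h1' : F.d 0 e₀ p • F.aug e₀ = 0 := by
      simpa [Matrix.mulVec_single_one] using h1
    rw [← hker, LinearMap.mem_ker]
    have h2 : π (F.d 0 e₀ p) = F.d 0 e₀ p • π 1 := by rw [← map_smul, smul_eq_mul, mul_one]
    rw [h2, ← hv', smul_comm, h1', smul_zero]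

include hZ hZne hI hπ hπg hker hF in
/-- the ranks. -/
theorem rk_one : F.rk 1 = F.rk 2 + 1 := by
  have hlen := hasLengthLE_two Z hZ I hI π hπ hker F hF
  have hN : ∀ d : ℤ, Module.finrank k ↥(ℳ d) ≤ Z.card :=
    fun d => finrank_le_card Z I hI π hπ hπg hker d
  obtain ⟨hA, hB⟩ := alt_sums F hlen Z.card hN
  have h0 := rk_zero Z hZne I hI π hπ hker F hF
  rw [h0] at hA
  push_cast at hA
  omega

include hZ hZne hI hπ hπg hker hF in
/-- a nonzero form of degree `d` in the ideal bounds the rank of `F_2`. -/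
theorem rk_two_le (d : ℕ) (f : MvPolynomial (Fin (2 + 1)) k) (hfI : f ∈ I)
    (hfd : f ∈ GrSyz.stdGr k (Fin (2 + 1)) (d : ℤ)) (hf0 : f ≠ 0) : F.rk 2 ≤ d := by
  classical
  by_contra hlt
  push Not at hlt
  have hlen := hasLengthLE_two Z hZ I hI π hπ hker F hF
  have hN : ∀ d : ℤ, Module.finrank k ↥(ℳ d) ≤ Z.card :=
    fun d => finrank_le_card Z I hI π hπ hπg hker d
  obtain ⟨hA, hB⟩ := alt_sums F hlen Z.card hN
  have h0 := rk_zero Z hZne I hI π hπ hker F hF
  have h1 := rk_one Z hZ hZne I hI π hπ hπg hker F hF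
  obtain ⟨e₀, he₀⟩ : ∃ e₀ : Fin (F.rk 0), ∀ b : Fin (F.rk 0), b = e₀ := by
    refine ⟨⟨0, by omega⟩, fun b => Fin.ext ?_⟩
    have := b.2
    show b.val = 0
    omega
  have hc0 := deg_zero Z hZne I hI π hπ hπg hker F e₀ he₀
  have hsum0 : ∑ b, F.deg 0 b = F.deg 0 e₀ := by
    rw [Finset.sum_eq_single e₀ (fun b _ hb => absurd (he₀ b) hb)
      (fun h => absurd (Finset.mem_univ e₀) h)]
  rw [hsum0, hc0] at hB
  have hsum : ∑ b, F.deg 1 b = ∑ b, F.deg 2 b := by linarith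
  have hdeg := le_deg_one F hF (rk_three Z hZ I hI π hπ hker F hF) (F.rk 2) h1 rfl hsum
  apply hf0
  obtain ⟨w, hw⟩ := exists_repr I π hπ hker F e₀ f hfI
  have h2 : f = (decompose (GrSyz.stdGr k (Fin (2 + 1))) f (d : ℤ) :
      MvPolynomial (Fin (2 + 1)) k) := (decompose_of_mem_same _ hfd).symm
  rw [h2]
  have h3 : ∀ g : MvPolynomial (Fin (2 + 1)) k,
      (decompose (GrSyz.stdGr k (Fin (2 + 1))) g (d : ℤ) : MvPolynomial (Fin (2 + 1)) k) =
      GradedRing.proj (GrSyz.stdGr k (Fin (2 + 1))) (d : ℤ) g := fun g => rfl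
  rw [h3, hw, map_sum]
  refine Finset.sum_eq_zero fun q _ => ?_
  rw [← h3]
  have hmem := F.d_mem 0 e₀ q
  have key := coe_decompose_mul_add_of_left_mem (GrSyz.stdGr k (Fin (2 + 1)))
    (j := (d : ℤ) - (F.deg 1 q - F.deg 0 e₀)) (b := w q) hmem
  rw [add_sub_cancel] at key
  rw [key]
  have h4 : (decompose (GrSyz.stdGr k (Fin (2 + 1))) (w q) ((d : ℤ) - (F.deg 1 q - F.deg 0 e₀)) :
      MvPolynomial (Fin (2 + 1)) k) = 0 := by
    have := hdeg q
    exact stdGr_neg k 2 _ (by omega) _ (SetLike.coe_mem _)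
  rw [h4, mul_zero]

end Points

end Groth.Agent.Lib27.HBPts
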