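import Groth.Agent.Lib27.HBPts3

/-!
# Points of the plane on a curve of degree `d`: at most `d + 1` generators; the length-one
resolution of the ideal
-/

set_option autoImplicit false
set_option linter.unusedSectionVars false
set_option linter.unusedVariables false
set_option linter.style.haveILetI false

universe u

namespace Groth.Agent.Lib27.HBPts

open Groth.Agent.Lib27.GrMin Groth.Agent.Lib27.Syz Groth.Agent.Lib27.RegA Matrix MvPolynomial
  Groth.Agent.Lib27.CMReg Groth.Agent.Lib27.GrHilb Groth.Agent.Lib27.HBurch DirectSum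

variable {k : Type u} [Field k]
  (Z : Finset (Fin (2 + 1) → k)) (hZ : ∀ p ∈ Z, p ≠ 0)
  (I : Ideal (MvPolynomial (Fin (2 + 1)) k))
  (hI : ∀ f : MvPolynomial (Fin (2 + 1)) k, f ∈ I ↔
    ∀ p ∈ Z, ∀ j : ℕ, MvPolynomial.eval p (MvPolynomial.homogeneousComponent j f) = 0)

include hZ hI in
theorem spanFinrank_le (d : ℕ)
    (hf : ∃ f ∈ I, MvPolynomial.IsHomogeneous f d ∧ f ≠ 0) : Submodule.spanFinrank I ≤ d + 1 := by
  classical
  by_cases hZ0 : Z = ∅
  · rw [eq_top_of_empty Z I hI hZ0]
    have h1 : (⊤ : Ideal (MvPolynomial (Fin (2 + 1)) k)) = Ideal.span {1} :=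
      Ideal.span_singleton_one.symm
    rw [h1]
    calc Submodule.spanFinrank (Ideal.span ({1} : Set (MvPolynomial (Fin (2 + 1)) k)))
        ≤ ({1} : Set (MvPolynomial (Fin (2 + 1)) k)).ncard :=
          Submodule.spanFinrank_span_le_ncard_of_finite (Set.finite_singleton _)
      _ = 1 := Set.ncard_singleton _
      _ ≤ d + 1 := by omega
  · have hZne : Z.Nonempty := Finset.nonempty_iff_ne_empty.2 hZ0
    have hhom := isHomogeneous_I Z I hI
    letI := qDec I hhom
    obtain ⟨F, hF⟩ := exists_freeRes_isMinimal_gen (GrSyz.stdGr k (Fin (2 + 1)))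
      (GrSyz.irrel (GrSyz.stdGr k (Fin (2 + 1)))).toIdeal (isUnit_cmp_zero k 2) (qGr I)
    have hπ : Function.Surjective (Submodule.mkQ I) := Submodule.mkQ_surjective I
    have hπg := mkQ_isGrHom I
    have hker : LinearMap.ker (Submodule.mkQ I) = I := Submodule.ker_mkQ I
    obtain ⟨f, hfI, hfd, hf0⟩ := hf
    have h2 := rk_two_le Z hZ hZne I hI (Submodule.mkQ I) hπ hπg hker F hF d f hfI
      (mem_stdGr_of_isHomogeneous d f hfd) hf0
    have h1 := rk_one Z hZ hZne I hI (Submodule.mkQ I) hπ hπg hker F hF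
    have h0 := rk_zero Z hZne I hI (Submodule.mkQ I) hπ hker F hF
    obtain ⟨e₀, he₀⟩ : ∃ e₀ : Fin (F.rk 0), ∀ b : Fin (F.rk 0), b = e₀ := by
      refine ⟨⟨0, by omega⟩, fun b => Fin.ext ?_⟩
      have := b.2
      show b.val = 0
      omega
    rw [I_eq_span I (Submodule.mkQ I) hπ hker F e₀ he₀]
    calc Submodule.spanFinrank (Ideal.span (Set.range fun p => F.d 0 e₀ p))
        ≤ (Set.range fun p => F.d 0 e₀ p).ncard :=
          Submodule.spanFinrank_span_le_ncard_of_finite (Set.finite_range _)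
      _ ≤ (Set.univ : Set (Fin (F.rk 1))).ncard := by
          rw [← Set.image_univ]
          exact Set.ncard_image_le Set.finite_univ
      _ = F.rk 1 := by rw [Set.ncard_univ, Nat.card_eq_fintype_card, Fintype.card_fin]
      _ ≤ d + 1 := by omega

include hZ hI in
theorem exists_res :
    ∃ (t : ℕ) (Ψ : Matrix (Fin (t + 1)) (Fin t) (MvPolynomial (Fin (2 + 1)) k))
      (π : (Fin (t + 1) → MvPolynomial (Fin (2 + 1)) k) →ₗ[MvPolynomial (Fin (2 + 1)) k]
        MvPolynomial (Fin (2 + 1)) k),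
      LinearMap.ker Ψ.mulVecLin = ⊥ ∧ LinearMap.ker π = LinearMap.range Ψ.mulVecLin ∧
        LinearMap.range π = I := by
  classical
  by_cases hZ0 : Z = ∅
  · rw [eq_top_of_empty Z I hI hZ0]
    refine ⟨0, 0, LinearMap.proj 0, ?_, ?_, ?_⟩
    · rw [LinearMap.ker_eq_bot']
      intro v _
      funext q
      exact q.elim0
    · have h1 : LinearMap.range (Matrix.mulVecLin
          (0 : Matrix (Fin (0 + 1)) (Fin 0) (MvPolynomial (Fin (2 + 1)) k))) = ⊥ := by
        rw [LinearMap.range_eq_bot]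
        ext v
        simp
      rw [h1, LinearMap.ker_eq_bot']
      intro v hv
      funext p
      obtain ⟨pv, hpv⟩ := p
      have hp0 : pv = 0 := by omega
      subst hp0
      exact hv
    · rw [LinearMap.range_eq_top]
      intro s
      exact ⟨fun _ => s, rfl⟩
  · have hZne : Z.Nonempty := Finset.nonempty_iff_ne_empty.2 hZ0
    have hhom := isHomogeneous_I Z I hI
    letI := qDec I hhom
    obtain ⟨F, hF⟩ := exists_freeRes_isMinimal_gen (GrSyz.stdGr k (Fin (2 + 1)))
      (GrSyz.irrel (GrSyz.stdGr k (Fin (2 + 1)))).toIdeal (isUnit_cmp_zero k 2) (qGr I)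
    have hπ : Function.Surjective (Submodule.mkQ I) := Submodule.mkQ_surjective I
    have hπg := mkQ_isGrHom I
    have hker : LinearMap.ker (Submodule.mkQ I) = I := Submodule.ker_mkQ I
    have h1 := rk_one Z hZ hZne I hI (Submodule.mkQ I) hπ hπg hker F hF
    have h0 := rk_zero Z hZne I hI (Submodule.mkQ I) hπ hker F hF
    have h3 := rk_three Z hZ I hI (Submodule.mkQ I) hπ hker F hF
    obtain ⟨e₀, he₀⟩ : ∃ e₀ : Fin (F.rk 0), ∀ b : Fin (F.rk 0), b = e₀ := by
      refine ⟨⟨0, by omega⟩, fun b => Fin.ext ?_⟩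
      have := b.2
      show b.val = 0
      omega
    obtain ⟨Ψ, hΨ⟩ : ∃ Ψ : Matrix (Fin (F.rk 2 + 1)) (Fin (F.rk 2)) (MvPolynomial (Fin (2 + 1)) k),
        ∀ p q, Ψ p q = F.d 1 (Fin.cast h1.symm p) q :=
      ⟨Matrix.of fun p q => F.d 1 (Fin.cast h1.symm p) q, fun p q => rfl⟩
    obtain ⟨ρ, hρ⟩ : ∃ ρ : (Fin (F.rk 2 + 1) → MvPolynomial (Fin (2 + 1)) k)
        →ₗ[MvPolynomial (Fin (2 + 1)) k] MvPolynomial (Fin (2 + 1)) k,
        ∀ v, ρ v = ∑ p, F.d 0 e₀ (Fin.cast h1.symm p) * v p :=
      ⟨Fintype.linearCombination (MvPolynomial (Fin (2 + 1)) k)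
        (fun p => F.d 0 e₀ (Fin.cast h1.symm p)), fun v => by
          rw [Fintype.linearCombination_apply]
          refine Finset.sum_congr rfl fun p _ => ?_
          rw [smul_eq_mul, mul_comm]⟩
    -- transport of vectors
    have hρ' : ∀ v : Fin (F.rk 2 + 1) → MvPolynomial (Fin (2 + 1)) k,
        ρ v = ((F.d 0).mulVec (fun a => v (Fin.cast h1 a))) e₀ := by
      intro v
      rw [hρ, Matrix.mulVec, dotProduct]
      exact Fintype.sum_equiv (finCongr h1.symm) _ _ (fun p => by simp)
    have hΨ' : ∀ (w : Fin (F.rk 2) → MvPolynomial (Fin (2 + 1)) k) (a : Fin (F.rk 1)),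
        (Ψ.mulVec w) (Fin.cast h1 a) = ((F.d 1).mulVec w) a := by
      intro w a
      rw [Matrix.mulVec, dotProduct, Matrix.mulVec, dotProduct]
      refine Finset.sum_congr rfl fun q _ => ?_
      rw [hΨ]
      simp
    refine ⟨F.rk 2, Ψ, ρ, ?_, ?_, ?_⟩
    · rw [LinearMap.ker_eq_bot']
      intro w hw
      rw [Matrix.mulVecLin_apply] at hw
      have h4 : w ∈ LinearMap.ker (Matrix.mulVecLin (F.d 1)) := by
        rw [LinearMap.mem_ker, Matrix.mulVecLin_apply]
        funext a
        rw [← hΨ' w a, hw]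
        rfl
      rw [F.exact_succ 1] at h4
      obtain ⟨u, hu⟩ := h4
      rw [← hu, Matrix.mulVecLin_apply]
      funext q
      rw [Matrix.mulVec, dotProduct]
      refine Finset.sum_eq_zero fun b _ => ?_
      have hrk3' : F.rk (1 + 1 + 1) = 0 := h3
      exact absurd b.2 (by omega)
    · ext v
      rw [LinearMap.mem_ker, LinearMap.mem_range]
      constructor
      · intro hv
        have h4 : (fun a => v (Fin.cast h1 a)) ∈ LinearMap.ker (Matrix.mulVecLin (F.d 0)) := by
          rw [LinearMap.mem_ker, Matrix.mulVecLin_apply]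
          funext b
          rw [he₀ b, ← hρ' v, hv]
          rfl
        rw [F.exact_succ 0] at h4
        obtain ⟨w, hw⟩ := h4
        refine ⟨w, ?_⟩
        funext p
        have h5 := hΨ' w (Fin.cast h1.symm p)
        simp only [Fin.cast_cast, Fin.cast_eq_self] at h5
        rw [Matrix.mulVecLin_apply, h5]
        have h6 := congrFun hw (Fin.cast h1.symm p)
        simp only [Fin.cast_cast, Fin.cast_eq_self] at h6
        rw [← h6, Matrix.mulVecLin_apply]
      · rintro ⟨w, rfl⟩
        rw [hρ']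
        have h4 : (fun a => (Ψ.mulVecLin w) (Fin.cast h1 a)) = (F.d 1).mulVec w := by
          funext a
          rw [Matrix.mulVecLin_apply, hΨ' w a]
        rw [h4, Matrix.mulVec_mulVec, d_mul_d F 0, Matrix.zero_mulVec]
        rfl
    · have hIeq := I_eq_span I (Submodule.mkQ I) hπ hker F e₀ he₀
      apply le_antisymm
      · rintro _ ⟨v, rfl⟩
        apply hIeq.ge
        rw [hρ]
        exact Ideal.sum_mem _ fun p _ => Ideal.mul_mem_right _ _ (Ideal.subset_span ⟨_, rfl⟩)
      · refine fun s hs => (?_ : Ideal.span (Set.range fun p => F.d 0 e₀ p) ≤ LinearMap.range ρ)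
          (hIeq.le hs)
        rw [Ideal.span_le]
        rintro _ ⟨p, rfl⟩
        refine ⟨Pi.single (Fin.cast h1 p) 1, ?_⟩
        rw [hρ, Finset.sum_eq_single (Fin.cast h1 p)]
        · simp
        · intro b _ hb
          rw [Pi.single_eq_of_ne hb, mul_zero]
        · intro h
          exact absurd (Finset.mem_univ _) h

end Groth.Agent.Lib27.HBPts
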