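import Groth.Agent.Lib27.CMReg2

/-!
# Hilbert–Burch degrees: the inequalities `e_i ≥ 1`, `f_i ≥ 1`
-/

set_option autoImplicit false
set_option linter.unusedSectionVars false
set_option linter.unusedVariables false
set_option linter.style.haveILetI false

universe u

namespace Groth.Agent.Lib27.HBurch

open Groth.Agent.Lib27.GrMin Groth.Agent.Lib27.Syz Groth.Agent.Lib27.RegA Matrix MvPolynomial
  Groth.Agent.Lib27.CMReg

section Key

variable {S : Type*} [CommRing S] [IsDomain S] {t : ℕ}

/-- the linear algebra behind the degree inequalities. -/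
theorem key_matrix (D : Matrix (Fin (t + 1)) (Fin t) S)
    (hinj : ∀ v : Fin t → S, D *ᵥ v = 0 → v = 0) (i : Fin t)
    (hzero : ∀ (p : Fin (t + 1)) (q : Fin t), p.val ≤ i.val → i ≤ q → D p q = 0) :
    (∀ g : Fin (t + 1) → S, g ᵥ* D = 0 → g i.succ = 0) ∧ (∃ q, i ≤ q ∧ D i.succ q ≠ 0) := by
  classical
  obtain ⟨C, hC⟩ : ∃ C : Matrix (Fin t) (Fin t) S, ∀ p q, C p q =
      if i ≤ p ∧ i ≤ q then D p.succ q else if p = q then 1 else 0 :=
    ⟨Matrix.of fun p q => if i ≤ p ∧ i ≤ q then D p.succ q else if p = q then 1 else 0,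
      fun p q => rfl⟩
  have hCinj : ∀ v : Fin t → S, C *ᵥ v = 0 → v = 0 := by
    intro v hv
    have hlow : ∀ q, q < i → v q = 0 := by
      intro q hq
      have h1 := congrFun hv q
      rw [Matrix.mulVec, dotProduct, Pi.zero_apply] at h1
      rw [Finset.sum_eq_single q] at h1
      · rw [hC, if_neg (fun h => absurd h.1 (not_le.2 hq)), if_pos rfl, one_mul] at h1
        exact h1
      · intro q' _ hq'
        rw [hC, if_neg (fun h => absurd h.1 (not_le.2 hq)), if_neg (Ne.symm hq'), zero_mul]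
      · intro h
        exact absurd (Finset.mem_univ q) h
    apply hinj
    funext r
    rw [Matrix.mulVec, dotProduct, Pi.zero_apply]
    by_cases hr : r.val ≤ i.val
    · refine Finset.sum_eq_zero fun q _ => ?_
      by_cases hq : i ≤ q
      · rw [hzero r q hr hq, zero_mul]
      · rw [hlow q (not_le.1 hq), mul_zero]
    · push Not at hr
      have hr0 : r ≠ 0 := by
        intro h
        rw [h] at hr
        exact absurd hr (by simp)
      obtain ⟨p, rfl⟩ := Fin.exists_succ_eq.2 hr0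
      have hp : i ≤ p := by
        rw [Fin.le_def]
        have : i.val < p.val + 1 := hr
        omega
      have h1 := congrFun hv p
      rw [Matrix.mulVec, dotProduct, Pi.zero_apply] at h1
      rw [← h1]
      refine Finset.sum_congr rfl fun q _ => ?_
      by_cases hq : i ≤ q
      · rw [hC, if_pos ⟨hp, hq⟩]
      · rw [hlow q (not_le.1 hq), mul_zero, mul_zero]
  have hdet : C.det ≠ 0 := by
    intro h0
    obtain ⟨v, hv0, hv⟩ := (Matrix.exists_mulVec_eq_zero_iff (M := C)).2 h0
    exact hv0 (hCinj v hv)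
  refine ⟨fun g hg => ?_, ?_⟩
  · obtain ⟨g', hg'⟩ : ∃ g' : Fin t → S, ∀ p, g' p = if i ≤ p then g p.succ else 0 :=
      ⟨fun p => if i ≤ p then g p.succ else 0, fun p => rfl⟩
    have hg'C : g' ᵥ* C = 0 := by
      funext q
      rw [Matrix.vecMul, dotProduct, Pi.zero_apply]
      by_cases hq : i ≤ q
      · have h1 := congrFun hg q
        rw [Matrix.vecMul, dotProduct, Pi.zero_apply, Fin.sum_univ_succ,
          hzero 0 q (Nat.zero_le _) hq, mul_zero, zero_add] at h1
        rw [← h1]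
        refine Finset.sum_congr rfl fun p _ => ?_
        rw [hg', hC]
        by_cases hp : i ≤ p
        · rw [if_pos hp, if_pos ⟨hp, hq⟩]
        · rw [if_neg hp, zero_mul, hzero p.succ q (by
            have : p.val < i.val := not_le.1 hp
            rw [Fin.val_succ]
            omega) hq, mul_zero]
      · refine Finset.sum_eq_zero fun p _ => ?_
        by_cases hp : i ≤ p
        · have hpq : p ≠ q := by
            intro h
            rw [h] at hp
            exact hq hp
          rw [hC p q, if_neg (fun h : i ≤ p ∧ i ≤ q => hq h.2), if_neg hpq, mul_zero]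
        · rw [hg' p, if_neg hp, zero_mul]
    have hg'0 : g' = 0 := by
      by_contra hne
      exact hdet ((Matrix.exists_vecMul_eq_zero_iff (M := C)).1 ⟨g', hne, hg'C⟩)
    have := congrFun hg'0 i
    rw [hg', if_pos le_rfl] at this
    exact this
  · by_contra hcon
    push Not at hcon
    apply hdet
    apply Matrix.det_eq_zero_of_row_eq_zero i
    intro q
    rw [hC]
    by_cases hq : i ≤ q
    · rw [if_pos ⟨le_rfl, hq⟩]
      exact hcon q hq
    · have hiq : i ≠ q := by
        intro h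
        rw [← h] at hq
        exact hq le_rfl
      rw [if_neg (fun h => hq h.2), if_neg hiq]

end Key

variable {k : Type u} [Field k] {r : ℕ}
  {M : Type u} [AddCommGroup M] [Module k M] [Module (MvPolynomial (Fin (r + 1)) k) M]
  {ℳ : ℤ → Submodule k M} [DirectSum.Decomposition ℳ]
  [SetLike.GradedSMul (GrSyz.stdGr k (Fin (r + 1))) ℳ]

lemma d_mul_d (F : GrSyz.FreeRes (GrSyz.stdGr k (Fin (r + 1))) ℳ) (i : ℕ) :
    F.d i * F.d (i + 1) = 0 := by
  classical
  apply Matrix.ext
  intro a b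
  have h1 : (F.d (i + 1)).mulVec (Pi.single b 1) ∈ LinearMap.ker (Matrix.mulVecLin (F.d i)) := by
    rw [F.exact_succ i]
    exact ⟨_, rfl⟩
  have h2 : (F.d i).mulVec ((F.d (i + 1)).mulVec (Pi.single b 1)) = 0 := h1
  rw [Matrix.mulVec_mulVec] at h2
  have h3 := congrFun h2 a
  simpa [Matrix.mulVec_single_one] using h3

/-- in a minimal resolution no column of `d 0` vanishes. -/
lemma exists_d_zero_ne (F : GrSyz.FreeRes (GrSyz.stdGr k (Fin (r + 1))) ℳ)
    (hF : F.IsMinimal (GrSyz.irrel (GrSyz.stdGr k (Fin (r + 1)))).toIdeal) (p : Fin (F.rk 1)) :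
    ∃ e₀ : Fin (F.rk 0), F.d 0 e₀ p ≠ 0 := by
  classical
  by_contra hcon
  push Not at hcon
  have h1 : (Pi.single p 1 : Fin (F.rk 1) → MvPolynomial (Fin (r + 1)) k) ∈
      LinearMap.ker (Matrix.mulVecLin (F.d 0)) := by
    rw [LinearMap.mem_ker, Matrix.mulVecLin_apply, Matrix.mulVec_single_one]
    funext e₀
    exact hcon e₀
  rw [F.exact_succ 0] at h1
  obtain ⟨w, hw⟩ := h1
  have h2 := congrFun hw p
  rw [Pi.single_eq_same] at h2
  apply one_notMem_irrel k r
  rw [← h2]
  show ∑ b, F.d 1 p b * w b ∈ _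
  refine Ideal.sum_mem _ fun b _ => ?_
  exact Ideal.mul_mem_right _ _ (hF 1 p b)

/-- the degree inequalities of Hilbert–Burch type. -/
theorem ineqs (F : GrSyz.FreeRes (GrSyz.stdGr k (Fin (r + 1))) ℳ)
    (hF : F.IsMinimal (GrSyz.irrel (GrSyz.stdGr k (Fin (r + 1)))).toIdeal)
    (hrk3 : F.rk 3 = 0) (t : ℕ) (h1 : F.rk 1 = t + 1) (h2 : F.rk 2 = t)
    (ha : ∀ i j : Fin (t + 1), i ≤ j →
      F.deg 1 (Fin.cast h1.symm j) ≤ F.deg 1 (Fin.cast h1.symm i))
    (hb : ∀ i j : Fin t, i ≤ j → F.deg 2 (Fin.cast h2.symm j) ≤ F.deg 2 (Fin.cast h2.symm i))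
    (i : Fin t) :
    1 ≤ F.deg 2 (Fin.cast h2.symm i) - F.deg 1 (Fin.cast h1.symm i.castSucc) ∧
      1 ≤ F.deg 2 (Fin.cast h2.symm i) - F.deg 1 (Fin.cast h1.symm i.succ) := by
  classical
  obtain ⟨D, hD⟩ : ∃ D : Matrix (Fin (t + 1)) (Fin t) (MvPolynomial (Fin (r + 1)) k),
      ∀ p q, D p q = F.d 1 (Fin.cast h1.symm p) (Fin.cast h2.symm q) :=
    ⟨Matrix.of fun p q => F.d 1 (Fin.cast h1.symm p) (Fin.cast h2.symm q), fun p q => rfl⟩
  have hinj : ∀ v : Fin t → MvPolynomial (Fin (r + 1)) k, D *ᵥ v = 0 → v = 0 := by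
    intro v hv
    have h3 : (fun b : Fin (F.rk 2) => v (Fin.cast h2 b)) ∈
        LinearMap.ker (Matrix.mulVecLin (F.d 1)) := by
      rw [LinearMap.mem_ker, Matrix.mulVecLin_apply]
      funext a
      have := congrFun hv (Fin.cast h1 a)
      rw [Matrix.mulVec, dotProduct, Pi.zero_apply] at this
      rw [Matrix.mulVec, dotProduct, Pi.zero_apply, ← this]
      refine Fintype.sum_equiv (finCongr h2) _ _ (fun b => ?_)
      rw [hD]
      rfl
    rw [F.exact_succ 1] at h3
    obtain ⟨w, hw⟩ := h3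
    funext q
    have h4 := congrFun hw (Fin.cast h2.symm q)
    simp only [Fin.cast_cast, Fin.cast_eq_self] at h4
    rw [← h4, Matrix.mulVecLin_apply, Matrix.mulVec, dotProduct]
    refine Finset.sum_eq_zero fun b _ => ?_
    have hrk3' : F.rk (1 + 1 + 1) = 0 := hrk3
    exact absurd b.2 (by omega)
  have hDmem : ∀ p q, D p q ∈ GrSyz.stdGr k (Fin (r + 1))
      (F.deg 2 (Fin.cast h2.symm q) - F.deg 1 (Fin.cast h1.symm p)) := by
    intro p q
    rw [hD]
    exact F.d_mem 1 _ _
  have hDirr : ∀ p q, D p q ∈ (GrSyz.irrel (GrSyz.stdGr k (Fin (r + 1)))).toIdeal := by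
    intro p q
    rw [hD]
    exact hF 1 _ _
  constructor
  · by_contra hlt
    push Not at hlt
    have hzero : ∀ (p : Fin (t + 1)) (q : Fin t), p.val ≤ i.val → i ≤ q → D p q = 0 := by
      intro p q hp hq
      have h3 := hb i q hq
      have h4 := ha p i.castSucc (by rw [Fin.le_def]; exact hp)
      exact eq_zero_of_mem_irrel_of_le (by omega) (hDmem p q) (hDirr p q)
    obtain ⟨e₀, he₀⟩ := exists_d_zero_ne F hF (Fin.cast h1.symm i.succ)
    apply he₀
    have hg : (fun p : Fin (t + 1) => F.d 0 e₀ (Fin.cast h1.symm p)) ᵥ* D = 0 := by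
      funext q
      have h5 := congrFun (congrFun (d_mul_d F 0) e₀) (Fin.cast h2.symm q)
      rw [Matrix.mul_apply, Matrix.zero_apply] at h5
      rw [Matrix.vecMul, dotProduct, Pi.zero_apply, ← h5]
      refine Fintype.sum_equiv (finCongr h1.symm) _ _ (fun b => ?_)
      rw [hD]
      rfl
    exact (key_matrix D hinj i hzero).1 _ hg
  · by_contra hlt
    push Not at hlt
    have hzero : ∀ (p : Fin (t + 1)) (q : Fin t), p.val ≤ i.val → i ≤ q → D p q = 0 := by
      intro p q hp hq
      have h3 := hb i q hq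
      have h4 := ha p i.succ (by rw [Fin.le_def, Fin.val_succ]; omega)
      exact eq_zero_of_mem_irrel_of_le (by omega) (hDmem p q) (hDirr p q)
    obtain ⟨q, hq, hne⟩ := (key_matrix D hinj i hzero).2
    apply hne
    have h3 := hb i q hq
    exact eq_zero_of_mem_irrel_of_le (by omega) (hDmem i.succ q) (hDirr i.succ q)

end Groth.Agent.Lib27.HBurch
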