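import Groth.Agent.Lib27.HBurch1
import Groth.Agent.Lib27.GrHilb5
import Groth.Agent.Lib27.RegB

/-!
# Hilbert–Burch degrees: the Hilbert function of a set of points is bounded
-/

set_option autoImplicit false
set_option linter.unusedSectionVars false
set_option linter.unusedVariables false
set_option linter.style.haveILetI false

universe u

namespace Groth.Agent.Lib27.HBurch

open Groth.Agent.Lib27.GrMin Groth.Agent.Lib27.Syz Groth.Agent.Lib27.RegA Matrix MvPolynomial
  Groth.Agent.Lib27.CMReg Groth.Agent.Lib27.GrHilb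

variable {k : Type u} [Field k] {r : ℕ}
  {M : Type u} [AddCommGroup M] [Module k M] [Module (MvPolynomial (Fin (r + 1)) k) M]
  [IsScalarTower k (MvPolynomial (Fin (r + 1)) k) M]
  {ℳ : ℤ → Submodule k M} [DirectSum.Decomposition ℳ]
  [SetLike.GradedSMul (GrSyz.stdGr k (Fin (r + 1))) ℳ]

/-- elements of the piece of degree `n` are homogeneous of degree `n`. -/
lemma isHomogeneous_of_mem_stdGr (n : ℕ) (f : MvPolynomial (Fin (r + 1)) k)
    (hf : f ∈ GrSyz.stdGr k (Fin (r + 1)) (n : ℤ)) : f.IsHomogeneous n := by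
  intro d hd
  have h1 : Finsupp.weight (fun _ : Fin (r + 1) => (1 : ℤ)) d = (n : ℤ) := hf hd
  rw [weight_one] at h1
  have h2 : Finsupp.weight (1 : Fin (r + 1) → ℕ) d = ∑ i, d i := by
    rw [Finsupp.weight_apply, Finsupp.sum_fintype _ _ (fun i => by simp)]
    simp
  rw [h2]
  exact_mod_cast h1

section Points

variable (Z : Finset (Fin (r + 1) → k)) (I : Ideal (MvPolynomial (Fin (r + 1)) k))
  (hI : ∀ f : MvPolynomial (Fin (r + 1)) k, f ∈ I ↔
    ∀ p ∈ Z, ∀ j : ℕ, MvPolynomial.eval p (MvPolynomial.homogeneousComponent j f) = 0)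

include hI

/-- membership in the vanishing ideal, for homogeneous elements. -/
lemma mem_I_iff_of_mem (d : ℤ) (f : MvPolynomial (Fin (r + 1)) k)
    (hf : f ∈ GrSyz.stdGr k (Fin (r + 1)) d) :
    f ∈ I ↔ ∀ p ∈ Z, MvPolynomial.eval p f = 0 := by
  by_cases hd : d < 0
  · have h0 : f = 0 := stdGr_neg k r d hd f hf
    subst h0
    constructor
    · intro _ p _
      exact map_zero _
    · intro _
      exact zero_mem _
  · obtain ⟨n, rfl⟩ := Int.eq_ofNat_of_zero_le (not_lt.1 hd)
    have hhom : f ∈ homogeneousSubmodule (Fin (r + 1)) k n := isHomogeneous_of_mem_stdGr n f hf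
    rw [hI]
    constructor
    · intro h p hp
      have := h p hp n
      rwa [homogeneousComponent_of_mem hhom, if_pos rfl] at this
    · intro h p hp j
      rw [homogeneousComponent_of_mem hhom]
      split_ifs
      · exact h p hp
      · exact map_zero _

variable (π : MvPolynomial (Fin (r + 1)) k →ₗ[MvPolynomial (Fin (r + 1)) k] M)
  (hπ : Function.Surjective π) (hπg : GrLC.IsGrHom (GrSyz.stdGr k (Fin (r + 1))) ℳ π)
  (hker : LinearMap.ker π = I)

include hπ hπg hker

/-- the Hilbert function of a finite set of points is bounded by the number of points. -/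
theorem finrank_le_card (d : ℤ) : Module.finrank k ↥(ℳ d) ≤ Z.card := by
  classical
  let Sd := GrSyz.stdGr k (Fin (r + 1)) d
  let πk : MvPolynomial (Fin (r + 1)) k →ₗ[k] M := π.restrictScalars k
  let πd : ↥Sd →ₗ[k] ↥(ℳ d) := (πk.domRestrict Sd).codRestrict (ℳ d) (fun x => hπg d x x.2)
  have hsurj : Function.Surjective πd := by
    rintro ⟨y, hy⟩
    obtain ⟨f, rfl⟩ := hπ y
    refine ⟨⟨(DirectSum.decompose (GrSyz.stdGr k (Fin (r + 1))) f d :
      MvPolynomial (Fin (r + 1)) k), SetLike.coe_mem _⟩, Subtype.ext ?_⟩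
    show π (DirectSum.decompose (GrSyz.stdGr k (Fin (r + 1))) f d :
      MvPolynomial (Fin (r + 1)) k) = π f
    rw [← Groth.Agent.Lib.Helper11.GrLCLib.decompose_map (GrSyz.stdGr k (Fin (r + 1))) ℳ hπg f d,
      DirectSum.decompose_of_mem_same ℳ hy]
  let ev : MvPolynomial (Fin (r + 1)) k →ₗ[k] (↥Z → k) :=
    LinearMap.pi (fun p => (MvPolynomial.aeval (p : Fin (r + 1) → k)).toLinearMap)
  let evd : ↥Sd →ₗ[k] (↥Z → k) := ev.domRestrict Sd
  have hkereq : LinearMap.ker πd = LinearMap.ker evd := by
    ext x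
    rw [LinearMap.mem_ker, LinearMap.mem_ker]
    have h1 : πd x = 0 ↔ (x : MvPolynomial (Fin (r + 1)) k) ∈ I := by
      rw [← hker, LinearMap.mem_ker]
      constructor
      · intro h
        exact congrArg Subtype.val h
      · intro h
        exact Subtype.ext h
    have h2 : evd x = 0 ↔ ∀ p ∈ Z, MvPolynomial.eval p (x : MvPolynomial (Fin (r + 1)) k) = 0 := by
      constructor
      · intro h p hp
        have := congrFun h ⟨p, hp⟩
        simpa [evd, ev, MvPolynomial.coe_aeval_eq_eval] using this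
      · intro h
        funext p
        have := h p.1 p.2
        simpa [evd, ev, MvPolynomial.coe_aeval_eq_eval] using this
    rw [h1, h2]
    exact mem_I_iff_of_mem Z I hI d x x.2
  have e1 := LinearMap.quotKerEquivOfSurjective πd hsurj
  have e2 := evd.quotKerEquivRange
  have e3 := Submodule.quotEquivOfEq _ _ hkereq
  rw [← e1.finrank_eq, e3.finrank_eq, e2.finrank_eq]
  calc Module.finrank k ↥(LinearMap.range evd) ≤ Module.finrank k (↥Z → k) :=
        Submodule.finrank_le _
    _ = Z.card := by rw [Module.finrank_fintype_fun_eq_card, Fintype.card_coe]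

end Points

end Groth.Agent.Lib27.HBurch
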