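import Groth.Agent.Lib27.HBurch2

/-!
# Hilbert–Burch degrees: a bounded Hilbert function forces two alternating sums to vanish
-/

set_option autoImplicit false
set_option linter.unusedSectionVars false
set_option linter.unusedVariables false
set_option linter.style.haveILetI false

universe u

namespace Groth.Agent.Lib27.HBurch

open Groth.Agent.Lib27.GrMin Groth.Agent.Lib27.Syz Groth.Agent.Lib27.RegA Matrix MvPolynomial
  Groth.Agent.Lib27.CMReg Groth.Agent.Lib27.GrHilb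

/-- the quadratic `(y+1)(y+2)/2`. -/
noncomputable def qq (y : ℚ) : ℚ := (y + 1) * (y + 2) / 2

lemma Q2_eval (x : ℚ) : (Q 2).eval x = qq x := by
  rw [Q_eval]
  simp only [Finset.prod_range_succ, Finset.prod_range_zero, Nat.factorial]
  unfold qq
  push_cast
  ring

lemma sum_qq_diff2 {n : ℕ} (a : Fin n → ℤ) (x m : ℚ) :
    (∑ b, qq (x + 2 * m - a b)) - 2 * (∑ b, qq (x + m - a b)) + ∑ b, qq (x - a b) =
      n * m ^ 2 := by
  rw [Finset.mul_sum, ← Finset.sum_sub_distrib, ← Finset.sum_add_distrib]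
  have : ∀ b ∈ (Finset.univ : Finset (Fin n)),
      qq (x + 2 * m - a b) - 2 * qq (x + m - a b) + qq (x - a b) = m ^ 2 := by
    intro b _
    unfold qq
    ring
  rw [Finset.sum_congr rfl this, Finset.sum_const, Finset.card_univ, Fintype.card_fin,
    nsmul_eq_mul]

lemma sum_qq_diff1 {n : ℕ} (a : Fin n → ℤ) (x m : ℚ) :
    (∑ b, qq (x + m - a b)) - ∑ b, qq (x - a b) =
      n * (m * (2 * x + m + 3) / 2) - m * ∑ b, (a b : ℚ) := by
  rw [← Finset.sum_sub_distrib, Finset.mul_sum]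
  have : ∀ b ∈ (Finset.univ : Finset (Fin n)),
      qq (x + m - a b) - qq (x - a b) = m * (2 * x + m + 3) / 2 - m * (a b : ℚ) := by
    intro b _
    unfold qq
    ring
  rw [Finset.sum_congr rfl this, Finset.sum_sub_distrib, Finset.sum_const, Finset.card_univ,
    Fintype.card_fin, nsmul_eq_mul]

variable {k : Type u} [Field k]
  {M : Type u} [AddCommGroup M] [Module k M] [Module (MvPolynomial (Fin (2 + 1)) k) M]
  [IsScalarTower k (MvPolynomial (Fin (2 + 1)) k) M]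
  {ℳ : ℤ → Submodule k M} [DirectSum.Decomposition ℳ]
  [SetLike.GradedSMul (GrSyz.stdGr k (Fin (2 + 1))) ℳ]

/-- if the Hilbert function is bounded, the alternating sums of ranks and of degrees vanish. -/
theorem alt_sums (F : GrSyz.FreeRes (GrSyz.stdGr k (Fin (2 + 1))) ℳ) (hlen : F.HasLengthLE 2)
    (N : ℕ) (hN : ∀ d : ℤ, Module.finrank k ↥(ℳ d) ≤ N) :
    ((F.rk 0 : ℤ) - F.rk 1 + F.rk 2 = 0) ∧
      ((∑ b, F.deg 0 b) - (∑ b, F.deg 1 b) + ∑ b, F.deg 2 b = 0) := by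
  classical
  -- a bound for the degrees
  obtain ⟨D₀, hD₀⟩ : ∃ D₀ : ℤ, ∀ i : ℕ, i < 3 → ∀ b : Fin (F.rk i), F.deg i b - 2 ≤ D₀ := by
    refine ⟨∑ i ∈ Finset.range 3, ∑ b : Fin (F.rk i), |F.deg i b|, fun i hi b => ?_⟩
    have h1 : |F.deg i b| ≤ ∑ b : Fin (F.rk i), |F.deg i b| :=
      Finset.single_le_sum (f := fun b => |F.deg i b|) (fun y _ => abs_nonneg _)
        (Finset.mem_univ b)
    have h2 : (∑ b : Fin (F.rk i), |F.deg i b|) ≤
        ∑ i ∈ Finset.range 3, ∑ b : Fin (F.rk i), |F.deg i b| :=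
      Finset.single_le_sum (f := fun i => ∑ b : Fin (F.rk i), |F.deg i b|)
        (fun y _ => Finset.sum_nonneg fun _ _ => abs_nonneg _) (Finset.mem_range.2 hi)
    have h3 := le_abs_self (F.deg i b)
    omega
  obtain ⟨fQ, hfQ⟩ : ∃ fQ : ℚ → ℚ, ∀ x, fQ x = (∑ b, qq (x - F.deg 0 b)) -
      (∑ b, qq (x - F.deg 1 b)) + ∑ b, qq (x - F.deg 2 b) := ⟨_, fun x => rfl⟩
  have hH : ∀ d : ℤ, D₀ ≤ d → ((Module.finrank k ↥(ℳ d) : ℤ) : ℚ) = fQ d := by
    intro d hd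
    rw [hilbert_formula k 2 ℳ F d 2 hlen, hfQ]
    have hterm : ∀ (i : ℕ), i < 3 → ∀ b : Fin (F.rk i),
        (if F.deg i b ≤ d then ((Nat.choose (2 + (d - F.deg i b).toNat) 2 : ℕ) : ℚ) else 0)
          = qq ((d : ℚ) - F.deg i b) := by
      intro i hi b
      have h1 := hD₀ i hi b
      have h2 := Q_eval_int 2 (d - F.deg i b) (by push_cast; omega)
      rw [Q2_eval] at h2
      have h3 : ((d - F.deg i b : ℤ) : ℚ) = (d : ℚ) - F.deg i b := by push_cast; ring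
      rw [h3] at h2
      rw [h2]
      by_cases hle : F.deg i b ≤ d
      · rw [if_pos hle, if_pos (by omega)]
        push_cast
        rfl
      · rw [if_neg hle, if_neg (by omega)]
        simp
    push_cast
    rw [Finset.sum_range_succ, Finset.sum_range_succ, Finset.sum_range_one]
    rw [Finset.sum_congr rfl (fun b _ => hterm 0 (by norm_num) b),
      Finset.sum_congr rfl (fun b _ => hterm 1 (by norm_num) b),
      Finset.sum_congr rfl (fun b _ => hterm 2 (by norm_num) b)]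
    ring
  have hbd : ∀ d : ℤ, D₀ ≤ d → 0 ≤ fQ d ∧ fQ d ≤ N := by
    intro d hd
    rw [← hH d hd]
    constructor
    · exact_mod_cast Int.natCast_nonneg _
    · exact_mod_cast hN d
  -- second differences
  have hd2 : ∀ x m : ℚ, fQ (x + 2 * m) - 2 * fQ (x + m) + fQ x =
      ((F.rk 0 : ℚ) - F.rk 1 + F.rk 2) * m ^ 2 := by
    intro x m
    have e0 := sum_qq_diff2 (F.deg 0) x m
    have e1 := sum_qq_diff2 (F.deg 1) x m
    have e2 := sum_qq_diff2 (F.deg 2) x m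
    rw [hfQ, hfQ, hfQ]
    linear_combination e0 - e1 + e2
  have hd1 : ∀ x m : ℚ, fQ (x + m) - fQ x =
      ((F.rk 0 : ℚ) - F.rk 1 + F.rk 2) * (m * (2 * x + m + 3) / 2) -
        m * ((∑ b, (F.deg 0 b : ℚ)) - (∑ b, (F.deg 1 b : ℚ)) + ∑ b, (F.deg 2 b : ℚ)) := by
    intro x m
    have e0 := sum_qq_diff1 (F.deg 0) x m
    have e1 := sum_qq_diff1 (F.deg 1) x m
    have e2 := sum_qq_diff1 (F.deg 2) x m
    rw [hfQ, hfQ]
    linear_combination e0 - e1 + e2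
  -- the alternating sum of ranks vanishes
  have hA : (F.rk 0 : ℤ) - F.rk 1 + F.rk 2 = 0 := by
    by_contra hne
    have habs : (1 : ℤ) ≤ |(F.rk 0 : ℤ) - F.rk 1 + F.rk 2| := Int.one_le_abs hne
    have h0 := hbd D₀ le_rfl
    have h1 := hbd (D₀ + (2 * N + 1)) (by omega)
    have h2 := hbd (D₀ + 2 * (2 * N + 1)) (by omega)
    have e := hd2 (D₀ : ℚ) ((2 * N + 1 : ℕ) : ℚ)
    have c1 : ((D₀ + (2 * N + 1) : ℤ) : ℚ) = (D₀ : ℚ) + ((2 * N + 1 : ℕ) : ℚ) := by push_cast; ring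
    have c2 : ((D₀ + 2 * (2 * N + 1) : ℤ) : ℚ) = (D₀ : ℚ) + 2 * ((2 * N + 1 : ℕ) : ℚ) := by
      push_cast; ring
    rw [c1] at h1
    rw [c2] at h2
    have hm : ((2 * N + 1 : ℕ) : ℚ) = 2 * (N : ℚ) + 1 := by push_cast; ring
    have hNq : (0 : ℚ) ≤ (N : ℚ) := Nat.cast_nonneg N
    rcases le_abs'.1 habs with hle | hge
    · have hq : ((F.rk 0 : ℚ) - F.rk 1 + F.rk 2) ≤ -1 := by exact_mod_cast hle
      rw [hm] at e h1 h2
      nlinarith [h0.1, h0.2, h1.1, h1.2, h2.1, h2.2]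
    · have hq : (1 : ℚ) ≤ ((F.rk 0 : ℚ) - F.rk 1 + F.rk 2) := by exact_mod_cast hge
      rw [hm] at e h1 h2
      nlinarith [h0.1, h0.2, h1.1, h1.2, h2.1, h2.2]
  refine ⟨hA, ?_⟩
  have hAq : ((F.rk 0 : ℚ) - F.rk 1 + F.rk 2) = 0 := by exact_mod_cast hA
  by_contra hne
  have habs : (1 : ℤ) ≤ |(∑ b, F.deg 0 b) - (∑ b, F.deg 1 b) + ∑ b, F.deg 2 b| :=
    Int.one_le_abs hne
  have h0 := hbd D₀ le_rfl
  have h1 := hbd (D₀ + (N + 1)) (by omega)
  have e := hd1 (D₀ : ℚ) ((N + 1 : ℕ) : ℚ)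
  rw [hAq, zero_mul, zero_sub] at e
  have c1 : ((D₀ + (N + 1) : ℤ) : ℚ) = (D₀ : ℚ) + ((N + 1 : ℕ) : ℚ) := by push_cast; ring
  rw [c1] at h1
  have hm : ((N + 1 : ℕ) : ℚ) = (N : ℚ) + 1 := by push_cast; ring
  have hNq : (0 : ℚ) ≤ (N : ℚ) := Nat.cast_nonneg N
  have hcast : (((∑ b, F.deg 0 b) - (∑ b, F.deg 1 b) + ∑ b, F.deg 2 b : ℤ) : ℚ) =
      (∑ b, (F.deg 0 b : ℚ)) - (∑ b, (F.deg 1 b : ℚ)) + ∑ b, (F.deg 2 b : ℚ) := by
    push_cast
    ring
  rcases le_abs'.1 habs with hle | hge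
  · have hq : (∑ b, (F.deg 0 b : ℚ)) - (∑ b, (F.deg 1 b : ℚ)) + ∑ b, (F.deg 2 b : ℚ) ≤ -1 := by
      rw [← hcast]
      exact_mod_cast hle
    rw [hm] at e h1
    nlinarith [h0.1, h0.2, h1.1, h1.2]
  · have hq : (1 : ℚ) ≤ (∑ b, (F.deg 0 b : ℚ)) - (∑ b, (F.deg 1 b : ℚ)) + ∑ b, (F.deg 2 b : ℚ) := by
      rw [← hcast]
      exact_mod_cast hge
    rw [hm] at e h1
    nlinarith [h0.1, h0.2, h1.1, h1.2]

end Groth.Agent.Lib27.HBurch
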