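import Groth.Agent.Lib27.HBurch3

/-!
# Hilbert–Burch degrees for points in the plane
-/

set_option autoImplicit false
set_option linter.unusedSectionVars false
set_option linter.unusedVariables false
set_option linter.style.haveILetI false

universe u

namespace Groth.Agent.Lib27.HBurch

open Groth.Agent.Lib27.GrMin Groth.Agent.Lib27.Syz Groth.Agent.Lib27.RegA Matrix MvPolynomial
  Groth.Agent.Lib27.CMReg Groth.Agent.Lib27.GrHilb

variable {k : Type u} [Field k]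
  {M : Type u} [AddCommGroup M] [Module k M] [Module (MvPolynomial (Fin (2 + 1)) k) M]
  [IsScalarTower k (MvPolynomial (Fin (2 + 1)) k) M]
  {ℳ : ℤ → Submodule k M} [DirectSum.Decomposition ℳ]
  [SetLike.GradedSMul (GrSyz.stdGr k (Fin (2 + 1))) ℳ]

theorem main (Z : Finset (Fin (2 + 1) → k)) (hZne : Z.Nonempty)
    (I : Ideal (MvPolynomial (Fin (2 + 1)) k))
    (hI : ∀ f : MvPolynomial (Fin (2 + 1)) k, f ∈ I ↔
      ∀ p ∈ Z, ∀ j : ℕ, MvPolynomial.eval p (MvPolynomial.homogeneousComponent j f) = 0)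
    (π : MvPolynomial (Fin (2 + 1)) k →ₗ[MvPolynomial (Fin (2 + 1)) k] M)
    (hπ : Function.Surjective π)
    (hπg : GrLC.IsGrHom (GrSyz.stdGr k (Fin (2 + 1))) ℳ π) (hker : LinearMap.ker π = I)
    (F : GrSyz.FreeRes (GrSyz.stdGr k (Fin (2 + 1))) ℳ)
    (hF : F.IsMinimal (GrSyz.irrel (GrSyz.stdGr k (Fin (2 + 1)))).toIdeal)
    (hlen : F.HasLengthLE 2)
    (t : ℕ) (h1 : F.rk 1 = t + 1) (h2 : F.rk 2 = t)
    (ha : ∀ i j : Fin (t + 1), i ≤ j →
      F.deg 1 (Fin.cast h1.symm j) ≤ F.deg 1 (Fin.cast h1.symm i))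
    (hb : ∀ i j : Fin t, i ≤ j → F.deg 2 (Fin.cast h2.symm j) ≤ F.deg 2 (Fin.cast h2.symm i)) :
    (∀ i : Fin t, 1 ≤ F.deg 2 (Fin.cast h2.symm i) - F.deg 1 (Fin.cast h1.symm i.castSucc) ∧
        1 ≤ F.deg 2 (Fin.cast h2.symm i) - F.deg 1 (Fin.cast h1.symm i.succ)) ∧
      ∑ i : Fin (t + 1), F.deg 1 (Fin.cast h1.symm i) = ∑ j : Fin t, F.deg 2 (Fin.cast h2.symm j) := by
  classical
  refine ⟨fun i => ineqs F hF (hlen 3 (by norm_num)) t h1 h2 ha hb i, ?_⟩
  have hN : ∀ d : ℤ, Module.finrank k ↥(ℳ d) ≤ Z.card :=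
    fun d => finrank_le_card Z I hI π hπ hπg hker d
  obtain ⟨hA, hB⟩ := alt_sums F hlen Z.card hN
  have hrk0 : F.rk 0 = 1 := by
    rw [h1, h2] at hA
    push_cast at hA
    omega
  obtain ⟨e₀, he₀⟩ : ∃ e₀ : Fin (F.rk 0), ∀ b : Fin (F.rk 0), b = e₀ := by
    refine ⟨⟨0, by omega⟩, fun b => Fin.ext ?_⟩
    have := b.2
    show b.val = 0
    omega
  have hsum0 : ∑ b, F.deg 0 b = F.deg 0 e₀ := by
    rw [Finset.sum_eq_single e₀ (fun b _ hb => absurd (he₀ b) hb)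
      (fun h => absurd (Finset.mem_univ e₀) h)]
  -- `π 1 ≠ 0`
  have hπ1 : π 1 ≠ 0 := by
    intro h0
    have h1I : (1 : MvPolynomial (Fin (2 + 1)) k) ∈ I := by
      rw [← hker]
      exact h0
    obtain ⟨p, hp⟩ := hZne
    have h3 := (hI 1).1 h1I p hp 0
    rw [homogeneousComponent_of_mem (MvPolynomial.isHomogeneous_one (Fin (2 + 1)) k), if_pos rfl,
      map_one] at h3
    exact one_ne_zero h3
  have hπ1mem : π 1 ∈ ℳ 0 := hπg 0 1 SetLike.GradedOne.one_mem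
  have hg : F.aug e₀ ∈ ℳ (F.deg 0 e₀) := F.aug_mem e₀
  have hgen : ∀ y : M, ∃ s : MvPolynomial (Fin (2 + 1)) k, s • F.aug e₀ = y := by
    intro y
    obtain ⟨v, hv⟩ := F.aug_surjective y
    refine ⟨v e₀, ?_⟩
    rw [← hv, Fintype.linearCombination_apply,
      Finset.sum_eq_single e₀ (fun b _ hb => absurd (he₀ b) hb)
        (fun h => absurd (Finset.mem_univ e₀) h)]
  have hc0 : F.deg 0 e₀ = 0 := by
    apply le_antisymm
    · by_contra hc
      push Not at hc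
      obtain ⟨s, hs⟩ := hgen (π 1)
      apply hπ1
      have h3 := projToM_smul_of_mem (GrSyz.stdGr k (Fin (2 + 1))) ℳ (q := 0) s hg
      rw [hs, projToM_of_mem ℳ hπ1mem] at h3
      rw [h3]
      have h4 : (projTo (GrSyz.stdGr k (Fin (2 + 1))) (0 - F.deg 0 e₀) s :
          MvPolynomial (Fin (2 + 1)) k) = 0 :=
        stdGr_neg k 2 _ (by omega) _ (SetLike.coe_mem _)
      rw [h4, zero_smul]
    · by_contra hc
      push Not at hc
      have hg0 : F.aug e₀ ≠ 0 := by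
        intro h0
        obtain ⟨s, hs⟩ := hgen (π 1)
        apply hπ1
        rw [← hs, h0, smul_zero]
      apply hg0
      obtain ⟨h, hh⟩ := hπ (F.aug e₀)
      have h3 := Groth.Agent.Lib.Helper11.GrLCLib.decompose_map (GrSyz.stdGr k (Fin (2 + 1))) ℳ
        hπg h (F.deg 0 e₀)
      rw [hh, DirectSum.decompose_of_mem_same ℳ hg] at h3
      rw [h3]
      have h4 : (DirectSum.decompose (GrSyz.stdGr k (Fin (2 + 1))) h (F.deg 0 e₀) :
          MvPolynomial (Fin (2 + 1)) k) = 0 :=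
        stdGr_neg k 2 _ hc _ (SetLike.coe_mem _)
      rw [h4, map_zero]
  have hs1 : ∑ b, F.deg 1 b = ∑ i : Fin (t + 1), F.deg 1 (Fin.cast h1.symm i) :=
    Fintype.sum_equiv (finCongr h1) _ _ (fun b => by simp)
  have hs2 : ∑ b, F.deg 2 b = ∑ j : Fin t, F.deg 2 (Fin.cast h2.symm j) :=
    Fintype.sum_equiv (finCongr h2) _ _ (fun b => by simp)
  rw [hsum0, hc0, hs1, hs2] at hB
  omega

end Groth.Agent.Lib27.HBurch
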