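import Mathlib

/-!
# Half-exact linear functors vanishing on the residue field vanish (helper27)
-/

set_option autoImplicit false
universe u
open CategoryTheory

namespace Groth.Agent.Lib27.HalfExact

variable {B A : Type u} [CommRing B] [CommRing A] [Algebra B A]
variable (T : ModuleCat.{u} B ⥤ ModuleCat.{u} A) [T.Additive]

/-- the half-exactness step -/
theorem isZero_mid
    (hex : ∀ S : ShortComplex (ModuleCat.{u} B), S.ShortExact → Module.Finite B S.X₁ →
      Module.Finite B S.X₂ → Module.Finite B S.X₃ → (S.map T).Exact)
    (N₁ N₂ N₃ : Type u) [AddCommGroup N₁] [Module B N₁] [Module.Finite B N₁]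
    [AddCommGroup N₂] [Module B N₂] [Module.Finite B N₂]
    [AddCommGroup N₃] [Module B N₃] [Module.Finite B N₃]
    (f : N₁ →ₗ[B] N₂) (g : N₂ →ₗ[B] N₃)
    (hf : Function.Injective f) (hg : Function.Surjective g) (hfg : Function.Exact f g)
    (h1 : Limits.IsZero (T.obj (ModuleCat.of B N₁))) (h3 : Limits.IsZero (T.obj (ModuleCat.of B N₃))) :
    Limits.IsZero (T.obj (ModuleCat.of B N₂)) := by
  have eq0 : g.comp f = 0 := by
    ext x
    exact hfg.apply_apply_eq_zero x
  let S := ModuleCat.shortComplexOfCompEqZero f g eq0
  have hS : S.ShortExact := ModuleCat.shortComplex_shortExact S hfg hf hg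
  have hE := hex S hS (inferInstanceAs (Module.Finite B N₁)) (inferInstanceAs (Module.Finite B N₂))
    (inferInstanceAs (Module.Finite B N₃))
  exact hE.isZero_of_both_isZero h1 h3

theorem isZero_of_equiv (N N' : Type u) [AddCommGroup N] [Module B N] [AddCommGroup N'] [Module B N']
    (e : N ≃ₗ[B] N') (h : Limits.IsZero (T.obj (ModuleCat.of B N))) :
    Limits.IsZero (T.obj (ModuleCat.of B N')) :=
  h.of_iso (T.mapIso e.toModuleIso).symm

variable [IsNoetherianRing B] [IsLocalRing B] [IsLocalRing A]
  [IsLocalHom (algebraMap B A)]

theorem main
    (hlin : ∀ (N : ModuleCat.{u} B) (b : B),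
      T.map (ModuleCat.ofHom (b • (LinearMap.id : N →ₗ[B] N))) =
        ModuleCat.ofHom (algebraMap B A b • (LinearMap.id : T.obj N →ₗ[A] T.obj N)))
    (hfin : ∀ N : ModuleCat.{u} B, Module.Finite B N → Module.Finite A (T.obj N))
    (hex : ∀ S : ShortComplex (ModuleCat.{u} B), S.ShortExact → Module.Finite B S.X₁ →
      Module.Finite B S.X₂ → Module.Finite B S.X₃ → (S.map T).Exact)
    (h0 : Limits.IsZero (T.obj (ModuleCat.of B (B ⧸ IsLocalRing.maximalIdeal B))))
    (N : Type u) [AddCommGroup N] [Module B N] [hN : Module.Finite B N] :
    Limits.IsZero (T.obj (ModuleCat.of B N)) := by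
  -- filtration argument: enough to treat quotients by primes containing `J`
  have filt : ∀ (J : Ideal B),
      (∀ q : Ideal B, q.IsPrime → J ≤ q → Limits.IsZero (T.obj (ModuleCat.of B (B ⧸ q)))) →
      ∀ (M : Type u) [AddCommGroup M] [Module B M] [Module.Finite B M],
        J ≤ Module.annihilator B M → Limits.IsZero (T.obj (ModuleCat.of B M)) := by
    intro J hJ M _ _ hM
    induction hM using IsNoetherianRing.induction_on_isQuotientEquivQuotientPrime B with
    | subsingleton M =>
      intro _
      apply Functor.map_isZero
      exact ModuleCat.isZero_of_subsingleton _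
    | quotient M p e =>
      intro hle
      have h1 : Module.annihilator B M = p.asIdeal := by
        rw [e.annihilator_eq, Ideal.annihilator_quotient]
      rw [h1] at hle
      exact isZero_of_equiv T _ _ e.symm (hJ p.asIdeal p.isPrime hle)
    | exact M₁ M₂ M₃ f g hf hg hfg ih1 ih3 =>
      intro hle
      have hle1 : J ≤ Module.annihilator B M₁ := by
        intro b hb
        rw [Module.mem_annihilator]
        intro m
        apply hf
        rw [map_smul, map_zero]
        exact Module.mem_annihilator.mp (hle hb) (f m)
      have hle3 : J ≤ Module.annihilator B M₃ := by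
        intro b hb
        rw [Module.mem_annihilator]
        intro m
        obtain ⟨m', rfl⟩ := hg m
        rw [← map_smul, Module.mem_annihilator.mp (hle hb) m', map_zero]
      exact isZero_mid T hex M₁ M₂ M₃ f g hf hg hfg (ih1 hle1) (ih3 hle3)
  -- primes
  have primes : ∀ p : Ideal B, p.IsPrime → Limits.IsZero (T.obj (ModuleCat.of B (B ⧸ p))) := by
    intro p
    induction p using WellFoundedGT.induction with
    | ind p ih =>
      intro hp
      by_cases hpn : p = IsLocalRing.maximalIdeal B
      · rw [hpn]; exact h0
      · have hlt : p < IsLocalRing.maximalIdeal B :=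
          lt_of_le_of_ne (IsLocalRing.le_maximalIdeal hp.ne_top) hpn
        obtain ⟨b, hbn, hbp⟩ := Set.exists_of_ssubset hlt
        set J : Ideal B := p ⊔ Ideal.span {b} with hJ
        have hpJ : p < J := by
          refine lt_of_le_of_ne le_sup_left ?_
          intro h
          apply hbp
          rw [h]
          exact Ideal.mem_sup_right (Ideal.subset_span rfl)
        have hJzero : Limits.IsZero (T.obj (ModuleCat.of B (B ⧸ J))) := by
          apply filt J (fun q hq hle => ih q (lt_of_lt_of_le hpJ hle) hq) (B ⧸ J)
          rw [Ideal.annihilator_quotient]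
        -- the exact sequence `0 → B/p → B/p → B/J → 0`
        let f : (B ⧸ p) →ₗ[B] (B ⧸ p) := b • LinearMap.id
        let g : (B ⧸ p) →ₗ[B] (B ⧸ J) := Submodule.mapQ p J LinearMap.id (by
          intro x hx; exact (le_sup_left : p ≤ J) hx)
        have hf : Function.Injective f := by
          rw [injective_iff_map_eq_zero]
          intro y hy
          obtain ⟨x, rfl⟩ := Ideal.Quotient.mk_surjective y
          have : (Ideal.Quotient.mk p) (b * x) = 0 := by
            simpa [f, Algebra.smul_def] using hy
          rw [Ideal.Quotient.eq_zero_iff_mem] at this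
          rcases hp.mem_or_mem this with h | h
          · exact absurd h hbp
          · exact Ideal.Quotient.eq_zero_iff_mem.mpr h
        have hg : Function.Surjective g := by
          intro y
          obtain ⟨x, rfl⟩ := Ideal.Quotient.mk_surjective y
          exact ⟨Ideal.Quotient.mk p x, rfl⟩
        have hfg : Function.Exact f g := by
          intro y
          obtain ⟨x, rfl⟩ := Ideal.Quotient.mk_surjective y
          constructor
          · intro h
            have h' : (Ideal.Quotient.mk J) x = 0 := h
            rw [Ideal.Quotient.eq_zero_iff_mem, hJ, Submodule.mem_sup] at h'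
            obtain ⟨u, hu, v, hv, huv⟩ := h'
            obtain ⟨c, rfl⟩ := Ideal.mem_span_singleton'.mp hv
            refine ⟨Ideal.Quotient.mk p c, ?_⟩
            show b • (Ideal.Quotient.mk p c) = Ideal.Quotient.mk p x
            rw [← huv, Algebra.smul_def, map_add]
            have : (Ideal.Quotient.mk p) u = 0 := Ideal.Quotient.eq_zero_iff_mem.mpr hu
            rw [this, zero_add, mul_comm c b, map_mul]
            rfl
          · rintro ⟨z, hz⟩
            obtain ⟨c, rfl⟩ := Ideal.Quotient.mk_surjective z
            have hz' : b • (Ideal.Quotient.mk p c) = Ideal.Quotient.mk p x := hz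
            show (Ideal.Quotient.mk J) x = 0
            rw [Ideal.Quotient.eq_zero_iff_mem]
            have h2 : (Ideal.Quotient.mk p) (b * c - x) = 0 := by
              rw [map_sub, ← hz', Algebra.smul_def, map_mul]
              simp
            rw [Ideal.Quotient.eq_zero_iff_mem] at h2
            have : x = b * c - (b * c - x) := by ring
            rw [this]
            apply Ideal.sub_mem
            · exact Ideal.mul_mem_right _ _ (Ideal.mem_sup_right (Ideal.subset_span rfl))
            · exact (le_sup_left : p ≤ J) h2
        have eq0 : g.comp f = 0 := by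
          apply LinearMap.ext
          intro x
          exact hfg.apply_apply_eq_zero x
        let S := ModuleCat.shortComplexOfCompEqZero f g eq0
        have hS : S.ShortExact := ModuleCat.shortComplex_shortExact S hfg hf hg
        have hE := hex S hS (inferInstanceAs (Module.Finite B (B ⧸ p)))
          (inferInstanceAs (Module.Finite B (B ⧸ p))) (inferInstanceAs (Module.Finite B (B ⧸ J)))
        -- multiplication by `b` is surjective on `T (B/p)`
        have hzero_g : (S.map T).g = 0 := hJzero.eq_of_tgt _ _
        have hsurj : Function.Surjective ((S.map T).f) := by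
          have := (ShortComplex.ShortExact.moduleCat_exact_iff_function_exact (S.map T)).mp hE
          intro y
          have hy : (S.map T).g y = 0 := by rw [hzero_g]; rfl
          exact (this y).mp hy
        have hTf : (S.map T).f = ModuleCat.ofHom (algebraMap B A b •
            (LinearMap.id : T.obj (ModuleCat.of B (B ⧸ p)) →ₗ[A] T.obj (ModuleCat.of B (B ⧸ p)))) :=
          hlin (ModuleCat.of B (B ⧸ p)) b
        haveI : Module.Finite A (T.obj (ModuleCat.of B (B ⧸ p))) :=
          hfin _ (inferInstanceAs (Module.Finite B (B ⧸ p)))
        have hmem : algebraMap B A b ∈ IsLocalRing.maximalIdeal A := by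
          rw [IsLocalRing.mem_maximalIdeal]
          intro hu
          have hb' : b ∈ nonunits B := hbn
          exact hb' (isUnit_of_map_unit (algebraMap B A) b hu)
        have htop : (⊤ : Submodule A (T.obj (ModuleCat.of B (B ⧸ p)))) = ⊥ := by
          apply Submodule.eq_bot_of_le_smul_of_le_jacobson_bot (IsLocalRing.maximalIdeal A) ⊤
            Module.Finite.fg_top
          · intro y _
            obtain ⟨z, hz⟩ := hsurj y
            rw [hTf] at hz
            have : y = algebraMap B A b • z := hz.symm
            rw [this]
            exact Submodule.smul_mem_smul hmem Submodule.mem_top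
          · rw [IsLocalRing.jacobson_eq_maximalIdeal ⊥ bot_ne_top]
        have hsub : Subsingleton (T.obj (ModuleCat.of B (B ⧸ p))) := by
          constructor
          intro x y
          have hx : x ∈ (⊥ : Submodule A _) := htop ▸ Submodule.mem_top
          have hy : y ∈ (⊥ : Submodule A _) := htop ▸ Submodule.mem_top
          rw [Submodule.mem_bot] at hx hy
          rw [hx, hy]
        exact ModuleCat.isZero_of_subsingleton _
  exact filt ⊥ (fun q hq _ => primes q hq) N bot_le

end Groth.Agent.Lib27.HalfExact
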