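import Mathlib
import Groth.Prelude.Def_DerLim
import Groth.Agent.Lib27.CptEnv
import Groth.Agent.Lib27.BrownCpt

/-!
# Maps from compact objects to homotopy colimits factor through a stage (helper27)
-/

set_option autoImplicit false
universe v u

open CategoryTheory CategoryTheory.Limits CategoryTheory.Pretriangulated Opposite
open scoped ZeroObject

namespace Groth.Agent.Lib27.HocolimCpt

open Groth.Agent.Lib27.CptEnv

section Fin

variable {D : Type u} [Category.{v} D] [Preadditive D] [HasCoproducts.{v} D]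
  [HasColimitsOfShape (Discrete ℕ) D]

/-- maps from a compact object to a countable coproduct have finite support. -/
lemma exists_finsupp_nat {W : D} (hW : Cpt W) (Y : ℕ → D) (α : W ⟶ ∐ Y) :
    ∃ (t : Finset ℕ) (a : ∀ n, W ⟶ Y n), α = ∑ k ∈ t, a k ≫ Sigma.ι Y k := by
  classical
  let ε : ULift.{v} ℕ ≃ ℕ := Equiv.ulift
  let r := Sigma.reindex ε Y
  obtain ⟨t, ht⟩ := hW (ULift.{v} ℕ) (Y ∘ ε) (α ≫ r.inv)
  let a : ∀ k : ULift.{v} ℕ, W ⟶ Y k.down := fun k => (α ≫ r.inv) ≫ Sigma.π (Y ∘ ε) k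
  have hα : α = ∑ k ∈ t, a k ≫ Sigma.ι Y k.down := by
    have h1 : α = ((α ≫ r.inv) ≫ proj (Y ∘ ε) t) ≫ r.hom := by
      rw [ht, Category.assoc, r.inv_hom_id, Category.comp_id]
    conv_lhs => rw [h1, proj_eq_sum', Preadditive.comp_sum, Preadditive.sum_comp]
    apply Finset.sum_congr rfl
    intro k _
    have h2 : Sigma.ι (Y ∘ ε) k ≫ r.hom = Sigma.ι Y k.down := Sigma.ι_reindex_hom ε Y k
    calc ((α ≫ r.inv) ≫ Sigma.π (Y ∘ ε) k ≫ Sigma.ι (Y ∘ ε) k) ≫ r.hom
        = ((α ≫ r.inv) ≫ Sigma.π (Y ∘ ε) k) ≫ (Sigma.ι (Y ∘ ε) k ≫ r.hom) := by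
          simp only [Category.assoc]
      _ = a k ≫ Sigma.ι Y k.down :=
          congrArg (fun z => ((α ≫ r.inv) ≫ Sigma.π (Y ∘ ε) k) ≫ z) h2
  refine ⟨t.map ε.toEmbedding, fun n => a (ULift.up n), ?_⟩
  rw [hα, Finset.sum_map]
  rfl

variable (K : ℕ → D) (f : ∀ n, K n ⟶ K (n + 1))

lemma shiftMap_π_zero : DerLim.shiftMap K f ≫ Sigma.π K 0 = 0 := by
  apply Sigma.hom_ext
  intro k
  dsimp only [DerLim.shiftMap]
  rw [← Category.assoc, Sigma.ι_desc, Category.assoc, Sigma.ι_π_of_ne K (Nat.succ_ne_zero k),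
    comp_zero, comp_zero]

lemma shiftMap_π_succ (m : ℕ) :
    DerLim.shiftMap K f ≫ Sigma.π K (m + 1) = Sigma.π K m ≫ f m := by
  apply Sigma.hom_ext
  intro k
  dsimp only [DerLim.shiftMap]
  rw [← Category.assoc, Sigma.ι_desc, Category.assoc, ← Category.assoc (Sigma.ι K k)]
  by_cases h : k = m
  · subst h
    rw [Sigma.ι_π_eq_id, Sigma.ι_π_eq_id, Category.comp_id, Category.id_comp]
  · have h' : k + 1 ≠ m + 1 := fun h'' => h (Nat.succ_injective h'')
    rw [Sigma.ι_π_of_ne K h, Sigma.ι_π_of_ne K h', comp_zero, zero_comp]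

/-- a fixed point of the shift map with compact source vanishes. -/
lemma eq_zero_of_comp_shiftMap_eq {W : D} (hW : Cpt W) (θ : W ⟶ ∐ K)
    (hθ : θ ≫ DerLim.shiftMap K f = θ) : θ = 0 := by
  have h0 : ∀ m, θ ≫ Sigma.π K m = 0 := by
    intro m
    induction m with
    | zero => rw [← hθ, Category.assoc, shiftMap_π_zero, comp_zero]
    | succ m ih =>
      rw [← hθ, Category.assoc, shiftMap_π_succ, ← Category.assoc, ih, zero_comp]
  obtain ⟨t, a, ha⟩ := exists_finsupp_nat hW K θ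
  have h1 : ∀ m ∈ t, a m = 0 := by
    intro m hm
    have := h0 m
    rw [ha, Preadditive.sum_comp, Finset.sum_eq_single_of_mem m hm] at this
    · rwa [Category.assoc, Sigma.ι_π_eq_id, Category.comp_id] at this
    · intro k _ hk
      rw [Category.assoc, Sigma.ι_π_of_ne K hk, comp_zero]
  rw [ha]
  apply Finset.sum_eq_zero
  intro k hk
  rw [h1 k hk, zero_comp]

end Fin

section Tri

variable {D : Type u} [Category.{v} D] [Preadditive D] [HasZeroObject D] [HasShift D ℤ]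
  [∀ n : ℤ, (shiftFunctor D n).Additive] [Pretriangulated D] [HasCoproducts.{v} D]
  [HasColimitsOfShape (Discrete ℕ) D]
  (K : ℕ → D) (f : ∀ n, K n ⟶ K (n + 1)) {L : D} (inj : ∀ n, K n ⟶ L)

include f in
lemma inj_eq_of_le (hL : DerLim.IsHocolim K f L inj) {k N : ℕ} (h : k ≤ N) :
    ∃ g : K k ⟶ K N, inj k = g ≫ inj N := by
  obtain ⟨c, hc⟩ := hL
  have hσπ : (𝟙 _ - DerLim.shiftMap K f) ≫ Sigma.desc inj = 0 := comp_distTriang_mor_zero₁₂ _ hc
  have hstep : ∀ k, inj k = f k ≫ inj (k + 1) := by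
    intro k
    have := congrArg (fun z => Sigma.ι K k ≫ z) hσπ
    simp only [comp_zero, Preadditive.sub_comp, Category.id_comp, Preadditive.comp_sub,
      Sigma.ι_desc, sub_eq_zero] at this
    rw [this]
    dsimp only [DerLim.shiftMap]
    rw [← Category.assoc, Sigma.ι_desc, Category.assoc, Sigma.ι_desc]
  induction N, h using Nat.le_induction with
  | base => exact ⟨𝟙 _, (Category.id_comp _).symm⟩
  | succ N _ ih =>
    obtain ⟨g, hg⟩ := ih
    exact ⟨g ≫ f N, by rw [hg, hstep N, Category.assoc]⟩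

/-- a map from a compact object to a homotopy colimit factors through a stage. -/
theorem exists_factor_stage (hL : DerLim.IsHocolim K f L inj) {W : D} (hW : Cpt W) (α : W ⟶ L) :
    ∃ (N : ℕ) (β : W ⟶ K N), α = β ≫ inj N := by
  have hL' := hL
  obtain ⟨c, hc⟩ := hL
  -- first: α ≫ c = 0
  have h1 : α ≫ c = 0 := by
    let adj : shiftFunctor D (-1 : ℤ) ⊣ shiftFunctor D (1 : ℤ) :=
      (shiftEquiv D (1 : ℤ)).symm.toAdjunction
    let θ' : (shiftFunctor D (-1 : ℤ)).obj W ⟶ ∐ K := (adj.homEquiv _ _).symm (α ≫ c)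
    have hθ' : θ' ≫ (𝟙 _ - DerLim.shiftMap K f) = 0 := by
      apply (adj.homEquiv _ _).injective
      rw [Adjunction.homEquiv_naturality_right, Equiv.apply_symm_apply, Category.assoc]
      have : c ≫ (shiftFunctor D (1 : ℤ)).map (𝟙 _ - DerLim.shiftMap K f) = 0 :=
        comp_distTriang_mor_zero₃₁ _ hc
      rw [this, comp_zero]
      simp [Adjunction.homEquiv_unit]
    have hθ : θ' ≫ DerLim.shiftMap K f = θ' := by
      rw [Preadditive.comp_sub, Category.comp_id, sub_eq_zero] at hθ'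
      exact hθ'.symm
    have h0 : θ' = 0 := eq_zero_of_comp_shiftMap_eq K f (cpt_shift hW (-1)) θ' hθ
    have := congrArg (adj.homEquiv _ _) h0
    rw [Equiv.apply_symm_apply] at this
    rw [this]
    simp [Adjunction.homEquiv_unit]
  obtain ⟨ψ, hψ⟩ : ∃ ψ : W ⟶ ∐ K, α = ψ ≫ Sigma.desc inj := Triangle.coyoneda_exact₃ _ hc α h1
  obtain ⟨t, a, ha⟩ := exists_finsupp_nat hW K ψ
  let N := t.sup id
  have hg : ∀ k ∈ t, ∃ g : K k ⟶ K N, inj k = g ≫ inj N := fun k hk =>
    inj_eq_of_le K f inj hL' (Finset.le_sup (f := id) hk)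
  let g : ∀ k, K k ⟶ K N := fun k => if hk : k ∈ t then (hg k hk).choose else 0
  have hg' : ∀ k ∈ t, inj k = g k ≫ inj N := by
    intro k hk
    simp only [g, dif_pos hk]
    exact (hg k hk).choose_spec
  refine ⟨N, ∑ k ∈ t, a k ≫ g k, ?_⟩
  rw [hψ, ha, Preadditive.sum_comp, Preadditive.sum_comp]
  apply Finset.sum_congr rfl
  intro k hk
  rw [Category.assoc, Sigma.ι_desc, Category.assoc, hg' k hk]

end Tri

end Groth.Agent.Lib27.HocolimCpt
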