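import Mathlib
import Groth.Prelude.Def_DerLim

/-!
# The sequence `0 → ⨁ Fₙ → ⨁ Fₙ → colim F → 0` for a sequential diagram
-/

set_option autoImplicit false
universe v u

open CategoryTheory CategoryTheory.Limits

namespace Groth.Agent.Lib27.SeqColim

section Pre

variable {A : Type u} [Category.{v} A] [Preadditive A] (X : ℕ → A) [HasCoproduct X]

/-- projector on the first `N` summands -/
noncomputable def projN (N : ℕ) : (∐ X) ⟶ ∐ X :=
  Sigma.desc (fun i => if i < N then Sigma.ι X i else 0)

@[reassoc]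
lemma ι_projN_of_lt {N i : ℕ} (h : i < N) : Sigma.ι X i ≫ projN X N = Sigma.ι X i := by
  simp [projN, h]

@[reassoc]
lemma ι_projN_of_le {N i : ℕ} (h : N ≤ i) : Sigma.ι X i ≫ projN X N = 0 := by
  simp [projN, Nat.not_lt.2 h]

lemma projN_zero : projN X 0 = 0 := by
  apply Sigma.hom_ext
  intro i
  rw [ι_projN_of_le X (Nat.zero_le i), comp_zero]

end Pre

section Seq

variable {A : Type u} [Category.{v} A] [Preadditive A] (F : ℕ ⥤ A) [HasCoproduct F.obj]

/-- the shift endomorphism -/
noncomputable abbrev sh : (∐ F.obj) ⟶ ∐ F.obj :=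
  DerLim.shiftMap F.obj (fun n => F.map (homOfLE (Nat.le_succ n)))

@[reassoc]
lemma ι_sh (n : ℕ) : Sigma.ι F.obj n ≫ sh F =
    F.map (homOfLE (Nat.le_succ n)) ≫ Sigma.ι F.obj (n + 1) := by
  simp [sh, DerLim.shiftMap]

/-- the partial sum map to `F N` -/
noncomputable def sumTo (N : ℕ) : (∐ F.obj) ⟶ F.obj N :=
  Sigma.desc (fun i => if h : i ≤ N then F.map (homOfLE h) else 0)

@[reassoc]
lemma ι_sumTo_of_le {N i : ℕ} (h : i ≤ N) : Sigma.ι F.obj i ≫ sumTo F N = F.map (homOfLE h) := by
  simp [sumTo, h]

@[reassoc]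
lemma ι_sumTo_of_lt {N i : ℕ} (h : N < i) : Sigma.ι F.obj i ≫ sumTo F N = 0 := by
  simp [sumTo, Nat.not_le.2 h]

lemma projN_succ (N : ℕ) :
    projN F.obj (N + 1) = projN F.obj N + (𝟙 _ - sh F) ≫ sumTo F N ≫ Sigma.ι F.obj N := by
  apply Sigma.hom_ext
  intro i
  rw [Preadditive.comp_add, Preadditive.sub_comp, Preadditive.comp_sub, Category.id_comp,
    ι_sh_assoc]
  rcases lt_trichotomy i N with h | h | h
  · rw [ι_projN_of_lt _ (by omega), ι_projN_of_lt _ h, ι_sumTo_of_le_assoc F h.le,
      ι_sumTo_of_le_assoc F (show i + 1 ≤ N by omega), ← F.map_comp_assoc]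
    rw [show (homOfLE (Nat.le_succ i) ≫ homOfLE (show i + 1 ≤ N by omega)) = homOfLE h.le from rfl]
    simp
  · subst h
    rw [ι_projN_of_lt _ (by omega), ι_projN_of_le _ le_rfl, ι_sumTo_of_le_assoc F le_rfl,
      ι_sumTo_of_lt_assoc F (show i < i + 1 by omega)]
    simp
  · rw [ι_projN_of_le _ (by omega), ι_projN_of_le _ h.le, ι_sumTo_of_lt_assoc F h,
      ι_sumTo_of_lt_assoc F (show N < i + 1 by omega)]
    simp

lemma comp_projN_eq_zero {Z : A} (k : Z ⟶ ∐ F.obj) (hk : k ≫ (𝟙 _ - sh F) = 0) (N : ℕ) :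
    k ≫ projN F.obj N = 0 := by
  induction N with
  | zero => rw [projN_zero, comp_zero]
  | succ N ih => rw [projN_succ, Preadditive.comp_add, ih, reassoc_of% hk, zero_comp, add_zero]

end Seq

section Tail

variable {A : Type u} [Category.{v} A] [Preadditive A] (X : ℕ → A) [HasCoproduct X]

/-- the diagram `∐ X → ∐ X → …` with transition maps `1 - projN (N+1)`; its colimit vanishes. -/
noncomputable def tailDiag : ℕ ⥤ A :=
  Functor.ofSequence (X := fun _ => ∐ X) (fun N => 𝟙 _ - projN X (N + 1))

lemma tailDiag_map_succ (N : ℕ) :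
    (tailDiag X).map (homOfLE (Nat.le_add_right N 1)) = 𝟙 _ - projN X (N + 1) :=
  Functor.ofSequence_map_homOfLE_succ _ N

lemma tailDiag_cocone_zero (c : Cocone (tailDiag X)) (N : ℕ) : c.ι.app N = 0 := by
  let cc : ℕ → ((∐ X) ⟶ c.pt) := fun N => c.ι.app N
  have hw : ∀ N, (𝟙 (∐ X) - projN X (N + 1)) ≫ cc (N + 1) = cc N := by
    intro N
    have := c.w (homOfLE (Nat.le_add_right N 1))
    rw [tailDiag_map_succ] at this
    exact this
  have key : ∀ d N i, i ≤ N + d → Sigma.ι X i ≫ cc N = 0 := by
    intro d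
    induction d with
    | zero =>
      intro N i hi
      rw [← hw N, Preadditive.sub_comp, Preadditive.comp_sub, Category.id_comp,
        ι_projN_of_lt_assoc X (by omega), sub_self]
    | succ d ih =>
      intro N i hi
      have h1 := ih (N + 1) i (by omega)
      rw [← hw N]
      by_cases h : i < N + 1
      · rw [Preadditive.sub_comp, Preadditive.comp_sub, Category.id_comp,
          ι_projN_of_lt_assoc X h, sub_self]
      · rw [Preadditive.sub_comp, Preadditive.comp_sub, Category.id_comp,
          ι_projN_of_le_assoc X (by omega), zero_comp, sub_zero]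
        exact h1
  change cc N = 0
  apply Sigma.hom_ext
  intro i
  rw [comp_zero]
  exact key i N i (by omega)

end Tail

section Ab

variable {A : Type u} [Category.{v} A] [Abelian A]
  [HasColimitsOfShape ℕ A] [HasExactColimitsOfShape ℕ A]

/-- a subobject of a countable coproduct killed by all finite projectors is zero. -/
lemma isZero_of_comp_projN (X : ℕ → A) [HasCoproduct X] {Z : A} (k : Z ⟶ ∐ X) [Mono k]
    (hk : ∀ N, k ≫ projN X N = 0) : IsZero Z := by
  let α : (Functor.const ℕ).obj Z ⟶ tailDiag X :=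
    NatTrans.ofSequence (fun _ => k) (by
      intro N
      rw [tailDiag_map_succ]
      change 𝟙 Z ≫ k = k ≫ (𝟙 _ - projN X (N + 1))
      rw [Preadditive.comp_sub, hk, sub_zero, Category.id_comp, Category.comp_id])
  haveI : Mono α := by
    haveI : ∀ N, Mono (α.app N) := fun N => by
      change Mono k
      infer_instance
    exact NatTrans.mono_of_mono_app α
  haveI : PreservesFiniteLimits (colim (J := ℕ) (C := A)) :=
    HasExactColimitsOfShape.preservesFiniteLimits
  haveI : Mono (colim.map α) := inferInstance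
  have h0 : colimit.ι ((Functor.const ℕ).obj Z) 0 ≫ colim.map α = 0 := by
    change colimit.ι ((Functor.const ℕ).obj Z) 0 ≫ colimMap α = 0
    rw [ι_colimMap]
    have := tailDiag_cocone_zero X (colimit.cocone (tailDiag X)) 0
    change colimit.ι (tailDiag X) 0 = 0 at this
    rw [this, comp_zero]
  have h1 : colimit.ι ((Functor.const ℕ).obj Z) 0 = 0 := by
    rw [← cancel_mono (colim.map α), h0, zero_comp]
  rw [IsZero.iff_id_eq_zero]
  have h2 : colimit.ι ((Functor.const ℕ).obj Z) 0 ≫
      colimit.desc ((Functor.const ℕ).obj Z) ⟨Z, 𝟙 _⟩ = 𝟙 Z := by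
    rw [colimit.ι_desc]
    rfl
  rw [← h2, h1, zero_comp]

lemma mono_one_sub_sh (F : ℕ ⥤ A) [HasCoproduct F.obj] : Mono (𝟙 (∐ F.obj) - sh F) := by
  apply Preadditive.mono_of_kernel_zero
  have hz := isZero_of_comp_projN F.obj (kernel.ι (𝟙 (∐ F.obj) - sh F))
    (fun N => comp_projN_eq_zero F _ (kernel.condition _) N)
  exact hz.eq_of_src _ _

end Ab

section Coker

variable {A : Type u} [Category.{v} A] [Preadditive A] (F : ℕ ⥤ A) [HasCoproduct F.obj]
  [HasColimit F]

/-- the canonical map `∐ F ⟶ colim F`. -/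
noncomputable abbrev toColim : (∐ F.obj) ⟶ colimit F := Sigma.desc (fun n => colimit.ι F n)

lemma one_sub_sh_toColim : (𝟙 (∐ F.obj) - sh F) ≫ toColim F = 0 := by
  apply Sigma.hom_ext
  intro n
  rw [Preadditive.sub_comp, Preadditive.comp_sub, Category.id_comp, ι_sh_assoc, comp_zero]
  simp

instance : Epi (toColim F) where
  left_cancellation g h hgh := by
    apply colimit.hom_ext
    intro n
    have := Sigma.ι F.obj n ≫= hgh
    simpa using this

/-- `toColim` is a cokernel of `1 - sh`. -/
noncomputable def isColimitCokernelCofork :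
    IsColimit (CokernelCofork.ofπ (toColim F) (one_sub_sh_toColim F)) :=
  CokernelCofork.IsColimit.ofπ _ _
    (fun {Z} g hg => colimit.desc F
      { pt := Z
        ι := NatTrans.ofSequence (fun n => Sigma.ι F.obj n ≫ g) (by
          intro n
          have := Sigma.ι F.obj n ≫= hg
          rw [Preadditive.sub_comp, Preadditive.comp_sub, Category.id_comp, ι_sh_assoc, comp_zero,
            sub_eq_zero] at this
          dsimp
          rw [Category.comp_id, this]) })
    (fun {Z} g hg => by
      apply Sigma.hom_ext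
      intro n
      simp)
    (fun {Z} g hg b hb => by
      apply colimit.hom_ext
      intro n
      rw [colimit.ι_desc]
      subst hb
      simp)

end Coker

section Main

variable {A : Type u} [Category.{v} A] [Abelian A]
  [HasColimitsOfShape ℕ A] [HasExactColimitsOfShape ℕ A]

lemma shortExact (F : ℕ ⥤ A) [HasCoproduct F.obj] :
    (ShortComplex.mk _ _ (one_sub_sh_toColim F)).ShortExact := by
  haveI := mono_one_sub_sh F
  exact
    { exact := ShortComplex.exact_of_g_is_cokernel _ (isColimitCokernelCofork F)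
      mono_f := by dsimp; infer_instance
      epi_g := by dsimp; infer_instance }

end Main

end Groth.Agent.Lib27.SeqColim
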