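import Mathlib
import Groth.Prelude.Def_DerLim
import Groth.Agent.Lib27.SeqColim

/-!
# Homological functors and homotopy colimits (helper27)
-/

set_option autoImplicit false
universe v u v' u'

open CategoryTheory CategoryTheory.Limits CategoryTheory.Pretriangulated Opposite
open scoped ZeroObject

namespace Groth.Agent.Lib27.HocolimHom

open Groth.Agent.Lib27.SeqColim

section Abs

variable {A : Type u'} [Category.{v'} A] [Abelian A] [HasColimitsOfShape ℕ A]
  [HasExactColimitsOfShape ℕ A]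
  (F : ℕ ⥤ A) (c : Cofan F.obj) (hc : IsColimit c) (d : c.pt ⟶ c.pt)
  (hd : ∀ n, c.inj n ≫ d = c.inj n - F.map (homOfLE (Nat.le_succ n)) ≫ c.inj (n + 1))

include hc in
lemma hasCoproduct_of_cofan : HasCoproduct F.obj := ⟨⟨⟨c, hc⟩⟩⟩

variable [HasCoproduct F.obj]

/-- comparison with the chosen coproduct -/
noncomputable def e0 : c.pt ≅ ∐ F.obj := hc.coconePointUniqueUpToIso (colimit.isColimit _)

lemma inj_e0_hom (n : ℕ) : c.inj n ≫ (e0 F c hc).hom = Sigma.ι F.obj n :=
  IsColimit.comp_coconePointUniqueUpToIso_hom hc (colimit.isColimit _) ⟨n⟩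

include hd in
lemma d_e0_hom : d ≫ (e0 F c hc).hom = (e0 F c hc).hom ≫ (𝟙 _ - sh F) := by
  apply Cofan.IsColimit.hom_ext hc
  intro n
  rw [← Category.assoc, hd, Preadditive.sub_comp, Category.assoc, inj_e0_hom, inj_e0_hom,
    ← Category.assoc, inj_e0_hom, Preadditive.comp_sub, Category.comp_id, ι_sh]

include hc hd in
lemma mono_d : Mono d := by
  haveI := mono_one_sub_sh F
  have h : d = (e0 F c hc).hom ≫ (𝟙 _ - sh F) ≫ (e0 F c hc).inv := by
    rw [← Category.assoc, ← d_e0_hom F c hc d hd, Category.assoc, Iso.hom_inv_id,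
      Category.comp_id]
  rw [h]
  infer_instance

include hc hd in
theorem exists_iso_colimit {Q : A} (p : c.pt ⟶ Q) [Epi p] (hdp : d ≫ p = 0)
    (hex : (ShortComplex.mk d p hdp).Exact) :
    ∃ e : colimit F ≅ Q, ∀ n, colimit.ι F n ≫ e.hom = c.inj n ≫ p := by
  have hstep : ∀ n, F.map (homOfLE (Nat.le_succ n)) ≫ c.inj (n + 1) ≫ p = c.inj n ≫ p := by
    intro n
    have := congrArg (fun z => z ≫ p) (hd n)
    simp only [Category.assoc, hdp, comp_zero, Preadditive.sub_comp] at this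
    exact (sub_eq_zero.1 this.symm).symm
  -- the map colimit F ⟶ Q
  let e₃ : colimit F ⟶ Q := colimit.desc F
    { pt := Q
      ι := NatTrans.ofSequence (fun n => c.inj n ≫ p) (by
        intro n
        dsimp
        rw [Category.comp_id]
        exact hstep n) }
  have he₃ : ∀ n, colimit.ι F n ≫ e₃ = c.inj n ≫ p := by
    intro n
    simp [e₃]
  have h1 : toColim F ≫ e₃ = (e0 F c hc).inv ≫ p := by
    apply Sigma.hom_ext
    intro n
    rw [← Category.assoc, Sigma.ι_desc, he₃, ← inj_e0_hom F c hc n, Category.assoc,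
      Iso.hom_inv_id_assoc]
  -- the inverse
  haveI : Epi (ShortComplex.mk d p hdp).g := by dsimp; infer_instance
  have hk : (ShortComplex.mk d p hdp).f ≫ ((e0 F c hc).hom ≫ toColim F) = 0 := by
    dsimp
    rw [← Category.assoc, d_e0_hom F c hc d hd, Category.assoc, one_sub_sh_toColim, comp_zero]
  let r : Q ⟶ colimit F := hex.desc _ hk
  have hr : p ≫ r = (e0 F c hc).hom ≫ toColim F := hex.g_desc _ hk
  refine ⟨⟨e₃, r, ?_, ?_⟩, he₃⟩
  · rw [← cancel_epi (toColim F), ← Category.assoc, h1, Category.assoc, hr,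
      Iso.inv_hom_id_assoc, Category.comp_id]
  · rw [← cancel_epi p, ← Category.assoc, hr, Category.assoc, h1, Iso.hom_inv_id_assoc,
      Category.comp_id]

end Abs

section DSide

variable {D : Type u} [Category.{v} D] [Preadditive D] [HasColimitsOfShape (Discrete ℕ) D]
  {A : Type u'} [Category.{v'} A] [Abelian A] [HasColimitsOfShape ℕ A]
  [HasExactColimitsOfShape ℕ A]
  (G : D ⥤ A) [G.Additive] [PreservesColimitsOfShape (Discrete ℕ) G]
  (K : ℕ → D) (f : ∀ n, K n ⟶ K (n + 1))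

/-- the image sequence -/
abbrev seqF : ℕ ⥤ A := Functor.ofSequence (fun n => G.map (f n))

/-- the image cofan -/
noncomputable def cof : Cofan (seqF G K f).obj :=
  (Cofan.mk (G.obj (∐ K)) (fun n => G.map (Sigma.ι K n)) : Cofan (fun n => G.obj (K n)))

/-- the image cofan is a colimit -/
noncomputable def isColimitCof : IsColimit (cof G K f) :=
  isColimitOfHasCoproductOfPreservesColimit G K

lemma cof_hd (n : ℕ) :
    (cof G K f).inj n ≫ G.map (𝟙 _ - DerLim.shiftMap K f) =
      (cof G K f).inj n -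
        (seqF G K f).map (homOfLE (Nat.le_succ n)) ≫ (cof G K f).inj (n + 1) := by
  have h1 : (seqF G K f).map (homOfLE (Nat.le_succ n)) = G.map (f n) :=
    Functor.ofSequence_map_homOfLE_succ _ n
  rw [h1]
  show G.map (Sigma.ι K n) ≫ G.map (𝟙 _ - DerLim.shiftMap K f) =
    G.map (Sigma.ι K n) - G.map (f n) ≫ G.map (Sigma.ι K (n + 1))
  rw [← G.map_comp, ← G.map_comp, ← G.map_sub]
  congr 1
  dsimp only [DerLim.shiftMap]
  rw [Preadditive.comp_sub, Category.comp_id, Sigma.ι_desc]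

lemma mono_map_one_sub_shiftMap : Mono (G.map (𝟙 _ - DerLim.shiftMap K f)) := by
  haveI := hasCoproduct_of_cofan (seqF G K f) (cof G K f) (isColimitCof G K f)
  exact mono_d (seqF G K f) (cof G K f) (isColimitCof G K f) _ (cof_hd G K f)

end DSide

section Tri

variable {D : Type u} [Category.{v} D] [Preadditive D] [HasZeroObject D] [HasShift D ℤ]
  [∀ n : ℤ, (shiftFunctor D n).Additive] [Pretriangulated D]
  [HasColimitsOfShape (Discrete ℕ) D]
  {A : Type u'} [Category.{v'} A] [Abelian A] [HasColimitsOfShape ℕ A]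
  [HasExactColimitsOfShape ℕ A]
  (H : D ⥤ A) [H.IsHomological] [PreservesColimitsOfShape (Discrete ℕ) H]
  (K : ℕ → D) (f : ∀ n, K n ⟶ K (n + 1)) {L : D} (i : ∀ n, K n ⟶ L)

theorem exists_iso_of_isHocolim (hL : DerLim.IsHocolim K f L i) :
    ∃ e : colimit (Functor.ofSequence (fun n => H.map (f n))) ≅ H.obj L,
      ∀ n : ℕ, colimit.ι (Functor.ofSequence (fun n => H.map (f n))) n ≫ e.hom = H.map (i n) := by
  obtain ⟨c, hc⟩ := hL
  -- the connecting map is killed by `H`
  haveI hm1 : Mono ((shiftFunctor D (1 : ℤ) ⋙ H).map (𝟙 _ - DerLim.shiftMap K f)) :=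
    mono_map_one_sub_shiftMap (shiftFunctor D (1 : ℤ) ⋙ H) K f
  have hcz : H.map c = 0 := by
    have h1 : c ≫ (shiftFunctor D (1 : ℤ)).map (𝟙 _ - DerLim.shiftMap K f) = 0 :=
      comp_distTriang_mor_zero₃₁ _ hc
    have h2 : H.map c ≫ (shiftFunctor D (1 : ℤ) ⋙ H).map (𝟙 _ - DerLim.shiftMap K f) = 0 := by
      show H.map c ≫ H.map ((shiftFunctor D (1 : ℤ)).map (𝟙 _ - DerLim.shiftMap K f)) = 0
      rw [← H.map_comp, h1, H.map_zero]
    rw [← cancel_mono ((shiftFunctor D (1 : ℤ) ⋙ H).map (𝟙 _ - DerLim.shiftMap K f)), h2,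
      zero_comp]
  have hex1 := H.map_distinguished_exact _ (rot_of_distTriang _ hc)
  haveI hepi : Epi (H.map (Sigma.desc i)) := hex1.epi_f hcz
  have hex0 := H.map_distinguished_exact _ hc
  have hdp : H.map (𝟙 _ - DerLim.shiftMap K f) ≫ H.map (Sigma.desc i) = 0 := by
    have h0 : (𝟙 _ - DerLim.shiftMap K f) ≫ Sigma.desc i = 0 :=
      comp_distTriang_mor_zero₁₂ _ hc
    rw [← H.map_comp, h0, H.map_zero]
  haveI := hasCoproduct_of_cofan (seqF H K f) (cof H K f) (isColimitCof H K f)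
  obtain ⟨p, hp⟩ : ∃ p : (cof H K f).pt ⟶ H.obj L, p = H.map (Sigma.desc i) := ⟨_, rfl⟩
  haveI : Epi p := by rw [hp]; exact hepi
  obtain ⟨e, he⟩ := exists_iso_colimit (seqF H K f) (cof H K f) (isColimitCof H K f)
    (H.map (𝟙 _ - DerLim.shiftMap K f)) (cof_hd H K f) p (by rw [hp]; exact hdp)
    (by subst hp; exact hex0)
  subst hp
  refine ⟨e, fun n => (he n).trans ?_⟩
  show H.map (Sigma.ι K n) ≫ H.map (Sigma.desc i) = H.map (i n)
  rw [← H.map_comp, Sigma.ι_desc]

end Tri

end Groth.Agent.Lib27.HocolimHom
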