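import Mathlib.CategoryTheory.Triangulated.Triangulated
import Mathlib.CategoryTheory.Limits.Shapes.Products
import Groth.Prelude.Def_DerLim
import Mathlib.Algebra.BigOperators.Intervals
import Mathlib.Order.Interval.Finset.Nat

/-! Helper library (helper27): homotopy-equivalent two-term complexes have isomorphic cones. -/

set_option autoImplicit false
universe v u
open CategoryTheory CategoryTheory.Limits CategoryTheory.Pretriangulated

namespace Groth.Agent.Lib27.HocolimSub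

theorem isIso_of_comp_isIso {D : Type u} [Category.{v} D] {X Y : D} (c : X ⟶ Y) (c' : Y ⟶ X) [IsIso (c ≫ c')] [IsIso (c' ≫ c)] :
    IsIso c := by
  refine ⟨⟨c' ≫ inv (c ≫ c'), ?_, ?_⟩⟩
  · rw [← Category.assoc, IsIso.hom_inv_id]
  · have hl : (inv (c' ≫ c) ≫ c') ≫ c = 𝟙 _ := by
      rw [Category.assoc, IsIso.inv_hom_id]
    have hr : c ≫ (c' ≫ inv (c ≫ c')) = 𝟙 _ := by
      rw [← Category.assoc, IsIso.hom_inv_id]
    have : inv (c' ≫ c) ≫ c' = c' ≫ inv (c ≫ c') := by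
      calc inv (c' ≫ c) ≫ c' = (inv (c' ≫ c) ≫ c') ≫ (c ≫ (c' ≫ inv (c ≫ c'))) := by
            rw [hr, Category.comp_id]
        _ = ((inv (c' ≫ c) ≫ c') ≫ c) ≫ (c' ≫ inv (c ≫ c')) := by
            simp only [Category.assoc]
        _ = c' ≫ inv (c ≫ c') := by rw [hl, Category.id_comp]
    rw [← this]; exact hl

variable {D : Type u} [Category.{v} D] [Preadditive D] [HasZeroObject D] [HasShift D ℤ]
    [∀ n : ℤ, (shiftFunctor D n).Additive] [Pretriangulated D]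

theorem exists_iso_of_homotopyEquiv {B B' L L' : D} (d : B ⟶ B) (π : B ⟶ L)
    (δ : L ⟶ (shiftFunctor D (1 : ℤ)).obj B)
    (hT : Triangle.mk d π δ ∈ distTriang D)
    (d' : B' ⟶ B') (π' : B' ⟶ L') (δ' : L' ⟶ (shiftFunctor D (1 : ℤ)).obj B')
    (hT' : Triangle.mk d' π' δ' ∈ distTriang D)
    (a b : B' ⟶ B) (a' b' : B ⟶ B') (h : B ⟶ B)
    (I1 : a ≫ d = d' ≫ b) (I2 : a' ≫ d' = d ≫ b') (I3 : a ≫ a' = 𝟙 _) (I4 : b ≫ b' = 𝟙 _)
    (I5 : b' ≫ b = 𝟙 _ - h ≫ d) (I6 : a' ≫ a = 𝟙 _ - d ≫ h) :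
    ∃ e : L' ≅ L, π' ≫ e.hom = b ≫ π := by
  obtain ⟨c, hc1, hc2⟩ : ∃ c : L' ⟶ L, π' ≫ c = b ≫ π ∧
      δ' ≫ (shiftFunctor D (1 : ℤ)).map a = c ≫ δ :=
    complete_distinguished_triangle_morphism _ _ hT' hT a b I1.symm
  obtain ⟨c', hc'1, hc'2⟩ : ∃ c' : L ⟶ L', π ≫ c' = b' ≫ π' ∧
      δ ≫ (shiftFunctor D (1 : ℤ)).map a' = c' ≫ δ' :=
    complete_distinguished_triangle_morphism _ _ hT hT' a' b' I2.symm
  have hdπ : d ≫ π = 0 := comp_distTriang_mor_zero₁₂ _ hT
  have hδd : δ ≫ (shiftFunctor D (1 : ℤ)).map d = 0 := comp_distTriang_mor_zero₃₁ _ hT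
  -- c ≫ c' is an isomorphism
  have e1 : π' ≫ (c ≫ c') = π' := by
    rw [← Category.assoc, hc1, Category.assoc, hc'1, ← Category.assoc, I4, Category.id_comp]
  have e2 : (c ≫ c') ≫ δ' = δ' := by
    rw [Category.assoc, ← hc'2, ← Category.assoc, ← hc2, Category.assoc, ← Functor.map_comp, I3,
      CategoryTheory.Functor.map_id, Category.comp_id]
  have e3 : π ≫ (c' ≫ c) = π := by
    rw [← Category.assoc, hc'1, Category.assoc, hc1, ← Category.assoc, I5, Preadditive.sub_comp,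
      Category.id_comp, Category.assoc, hdπ, comp_zero, sub_zero]
  have e4 : (c' ≫ c) ≫ δ = δ := by
    rw [Category.assoc, ← hc2, ← Category.assoc, ← hc'2, Category.assoc, ← Functor.map_comp, I6,
      Functor.map_sub, CategoryTheory.Functor.map_id, Functor.map_comp, Preadditive.comp_sub,
      Category.comp_id, ← Category.assoc, hδd, zero_comp, sub_zero]
  haveI i1 : IsIso (c ≫ c') := by
    let φ : Triangle.mk d' π' δ' ⟶ Triangle.mk d' π' δ' :=
      { hom₁ := 𝟙 _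
        hom₂ := 𝟙 _
        hom₃ := c ≫ c'
        comm₁ := by
          show d' ≫ 𝟙 B' = 𝟙 B' ≫ d'
          rw [Category.comp_id, Category.id_comp]
        comm₂ := by
          show π' ≫ (c ≫ c') = 𝟙 _ ≫ π'
          rw [e1, Category.id_comp]
        comm₃ := by
          show δ' ≫ (shiftFunctor D (1 : ℤ)).map (𝟙 _) = (c ≫ c') ≫ δ'
          rw [e2, CategoryTheory.Functor.map_id, Category.comp_id] }
    haveI : IsIso φ.hom₁ := by dsimp [φ]; infer_instance
    haveI : IsIso φ.hom₂ := by dsimp [φ]; infer_instance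
    exact isIso₃_of_isIso₁₂ φ hT' hT' inferInstance inferInstance
  haveI i2 : IsIso (c' ≫ c) := by
    let φ : Triangle.mk d π δ ⟶ Triangle.mk d π δ :=
      { hom₁ := 𝟙 _
        hom₂ := 𝟙 _
        hom₃ := c' ≫ c
        comm₁ := by
          show d ≫ 𝟙 B = 𝟙 B ≫ d
          rw [Category.comp_id, Category.id_comp]
        comm₂ := by
          show π ≫ (c' ≫ c) = 𝟙 _ ≫ π
          rw [e3, Category.id_comp]
        comm₃ := by
          show δ ≫ (shiftFunctor D (1 : ℤ)).map (𝟙 _) = (c' ≫ c) ≫ δ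
          rw [e4, CategoryTheory.Functor.map_id, Category.comp_id] }
    haveI : IsIso φ.hom₁ := by dsimp [φ]; infer_instance
    haveI : IsIso φ.hom₂ := by dsimp [φ]; infer_instance
    exact isIso₃_of_isIso₁₂ φ hT hT inferInstance inferInstance
  haveI : IsIso c := isIso_of_comp_isIso c c'
  exact ⟨asIso c, hc1⟩

/-! ### The subsequence combinatorics -/

section Sub

variable {D : Type u} [Category.{v} D] [Preadditive D]
  (F : ℕ ⥤ D) (n : ℕ → ℕ) (hn : StrictMono n)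
  [HasCoproduct (fun m : ℕ => F.obj m)] [HasCoproduct (fun i : ℕ => F.obj (n i))]

/-- least index `i` with `m ≤ n i`. -/
noncomputable def idx (m : ℕ) : ℕ := Nat.find (⟨m, hn.id_le m⟩ : ∃ i, m ≤ n i)

theorem idx_spec (m : ℕ) : m ≤ n (idx n hn m) := Nat.find_spec (⟨m, hn.id_le m⟩ : ∃ i, m ≤ n i)

theorem idx_min {m i : ℕ} (h : m ≤ n i) : idx n hn m ≤ i :=
  Nat.find_min' (⟨m, hn.id_le m⟩ : ∃ i, m ≤ n i) h

theorem idx_n (i : ℕ) : idx n hn (n i) = i :=
  le_antisymm (idx_min n hn le_rfl) (hn.le_iff_le.1 (idx_spec n hn (n i)))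

theorem idx_succ_of_lt {m : ℕ} (h : m < n (idx n hn m)) : idx n hn (m + 1) = idx n hn m :=
  le_antisymm (idx_min n hn h) (idx_min n hn ((Nat.le_succ m).trans (idx_spec n hn (m + 1))))

theorem idx_succ_of_eq {m : ℕ} (h : m = n (idx n hn m)) : idx n hn (m + 1) = idx n hn m + 1 := by
  apply le_antisymm
  · apply idx_min
    have : n (idx n hn m) < n (idx n hn m + 1) := hn (Nat.lt_succ_self _)
    omega
  · by_contra hc
    have h1 : idx n hn (m + 1) ≤ idx n hn m := by omega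
    have h2 := idx_spec n hn (m + 1)
    have h3 := hn.monotone h1
    omega

/-- the map `F m ⟶ ∐ F` landing in the summand `m'` (zero if `m' < m`). -/
noncomputable def toB (m m' : ℕ) : F.obj m ⟶ ∐ (fun m : ℕ => F.obj m) :=
  if h : m ≤ m' then F.map (homOfLE h) ≫ Sigma.ι (fun m : ℕ => F.obj m) m' else 0

/-- the map `F m ⟶ ∐ F ∘ n` landing in the summand `i` (zero if `n i < m`). -/
noncomputable def toB' (m i : ℕ) : F.obj m ⟶ ∐ (fun i : ℕ => F.obj (n i)) :=
  if h : m ≤ n i then F.map (homOfLE h) ≫ Sigma.ι (fun i : ℕ => F.obj (n i)) i else 0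

theorem toB_of_le {m m' : ℕ} (h : m ≤ m') :
    toB F m m' = F.map (homOfLE h) ≫ Sigma.ι (fun m : ℕ => F.obj m) m' := dif_pos h

theorem toB'_of_le {m i : ℕ} (h : m ≤ n i) :
    toB' F n m i = F.map (homOfLE h) ≫ Sigma.ι (fun i : ℕ => F.obj (n i)) i := dif_pos h

theorem toB_self (m : ℕ) : toB F m m = Sigma.ι (fun m : ℕ => F.obj m) m := by
  rw [toB_of_le F le_rfl]
  have : homOfLE (le_refl m) = 𝟙 m := rfl
  rw [this, CategoryTheory.Functor.map_id, Category.id_comp]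

theorem toB'_self (i : ℕ) : toB' F n (n i) i = Sigma.ι (fun i : ℕ => F.obj (n i)) i := by
  rw [toB'_of_le F n le_rfl]
  have : homOfLE (le_refl (n i)) = 𝟙 (n i) := rfl
  rw [this, CategoryTheory.Functor.map_id, Category.id_comp]

theorem map_toB {m m' m'' : ℕ} (h : m ≤ m') (h' : m' ≤ m'') :
    F.map (homOfLE h) ≫ toB F m' m'' = toB F m m'' := by
  rw [toB_of_le F h', toB_of_le F (h.trans h'), ← Category.assoc, ← Functor.map_comp]
  rfl

theorem map_toB' {m m' i : ℕ} (h : m ≤ m') (h' : m' ≤ n i) :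
    F.map (homOfLE h) ≫ toB' F n m' i = toB' F n m i := by
  rw [toB'_of_le F n h', toB'_of_le F n (h.trans h'), ← Category.assoc, ← Functor.map_comp]
  rfl

/-- the shift map on `∐ F`. -/
noncomputable abbrev sg : (∐ (fun m : ℕ => F.obj m)) ⟶ ∐ (fun m : ℕ => F.obj m) :=
  DerLim.shiftMap (fun m : ℕ => F.obj m) (fun m : ℕ => F.map (homOfLE (Nat.le_succ m)))

/-- the shift map on `∐ F ∘ n`. -/
noncomputable abbrev sg' : (∐ (fun i : ℕ => F.obj (n i))) ⟶ ∐ (fun i : ℕ => F.obj (n i)) :=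
  DerLim.shiftMap (fun i : ℕ => F.obj (n i))
    (fun i : ℕ => F.map (homOfLE (hn.monotone (Nat.le_succ i))))

theorem toB_sg {m m' : ℕ} (h : m ≤ m') : toB F m m' ≫ sg F = toB F m (m' + 1) := by
  rw [toB_of_le F h, toB_of_le F (h.trans (Nat.le_succ m')), Category.assoc]
  dsimp only [sg, DerLim.shiftMap]
  rw [Sigma.ι_desc, ← Category.assoc, ← Functor.map_comp]
  rfl

theorem toB'_sg' {m i : ℕ} (h : m ≤ n i) : toB' F n m i ≫ sg' F n hn = toB' F n m (i + 1) := by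
  rw [toB'_of_le F n h, toB'_of_le F n (h.trans (hn.monotone (Nat.le_succ i))), Category.assoc]
  dsimp only [sg', DerLim.shiftMap]
  rw [Sigma.ι_desc, ← Category.assoc, ← Functor.map_comp]
  rfl

theorem toB_d {m m' : ℕ} (h : m ≤ m') :
    toB F m m' ≫ (𝟙 _ - sg F) = toB F m m' - toB F m (m' + 1) := by
  rw [Preadditive.comp_sub, Category.comp_id, toB_sg F h]

theorem toB'_d' {m i : ℕ} (h : m ≤ n i) :
    toB' F n m i ≫ (𝟙 _ - sg' F n hn) = toB' F n m i - toB' F n m (i + 1) := by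
  rw [Preadditive.comp_sub, Category.comp_id, toB'_sg' F n hn h]

theorem sum_toB_d (m p q : ℕ) (hmp : m ≤ p) (hpq : p ≤ q) :
    (∑ j ∈ Finset.Ico p q, toB F m j) ≫ (𝟙 _ - sg F) = toB F m p - toB F m q := by
  rw [Preadditive.sum_comp]
  have : ∀ j ∈ Finset.Ico p q, toB F m j ≫ (𝟙 _ - sg F) = toB F m j - toB F m (j + 1) := by
    intro j hj
    exact toB_d F (hmp.trans (Finset.mem_Ico.1 hj).1)
  rw [Finset.sum_congr rfl this]
  clear this
  induction q, hpq using Nat.le_induction with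
  | base => simp
  | succ q hq ih =>
    rw [Finset.sum_Ico_succ_top hq, ih]
    abel

/-- `b : B' ⟶ B`. -/
noncomputable def bb : (∐ (fun i : ℕ => F.obj (n i))) ⟶ ∐ (fun m : ℕ => F.obj m) :=
  Sigma.desc (fun i : ℕ => Sigma.ι (fun m : ℕ => F.obj m) (n i))

/-- `b' : B ⟶ B'`. -/
noncomputable def bb' : (∐ (fun m : ℕ => F.obj m)) ⟶ ∐ (fun i : ℕ => F.obj (n i)) :=
  Sigma.desc (fun m : ℕ => toB' F n m (idx n hn m))

/-- `a : B' ⟶ B`. -/
noncomputable def aa : (∐ (fun i : ℕ => F.obj (n i))) ⟶ ∐ (fun m : ℕ => F.obj m) :=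
  Sigma.desc (fun i : ℕ => ∑ j ∈ Finset.Ico (n i) (n (i + 1)), toB F (n i) j)

/-- `a' : B ⟶ B'`. -/
noncomputable def aa' : (∐ (fun m : ℕ => F.obj m)) ⟶ ∐ (fun i : ℕ => F.obj (n i)) :=
  Sigma.desc (fun m : ℕ => if m = n (idx n hn m) then toB' F n m (idx n hn m) else 0)

/-- the homotopy `h : B ⟶ B`. -/
noncomputable def hh : (∐ (fun m : ℕ => F.obj m)) ⟶ ∐ (fun m : ℕ => F.obj m) :=
  Sigma.desc (fun m : ℕ => ∑ j ∈ Finset.Ico m (n (idx n hn m)), toB F m j)

theorem toB'_bb {m i : ℕ} (h : m ≤ n i) : toB' F n m i ≫ bb F n = toB F m (n i) := by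
  rw [toB'_of_le F n h, toB_of_le F h, Category.assoc]
  dsimp only [bb]
  rw [Sigma.ι_desc]

theorem I1 : aa F n ≫ (𝟙 _ - sg F) = (𝟙 _ - sg' F n hn) ≫ bb F n := by
  apply Sigma.hom_ext
  intro i
  have hle : n i ≤ n (i + 1) := hn.monotone (Nat.le_succ i)
  dsimp only [aa]
  rw [← Category.assoc, Sigma.ι_desc, sum_toB_d F (n i) (n i) (n (i + 1)) le_rfl hle]
  rw [← Category.assoc, ← toB'_self F n i, toB'_d' F n hn le_rfl, Preadditive.sub_comp,
    toB'_bb F n le_rfl, toB'_bb F n hle]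

theorem I4 : bb F n ≫ bb' F n hn = 𝟙 _ := by
  apply Sigma.hom_ext
  intro i
  dsimp only [bb, bb']
  rw [← Category.assoc, Sigma.ι_desc, Sigma.ι_desc, Category.comp_id, idx_n, toB'_self]

theorem I2 : aa' F n hn ≫ (𝟙 _ - sg' F n hn) = (𝟙 _ - sg F) ≫ bb' F n hn := by
  apply Sigma.hom_ext
  intro m
  have hm := idx_spec n hn m
  have hR : Sigma.ι (fun m : ℕ => F.obj m) m ≫ (𝟙 _ - sg F) ≫ bb' F n hn =
      toB' F n m (idx n hn m) - toB' F n m (idx n hn (m + 1)) := by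
    rw [← Category.assoc, ← toB_self F m, toB_d F le_rfl, Preadditive.sub_comp]
    rw [toB_self, toB_of_le F (Nat.le_succ m), Category.assoc]
    dsimp only [bb']
    rw [Sigma.ι_desc, Sigma.ι_desc, map_toB' F n (Nat.le_succ m) (idx_spec n hn (m + 1))]
  rw [hR]
  dsimp only [aa']
  rw [← Category.assoc, Sigma.ι_desc]
  by_cases h : m = n (idx n hn m)
  · rw [if_pos h, toB'_d' F n hn hm, idx_succ_of_eq n hn h]
  · rw [if_neg h, zero_comp, idx_succ_of_lt n hn (lt_of_le_of_ne hm h), sub_self]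

theorem I3 : aa F n ≫ aa' F n hn = 𝟙 _ := by
  apply Sigma.hom_ext
  intro i
  have hlt : n i < n (i + 1) := hn (Nat.lt_succ_self i)
  dsimp only [aa]
  rw [← Category.assoc, Sigma.ι_desc, Category.comp_id, Preadditive.sum_comp]
  rw [Finset.sum_eq_single (n i)]
  · rw [toB_self]
    dsimp only [aa']
    rw [Sigma.ι_desc, idx_n, if_pos rfl, toB'_self]
  · intro j hj hne
    obtain ⟨h1, h2⟩ := Finset.mem_Ico.1 hj
    rw [toB_of_le F h1, Category.assoc]
    dsimp only [aa']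
    rw [Sigma.ι_desc]
    have : ¬ j = n (idx n hn j) := by
      intro hj'
      have h3 : n i < n (idx n hn j) := by omega
      have h4 : n (idx n hn j) < n (i + 1) := by omega
      have h5 := hn.lt_iff_lt.1 h3
      have h6 := hn.lt_iff_lt.1 h4
      omega
    rw [if_neg this, comp_zero]
  · intro hni
    exact absurd (Finset.mem_Ico.2 ⟨le_rfl, hlt⟩) hni

theorem I5 : bb' F n hn ≫ bb F n = 𝟙 _ - hh F n hn ≫ (𝟙 _ - sg F) := by
  apply Sigma.hom_ext
  intro m
  have hm := idx_spec n hn m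
  dsimp only [bb', hh]
  rw [← Category.assoc, Sigma.ι_desc, toB'_bb F n hm, Preadditive.comp_sub, Category.comp_id,
    ← Category.assoc, Sigma.ι_desc, sum_toB_d F m m _ le_rfl hm, toB_self]
  abel

theorem map_sum_toB {m m' : ℕ} (h : m ≤ m') (p q : ℕ) (hp : m' ≤ p) :
    F.map (homOfLE h) ≫ ∑ j ∈ Finset.Ico p q, toB F m' j = ∑ j ∈ Finset.Ico p q, toB F m j := by
  rw [Preadditive.comp_sum]
  apply Finset.sum_congr rfl
  intro j hj
  exact map_toB F h (hp.trans (Finset.mem_Ico.1 hj).1)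

theorem I6 : aa' F n hn ≫ aa F n = 𝟙 _ - (𝟙 _ - sg F) ≫ hh F n hn := by
  apply Sigma.hom_ext
  intro m
  have hm := idx_spec n hn m
  have hR : Sigma.ι (fun m : ℕ => F.obj m) m ≫ (𝟙 _ - (𝟙 _ - sg F) ≫ hh F n hn) =
      toB F m m - ∑ j ∈ Finset.Ico m (n (idx n hn m)), toB F m j +
        ∑ j ∈ Finset.Ico (m + 1) (n (idx n hn (m + 1))), toB F m j := by
    rw [Preadditive.comp_sub, Category.comp_id, ← Category.assoc, ← toB_self F m,
      toB_d F le_rfl, Preadditive.sub_comp, toB_self, toB_of_le F (Nat.le_succ m), Category.assoc]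
    dsimp only [hh]
    rw [Sigma.ι_desc, Sigma.ι_desc, map_sum_toB F (Nat.le_succ m) _ _ le_rfl]
    abel
  rw [hR]
  dsimp only [aa']
  rw [← Category.assoc, Sigma.ι_desc]
  by_cases h : m = n (idx n hn m)
  · rw [if_pos h, idx_succ_of_eq n hn h, toB'_of_le F n hm, Category.assoc]
    dsimp only [aa]
    rw [Sigma.ι_desc, map_sum_toB F hm _ _ le_rfl]
    have hlt : n (idx n hn m) < n (idx n hn m + 1) := hn (Nat.lt_succ_self _)
    have e1 : Finset.Ico m (n (idx n hn m)) = ∅ := by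
      rw [Finset.Ico_eq_empty_iff]; omega
    rw [e1, Finset.sum_empty, sub_zero]
    have e2 : ∑ j ∈ Finset.Ico (n (idx n hn m)) (n (idx n hn m + 1)), toB F m j =
        ∑ j ∈ Finset.Ico m (n (idx n hn m + 1)), toB F m j := by
      rw [← h]
    rw [e2, Finset.sum_eq_sum_Ico_succ_bot (by omega)]
  · rw [if_neg h, zero_comp, idx_succ_of_lt n hn (lt_of_le_of_ne hm h)]
    rw [Finset.sum_eq_sum_Ico_succ_bot (lt_of_le_of_ne hm h)]
    abel

end Sub

end Groth.Agent.Lib27.HocolimSub
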