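import Mathlib.FieldTheory.PrimitiveElement
import Mathlib.FieldTheory.Minpoly.IsIntegrallyClosed
import Mathlib.FieldTheory.IntermediateField.Adjoin.Algebra
import Mathlib.RingTheory.AlgebraicIndependent.TranscendenceBasis
import Mathlib.RingTheory.AdjoinRoot
import Mathlib.RingTheory.Localization.Integral
import Mathlib.RingTheory.Polynomial.UniqueFactorization
import Mathlib.RingTheory.FiniteType
import Mathlib.RingTheory.Polynomial.RationalRoot

/-!
# A finitely generated separable field extension is the function field of a hypersurface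
-/

set_option autoImplicit false
universe u
open Polynomial IntermediateField

namespace Groth.Agent.Lib27.HypersurfaceField

open scoped IntermediateField.algebraAdjoinAdjoin

/-- The fraction field of a finitely generated algebra is a finitely generated field. -/
theorem exists_finset_adjoin_eq_top (k B K : Type*) [Field k] [CommRing B] [Field K]
    [Algebra k B] [Algebra k K] [Algebra B K] [IsScalarTower k B K] [IsFractionRing B K]
    [hB : Algebra.FiniteType k B] :
    ∃ T : Finset K, IntermediateField.adjoin k (T : Set K) = ⊤ := by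
  classical
  obtain ⟨S, hS⟩ := hB.out
  refine ⟨S.image (algebraMap B K), ?_⟩
  rw [eq_top_iff]
  intro z _
  have hB' : ∀ b : B, algebraMap B K b ∈
      IntermediateField.adjoin k ((S.image (algebraMap B K) : Finset K) : Set K) := by
    intro b
    have hb : b ∈ Algebra.adjoin k (S : Set B) := by rw [hS]; trivial
    have h1 : algebraMap B K b ∈ (Algebra.adjoin k (S : Set B)).map
        (IsScalarTower.toAlgHom k B K) := ⟨b, hb, rfl⟩
    rw [AlgHom.map_adjoin] at h1
    have h2 : (IsScalarTower.toAlgHom k B K) '' (S : Set B) =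
        ((S.image (algebraMap B K) : Finset K) : Set K) := by
      rw [Finset.coe_image]; rfl
    rw [h2] at h1
    exact IntermediateField.algebra_adjoin_le_adjoin k _ h1
  obtain ⟨a, b, _, rfl⟩ := IsFractionRing.div_surjective (A := B) z
  exact div_mem (hB' a) (hB' b)

theorem main {k K : Type u} [Field k] [Field K] [Algebra k K] {d : ℕ} (s : Fin d → K)
    (hs : IsTranscendenceBasis k s)
    (hsep : Algebra.IsSeparable ↥(IntermediateField.adjoin k (Set.range s)) K)
    (hfg : ∃ T : Finset K, IntermediateField.adjoin k (T : Set K) = ⊤) :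
    ∃ (g : Polynomial (MvPolynomial (Fin d) k)) (ψ : AdjoinRoot g →ₐ[k] K), g.Monic ∧
      Irreducible (g.map (algebraMap _ (FractionRing (MvPolynomial (Fin d) k)))) ∧
      (g.map (algebraMap _ (FractionRing (MvPolynomial (Fin d) k)))).Separable ∧
      Function.Injective ψ ∧ ∀ z : K, ∃ x y, ψ y ≠ 0 ∧ z = ψ x / ψ y := by
  classical
  set F := IntermediateField.adjoin k (Set.range s) with hF
  set A' := Algebra.adjoin k (Set.range s) with hA'
  -- step 1: `K/F` is finite
  obtain ⟨T, hT⟩ := hfg
  have hTF : IntermediateField.adjoin F (T : Set K) = ⊤ := by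
    apply IntermediateField.restrictScalars_injective k
    rw [IntermediateField.restrictScalars_top, eq_top_iff, ← hT, IntermediateField.adjoin_le_iff]
    intro t ht
    exact IntermediateField.subset_adjoin F _ ht
  haveI : Algebra.IsAlgebraic F K := Algebra.IsSeparable.isAlgebraic F K
  haveI : FiniteDimensional F K := by
    have h1 : FiniteDimensional F (IntermediateField.adjoin F (T : Set K)) :=
      IntermediateField.finiteDimensional_adjoin (fun x _ => Algebra.IsIntegral.isIntegral x)
    rw [hTF] at h1
    exact (IntermediateField.topEquiv (F := F) (E := K)).toLinearEquiv.finiteDimensional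
  -- step 2: primitive element
  obtain ⟨α, hα⟩ := Field.exists_primitive_element F K
  -- step 3: integral multiple
  have hαalg : IsAlgebraic A' α :=
    (IsFractionRing.isAlgebraic_iff A' F K).mpr (Algebra.IsAlgebraic.isAlgebraic α)
  obtain ⟨c, hc0, hcint⟩ := hαalg.exists_integral_multiple
  set β : K := c • α with hβ
  have hcK : (c : K) ≠ 0 := fun h => hc0 (Subtype.ext h)
  have hβα : β = (c : K) * α := rfl
  have hβtop : F⟮β⟯ = ⊤ := by
    rw [eq_top_iff, ← hα, IntermediateField.adjoin_le_iff]
    intro x hx
    have hx' : x = α := hx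
    rw [hx']
    have hcF : (c : K) ∈ F⟮β⟯ :=
      IntermediateField.algebraMap_mem _
        (⟨(c : K), IntermediateField.algebra_adjoin_le_adjoin k _ c.2⟩ : F)
    have hβm : β ∈ F⟮β⟯ := IntermediateField.mem_adjoin_simple_self F β
    have : α = (c : K)⁻¹ * β := by rw [hβα, ← mul_assoc, inv_mul_cancel₀ hcK, one_mul]
    rw [this]
    exact mul_mem (inv_mem hcF) hβm
  -- step 4: the minimal polynomial
  let e : A' ≃ₐ[k] MvPolynomial (Fin d) k := hs.1.aevalEquiv.symm
  haveI : IsIntegrallyClosed A' := IsIntegrallyClosed.of_equiv e.symm.toRingEquiv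
  set g' := minpoly A' β with hg'
  have hg'monic : g'.Monic := minpoly.monic hcint
  have hminF : minpoly F β = g'.map (algebraMap A' F) :=
    minpoly.isIntegrallyClosed_eq_field_fractions' F hcint
  let g : Polynomial (MvPolynomial (Fin d) k) := g'.map (e : A' →+* MvPolynomial (Fin d) k)
  have hgmonic : g.Monic := hg'monic.map _
  -- the field iso
  let eL : F ≃+* FractionRing (MvPolynomial (Fin d) k) :=
    IsFractionRing.ringEquivOfRingEquiv e.toRingEquiv
  have heL : ∀ a : A', eL (algebraMap A' F a) =
      algebraMap (MvPolynomial (Fin d) k) (FractionRing (MvPolynomial (Fin d) k)) (e a) :=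
    fun a => IsFractionRing.ringEquivOfRingEquiv_algebraMap e.toRingEquiv a
  have hgmap : g.map (algebraMap _ (FractionRing (MvPolynomial (Fin d) k))) =
      (minpoly F β).map (eL : F →+* FractionRing (MvPolynomial (Fin d) k)) := by
    rw [hminF, Polynomial.map_map, Polynomial.map_map]
    congr 1
    ext a
    exact (heL a).symm
  have hβintF : IsIntegral F β := Algebra.IsIntegral.isIntegral β
  have hirr : Irreducible (g.map (algebraMap _ (FractionRing (MvPolynomial (Fin d) k)))) := by
    rw [hgmap]
    exact (MulEquiv.irreducible_iff (Polynomial.mapEquiv eL)).mpr (minpoly.irreducible hβintF)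
  have hsepg : (g.map (algebraMap _ (FractionRing (MvPolynomial (Fin d) k)))).Separable := by
    rw [hgmap]
    exact Polynomial.Separable.map (Algebra.IsSeparable.isSeparable F β)
  -- step 5: the map to `K`
  let i : MvPolynomial (Fin d) k →ₐ[k] K := A'.val.comp e.symm.toAlgHom
  have hi : ∀ a : A', i (e a) = (a : K) := by
    intro a
    simp [i]
  have heval : ∀ q : Polynomial A', (q.map (e : A' →+* MvPolynomial (Fin d) k)).eval₂ i β =
      Polynomial.aeval β q := by
    intro q
    rw [Polynomial.eval₂_map, Polynomial.aeval_def]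
    congr 1
    ext a
    exact hi a
  have hgβ : g.eval₂ i β = 0 := by
    rw [heval, minpoly.aeval]
  let ψ : AdjoinRoot g →ₐ[k] K := AdjoinRoot.liftAlgHom g i β hgβ
  have hψmk : ∀ q : Polynomial A', ψ (AdjoinRoot.mk g (q.map (e : A' →+* _))) =
      Polynomial.aeval β q := fun q => (AdjoinRoot.liftAlgHom_mk g i β hgβ _).trans (heval q)
  refine ⟨g, ψ, hgmonic, hirr, hsepg, ?_, ?_⟩
  · -- injectivity
    rw [injective_iff_map_eq_zero]
    intro x hx
    obtain ⟨h, rfl⟩ := AdjoinRoot.mk_surjective x
    -- write `h = q.map e`
    set q : Polynomial A' := h.map (e.symm : MvPolynomial (Fin d) k →+* A') with hq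
    have hqh : q.map (e : A' →+* MvPolynomial (Fin d) k) = h := by
      rw [hq, Polynomial.map_map]
      have : (e : A' →+* MvPolynomial (Fin d) k).comp (e.symm : MvPolynomial (Fin d) k →+* A') =
          RingHom.id _ := by
        ext a <;> simp
      rw [this, Polynomial.map_id]
    rw [← hqh] at hx ⊢
    rw [hψmk] at hx
    have hdvd : g' ∣ q := minpoly.isIntegrallyClosed_dvd hcint hx
    rw [AdjoinRoot.mk_eq_zero]
    exact Polynomial.map_dvd _ hdvd
  · -- fractions
    intro z
    have hz : z ∈ F⟮β⟯ := by rw [hβtop]; trivial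
    have hz' : z ∈ F⟮β⟯.toSubalgebra := hz
    rw [IntermediateField.adjoin_simple_toSubalgebra_of_isAlgebraic hβintF.isAlgebraic,
      Algebra.adjoin_singleton_eq_range_aeval] at hz'
    obtain ⟨p, hp⟩ := hz'
    have hzp : z = Polynomial.aeval β p := hp.symm
    obtain ⟨b, hbM, hb⟩ := IsLocalization.integerNormalization_spec (nonZeroDivisors A') p
    set q := IsLocalization.integerNormalization (nonZeroDivisors A') p with hq
    have hb0 : ((b : A') : K) ≠ 0 := by
      intro h
      exact nonZeroDivisors.ne_zero hbM (Subtype.ext h)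
    refine ⟨AdjoinRoot.mk g (q.map (e : A' →+* _)), AdjoinRoot.of g (e (b : A')), ?_, ?_⟩
    · rw [AdjoinRoot.liftAlgHom_of, hi]
      exact hb0
    · rw [hψmk, AdjoinRoot.liftAlgHom_of, hi]
      have h1 : Polynomial.aeval β q = Polynomial.aeval β (q.map (algebraMap A' F)) := by
        rw [Polynomial.aeval_map_algebraMap]
      have h2 : Polynomial.aeval β (q.map (algebraMap A' F)) =
          ((b : A') : K) * Polynomial.aeval β p := by
        rw [hb, Algebra.smul_def, map_mul, IsScalarTower.algebraMap_apply A' F (Polynomial F),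
          AlgHom.commutes]
        rfl
      rw [h1, h2, hzp, mul_div_cancel_left₀ _ hb0]
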