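import Groth.Agent.Lib27.InertiaTri

/-!
# Diagonalizability of the inertia operator (helper27)
-/

universe u v

namespace Groth.Agent.Lib27.InertiaDiag

open W4c5stacksedinertia Groth.Agent.Lib27.InertiaL Groth.Agent.Lib27.InertiaW
  Groth.Agent.Lib27.InertiaTri Polynomial

/-- Kernel of a product of pairwise coprime polynomials in an endomorphism. -/
lemma ker_aeval_prod {R M ι : Type*} [CommRing R] [AddCommGroup M] [Module R M] (f : Module.End R M)
    (s : Finset ι) (p : ι → R[X]) (h : (s : Set ι).Pairwise (Function.onFun IsCoprime p)) :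
    LinearMap.ker (aeval f (∏ i ∈ s, p i)) = ⨆ i ∈ s, LinearMap.ker (aeval f (p i)) := by
  classical
  induction s using Finset.induction_on with
  | empty =>
    simp only [Finset.prod_empty, map_one, Finset.notMem_empty, iSup_false, iSup_bot]
    exact LinearMap.ker_eq_bot.2 (fun x y hxy => hxy)
  | insert a s ha ih =>
    rw [Finset.prod_insert ha, Finset.iSup_insert]
    have hcop : IsCoprime (p a) (∏ i ∈ s, p i) := by
      apply IsCoprime.prod_right
      intro i hi
      exact h (Finset.mem_insert_self a s) (Finset.mem_insert_of_mem hi)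
        (fun hai => ha (hai ▸ hi))
    rw [← sup_ker_aeval_eq_ker_aeval_mul_of_coprime f hcop, ih (h.mono (by simp))]

lemma Kge_one : Kge 1 = ⊤ := by
  rw [eq_top_iff]
  intro v _
  unfold Kge
  rw [Finsupp.mem_supported]
  intro i _
  change 1 ≤ Nat.card (Subgroup.center i.rep)
  exact Nat.card_pos

lemma Kle_inf_Kge (n : ℕ) : Kle n ⊓ Kge (n + 1) = ⊥ := by
  rw [eq_bot_iff]
  rintro v ⟨h1, h2⟩
  rw [Submodule.mem_bot]
  ext i
  by_contra hi
  have hi' : i ∈ v.support := Finsupp.mem_support_iff.2 hi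
  have a1 : i.card ≤ n := (Finsupp.mem_supported ℚ v).1 h1 hi'
  have a2 : n + 1 ≤ i.centerCard := (Finsupp.mem_supported ℚ v).1 h2 hi'
  have a3 : i.centerCard ≤ i.card := Subgroup.card_le_card_group _
  omega

lemma exists_mem_Kle (v : K) : ∃ n, v ∈ Kle n := by
  refine ⟨v.support.sup Idx.card, ?_⟩
  unfold Kle
  rw [Finsupp.mem_supported]
  intro i hi
  exact Finset.le_sup (f := Idx.card) hi

/-- The polynomial `∏_{k < m} (X - (k + 1))`. -/
noncomputable def pol (m : ℕ) : ℚ[X] := ∏ k ∈ Finset.range m, (X - C ((k + 1 : ℕ) : ℚ))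

lemma aeval_pol_mem (n : ℕ) (v : K) (hv : v ∈ Kle n) (m : ℕ) :
    aeval inertia (pol m) v ∈ Kle n ⊓ Kge (m + 1) := by
  induction m with
  | zero =>
    simp only [pol, Finset.range_zero, Finset.prod_empty, map_one, zero_add, Kge_one, inf_top_eq]
    exact hv
  | succ m ih =>
    have hstep : aeval inertia (pol (m + 1)) v
        = inertia (aeval inertia (pol m) v) - (((m + 1 : ℕ) : ℚ)) • (aeval inertia (pol m) v) := by
      unfold pol
      rw [Finset.prod_range_succ, mul_comm, map_mul, Module.End.mul_apply]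
      simp only [map_sub, aeval_X, aeval_C, LinearMap.sub_apply, Module.algebraMap_end_apply]
    rw [hstep]
    set w := aeval inertia (pol m) v with hw
    refine ⟨Submodule.sub_mem _ (inertiaR_mem_Kle 1 n w ih.1) (Submodule.smul_mem _ _ ih.1), ?_⟩
    have := inertiaR_sub_smul_mem_Kge 1 (m + 1) w ih.2
    simpa using this

lemma aeval_pol_eq_zero (n : ℕ) (v : K) (hv : v ∈ Kle n) : aeval inertia (pol n) v = 0 := by
  have := aeval_pol_mem n v hv n
  rw [Kle_inf_Kge] at this
  exact this

lemma ker_aeval_pol (m : ℕ) :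
    LinearMap.ker (aeval inertia (pol m))
      = ⨆ k ∈ Finset.range m, Module.End.eigenspace inertia (((k + 1 : ℕ) : ℚ)) := by
  unfold pol
  rw [ker_aeval_prod]
  · refine iSup_congr fun k => iSup_congr fun _ => ?_
    rw [Module.End.eigenspace_def]
    congr 1
    simp only [map_sub, aeval_X, aeval_C, Algebra.algebraMap_eq_smul_one]
  · have hinj : Function.Injective (fun k : ℕ => ((k + 1 : ℕ) : ℚ)) := by
      intro a b hab
      have h' : ((a + 1 : ℕ) : ℚ) = ((b + 1 : ℕ) : ℚ) := hab
      exact Nat.succ_injective (Nat.cast_injective h')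
    intro a _ b _ hab
    exact pairwise_coprime_X_sub_C hinj hab

theorem iSup_eigenspace_eq_top : (⨆ n : ℕ, Module.End.eigenspace inertia (n : ℚ)) = ⊤ := by
  rw [eq_top_iff]
  intro v _
  obtain ⟨n, hn⟩ := exists_mem_Kle v
  have h0 : v ∈ LinearMap.ker (aeval inertia (pol n)) := LinearMap.mem_ker.2 (aeval_pol_eq_zero n v hn)
  rw [ker_aeval_pol] at h0
  have hle : (⨆ k ∈ Finset.range n, Module.End.eigenspace inertia (((k + 1 : ℕ) : ℚ)))
      ≤ ⨆ n : ℕ, Module.End.eigenspace inertia (n : ℚ) :=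
    iSup₂_le fun k _ => le_iSup (fun n : ℕ => Module.End.eigenspace inertia (n : ℚ)) (k + 1)
  exact hle h0

lemma eigenvalue_pos {μ : ℚ} (h : Module.End.HasEigenvalue inertia μ) : ∃ n : ℕ, 0 < n ∧ μ = (n : ℚ) := by
  obtain ⟨v, hv⟩ := h.exists_hasEigenvector
  obtain ⟨n, hn⟩ := exists_mem_Kle v
  have h0 := aeval_pol_eq_zero n v hn
  rw [Module.End.aeval_apply_of_hasEigenvector hv] at h0
  have hne : v ≠ 0 := hv.2
  have h1 : (pol n).eval μ = 0 := by
    rcases smul_eq_zero.1 h0 with h | h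
    · exact h
    · exact absurd h hne
  unfold pol at h1
  rw [eval_prod, Finset.prod_eq_zero_iff] at h1
  obtain ⟨k, _, hk⟩ := h1
  refine ⟨k + 1, Nat.succ_pos k, ?_⟩
  simp only [eval_sub, eval_X, eval_C] at hk
  linarith

lemma inertiaR_cl_of_comm (r : ℕ) (A : Type u) [Group A] [Finite A] (hcomm : ∀ a b : A, a * b = b * a) :
    inertiaR r (cl A) = ((Nat.descFactorial (Nat.card A) r : ℕ) : ℚ) • cl A := by
  rw [inertiaR_cl]
  obtain ⟨e⟩ := nonempty_rep_mulEquiv A
  have hcomm' : ∀ a b : (Idx.of A).rep, a * b = b * a := by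
    intro a b
    apply e.injective
    rw [map_mul, map_mul, hcomm]
  rw [inertiaROf_of_comm r _ hcomm', cl_rep, Nat.card_congr e.toEquiv]
  rfl

lemma hasEigenvalue_of_pos (n : ℕ) (hn : 0 < n) : Module.End.HasEigenvalue inertia (n : ℚ) := by
  have : NeZero n := ⟨hn.ne'⟩
  let A := Multiplicative (ZMod n)
  have hA : Nat.card A = n := by
    change Nat.card (Multiplicative (ZMod n)) = n
    rw [Nat.card_congr Multiplicative.toAdd, Nat.card_zmod]
  have h := inertiaR_cl_of_comm 1 A (fun a b => mul_comm a b)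
  rw [hA, Nat.descFactorial_one] at h
  apply Module.End.hasEigenvalue_of_hasEigenvector (x := cl A)
  refine ⟨Module.End.mem_eigenspace_iff.2 h, ?_⟩
  unfold cl
  simp

theorem hasEigenvalue_iff (μ : ℚ) :
    Module.End.HasEigenvalue inertia μ ↔ ∃ n : ℕ, 0 < n ∧ μ = (n : ℚ) := by
  constructor
  · exact eigenvalue_pos
  · rintro ⟨n, hn, rfl⟩
    exact hasEigenvalue_of_pos n hn

end Groth.Agent.Lib27.InertiaDiag
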