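import Groth.Prelude.Def_W4c5stacksedinertiaGpd
import Mathlib

/-!
# Basic lemmas on the vector space of finite groups and inertia operators (helper27)
-/

universe u v

namespace Groth.Agent.Lib27.InertiaL

open W4c5stacksedinertia

/-- The presentation of `G` on `Fin (Nat.card G)` is isomorphic to `G`. -/
noncomputable def finGrpOfEquiv (G : Type u) [Group G] [Finite G] : (FinGrp.of G).carrier ≃* G :=
  Equiv.mulEquiv (Nat.equivFinOfCardPos (α := G) Nat.card_pos.ne').symm

lemma nonempty_rep_mulEquiv (G : Type u) [Group G] [Finite G] : Nonempty ((Idx.of G).rep ≃* G) := by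
  obtain ⟨e⟩ : Nonempty ((Quotient.out (s := FinGrp.setoid) (Idx.of G)).carrier ≃*
      (FinGrp.of G).carrier) := Quotient.mk_out (s := FinGrp.setoid) (FinGrp.of G)
  exact ⟨e.trans (finGrpOfEquiv G)⟩

lemma of_eq_of_mulEquiv {G : Type u} {H : Type v} [Group G] [Finite G] [Group H] [Finite H]
    (e : G ≃* H) : Idx.of G = Idx.of H := by
  apply Quotient.sound
  exact ⟨(finGrpOfEquiv G).trans (e.trans (finGrpOfEquiv H).symm)⟩

lemma of_rep (i : Idx) : Idx.of i.rep = i := by
  obtain ⟨a, rfl⟩ := Quotient.exists_rep i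
  apply Quotient.sound
  obtain ⟨e⟩ : Nonempty ((Quotient.out (s := FinGrp.setoid) (Quotient.mk FinGrp.setoid a)).carrier ≃*
      a.carrier) := Quotient.mk_out (s := FinGrp.setoid) a
  exact ⟨(finGrpOfEquiv _).trans e⟩

lemma card_of (G : Type u) [Group G] [Finite G] : (Idx.of G).card = Nat.card G := by
  obtain ⟨e⟩ := nonempty_rep_mulEquiv G
  exact Nat.card_congr e.toEquiv

lemma centerCard_of (G : Type u) [Group G] [Finite G] :
    (Idx.of G).centerCard = Nat.card (Subgroup.center G) := by
  obtain ⟨e⟩ := nonempty_rep_mulEquiv G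
  exact Nat.card_congr (Subgroup.centerCongr e).toEquiv

lemma cl_mem_Kle {G : Type u} [Group G] [Finite G] {n : ℕ} (h : Nat.card G ≤ n) : cl G ∈ Kle n := by
  unfold cl Kle
  rw [Finsupp.mem_supported]
  intro i hi
  have := Finsupp.support_single_subset hi
  rw [Finset.mem_singleton] at this
  subst this
  simpa [card_of] using h

lemma inertiaROf_mem_Kle (r : ℕ) (G : Type u) [Group G] [Finite G] {n : ℕ} (h : Nat.card G ≤ n) :
    inertiaROf r G ∈ Kle n := by
  unfold inertiaROf
  refine finsum_induction (fun x => x ∈ Kle n) (Submodule.zero_mem _)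
    (fun x y hx hy => Submodule.add_mem _ hx hy) fun O => ?_
  exact cl_mem_Kle ((Subgroup.card_le_card_group _).trans h)

lemma inertiaR_apply (r : ℕ) (v : K) :
    inertiaR r v = v.sum fun i a => a • inertiaROf r i.rep :=
  Finsupp.linearCombination_apply ℚ v

lemma inertiaR_mem_Kle (r n : ℕ) (v : K) (hv : v ∈ Kle n) : inertiaR r v ∈ Kle n := by
  rw [inertiaR_apply]
  refine Submodule.sum_mem _ fun i hi => Submodule.smul_mem _ _ ?_
  have hv' : (v.support : Set Idx) ⊆ {i : Idx | i.card ≤ n} := (Finsupp.mem_supported ℚ v).1 hv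
  exact inertiaROf_mem_Kle r i.rep (hv' hi)

end Groth.Agent.Lib27.InertiaL
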