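import Groth.Agent.Lib27.InertiaRec
import Groth.Agent.Lib27.InertiaDiag

/-!
# `inertiaR r` as the falling factorial polynomial in `inertia` (helper27)
-/

set_option backward.isDefEq.respectTransparency false
set_option backward.isDefEq.respectTransparency.types false

universe u v

namespace Groth.Agent.Lib27.InertiaPoch

open W4c5stacksedinertia Groth.Agent.Lib27.InertiaL Groth.Agent.Lib27.InertiaW
  Groth.Agent.Lib27.InertiaTri Groth.Agent.Lib27.InertiaRec Groth.Agent.Lib27.InertiaDiag Polynomial

section

variable {G : Type u} [Group G]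

instance : Unique (CommTuple G 0) where
  default := ⟨Fin.elim0, fun i => i.elim0, fun i => i.elim0⟩
  uniq s := Subtype.ext (funext fun i => i.elim0)

theorem inertiaROf_zero [Finite G] : inertiaROf 0 G = cl G := by
  rw [inertiaROf_eq_finsum_wt, finsum_unique]
  have htop : cent (default : CommTuple G 0).1 = ⊤ := by
    rw [eq_top_iff]
    intro g _
    rw [mem_cent]
    intro i
    exact i.elim0
  rw [htop]
  unfold wt
  have hGpos : (0 : ℚ) < Nat.card G := by exact_mod_cast Nat.card_pos
  rw [cl_top, Nat.card_congr (Subgroup.topEquiv : (⊤ : Subgroup G) ≃* G).toEquiv, div_self hGpos.ne',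
    one_smul]

end

theorem inertiaR_zero : inertiaR 0 = LinearMap.id := by
  apply Finsupp.lhom_ext
  intro i b
  have h : (Finsupp.single i b : K) = b • cl i.rep := by
    rw [cl_rep, Finsupp.smul_single, smul_eq_mul, mul_one]
  rw [h, map_smul, inertiaR_cl', inertiaROf_zero, LinearMap.id_apply]

theorem inertiaR_succ (r : ℕ) :
    inertiaR (r + 1) = inertiaR r ∘ₗ (inertia - (r : ℚ) • LinearMap.id) := by
  apply Finsupp.lhom_ext
  intro i b
  have h : (Finsupp.single i b : K) = b • cl i.rep := by
    rw [cl_rep, Finsupp.smul_single, smul_eq_mul, mul_one]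
  rw [h, map_smul, map_smul]
  congr 1
  rw [LinearMap.comp_apply, LinearMap.sub_apply, LinearMap.smul_apply, LinearMap.id_apply, map_sub,
    map_smul]
  change inertiaR (r + 1) (cl i.rep) = inertiaR r (inertiaR 1 (cl i.rep)) - (r : ℚ) • inertiaR r (cl i.rep)
  rw [inertiaR_cl' 1, inertiaR_inertiaROf_one, inertiaR_cl', inertiaR_cl', add_sub_cancel_right]

theorem inertiaR_eq_aeval (r : ℕ) : inertiaR r = aeval inertia (descPochhammer ℚ r) := by
  induction r with
  | zero => rw [inertiaR_zero, descPochhammer_zero, map_one]; rfl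
  | succ r ih =>
    rw [inertiaR_succ, ih, descPochhammer_succ_right, map_mul]
    congr 1
    simp only [map_sub, aeval_X, map_natCast]
    have h : ((r : ℚ) • LinearMap.id : Module.End ℚ K) = (r : Module.End ℚ K) := by
      change (r : ℚ) • (1 : Module.End ℚ K) = _
      rw [Nat.cast_smul_eq_nsmul, nsmul_eq_mul, mul_one]
    rw [h]

/-- The eigenspaces of `inertia` are eigenspaces of `inertiaR r`. -/
theorem eigenspace_le (k r : ℕ) :
    Module.End.eigenspace inertia (k : ℚ) ≤
      Module.End.eigenspace (inertiaR r) ((Nat.factorial r * Nat.choose k r : ℕ) : ℚ) := by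
  intro v hv
  rw [Module.End.mem_eigenspace_iff]
  by_cases hv0 : v = 0
  · subst hv0; simp
  · have hev : Module.End.HasEigenvector inertia (k : ℚ) v := ⟨hv, hv0⟩
    rw [inertiaR_eq_aeval, Module.End.aeval_apply_of_hasEigenvector hev,
      descPochhammer_eval_eq_descFactorial, Nat.descFactorial_eq_factorial_mul_choose]

lemma descPochhammer_eq_prod (r : ℕ) :
    descPochhammer ℚ r = ∏ k ∈ Finset.range r, (X - C ((k : ℕ) : ℚ)) := by
  induction r with
  | zero => simp
  | succ r ih =>
    rw [descPochhammer_succ_right, Finset.prod_range_succ, ih]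
    congr 1

theorem ker_inertiaR (r : ℕ) :
    LinearMap.ker (inertiaR r) = ⨆ k ∈ Finset.range r, Module.End.eigenspace inertia (k : ℚ) := by
  rw [inertiaR_eq_aeval, descPochhammer_eq_prod, ker_aeval_prod]
  · refine iSup_congr fun k => iSup_congr fun _ => ?_
    rw [Module.End.eigenspace_def]
    congr 1
    simp only [map_sub, aeval_X, aeval_C, Algebra.algebraMap_eq_smul_one]
  · intro a _ b _ hab
    exact pairwise_coprime_X_sub_C (K := ℚ) (s := fun k : ℕ => (k : ℚ)) Nat.cast_injective hab

end Groth.Agent.Lib27.InertiaPoch
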