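import Groth.Agent.Lib27.InertiaPoch

/-!
# The eigenprojection formula for the inertia operator (helper27)
-/

universe u v

namespace Groth.Agent.Lib27.InertiaProj

open W4c5stacksedinertia Groth.Agent.Lib27.InertiaDiag Groth.Agent.Lib27.InertiaPoch Finset

/-- Binomial inversion. -/
lemma binom_inv_int (m k M : ℕ) (hm : m ≤ M) :
    ∑ r ∈ range (M + 1), ((-1 : ℤ) ^ (r + k)) * (r.choose k : ℤ) * (m.choose r : ℤ)
      = if k = m then 1 else 0 := by
  by_cases hkm : k ≤ m
  · -- restrict to `k ≤ r ≤ m`
    have hsub : Ico k (m + 1) ⊆ range (M + 1) := by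
      intro r hr
      rw [mem_Ico] at hr
      rw [mem_range]; omega
    rw [← sum_subset hsub]
    · rw [sum_Ico_eq_sum_range]
      have hterm : ∀ j ∈ range (m + 1 - k),
          ((-1 : ℤ) ^ (k + j + k)) * ((k + j).choose k : ℤ) * (m.choose (k + j) : ℤ)
            = (m.choose k : ℤ) * ((-1) ^ j * ((m - k).choose j : ℤ)) := by
        intro j _
        have h1 : (m.choose (k + j) : ℤ) * ((k + j).choose k : ℤ) = (m.choose k : ℤ) * ((m - k).choose j : ℤ) := by
          have := Nat.choose_mul (n := m) (k := k + j) (s := k) (Nat.le_add_right k j)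
          rw [Nat.add_sub_cancel_left] at this
          exact_mod_cast this
        have h2 : ((-1 : ℤ) ^ (k + j + k)) = (-1) ^ j := by
          rw [show k + j + k = 2 * k + j by ring, pow_add, pow_mul]; simp
        rw [h2]
        calc (-1 : ℤ) ^ j * ((k + j).choose k : ℤ) * (m.choose (k + j) : ℤ)
            = (-1 : ℤ) ^ j * ((m.choose (k + j) : ℤ) * ((k + j).choose k : ℤ)) := by ring
          _ = _ := by rw [h1]; ring
      rw [sum_congr rfl hterm, ← mul_sum]
      have hmk : m + 1 - k = (m - k) + 1 := by omega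
      rw [hmk, Int.alternating_sum_range_choose]
      by_cases h : k = m
      · subst h; simp
      · have : m - k ≠ 0 := by omega
        rw [if_neg this, if_neg h, mul_zero]
    · intro r _ hr
      rw [mem_Ico] at hr
      by_cases h1 : r < k
      · rw [Nat.choose_eq_zero_of_lt h1]; simp
      · have h2 : m < r := by omega
        rw [Nat.choose_eq_zero_of_lt h2]; simp
  · have hne : k ≠ m := by omega
    rw [if_neg hne]
    apply sum_eq_zero
    intro r _
    by_cases h1 : r < k
    · rw [Nat.choose_eq_zero_of_lt h1]; simp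
    · have h2 : m < r := by omega
      rw [Nat.choose_eq_zero_of_lt h2]; simp

lemma binom_inv (m k M : ℕ) (hm : m ≤ M) :
    ∑ r ∈ range (M + 1), (((-1 : ℚ) ^ (r + k)) / (Nat.factorial r : ℚ) * (Nat.choose r k : ℚ))
        * ((Nat.factorial r * Nat.choose m r : ℕ) : ℚ)
      = if k = m then 1 else 0 := by
  have h := congrArg (fun z : ℤ => (z : ℚ)) (binom_inv_int m k M hm)
  simp only [Int.cast_sum, Int.cast_mul, Int.cast_pow, Int.cast_neg, Int.cast_one, Int.cast_natCast,
    Int.cast_ite, Int.cast_zero] at h
  rw [← h]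
  refine sum_congr rfl fun r _ => ?_
  have hr : (Nat.factorial r : ℚ) ≠ 0 := by exact_mod_cast Nat.factorial_ne_zero r
  push_cast
  field_simp

/-- The coefficient of the eigenprojection formula. -/
noncomputable abbrev coef (r k : ℕ) : ℚ :=
  ((-1 : ℚ) ^ (r + k)) / (Nat.factorial r : ℚ) * (Nat.choose r k : ℚ)

theorem eigenprojection (v : K) :
    (∀ k : ℕ, (∑ᶠ r : ℕ, coef r k • inertiaR r v) ∈ Module.End.eigenspace inertia (k : ℚ)) ∧
    (∑ᶠ k : ℕ, ∑ᶠ r : ℕ, coef r k • inertiaR r v) = v := by
  classical
  obtain ⟨f, hf, hsum⟩ := (Submodule.mem_iSup_iff_exists_finsupp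
    (fun n : ℕ => Module.End.eigenspace inertia (n : ℚ)) v).1
    (by rw [iSup_eigenspace_eq_top]; trivial)
  set M := f.support.sup id with hM
  have hle : ∀ m ∈ f.support, m ≤ M := fun m hm => Finset.le_sup (f := id) hm
  have hv : v = ∑ m ∈ f.support, f m := hsum.symm
  -- the action of `inertiaR r`
  have key1 : ∀ r, inertiaR r v
      = ∑ m ∈ f.support, ((Nat.factorial r * Nat.choose m r : ℕ) : ℚ) • f m := by
    intro r
    rw [hv, map_sum]
    refine Finset.sum_congr rfl fun m _ => ?_
    exact Module.End.mem_eigenspace_iff.1 (eigenspace_le m r (hf m))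
  have key2 : ∀ k, (∑ᶠ r : ℕ, coef r k • inertiaR r v) = f k := by
    intro k
    have hsupp : Function.support (fun r : ℕ => coef r k • inertiaR r v) ⊆ (Finset.range (M + 1) : Set ℕ) := by
      intro r hr
      rw [Finset.coe_range, Set.mem_Iio]
      by_contra hlt
      apply hr
      have : inertiaR r v = 0 := by
        rw [key1]
        apply Finset.sum_eq_zero
        intro m hm
        have : m < r := by have := hle m hm; omega
        rw [Nat.choose_eq_zero_of_lt this, mul_zero, Nat.cast_zero, zero_smul]
      change coef r k • inertiaR r v = 0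
      rw [this, smul_zero]
    rw [finsum_eq_sum_of_support_subset _ hsupp]
    have h1 : ∀ r ∈ Finset.range (M + 1), coef r k • inertiaR r v
        = ∑ m ∈ f.support, (coef r k * ((Nat.factorial r * Nat.choose m r : ℕ) : ℚ)) • f m := by
      intro r _
      rw [key1, Finset.smul_sum]
      refine Finset.sum_congr rfl fun m _ => ?_
      rw [smul_smul]
    rw [Finset.sum_congr rfl h1, Finset.sum_comm]
    have h2 : ∀ m ∈ f.support, ∑ r ∈ Finset.range (M + 1),
        (coef r k * ((Nat.factorial r * Nat.choose m r : ℕ) : ℚ)) • f m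
          = (if k = m then (1 : ℚ) else 0) • f m := by
      intro m hm
      rw [← Finset.sum_smul, binom_inv m k M (hle m hm)]
    rw [Finset.sum_congr rfl h2]
    simp only [ite_smul, one_smul, zero_smul]
    rw [Finset.sum_ite_eq f.support k (fun m => f m)]
    split_ifs with hk
    · rfl
    · exact (Finsupp.notMem_support_iff.1 hk).symm
  refine ⟨fun k => ?_, ?_⟩
  · rw [key2]; exact hf k
  · simp only [key2]
    have hsupp : Function.support (fun k : ℕ => f k) ⊆ (f.support : Set ℕ) := by
      intro k hk
      exact Finsupp.mem_support_iff.2 hk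
    rw [finsum_eq_sum_of_support_subset _ hsupp]
    exact hv.symm

end Groth.Agent.Lib27.InertiaProj
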