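import Groth.Agent.Lib27.InertiaTri

/-!
# The recursion `inertiaR (r+1) = inertiaR r ∘ (inertia - r)` (helper27)
-/

set_option backward.isDefEq.respectTransparency false
set_option backward.isDefEq.respectTransparency.types false

universe u v

namespace Groth.Agent.Lib27.InertiaRec

open W4c5stacksedinertia Groth.Agent.Lib27.InertiaL Groth.Agent.Lib27.InertiaW
  Groth.Agent.Lib27.InertiaTri

section Transport

variable {G : Type u} [Group G] {H : Type v} [Group H]

/-- Transport of tuples along a group isomorphism. -/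
def mapTuple {r : ℕ} (e : G ≃* H) (s : CommTuple G r) : CommTuple H r :=
  ⟨fun i => e (s.1 i), fun i j h => s.2.1 (e.injective h), fun i j => by
    have := s.2.2 i j
    unfold Commute SemiconjBy at this ⊢
    rw [← map_mul, ← map_mul, this]⟩

lemma mapTuple_bijective {r : ℕ} (e : G ≃* H) : Function.Bijective (mapTuple (r := r) e) := by
  refine Function.bijective_iff_has_inverse.2 ⟨mapTuple e.symm, ?_, ?_⟩
  · intro s; apply Subtype.ext; funext i; exact e.symm_apply_apply _
  · intro s; apply Subtype.ext; funext i; exact e.apply_symm_apply _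

/-- The centralizers correspond. -/
def centEquiv {r : ℕ} (e : G ≃* H) (t : Fin r → G) : cent t ≃* cent (fun i => e (t i)) where
  toFun x := ⟨e x.1, by
    rw [mem_cent]; intro i
    have := (mem_cent t x.1).1 x.2 i
    rw [← map_mul, ← map_mul, this]⟩
  invFun y := ⟨e.symm y.1, by
    rw [mem_cent]; intro i
    have := (mem_cent _ y.1).1 y.2 i
    apply e.injective
    rw [map_mul, map_mul, e.apply_symm_apply]
    exact this⟩
  left_inv x := Subtype.ext (e.symm_apply_apply _)
  right_inv y := Subtype.ext (e.apply_symm_apply _)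
  map_mul' x y := Subtype.ext (map_mul e _ _)

/-- The inertia operators only depend on the isomorphism class of the group. -/
theorem inertiaROf_congr [Finite G] [Finite H] (r : ℕ) (e : G ≃* H) :
    inertiaROf r G = inertiaROf r H := by
  rw [inertiaROf_eq_finsum, inertiaROf_eq_finsum]
  refine finsum_eq_of_bijective (mapTuple e) (mapTuple_bijective e) fun s => ?_
  have h1 : Nat.card (cent s.1) = Nat.card (cent (mapTuple e s).1) :=
    Nat.card_congr (centEquiv e s.1).toEquiv
  have h2 : cl (cent s.1) = cl (cent (mapTuple e s).1) := by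
    unfold cl
    rw [of_eq_of_mulEquiv (centEquiv e s.1)]
    rfl
  rw [h1, h2, Nat.card_congr e.toEquiv]

lemma inertiaR_cl' [Finite H] (r : ℕ) : inertiaR r (cl H) = inertiaROf r H := by
  rw [inertiaR_cl]
  obtain ⟨e⟩ := nonempty_rep_mulEquiv H
  exact inertiaROf_congr r e

end Transport

section Subgroup

variable {G : Type u} [Group G] (H : Subgroup G)

/-- Tuples of `G` with entries in the subgroup `H`. -/
def TupleIn (r : ℕ) : Type u := {s : CommTuple G r // ∀ i, s.1 i ∈ H}

/-- Tuples of the subgroup as tuples of `G` with entries in the subgroup. -/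
def tupleInEquiv (r : ℕ) : CommTuple H r ≃ TupleIn H r where
  toFun s := ⟨⟨fun i => (s.1 i : G), fun i j h => s.2.1 (Subtype.ext h), fun i j => by
    have := s.2.2 i j
    unfold Commute SemiconjBy at this ⊢
    exact congrArg Subtype.val this⟩, fun i => (s.1 i).2⟩
  invFun s := ⟨fun i => ⟨s.1.1 i, s.2 i⟩, fun i j h => s.1.2.1 (congrArg Subtype.val h), fun i j => by
    have := s.1.2.2 i j
    unfold Commute SemiconjBy at this ⊢
    exact Subtype.ext this⟩
  left_inv s := rfl
  right_inv s := rfl

/-- The centralizer in the subgroup as a subgroup of `G`. -/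
def centSubEquiv {r : ℕ} (t : Fin r → H) :
    cent t ≃* (cent (fun i => (t i : G)) ⊓ H : Subgroup G) where
  toFun x := ⟨x.1.1, by
    refine Subgroup.mem_inf.2 ⟨?_, x.1.2⟩
    rw [mem_cent]; intro i
    exact congrArg Subtype.val ((mem_cent t x.1).1 x.2 i)⟩
  invFun y := ⟨⟨y.1, (Subgroup.mem_inf.1 y.2).2⟩, by
    rw [mem_cent]; intro i
    apply Subtype.ext
    exact (mem_cent _ y.1).1 (Subgroup.mem_inf.1 y.2).1 i⟩
  left_inv x := rfl
  right_inv y := rfl
  map_mul' x y := rfl

instance [Finite G] (r : ℕ) : Finite (TupleIn H r) := by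
  unfold TupleIn; infer_instance

theorem inertiaROf_subgroup [Finite G] (r : ℕ) :
    inertiaROf r H = ∑ᶠ s : TupleIn H r,
      ((Nat.card (cent s.1.1 ⊓ H : Subgroup G) : ℚ) / (Nat.card H : ℚ)) •
        cl (cent s.1.1 ⊓ H : Subgroup G) := by
  rw [inertiaROf_eq_finsum]
  refine finsum_eq_of_bijective (tupleInEquiv H r) (tupleInEquiv H r).bijective fun s => ?_
  have h1 : Nat.card (cent s.1) = Nat.card (cent ((tupleInEquiv H r) s).1.1 ⊓ H : Subgroup G) :=
    Nat.card_congr (centSubEquiv H s.1).toEquiv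
  have h2 : cl (cent s.1) = cl (cent ((tupleInEquiv H r) s).1.1 ⊓ H : Subgroup G) := by
    unfold cl
    rw [of_eq_of_mulEquiv (centSubEquiv H s.1)]
    rfl
  rw [h1, h2]

end Subgroup

section Main

variable {G : Type u} [Group G]

/-- The weighted class of a subgroup. -/
noncomputable def wt [Finite G] (S : Subgroup G) : K := ((Nat.card S : ℚ) / (Nat.card G : ℚ)) • cl S

/-- The centralizer of one element. -/
abbrev Cg (g : G) : Subgroup G := Subgroup.centralizer {g}

lemma mem_Cg {g h : G} : h ∈ Cg g ↔ g * h = h * g := by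
  rw [Subgroup.mem_centralizer_singleton_iff, eq_comm]

lemma cent_cons {r : ℕ} (g : G) (t : Fin r → G) : cent (Fin.cons g t : Fin (r + 1) → G) = cent t ⊓ Cg g := by
  ext h
  rw [Subgroup.mem_inf, mem_cent, mem_cent, mem_Cg]
  constructor
  · intro hh
    exact ⟨fun i => by simpa using hh i.succ, by simpa using hh 0⟩
  · rintro ⟨h1, h2⟩ i
    refine Fin.cases ?_ (fun j => ?_) i
    · simpa using h2
    · simpa using h1 j

lemma cent_inf_Cg_of_mem_range {r : ℕ} {g : G} {t : Fin r → G} (hg : g ∈ Set.range t) :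
    cent t ⊓ Cg g = cent t := by
  apply inf_eq_left.2
  intro h hh
  obtain ⟨i, rfl⟩ := hg
  rw [mem_Cg]
  exact (mem_cent t h).1 hh i

theorem inertiaROf_eq_finsum_wt [Finite G] (r : ℕ) :
    inertiaROf r G = ∑ᶠ s : CommTuple G r, wt (cent s.1) :=
  inertiaROf_eq_finsum r G

/-- One-tuples are elements. -/
def oneTupleEquiv : CommTuple G 1 ≃ G where
  toFun s := s.1 0
  invFun g := ⟨fun _ => g, fun i j _ => Subsingleton.elim i j, fun _ _ => Commute.refl g⟩
  left_inv s := by
    apply Subtype.ext; funext i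
    rw [Subsingleton.elim i 0]
  right_inv g := rfl

lemma cent_oneTuple (s : CommTuple G 1) : cent s.1 = Cg (s.1 0) := by
  unfold cent Cg
  congr 1
  ext x
  constructor
  · rintro ⟨i, rfl⟩
    rw [Subsingleton.elim i 0]; rfl
  · rintro rfl
    exact ⟨0, rfl⟩

theorem inertiaROf_one [Finite G] : inertiaROf 1 G = ∑ᶠ g : G, wt (Cg g) := by
  rw [inertiaROf_eq_finsum_wt]
  refine finsum_eq_of_bijective oneTupleEquiv oneTupleEquiv.bijective fun s => ?_
  rw [cent_oneTuple]
  rfl

/-- The `r`-th inertia operator on the weighted class of a subgroup, as a sum over the tuples of `G`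
with entries in the subgroup. -/
theorem inertiaR_wt [Finite G] (r : ℕ) [Fintype (CommTuple G r)] (H : Subgroup G)
    [DecidablePred fun s : CommTuple G r => ∀ i, s.1 i ∈ H] :
    inertiaR r (wt H) = ∑ s ∈ Finset.univ.filter (fun s : CommTuple G r => ∀ i, s.1 i ∈ H),
      wt (cent s.1 ⊓ H) := by
  classical
  unfold wt
  rw [map_smul, inertiaR_cl', inertiaROf_subgroup]
  have : Fintype (TupleIn H r) := Fintype.ofFinite _
  rw [finsum_eq_sum_of_fintype, Finset.smul_sum]
  rw [Finset.sum_subtype (Finset.univ.filter (fun s : CommTuple G r => ∀ i, s.1 i ∈ H))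
    (p := fun s : CommTuple G r => ∀ i, s.1 i ∈ H) (by simp)]
  refine Finset.sum_congr rfl fun s _ => ?_
  rw [smul_smul]
  congr 1
  have hH : (0 : ℚ) < Nat.card H := by exact_mod_cast Nat.card_pos
  field_simp

end Main

section Main2

variable {G : Type u} [Group G]

/-- The tail of a tuple. -/
def tailT {r : ℕ} (u : CommTuple G (r + 1)) : CommTuple G r :=
  ⟨Fin.tail u.1, fun i j h => Fin.succ_injective _ (u.2.1 h), fun i j => u.2.2 i.succ j.succ⟩

/-- Adding a new first entry to a tuple. -/
def consT {r : ℕ} (g : G) (s : CommTuple G r) (h1 : ∀ i, g * s.1 i = s.1 i * g)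
    (h2 : g ∉ Set.range s.1) : CommTuple G (r + 1) :=
  ⟨Fin.cons g s.1, Fin.cons_injective_iff.2 ⟨h2, s.2.1⟩, fun i j => by
    refine Fin.cases ?_ (fun i' => ?_) i <;> refine Fin.cases ?_ (fun j' => ?_) j
    · exact Commute.refl _
    · simp only [Fin.cons_zero, Fin.cons_succ]; exact h1 j'
    · simp only [Fin.cons_zero, Fin.cons_succ]; exact (h1 i').symm
    · simp only [Fin.cons_succ]; exact s.2.2 i' j'⟩

lemma tailT_consT {r : ℕ} (g : G) (s : CommTuple G r) (h1) (h2) : tailT (consT g s h1 h2) = s := by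
  apply Subtype.ext
  change Fin.tail (Fin.cons (α := fun _ => G) g s.1) = s.1
  exact Fin.tail_cons _ _

lemma consT_val_zero {r : ℕ} (g : G) (s : CommTuple G r) (h1) (h2) : (consT g s h1 h2).1 0 = g := rfl

lemma val_eq_cons {r : ℕ} (u : CommTuple G (r + 1)) : u.1 = Fin.cons (u.1 0) (tailT u).1 :=
  (Fin.cons_self_tail u.1).symm

/-- The per-tuple identity. -/
theorem sum_filter_eq [Finite G] [Fintype G] (r : ℕ) [Fintype (CommTuple G (r + 1))]
    (s : CommTuple G r) [DecidablePred fun g : G => ∀ i, s.1 i ∈ Cg g]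
    [DecidablePred fun u : CommTuple G (r + 1) => tailT u = s] :
    ∑ g ∈ Finset.univ.filter (fun g : G => ∀ i, s.1 i ∈ Cg g), wt (cent s.1 ⊓ Cg g)
      = ∑ u ∈ Finset.univ.filter (fun u : CommTuple G (r + 1) => tailT u = s), wt (cent u.1)
        + (r : ℚ) • wt (cent s.1) := by
  classical
  rw [← Finset.sum_filter_add_sum_filter_not _ (fun g => g ∈ Set.range s.1), add_comm]
  congr 1
  · symm
    have key : ∀ g ∈ (Finset.univ.filter (fun g : G => ∀ i, s.1 i ∈ Cg g)).filter
        (fun g => ¬ g ∈ Set.range s.1), (∀ i, g * s.1 i = s.1 i * g) ∧ g ∉ Set.range s.1 := by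
      intro g hg
      exact ⟨fun i => mem_Cg.1 ((Finset.mem_filter.1 (Finset.mem_filter.1 hg).1).2 i),
        (Finset.mem_filter.1 hg).2⟩
    refine Finset.sum_bij' (fun u _ => u.1 0)
      (fun g hg => consT g s (key g hg).1 (key g hg).2) ?_ ?_ ?_ ?_ ?_
    · intro u hu
      have hu' : tailT u = s := (Finset.mem_filter.1 hu).2
      subst hu'
      refine Finset.mem_filter.2 ⟨Finset.mem_filter.2 ⟨Finset.mem_univ _, fun i => ?_⟩, ?_⟩
      · exact mem_Cg.2 (u.2.2 0 i.succ)
      · rintro ⟨i, hi⟩
        exact absurd (u.2.1 hi) (Fin.succ_ne_zero i)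
    · intro g hg
      exact Finset.mem_filter.2 ⟨Finset.mem_univ _, tailT_consT _ _ _ _⟩
    · intro u hu
      have hu' : tailT u = s := (Finset.mem_filter.1 hu).2
      subst hu'
      apply Subtype.ext
      exact (val_eq_cons u).symm
    · intro g hg
      rfl
    · intro u hu
      have hu' : tailT u = s := (Finset.mem_filter.1 hu).2
      subst hu'
      rw [← cent_cons, ← val_eq_cons]
  · have hset : (Finset.univ.filter (fun g : G => ∀ i, s.1 i ∈ Cg g)).filter (fun g => g ∈ Set.range s.1)
        = Finset.univ.image s.1 := by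
      ext g
      simp only [Finset.mem_filter, Finset.mem_univ, true_and, Finset.mem_image, Set.mem_range]
      constructor
      · rintro ⟨_, h⟩; exact h
      · rintro ⟨j, rfl⟩
        exact ⟨fun i => mem_Cg.2 (s.2.2 j i), ⟨j, rfl⟩⟩
    have hterm : ∀ g ∈ (Finset.univ.filter (fun g : G => ∀ i, s.1 i ∈ Cg g)).filter
        (fun g => g ∈ Set.range s.1), wt (cent s.1 ⊓ Cg g) = wt (cent s.1) := by
      intro g hg
      rw [cent_inf_Cg_of_mem_range (Finset.mem_filter.1 hg).2]
    rw [Finset.sum_congr rfl hterm, Finset.sum_const, hset,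
      Finset.card_image_of_injective _ s.2.1, Finset.card_univ, Fintype.card_fin,
      Nat.cast_smul_eq_nsmul]

/-- The recursion on basis vectors. -/
theorem inertiaR_inertiaROf_one [Finite G] (r : ℕ) :
    inertiaR r (inertiaROf 1 G) = inertiaROf (r + 1) G + (r : ℚ) • inertiaROf r G := by
  classical
  have : Fintype G := Fintype.ofFinite _
  have : Fintype (CommTuple G r) := Fintype.ofFinite _
  have : Fintype (CommTuple G (r + 1)) := Fintype.ofFinite _
  rw [inertiaROf_one, finsum_eq_sum_of_fintype, map_sum]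
  simp only [inertiaR_wt]
  rw [Finset.sum_comm' (s' := fun s : CommTuple G r => Finset.univ.filter (fun g : G => ∀ i, s.1 i ∈ Cg g))
    (t' := Finset.univ) (by simp)]
  simp only [sum_filter_eq]
  rw [Finset.sum_add_distrib, ← Finset.smul_sum,
    Finset.sum_fiberwise Finset.univ (tailT (G := G) (r := r)) (fun u => wt (cent u.1)),
    inertiaROf_eq_finsum_wt, inertiaROf_eq_finsum_wt, finsum_eq_sum_of_fintype,
    finsum_eq_sum_of_fintype]

end Main2

end Groth.Agent.Lib27.InertiaRec
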