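import Groth.Agent.Lib27.InertiaW

/-!
# Triangularity of the inertia operators with respect to the order of the centre (helper27)
-/

universe u v

namespace Groth.Agent.Lib27.InertiaTri

open W4c5stacksedinertia Groth.Agent.Lib27.InertiaL Groth.Agent.Lib27.InertiaW

variable {G : Type u} [Group G]

lemma cl_mem_Kge {H : Type u} [Group H] [Finite H] {m : ℕ} (h : m ≤ Nat.card (Subgroup.center H)) :
    cl H ∈ Kge m := by
  unfold cl Kge
  rw [Finsupp.mem_supported]
  intro i hi
  have := Finsupp.support_single_subset hi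
  rw [Finset.mem_singleton] at this
  subst this
  simpa [centerCard_of] using h

lemma Kge_anti {m n : ℕ} (h : m ≤ n) : Kge n ≤ Kge m := by
  unfold Kge
  apply Finsupp.supported_mono
  intro j hj
  exact h.trans hj

/-- A tuple is central when all its entries are. -/
def IsCentral {r : ℕ} (s : CommTuple G r) : Prop := ∀ i, s.1 i ∈ Subgroup.center G

lemma cent_eq_top_of_isCentral {r : ℕ} {s : CommTuple G r} (hs : IsCentral s) : cent s.1 = ⊤ := by
  rw [eq_top_iff]
  intro g _
  rw [mem_cent]
  intro i
  exact (Subgroup.mem_center_iff.1 (hs i) g).symm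

/-- For a non-central tuple, the centre of the centralizer is strictly bigger than the centre. -/
lemma card_center_lt [Finite G] {r : ℕ} {s : CommTuple G r} (hs : ¬ IsCentral s) :
    Nat.card (Subgroup.center G) < Nat.card (Subgroup.center (cent s.1)) := by
  classical
  have : Fintype (Subgroup.center G) := Fintype.ofFinite _
  have : Fintype (Subgroup.center (cent s.1)) := Fintype.ofFinite _
  unfold IsCentral at hs
  push Not at hs
  obtain ⟨i₀, hi₀⟩ := hs
  have hmemH : ∀ z : Subgroup.center G, (z : G) ∈ cent s.1 := by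
    intro z
    rw [mem_cent]
    intro i
    exact Subgroup.mem_center_iff.1 z.2 (s.1 i)
  let φ : Subgroup.center G → Subgroup.center (cent s.1) := fun z =>
    ⟨⟨z.1, hmemH z⟩, by
      rw [Subgroup.mem_center_iff]
      intro h
      apply Subtype.ext
      exact Subgroup.mem_center_iff.1 z.2 h.1⟩
  have hφ : Function.Injective φ := by
    intro z z' h
    apply Subtype.ext
    exact congrArg (fun y : Subgroup.center (cent s.1) => (y.1.1 : G)) h
  have hs₀ : s.1 i₀ ∈ cent s.1 := by
    rw [mem_cent]
    intro i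
    exact (s.2.2 i i₀).eq
  let y : Subgroup.center (cent s.1) := ⟨⟨s.1 i₀, hs₀⟩, by
    rw [Subgroup.mem_center_iff]
    intro h
    apply Subtype.ext
    have := (mem_cent s.1 h.1).1 h.2 i₀
    exact this.symm⟩
  have hy : y ∉ Set.range φ := by
    rintro ⟨z, hz⟩
    apply hi₀
    have : (z : G) = s.1 i₀ := congrArg (fun y : Subgroup.center (cent s.1) => (y.1.1 : G)) hz
    rw [← this]
    exact z.2
  rw [Nat.card_eq_fintype_card, Nat.card_eq_fintype_card]
  exact Fintype.card_lt_of_injective_of_notMem φ hφ hy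

/-- Central tuples are the same as embeddings into the centre. -/
def centralEquiv (r : ℕ) : {s : CommTuple G r // IsCentral s} ≃ (Fin r ↪ Subgroup.center G) where
  toFun s := ⟨fun i => ⟨s.1.1 i, s.2 i⟩, fun i j h => s.1.2.1 (congrArg Subtype.val h)⟩
  invFun e := ⟨⟨fun i => (e i : G), fun i j h => e.injective (Subtype.ext h),
    fun i j => (Subgroup.mem_center_iff.1 (e j).2 (e i))⟩, fun i => (e i).2⟩
  left_inv s := rfl
  right_inv e := rfl

lemma cl_top [Finite G] : cl (⊤ : Subgroup G) = cl G := by
  unfold cl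
  rw [of_eq_of_mulEquiv (Subgroup.topEquiv : (⊤ : Subgroup G) ≃* G)]

/-- The splitting of the weighted sum into central and non-central tuples. -/
theorem inertiaROf_eq (r : ℕ) (G : Type u) [Group G] [Finite G] :
    ∃ z : K, z ∈ Kge (Nat.card (Subgroup.center G) + 1) ∧
      ((∀ s : CommTuple G r, IsCentral s) → z = 0) ∧
      inertiaROf r G = ((Nat.descFactorial (Nat.card (Subgroup.center G)) r : ℕ) : ℚ) • cl G + z := by
  classical
  have : Fintype (CommTuple G r) := Fintype.ofFinite _
  have : Fintype (Subgroup.center G) := Fintype.ofFinite _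
  rw [inertiaROf_eq_finsum, finsum_eq_sum_of_fintype,
    ← Finset.sum_filter_add_sum_filter_not Finset.univ (fun s : CommTuple G r => IsCentral s)]
  refine ⟨∑ s ∈ Finset.univ.filter (fun s : CommTuple G r => ¬ IsCentral s),
    ((Nat.card (cent s.1) : ℚ) / (Nat.card G : ℚ)) • cl (cent s.1), ?_, ?_, ?_⟩
  · refine Submodule.sum_mem _ fun s hs => Submodule.smul_mem _ _ ?_
    exact cl_mem_Kge (Nat.succ_le_of_lt (card_center_lt (Finset.mem_filter.1 hs).2))
  · intro hall
    apply Finset.sum_eq_zero
    intro s hs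
    exact absurd (hall s) (Finset.mem_filter.1 hs).2
  · congr 1
    have hterm : ∀ s ∈ Finset.univ.filter (fun s : CommTuple G r => IsCentral s),
        ((Nat.card (cent s.1) : ℚ) / (Nat.card G : ℚ)) • cl (cent s.1) = cl G := by
      intro s hs
      have htop := cent_eq_top_of_isCentral (Finset.mem_filter.1 hs).2
      have hGpos : (0 : ℚ) < Nat.card G := by exact_mod_cast Nat.card_pos
      have h1 : Nat.card (cent s.1) = Nat.card G := by
        rw [htop]; exact Nat.card_congr Subgroup.topEquiv.toEquiv
      have h2 : cl (cent s.1) = cl G := by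
        unfold cl
        rw [of_eq_of_mulEquiv ((MulEquiv.subgroupCongr htop).trans Subgroup.topEquiv)]
      rw [h1, h2, div_self hGpos.ne', one_smul]
    rw [Finset.sum_congr rfl hterm, Finset.sum_const, ← Nat.cast_smul_eq_nsmul ℚ]
    congr 2
    rw [← Fintype.card_subtype, Fintype.card_congr (centralEquiv r), Fintype.card_embedding_eq,
      Fintype.card_fin, Nat.card_eq_fintype_card]

theorem inertiaROf_sub_mem_Kge (r : ℕ) (G : Type u) [Group G] [Finite G] :
    inertiaROf r G - ((Nat.descFactorial (Nat.card (Subgroup.center G)) r : ℕ) : ℚ) • cl G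
      ∈ Kge (Nat.card (Subgroup.center G) + 1) := by
  obtain ⟨z, hz, -, h⟩ := inertiaROf_eq r G
  rw [h, add_sub_cancel_left]
  exact hz

theorem inertiaROf_of_comm (r : ℕ) (G : Type u) [Group G] [Finite G] (hcomm : ∀ a b : G, a * b = b * a) :
    inertiaROf r G = ((Nat.descFactorial (Nat.card G) r : ℕ) : ℚ) • cl G := by
  have hc : Subgroup.center G = ⊤ := by
    rw [eq_top_iff]
    intro g _
    rw [Subgroup.mem_center_iff]
    intro h
    exact hcomm h g
  obtain ⟨z, -, hz, h⟩ := inertiaROf_eq r G
  rw [h, hz (fun s i => by rw [hc]; trivial), add_zero]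
  congr 3
  rw [hc]
  exact Nat.card_congr Subgroup.topEquiv.toEquiv

lemma cl_rep (i : Idx) : cl i.rep = Finsupp.single i 1 := by
  unfold cl; rw [of_rep]

lemma inertiaR_cl (r : ℕ) (H : Type u) [Group H] [Finite H] :
    inertiaR r (cl H) = inertiaROf r (Idx.of H).rep := by
  unfold cl
  rw [inertiaR_apply, Finsupp.sum_single_index (by simp), one_smul]

/-- The operator `inertiaR r` acts on the `k`-th graded piece of the centre filtration as the scalar
`r! * choose k r`. -/
theorem inertiaR_sub_smul_mem_Kge (r k : ℕ) (v : K) (hv : v ∈ Kge k) :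
    inertiaR r v - ((Nat.factorial r * Nat.choose k r : ℕ) : ℚ) • v ∈ Kge (k + 1) := by
  let L : K →ₗ[ℚ] K := inertiaR r - ((Nat.factorial r * Nat.choose k r : ℕ) : ℚ) • LinearMap.id
  change v ∈ (Kge (k + 1)).comap L
  revert v
  change Kge k ≤ (Kge (k + 1)).comap L
  unfold Kge
  rw [Finsupp.supported_eq_span_single, Submodule.span_le]
  rintro _ ⟨i, hi, rfl⟩
  have hki : k ≤ Nat.card (Subgroup.center i.rep) := hi
  change L (Finsupp.single i 1) ∈ Kge (k + 1)
  have hL : L (Finsupp.single i 1)
      = inertiaROf r i.rep - ((Nat.factorial r * Nat.choose k r : ℕ) : ℚ) • cl i.rep := by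
    change inertiaR r (Finsupp.single i 1) - ((Nat.factorial r * Nat.choose k r : ℕ) : ℚ) • (Finsupp.single i 1) = _
    rw [← cl_rep, inertiaR_cl, of_rep]
  rw [hL]
  set c := Nat.card (Subgroup.center i.rep) with hc
  have h1 := inertiaROf_sub_mem_Kge r i.rep
  rw [← hc] at h1
  have hsplit : inertiaROf r i.rep - ((Nat.factorial r * Nat.choose k r : ℕ) : ℚ) • cl i.rep
      = (inertiaROf r i.rep - ((Nat.descFactorial c r : ℕ) : ℚ) • cl i.rep)
        + (((Nat.descFactorial c r : ℕ) : ℚ) - ((Nat.factorial r * Nat.choose k r : ℕ) : ℚ)) • cl i.rep := by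
    rw [sub_smul]; abel
  rw [hsplit]
  refine Submodule.add_mem _ (Kge_anti (by omega) h1) ?_
  rcases Nat.eq_or_lt_of_le hki with h | h
  · rw [← h, Nat.descFactorial_eq_factorial_mul_choose, sub_self, zero_smul]
    exact Submodule.zero_mem _
  · exact Submodule.smul_mem _ _ (cl_mem_Kge (by omega))

end Groth.Agent.Lib27.InertiaTri
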