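import Groth.Agent.Lib27.InertiaL

/-!
# The weighted-sum formula for the inertia operators (helper27)

`inertiaROf r G = ∑ s : CommTuple G r, (|C(s)| / |G|) • cl (C(s))`.
-/

universe u v

namespace Groth.Agent.Lib27.InertiaW

open W4c5stacksedinertia Groth.Agent.Lib27.InertiaL

variable {G : Type u} [Group G]

/-- The common centralizer of the entries of a tuple. -/
abbrev cent {n : ℕ} (t : Fin n → G) : Subgroup G := Subgroup.centralizer (Set.range t)

lemma mem_cent {n : ℕ} (t : Fin n → G) (g : G) : g ∈ cent t ↔ ∀ i, t i * g = g * t i := by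
  simp [cent, Subgroup.mem_centralizer_iff]

/-- Conjugation of tuples. -/
def conj {r : ℕ} (g : G) (s : CommTuple G r) : CommTuple G r :=
  ⟨fun i => g * s.1 i * g⁻¹, fun i j h => s.2.1 (by simpa using h), fun i j => by
    have := s.2.2 i j
    unfold Commute SemiconjBy at this ⊢
    calc g * s.1 i * g⁻¹ * (g * s.1 j * g⁻¹) = g * (s.1 i * s.1 j) * g⁻¹ := by group
      _ = g * (s.1 j * s.1 i) * g⁻¹ := by rw [this]
      _ = _ := by group⟩

/-- The conjugation action on tuples. -/
@[reducible] def conjAction (r : ℕ) : MulAction G (CommTuple G r) where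
  smul := conj
  one_smul s := by
    apply Subtype.ext; funext i; change 1 * s.1 i * 1⁻¹ = s.1 i; group
  mul_smul g h s := by
    apply Subtype.ext; funext i
    change g * h * s.1 i * (g * h)⁻¹ = g * (h * s.1 i * h⁻¹) * g⁻¹
    group

attribute [local instance] conjAction

lemma smul_val {r : ℕ} (g : G) (s : CommTuple G r) (i : Fin r) : (g • s).1 i = g * s.1 i * g⁻¹ := rfl

lemma setoid_iff {r : ℕ} (s t : CommTuple G r) :
    (CommTuple.setoid G r).r s t ↔ ∃ g : G, g • s = t := by
  constructor
  · rintro ⟨g, hg⟩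
    exact ⟨g, Subtype.ext (funext hg)⟩
  · rintro ⟨g, rfl⟩
    exact ⟨g, fun i => rfl⟩

lemma stabilizer_eq {r : ℕ} (s : CommTuple G r) : MulAction.stabilizer G s = cent s.1 := by
  ext g
  rw [MulAction.mem_stabilizer_iff, mem_cent]
  constructor
  · intro h i
    have := congrFun (congrArg Subtype.val h) i
    rw [smul_val] at this
    calc s.1 i * g = (g * s.1 i * g⁻¹) * g := by rw [this]
      _ = g * s.1 i := by group
  · intro h
    apply Subtype.ext; funext i
    rw [smul_val, ← h i]; group

/-- The class of the centralizer is constant on conjugacy classes of tuples. -/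
lemma cl_cent_smul [Finite G] {r : ℕ} (g : G) (s : CommTuple G r) :
    cl (cent (g • s).1) = cl (cent s.1) := by
  unfold cl
  congr 1
  rw [← stabilizer_eq, ← stabilizer_eq]
  have h : MulAction.orbitRel G (CommTuple G r) (g • s) s := ⟨g, rfl⟩
  exact of_eq_of_mulEquiv (MulAction.stabilizerEquivStabilizerOfOrbitRel h)

lemma card_orbit_mul_card_cent [Finite G] {r : ℕ} (s : CommTuple G r) :
    Nat.card (MulAction.orbit G s) * Nat.card (cent s.1) = Nat.card G := by
  rw [← stabilizer_eq, ← Nat.card_prod]
  exact Nat.card_congr (MulAction.orbitProdStabilizerEquivGroup G s)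

instance [Finite G] (r : ℕ) : Finite (CommTuple G r) := by
  unfold CommTuple; infer_instance

instance [Finite G] (r : ℕ) : Finite (CommTuple.Orbit G r) := by
  unfold CommTuple.Orbit; infer_instance

/-- The weighted-sum formula. -/
theorem inertiaROf_eq_finsum (r : ℕ) (G : Type u) [Group G] [Finite G] :
    inertiaROf r G = ∑ᶠ s : CommTuple G r,
      ((Nat.card (cent s.1) : ℚ) / (Nat.card G : ℚ)) • cl (cent s.1) := by
  classical
  have : Fintype (CommTuple G r) := Fintype.ofFinite _
  have : Fintype (CommTuple.Orbit G r) := Fintype.ofFinite _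
  unfold inertiaROf
  rw [finsum_eq_sum_of_fintype, finsum_eq_sum_of_fintype]
  let q : CommTuple G r → CommTuple.Orbit G r := fun s => Quotient.mk (CommTuple.setoid G r) s
  rw [← Finset.sum_fiberwise Finset.univ q]
  refine Finset.sum_congr rfl fun O _ => ?_
  set s₀ := Quotient.out (s := CommTuple.setoid G r) O with hs₀
  -- every tuple in the class `O` is conjugate to `s₀`
  have hconj : ∀ s : CommTuple G r, q s = O → ∃ g : G, g • s₀ = s := by
    intro s hs
    have : (CommTuple.setoid G r).r s₀ s := by
      apply Quotient.exact (s := CommTuple.setoid G r)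
      exact (Quotient.out_eq (s := CommTuple.setoid G r) O).trans hs.symm
    exact (setoid_iff s₀ s).1 this
  have hterm : ∀ s ∈ Finset.univ.filter (fun s : CommTuple G r => q s = O),
      ((Nat.card (cent s.1) : ℚ) / (Nat.card G : ℚ)) • cl (cent s.1)
        = ((Nat.card (cent s₀.1) : ℚ) / (Nat.card G : ℚ)) • cl (cent s₀.1) := by
    intro s hs
    obtain ⟨g, rfl⟩ := hconj s (Finset.mem_filter.1 hs).2
    rw [cl_cent_smul]
    congr 2
    have h : MulAction.orbitRel G (CommTuple G r) (g • s₀) s₀ := ⟨g, rfl⟩
    rw [← stabilizer_eq, ← stabilizer_eq]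
    exact_mod_cast Nat.card_congr (MulAction.stabilizerEquivStabilizerOfOrbitRel h).toEquiv
  rw [Finset.sum_congr rfl hterm, Finset.sum_const]
  -- the class `O` is the orbit of `s₀`
  have hcard : (Finset.univ.filter (fun s : CommTuple G r => q s = O)).card
      = Nat.card (MulAction.orbit G s₀) := by
    rw [Nat.card_eq_fintype_card, ← Fintype.card_coe]
    apply Fintype.card_congr
    refine Equiv.subtypeEquivRight fun s => ?_
    rw [Finset.mem_filter, MulAction.mem_orbit_iff]
    constructor
    · rintro ⟨_, hs⟩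
      exact hconj s hs
    · rintro ⟨g, rfl⟩
      refine ⟨Finset.mem_univ _, ?_⟩
      refine Eq.trans ?_ (Quotient.out_eq (s := CommTuple.setoid G r) O)
      exact Quotient.sound (s := CommTuple.setoid G r)
        ((setoid_iff _ _).2 ⟨g⁻¹, by rw [smul_smul]; simp [hs₀]⟩)
  rw [hcard]
  have hmul := card_orbit_mul_card_cent s₀
  have hGpos : (0 : ℚ) < Nat.card G := by exact_mod_cast Nat.card_pos
  have : ((Nat.card (MulAction.orbit G s₀) : ℕ) : ℚ) * ((Nat.card (cent s₀.1) : ℚ) / (Nat.card G : ℚ)) = 1 := by
    rw [← mul_div_assoc, div_eq_one_iff_eq hGpos.ne']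
    exact_mod_cast hmul
  rw [← Nat.cast_smul_eq_nsmul ℚ, smul_smul, this, one_smul]

end Groth.Agent.Lib27.InertiaW
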