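import Mathlib.CategoryTheory.Preadditive.Injective.Basic
import Mathlib.CategoryTheory.Abelian.FunctorCategory
import Mathlib.CategoryTheory.Abelian.Basic
import Mathlib.CategoryTheory.Functor.OfSequence
import Mathlib.CategoryTheory.Limits.FunctorCategory.EpiMono

/-! Injective objects in the category of inverse systems indexed by the natural numbers
(helper27). -/

set_option autoImplicit false
open CategoryTheory CategoryTheory.Limits Opposite
universe v u

namespace Groth.Agent.Lib27.InjSys

open ZeroObject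

variable {A : Type u} [Category.{v} A] [Abelian A]

/-! ### Extension by zero of an object placed in degree zero -/

/-- objects of the system `(U, 0, 0, …)` -/
noncomputable def lObj (U : A) : ℕ → A
  | 0 => U
  | _ + 1 => 0

/-- the system `(U, 0, 0, …)` -/
noncomputable def lSys (U : A) : ℕᵒᵖ ⥤ A :=
  Functor.ofOpSequence (X := lObj U) (fun n => (0 : lObj U (n + 1) ⟶ lObj U n))

lemma lSys_map_succ (U : A) (n : ℕ) :
    (lSys U).map (homOfLE (Nat.le_add_right n 1)).op = 0 :=
  Functor.ofOpSequence_map_homOfLE_succ _ n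

/-- components of a morphism out of `(U, 0, 0, …)` -/
noncomputable def lDescApp {U : A} (Q : ℕᵒᵖ ⥤ A) (g : U ⟶ Q.obj (op 0)) :
    ∀ n : ℕ, (lSys U).obj (op n) ⟶ Q.obj (op n)
  | 0 => g
  | _ + 1 => 0

/-- the morphism out of `(U, 0, 0, …)` determined by its degree zero component -/
noncomputable def lDesc {U : A} (Q : ℕᵒᵖ ⥤ A) (g : U ⟶ Q.obj (op 0)) : lSys U ⟶ Q :=
  NatTrans.ofOpSequence (lDescApp Q g) (fun n => by
    rw [lSys_map_succ, zero_comp]
    exact zero_comp.symm)

/-- components of the functoriality of `(U, 0, 0, …)` -/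
noncomputable def lMapApp {U V : A} (f : U ⟶ V) :
    ∀ n : ℕ, (lSys U).obj (op n) ⟶ (lSys V).obj (op n)
  | 0 => f
  | _ + 1 => 0

/-- functoriality of `(U, 0, 0, …)` -/
noncomputable def lMap {U V : A} (f : U ⟶ V) : lSys U ⟶ lSys V :=
  NatTrans.ofOpSequence (lMapApp f) (fun n => by
    rw [lSys_map_succ, zero_comp]
    exact zero_comp.symm)

instance lMap_mono {U V : A} (f : U ⟶ V) [Mono f] : Mono (lMap f) := by
  have : ∀ c : ℕᵒᵖ, Mono ((lMap f).app c) := by
    rintro ⟨n⟩
    cases n with
    | zero => exact inferInstanceAs (Mono f)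
    | succ n => exact (isZero_zero A).mono _
  exact NatTrans.mono_of_mono_app _

/-- the degree zero term of an injective system is injective -/
theorem injective_obj_zero (Q : ℕᵒᵖ ⥤ A) [Injective Q] : Injective (Q.obj (op 0)) where
  factors {U V} g f _ := by
    refine ⟨(Injective.factorThru (lDesc Q g) (lMap f)).app (op 0), ?_⟩
    exact congrArg (fun φ => φ.app (op 0)) (Injective.comp_factorThru (lDesc Q g) (lMap f))

theorem enoughInjectives_of_functor (h : EnoughInjectives (ℕᵒᵖ ⥤ A)) : EnoughInjectives A where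
  presentation X := by
    obtain ⟨P⟩ := h.presentation ((Functor.const ℕᵒᵖ).obj X)
    have := P.injective
    have := P.mono
    exact ⟨{ J := P.J.obj (op 0)
             injective := injective_obj_zero P.J
             f := P.f.app (op 0)
             mono := inferInstance }⟩

/-! ### The injective system attached to a sequence of injective objects -/

/-- objects of the system `(I₀, I₀ ⊞ I₁, …)` -/
noncomputable def iObj (I : ℕ → A) : ℕ → A
  | 0 => I 0
  | n + 1 => iObj I n ⊞ I (n + 1)

/-- the system `(I₀, I₀ ⊞ I₁, …)` with the projections as transition maps -/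
noncomputable def iSys (I : ℕ → A) : ℕᵒᵖ ⥤ A :=
  Functor.ofOpSequence (X := iObj I)
    (fun n => (biprod.fst : iObj I n ⊞ I (n + 1) ⟶ iObj I n))

lemma iSys_map_succ (I : ℕ → A) (n : ℕ) :
    (iSys I).map (homOfLE (Nat.le_add_right n 1)).op =
      (biprod.fst : iObj I n ⊞ I (n + 1) ⟶ iObj I n) :=
  Functor.ofOpSequence_map_homOfLE_succ _ n

/-- the recursive construction of an extension -/
noncomputable def extFam (I : ℕ → A) [∀ n, Injective (I n)] {U V : ℕᵒᵖ ⥤ A} (f : U ⟶ V)
    [∀ n : ℕ, Mono (f.app (op n))] (g : U ⟶ iSys I) :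
    ∀ n : ℕ, V.obj (op n) ⟶ (iSys I).obj (op n)
  | 0 => Injective.factorThru (J := I 0) (g.app (op 0)) (f.app (op 0))
  | n + 1 => (biprod.lift (V.map (homOfLE (Nat.le_add_right n 1)).op ≫ extFam I f g n)
      (Injective.factorThru (J := I (n + 1))
        (g.app (op (n + 1)) ≫ (biprod.snd : iObj I n ⊞ I (n + 1) ⟶ I (n + 1)))
        (f.app (op (n + 1)))) : V.obj (op (n + 1)) ⟶ iObj I n ⊞ I (n + 1))

lemma extFam_succ_fst (I : ℕ → A) [∀ n, Injective (I n)] {U V : ℕᵒᵖ ⥤ A} (f : U ⟶ V)
    [∀ n : ℕ, Mono (f.app (op n))] (g : U ⟶ iSys I) (n : ℕ) :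
    extFam I f g (n + 1) ≫ (iSys I).map (homOfLE (Nat.le_add_right n 1)).op =
      V.map (homOfLE (Nat.le_add_right n 1)).op ≫ extFam I f g n := by
  rw [iSys_map_succ]
  exact biprod.lift_fst _ _

lemma comp_extFam (I : ℕ → A) [∀ n, Injective (I n)] {U V : ℕᵒᵖ ⥤ A} (f : U ⟶ V)
    [∀ n : ℕ, Mono (f.app (op n))] (g : U ⟶ iSys I) (n : ℕ) :
    f.app (op n) ≫ extFam I f g n = g.app (op n) := by
  induction n with
  | zero => exact Injective.comp_factorThru (J := I 0) (g.app (op 0)) (f.app (op 0))
  | succ n ih =>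
    let e : V.obj (op (n + 1)) ⟶ iObj I n ⊞ I (n + 1) := extFam I f g (n + 1)
    let g₁ : U.obj (op (n + 1)) ⟶ iObj I n ⊞ I (n + 1) := g.app (op (n + 1))
    let e₀ : V.obj (op n) ⟶ iObj I n := extFam I f g n
    let g₀ : U.obj (op n) ⟶ iObj I n := g.app (op n)
    have ih' : f.app (op n) ≫ e₀ = g₀ := ih
    have hnat : U.map (homOfLE (Nat.le_add_right n 1)).op ≫ g₀ =
        g₁ ≫ (biprod.fst : iObj I n ⊞ I (n + 1) ⟶ iObj I n) := by
      have := g.naturality (homOfLE (Nat.le_add_right n 1)).op
      rw [iSys_map_succ] at this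
      exact this
    have h1 : e ≫ (biprod.fst : iObj I n ⊞ I (n + 1) ⟶ iObj I n) =
        V.map (homOfLE (Nat.le_add_right n 1)).op ≫ e₀ := biprod.lift_fst _ _
    have h2 : e ≫ (biprod.snd : iObj I n ⊞ I (n + 1) ⟶ I (n + 1)) =
        Injective.factorThru (J := I (n + 1))
          (g₁ ≫ (biprod.snd : iObj I n ⊞ I (n + 1) ⟶ I (n + 1)))
          (f.app (op (n + 1))) := biprod.lift_snd _ _
    have goal : f.app (op (n + 1)) ≫ e = g₁ := by
      apply biprod.hom_ext
      · calc (f.app (op (n + 1)) ≫ e) ≫ biprod.fst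
            = f.app (op (n + 1)) ≫ (e ≫ biprod.fst) := Category.assoc _ _ _
          _ = f.app (op (n + 1)) ≫ (V.map (homOfLE (Nat.le_add_right n 1)).op ≫ e₀) :=
                congrArg (fun t => f.app (op (n + 1)) ≫ t) h1
          _ = (f.app (op (n + 1)) ≫ V.map (homOfLE (Nat.le_add_right n 1)).op) ≫ e₀ :=
                (Category.assoc _ _ _).symm
          _ = (U.map (homOfLE (Nat.le_add_right n 1)).op ≫ f.app (op n)) ≫ e₀ :=
                congrArg (fun t => t ≫ e₀) (f.naturality _).symm
          _ = U.map (homOfLE (Nat.le_add_right n 1)).op ≫ (f.app (op n) ≫ e₀) :=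
                Category.assoc _ _ _
          _ = U.map (homOfLE (Nat.le_add_right n 1)).op ≫ g₀ :=
                congrArg (fun t => U.map (homOfLE (Nat.le_add_right n 1)).op ≫ t) ih'
          _ = g₁ ≫ biprod.fst := hnat
      · calc (f.app (op (n + 1)) ≫ e) ≫ biprod.snd
            = f.app (op (n + 1)) ≫ (e ≫ biprod.snd) := Category.assoc _ _ _
          _ = f.app (op (n + 1)) ≫ Injective.factorThru (J := I (n + 1))
                (g₁ ≫ (biprod.snd : iObj I n ⊞ I (n + 1) ⟶ I (n + 1)))
                (f.app (op (n + 1))) := congrArg (fun t => f.app (op (n + 1)) ≫ t) h2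
          _ = g₁ ≫ biprod.snd := Injective.comp_factorThru _ _
    exact goal

/-- the system attached to a sequence of injective objects is injective -/
theorem injective_iSys (I : ℕ → A) [∀ n, Injective (I n)] : Injective (iSys I) where
  factors {U V} g f _ := by
    have : ∀ n : ℕ, Mono (f.app (op n)) := fun n => inferInstance
    refine ⟨NatTrans.ofOpSequence (extFam I f g) (fun n => (extFam_succ_fst I f g n).symm), ?_⟩
    ext ⟨n⟩
    exact comp_extFam I f g n

/-- components of the embedding of a system into the system of injective hulls -/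
noncomputable def embApp (X : ℕᵒᵖ ⥤ A) (I : ℕ → A) (ι : ∀ n, X.obj (op n) ⟶ I n) :
    ∀ n : ℕ, X.obj (op n) ⟶ (iSys I).obj (op n)
  | 0 => ι 0
  | n + 1 => (biprod.lift (X.map (homOfLE (Nat.le_add_right n 1)).op ≫ embApp X I ι n)
      (ι (n + 1)) : X.obj (op (n + 1)) ⟶ iObj I n ⊞ I (n + 1))

/-- the embedding of a system into the system of injective hulls -/
noncomputable def emb (X : ℕᵒᵖ ⥤ A) (I : ℕ → A) (ι : ∀ n, X.obj (op n) ⟶ I n) : X ⟶ iSys I :=
  NatTrans.ofOpSequence (embApp X I ι) (fun n => by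
    rw [iSys_map_succ]
    exact (biprod.lift_fst _ _).symm)

lemma emb_mono (X : ℕᵒᵖ ⥤ A) (I : ℕ → A) (ι : ∀ n, X.obj (op n) ⟶ I n) [∀ n, Mono (ι n)] :
    Mono (emb X I ι) := by
  have : ∀ c : ℕᵒᵖ, Mono ((emb X I ι).app c) := by
    rintro ⟨n⟩
    cases n with
    | zero => exact inferInstanceAs (Mono (ι 0))
    | succ n =>
      have h : embApp X I ι (n + 1) ≫ (biprod.snd : iObj I n ⊞ I (n + 1) ⟶ I (n + 1)) =
          ι (n + 1) := biprod.lift_snd _ _
      exact mono_of_mono_fac h
  exact NatTrans.mono_of_mono_app _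

theorem enoughInjectives_functor [EnoughInjectives A] : EnoughInjectives (ℕᵒᵖ ⥤ A) where
  presentation X := by
    have : ∀ n : ℕ, Injective ((fun n => Injective.under (X.obj (op n))) n) :=
      fun n => inferInstance
    have : ∀ n : ℕ, Mono ((fun n => Injective.ι (X.obj (op n))) n) := fun n => inferInstance
    exact ⟨{ J := iSys (fun n => Injective.under (X.obj (op n)))
             injective := injective_iSys _
             f := emb X _ (fun n => Injective.ι (X.obj (op n)))
             mono := emb_mono X _ _ }⟩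

theorem enoughInjectives_iff : EnoughInjectives (ℕᵒᵖ ⥤ A) ↔ EnoughInjectives A :=
  ⟨fun h => enoughInjectives_of_functor h, fun _ => enoughInjectives_functor⟩

end Groth.Agent.Lib27.InjSys
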