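import Mathlib.RingTheory.NoetherNormalization
import Mathlib.RingTheory.Localization.Integral
import Mathlib.RingTheory.MvPolynomial.Localization
import Mathlib.RingTheory.Localization.BaseChange
import Mathlib.RingTheory.IsTensorProduct
import Mathlib.RingTheory.Polynomial.Basic
import Mathlib.Algebra.Polynomial.Roots
import Mathlib.FieldTheory.Finite.Basic

/-!
# Counting ring homomorphisms from a finitely generated ring to finite fields, uniformly

Part 1: integral relations with integer leading coefficient and the resulting count.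
-/

set_option autoImplicit false

universe u

open TensorProduct MvPolynomial

namespace Groth.Agent.Lib27.IntNoether

/-- Ring homs out of a finitely generated ring into a finite ring: finitely many. -/
theorem finite_ringHom (A F : Type*) [CommRing A] [CommRing F] [Finite F] (t : Finset A)
    (ht : Algebra.adjoin ℤ (t : Set A) = ⊤) : Finite (A →+* F) := by
  classical
  have hinj : Function.Injective (fun (φ : A →+* F) (x : (t : Set A)) => φ x.1) := by
    intro φ ψ h
    have h1 : φ.toIntAlgHom = ψ.toIntAlgHom := by
      refine AlgHom.ext_of_adjoin_eq_top ht ?_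
      intro x hx
      exact congrFun h ⟨x, hx⟩
    ext x
    exact DFunLike.congr_fun h1 x
  exact Finite.of_injective _ hinj

lemma ringHom_ext_of_adjoin {A F : Type*} [CommRing A] [CommRing F] (t : Finset A)
    (ht : Algebra.adjoin ℤ (t : Set A) = ⊤) {φ ψ : A →+* F} (h : ∀ x ∈ t, φ x = ψ x) : φ = ψ := by
  have h1 : φ.toIntAlgHom = ψ.toIntAlgHom := by
    refine AlgHom.ext_of_adjoin_eq_top ht ?_
    intro x hx
    exact h x hx
  ext x
  exact DFunLike.congr_fun h1 x

/-- The counting lemma: if every generator `x ∈ t` of `A` satisfies a polynomial relation over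
`ℤ[a₁, …, a_s]` having an integer coefficient `M x` (in degree `d x`) that is nonzero in `F`, then
`#Hom(A, F) ≤ (∏ deg) · (#F)^s`. -/
theorem card_ringHom_le (A : Type*) [CommRing A] (t : Finset A)
    (ht : Algebra.adjoin ℤ (t : Set A) = ⊤) {s : ℕ} (a : Fin s → A)
    (H : A → Polynomial (MvPolynomial (Fin s) ℤ)) (d : A → ℕ) (M : A → ℤ)
    (hcoeff : ∀ x ∈ t, (H x).coeff (d x) = C (M x))
    (hrel : ∀ x ∈ t, Polynomial.eval₂ (aeval a : MvPolynomial (Fin s) ℤ →ₐ[ℤ] A).toRingHom x (H x) = 0)
    (F : Type*) [Field F] [Finite F] (hF : ∀ x ∈ t, (M x : F) ≠ 0) :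
    Nat.card (A →+* F) ≤ (∏ x ∈ t, (H x).natDegree) * Nat.card F ^ s := by
  classical
  haveI := finite_ringHom A F t ht
  haveI : Fintype (A →+* F) := Fintype.ofFinite _
  haveI : Fintype F := Fintype.ofFinite _
  let ev : (Fin s → F) → MvPolynomial (Fin s) ℤ →+* F := fun v => eval₂Hom (Int.castRingHom F) v
  have hcomp : ∀ φ : A →+* F, φ.comp (aeval a : MvPolynomial (Fin s) ℤ →ₐ[ℤ] A).toRingHom =
      ev (fun i => φ (a i)) := by
    intro φ
    apply MvPolynomial.ringHom_ext
    · intro z; simp [ev]
    · intro i; simp [ev]
  have hroot : ∀ (φ : A →+* F), ∀ x ∈ t,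
      φ x ∈ ((H x).map (ev (fun i => φ (a i)))).roots.toFinset := by
    intro φ x hx
    rw [Multiset.mem_toFinset, Polynomial.mem_roots']
    constructor
    · intro h0
      have h1 := congrArg (fun q => Polynomial.coeff q (d x)) h0
      simp only [Polynomial.coeff_map, Polynomial.coeff_zero, hcoeff x hx] at h1
      apply hF x hx
      simpa [ev] using h1
    · rw [Polynomial.IsRoot.def, Polynomial.eval_map, ← hcomp φ, ← Polynomial.hom_eval₂, hrel x hx,
        map_zero]
  have h1 : (Finset.univ : Finset (A →+* F)).card ≤
      (∏ x ∈ t, (H x).natDegree) * (Finset.univ : Finset (Fin s → F)).card := by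
    refine Finset.card_le_mul_card_image_of_maps_to (f := fun φ : A →+* F => fun i => φ (a i))
      (fun _ _ => Finset.mem_univ _) _ ?_
    intro v _
    -- the fibre injects into a product of root sets
    let R : Finset ((x : (t : Set A)) → F) :=
      Fintype.piFinset fun x : (t : Set A) => ((H x.1).map (ev v)).roots.toFinset
    have h2 : (Finset.univ.filter fun φ : A →+* F => (fun i => φ (a i)) = v).card ≤ R.card := by
      refine Finset.card_le_card_of_injOn (fun φ x => φ x.1) ?_ ?_
      · intro φ hφ
        have hv : (fun i => φ (a i)) = v := (Finset.mem_filter.mp hφ).2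
        simp only [R, Finset.mem_coe, Fintype.mem_piFinset]
        intro x
        rw [← hv]
        exact hroot φ x.1 x.2
      · intro φ _ ψ _ h
        exact ringHom_ext_of_adjoin t ht fun x hx => congrFun h ⟨x, hx⟩
    refine h2.trans ?_
    simp only [R, Fintype.card_piFinset]
    have h3 : ∏ x : (t : Set A), ((H x.1).map (ev v)).roots.toFinset.card ≤
        ∏ x : (t : Set A), (H x.1).natDegree := by
      refine Finset.prod_le_prod' fun x _ => ?_
      exact (Multiset.toFinset_card_le _).trans
        ((Polynomial.card_roots' _).trans Polynomial.natDegree_map_le)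
    refine h3.trans (le_of_eq ?_)
    exact Finset.prod_coe_sort t fun x => (H x).natDegree
  rw [Finset.card_univ, Finset.card_univ, ← Nat.card_eq_fintype_card, ← Nat.card_eq_fintype_card,
    Nat.card_fun] at h1
  simpa using h1

end Groth.Agent.Lib27.IntNoether
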