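import Groth.Agent.Lib27.IntNoether

/-!
# Part 2: spreading out integral relations from `ℚ ⊗ A` to `A`
-/

set_option autoImplicit false

universe u

open TensorProduct MvPolynomial

namespace Groth.Agent.Lib27.IntNoether

variable (A : Type u) [CommRing A]

/-- The canonical ring hom `A → ℚ ⊗ A`. -/
noncomputable def iota : A →+* ℚ ⊗[ℤ] A :=
  (Algebra.TensorProduct.includeRight : A →ₐ[ℤ] ℚ ⊗[ℤ] A).toRingHom

@[simp] lemma iota_apply (x : A) : iota A x = (1 : ℚ) ⊗ₜ[ℤ] x := rfl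

instance isLocalizedModule_mk : IsLocalizedModule (nonZeroDivisors ℤ) (TensorProduct.mk ℤ ℚ A 1) :=
  (isLocalizedModule_iff_isBaseChange (nonZeroDivisors ℤ) ℚ _).mpr (TensorProduct.isBaseChange ℤ A ℚ)

lemma iota_eq_zero_iff (x : A) : iota A x = 0 ↔ ∃ n : ℤ, n ≠ 0 ∧ n • x = 0 := by
  have h := IsLocalizedModule.eq_zero_iff (nonZeroDivisors ℤ) (TensorProduct.mk ℤ ℚ A 1) (m := x)
  constructor
  · intro h0
    obtain ⟨n, hn⟩ := h.mp h0
    exact ⟨n.1, nonZeroDivisors.ne_zero n.2, hn⟩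
  · rintro ⟨n, hn0, hn⟩
    exact h.mpr ⟨⟨n, mem_nonZeroDivisors_of_ne_zero hn0⟩, hn⟩

lemma exists_smul_eq_iota (z : ℚ ⊗[ℤ] A) : ∃ (n : ℤ) (x : A), n ≠ 0 ∧ n • z = iota A x := by
  obtain ⟨⟨x, n⟩, h⟩ := IsLocalizedModule.surj (nonZeroDivisors ℤ) (TensorProduct.mk ℤ ℚ A 1) z
  exact ⟨n.1, x, nonZeroDivisors.ne_zero n.2, h⟩

lemma int_smul_eq_mul (n : ℤ) (z : ℚ ⊗[ℤ] A) : n • z = algebraMap ℚ (ℚ ⊗[ℤ] A) (n : ℚ) * z := by
  rw [← Algebra.smul_def, Int.cast_smul_eq_zsmul]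

lemma isUnit_int (n : ℤ) (hn : n ≠ 0) : IsUnit (algebraMap ℚ (ℚ ⊗[ℤ] A) (n : ℚ)) :=
  (IsUnit.mk0 (n : ℚ) (by exact_mod_cast hn)).map _

attribute [local instance] MvPolynomial.algebraMvPolynomial

/-- Clearing denominators in an integral relation. -/
theorem exists_relation {s : ℕ} (a : Fin s → A)
    (g' : MvPolynomial (Fin s) ℚ →ₐ[ℚ] ℚ ⊗[ℤ] A) (hX : ∀ i, g' (X i) = iota A (a i))
    (hint : g'.toRingHom.IsIntegral) (x : A) :
    ∃ (H : Polynomial (MvPolynomial (Fin s) ℤ)) (d : ℕ) (M : ℤ), M ≠ 0 ∧ H.coeff d = C M ∧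
      Polynomial.eval₂ (aeval a : MvPolynomial (Fin s) ℤ →ₐ[ℤ] A).toRingHom x H = 0 := by
  obtain ⟨p, hmonic, hp⟩ := hint (iota A x)
  set Mx : Submonoid (MvPolynomial (Fin s) ℤ) := (nonZeroDivisors ℤ).map (C (σ := Fin s)) with hMx
  set H₀ := IsLocalization.integerNormalization Mx p with hH₀
  obtain ⟨b, hbM, hb⟩ := IsLocalization.integerNormalization_spec Mx p
  obtain ⟨N, hN, rfl⟩ := hbM
  have hN0 : N ≠ 0 := nonZeroDivisors.ne_zero hN
  have h1 := IsLocalization.integerNormalization_eval₂_eq_zero Mx g'.toRingHom p hp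
  have hcomp : g'.toRingHom.comp (algebraMap (MvPolynomial (Fin s) ℤ) (MvPolynomial (Fin s) ℚ)) =
      (iota A).comp (aeval a : MvPolynomial (Fin s) ℤ →ₐ[ℤ] A).toRingHom := by
    apply MvPolynomial.ringHom_ext
    · intro z
      change g' (MvPolynomial.map (algebraMap ℤ ℚ) (C z)) = iota A (aeval a (C z))
      rw [MvPolynomial.map_C, aeval_C, ← MvPolynomial.algebraMap_eq, AlgHom.commutes]
      simp [Algebra.TensorProduct.algebraMap_apply]
    · intro i
      change g' (MvPolynomial.map (algebraMap ℤ ℚ) (X i)) = iota A (aeval a (X i))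
      rw [MvPolynomial.map_X, aeval_X, hX]
  rw [hcomp, ← Polynomial.hom_eval₂] at h1
  obtain ⟨N', hN'0, hN'⟩ := (iota_eq_zero_iff A _).mp h1
  refine ⟨Polynomial.C (C N') * H₀, p.natDegree, N' * N, mul_ne_zero hN'0 hN0, ?_, ?_⟩
  · rw [Polynomial.coeff_C_mul]
    have h2 := congrArg (fun q => Polynomial.coeff q p.natDegree) hb
    simp only [Polynomial.coeff_map, Polynomial.coeff_smul, hmonic.coeff_natDegree] at h2
    have h3 : H₀.coeff p.natDegree = C N := by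
      apply MvPolynomial.map_injective (algebraMap ℤ ℚ)
        (by rw [algebraMap_int_eq]; exact Int.cast_injective)
      have : (algebraMap (MvPolynomial (Fin s) ℤ) (MvPolynomial (Fin s) ℚ)) (H₀.coeff p.natDegree) =
          C N • (1 : MvPolynomial (Fin s) ℚ) := h2
      rw [MvPolynomial.algebraMap_def] at this
      rw [this, Algebra.smul_def, mul_one, MvPolynomial.algebraMap_def]
    rw [h3, ← C_mul]
  · rw [Polynomial.eval₂_mul, Polynomial.eval₂_C]
    have : (aeval a : MvPolynomial (Fin s) ℤ →ₐ[ℤ] A).toRingHom (C N') = (N' : A) := by simp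
    rw [this, ← zsmul_eq_mul]
    exact hN'

end Groth.Agent.Lib27.IntNoether
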