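import Groth.Agent.Lib27.IntNoether2
import Groth.Agent.Lib.Helper12.IntegralDim
import Mathlib.RingTheory.KrullDimension.Polynomial
import Mathlib.RingTheory.KrullDimension.Field
import Mathlib.RingTheory.Jacobson.Ring
import Mathlib.Algebra.Ring.Int.Field
import Mathlib.RingTheory.DedekindDomain.Basic
import Mathlib.RingTheory.FiniteStability

/-!
# Part 3: uniform bound on `#Hom(A, F)` for a finitely generated ring `A`
-/

set_option autoImplicit false

universe u v

open TensorProduct MvPolynomial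

namespace Groth.Agent.Lib27.IntNoether

/-- universe polymorphic: if `A` is an integral injective extension of a polynomial ring in `s`
variables over a field then `dim A = s`. -/
theorem ringKrullDim_eq_of_integral_inj {k : Type*} {A : Type*} [Field k] [CommRing A] [Algebra k A]
    (s : ℕ) (g : MvPolynomial (Fin s) k →ₐ[k] A) (hinj : Function.Injective g)
    (hint : g.toRingHom.IsIntegral) : ringKrullDim A = s := by
  letI : Algebra (MvPolynomial (Fin s) k) A := g.toRingHom.toAlgebra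
  haveI : Algebra.IsIntegral (MvPolynomial (Fin s) k) A := ⟨hint⟩
  rw [← Groth.Agent.Lib.Helper12.ringKrullDim_eq_of_isIntegral_of_injective
    (MvPolynomial (Fin s) k) A hinj, MvPolynomial.ringKrullDim_of_isNoetherianRing,
    ringKrullDim_eq_zero_of_field]
  simp

theorem int_isJacobsonRing : IsJacobsonRing ℤ := by
  rw [isJacobsonRing_iff_prime_eq]
  intro P hP
  by_cases hbot : P = ⊥
  · subst hbot
    rw [eq_bot_iff]
    intro x hx
    rw [Ideal.mem_jacobson_bot] at hx
    have h1 := hx x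
    rw [Int.isUnit_iff] at h1
    have hx0 : x = 0 := by
      rcases h1 with h | h
      · have : x * x = 0 := by linarith
        exact mul_self_eq_zero.mp this
      · nlinarith [mul_self_nonneg x]
    simp [hx0]
  · have : P.IsMaximal := hP.isMaximal hbot
    exact Ideal.jacobson_eq_self_of_isMaximal

variable (A : Type u) [CommRing A]

/-- Noether normalization of `ℚ ⊗ A` with the variables coming from `A`. -/
theorem exists_normalization [Algebra.FiniteType ℤ A] [Nontrivial (ℚ ⊗[ℤ] A)] :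
    ∃ (s : ℕ) (a : Fin s → A) (g' : MvPolynomial (Fin s) ℚ →ₐ[ℚ] ℚ ⊗[ℤ] A),
      (∀ i, g' (X i) = iota A (a i)) ∧ Function.Injective g' ∧ g'.toRingHom.IsIntegral := by
  obtain ⟨s, g, hinj, hint⟩ := exists_integral_inj_algHom_of_fg ℚ (ℚ ⊗[ℤ] A)
  have h1 : ∀ i, ∃ (n : ℤ) (x : A), n ≠ 0 ∧ n • g (X i) = iota A x :=
    fun i => exists_smul_eq_iota A (g (X i))
  choose n a hn ha using h1
  let σ : MvPolynomial (Fin s) ℚ →ₐ[ℚ] MvPolynomial (Fin s) ℚ :=
    aeval fun i => C ((n i : ℤ) : ℚ) * X i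
  let τ : MvPolynomial (Fin s) ℚ →ₐ[ℚ] MvPolynomial (Fin s) ℚ :=
    aeval fun i => C (((n i : ℤ) : ℚ)⁻¹) * X i
  have hστ : σ.comp τ = AlgHom.id ℚ _ := by
    apply MvPolynomial.algHom_ext
    intro i
    have hni : ((n i : ℤ) : ℚ) ≠ 0 := by exact_mod_cast hn i
    simp only [AlgHom.comp_apply, τ, σ, aeval_X, map_mul, aeval_C, AlgHom.id_apply,
      MvPolynomial.algebraMap_eq]
    rw [← mul_assoc, ← C_mul, inv_mul_cancel₀ hni, C_1, one_mul]
  have hτσ : τ.comp σ = AlgHom.id ℚ _ := by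
    apply MvPolynomial.algHom_ext
    intro i
    have hni : ((n i : ℤ) : ℚ) ≠ 0 := by exact_mod_cast hn i
    simp only [AlgHom.comp_apply, τ, σ, aeval_X, map_mul, aeval_C, AlgHom.id_apply,
      MvPolynomial.algebraMap_eq]
    rw [← mul_assoc, ← C_mul, mul_inv_cancel₀ hni, C_1, one_mul]
  refine ⟨s, a, g.comp σ, ?_, ?_, ?_⟩
  · intro i
    rw [AlgHom.comp_apply]
    simp only [σ, aeval_X, map_mul]
    rw [← ha i, int_smul_eq_mul, ← MvPolynomial.algebraMap_eq, AlgHom.commutes]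
  · have hσinj : Function.Injective σ := by
      intro x y hxy
      have := congrArg τ hxy
      rwa [← AlgHom.comp_apply, ← AlgHom.comp_apply, hτσ] at this
    exact hinj.comp hσinj
  · intro z
    obtain ⟨p, hm, hp⟩ := hint z
    refine ⟨p.map τ.toRingHom, hm.map _, ?_⟩
    rw [Polynomial.eval₂_map]
    have : (g.comp σ).toRingHom.comp τ.toRingHom = g.toRingHom := by
      refine RingHom.ext fun x => ?_
      change g (σ (τ x)) = g x
      rw [← AlgHom.comp_apply σ τ, hστ, AlgHom.id_apply]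
    rw [this]
    exact hp

/-- The uniform bound, nontrivial generic fibre. -/
theorem exists_uniform_bound_of_nontrivial [Algebra.FiniteType ℤ A] [Nontrivial (ℚ ⊗[ℤ] A)] :
    ∃ (s c N : ℕ), 0 < N ∧ ringKrullDim (ℚ ⊗[ℤ] A) = s ∧
      ∀ (F : Type v) [Field F] [Finite F], (N : F) ≠ 0 →
        Nat.card (A →+* F) ≤ c * Nat.card F ^ s := by
  classical
  obtain ⟨s, a, g', hX, hinj, hint⟩ := exists_normalization A
  obtain ⟨t, ht⟩ := (Algebra.FiniteType.out : (⊤ : Subalgebra ℤ A).FG)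
  have h1 : ∀ x : A, ∃ (H : Polynomial (MvPolynomial (Fin s) ℤ)) (d : ℕ) (M : ℤ), M ≠ 0 ∧
      H.coeff d = C M ∧
      Polynomial.eval₂ (aeval a : MvPolynomial (Fin s) ℤ →ₐ[ℤ] A).toRingHom x H = 0 :=
    fun x => exists_relation A a g' hX hint x
  choose H d M hM hcoeff hrel using h1
  refine ⟨s, ∏ x ∈ t, (H x).natDegree, ∏ x ∈ t, (M x).natAbs, ?_,
    ringKrullDim_eq_of_integral_inj s g' hinj hint, ?_⟩
  · exact Finset.prod_pos fun x _ => Int.natAbs_pos.mpr (hM x)
  · intro F _ _ hN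
    refine card_ringHom_le A t ht a H d M (fun x _ => hcoeff x) (fun x _ => hrel x) F ?_
    intro x hx h0
    apply hN
    rw [Nat.cast_prod]
    refine Finset.prod_eq_zero hx ?_
    have h2 : (((M x).natAbs : ℤ) : F) = 0 := by
      rcases Int.natAbs_eq (M x) with h | h
      · rw [← h]; exact h0
      · have : ((M x).natAbs : ℤ) = - M x := by omega
        rw [this, Int.cast_neg, h0, neg_zero]
    rw [Int.cast_natCast] at h2
    exact h2

/-- The trivial generic fibre: no points in large characteristic. -/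
theorem exists_isEmpty_of_subsingleton [Subsingleton (ℚ ⊗[ℤ] A)] :
    ∃ N : ℕ, 0 < N ∧ ∀ (F : Type v) [Field F], (N : F) ≠ 0 → IsEmpty (A →+* F) := by
  have h0 : iota A 1 = 0 := Subsingleton.elim _ _
  obtain ⟨n, hn0, hn⟩ := (iota_eq_zero_iff A 1).mp h0
  refine ⟨n.natAbs, Int.natAbs_pos.mpr hn0, fun F _ hN => ⟨fun φ => ?_⟩⟩
  apply hN
  have h1 : φ (n • (1 : A)) = 0 := by rw [hn, map_zero]
  rw [zsmul_eq_mul, mul_one, map_intCast] at h1
  have h2 : (((n.natAbs : ℕ) : ℤ) : F) = 0 := by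
    rcases Int.natAbs_eq n with h | h
    · rw [← h]; exact h1
    · have : (n.natAbs : ℤ) = - n := by omega
      rw [this, Int.cast_neg, h1, neg_zero]
  rw [Int.cast_natCast] at h2
  exact h2

/-- `dim (ℚ ⊗ A) + 1 ≤ dim A` for a finitely generated ring `A` with `ℚ ⊗ A ≠ 0`. -/
theorem dim_succ_le [Algebra.FiniteType ℤ A] [Nontrivial (ℚ ⊗[ℤ] A)] (s : ℕ)
    (hs : ringKrullDim (ℚ ⊗[ℤ] A) = s) : ((s + 1 : ℕ) : WithBot ℕ∞) ≤ ringKrullDim A := by
  obtain ⟨l, hl⟩ := Order.le_krullDim_iff.mp (le_of_eq hs.symm)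
  -- integers are units in ℚ ⊗ A, hence not in primes
  have hunit : ∀ (𝔓 : PrimeSpectrum (ℚ ⊗[ℤ] A)) (n : ℤ), n ≠ 0 →
      algebraMap ℚ (ℚ ⊗[ℤ] A) (n : ℚ) ∉ 𝔓.asIdeal := fun 𝔓 n hn h =>
    𝔓.2.ne_top (Ideal.eq_top_of_isUnit_mem _ h (isUnit_int A n hn))
  have hmono : StrictMono (PrimeSpectrum.comap (iota A)) := by
    intro 𝔓 𝔓' hlt
    have hlt' : 𝔓.asIdeal < 𝔓'.asIdeal := (PrimeSpectrum.asIdeal_lt_asIdeal 𝔓 𝔓').mpr hlt
    rw [← PrimeSpectrum.asIdeal_lt_asIdeal]
    refine lt_of_le_of_ne (Ideal.comap_mono hlt'.le) ?_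
    intro heq
    obtain ⟨z, hz', hz⟩ := SetLike.exists_of_lt hlt'
    obtain ⟨n, x, hn, hx⟩ := exists_smul_eq_iota A z
    have hx' : x ∈ (PrimeSpectrum.comap (iota A) 𝔓').asIdeal := by
      change iota A x ∈ 𝔓'.asIdeal
      rw [← hx, int_smul_eq_mul]
      exact Ideal.mul_mem_left _ _ hz'
    rw [← heq] at hx'
    have hx'' : iota A x ∈ 𝔓.asIdeal := hx'
    rw [← hx, int_smul_eq_mul] at hx''
    rcases 𝔓.2.mem_or_mem hx'' with h | h
    · exact hunit 𝔓 n hn h
    · exact hz h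
  let l' := l.map (PrimeSpectrum.comap (iota A)) hmono
  set P : PrimeSpectrum A := PrimeSpectrum.comap (iota A) l.last with hP
  have hPint : ∀ n : ℤ, (n : A) ∈ P.asIdeal → n = 0 := by
    intro n hn
    by_contra hn0
    have h1 : iota A (n : A) ∈ l.last.asIdeal := hn
    have h2 : iota A (n : A) = algebraMap ℚ (ℚ ⊗[ℤ] A) (n : ℚ) := by
      rw [map_intCast, map_intCast]
    rw [h2] at h1
    exact hunit _ n hn0 h1
  have hnotmax : ¬ P.asIdeal.IsMaximal := by
    intro hmax
    letI : Field (A ⧸ P.asIdeal) := Ideal.Quotient.field P.asIdeal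
    haveI := int_isJacobsonRing
    haveI : Algebra.FiniteType ℤ (A ⧸ P.asIdeal) :=
      Algebra.FiniteType.of_surjective (Ideal.Quotient.mkₐ ℤ P.asIdeal)
        Ideal.Quotient.mk_surjective
    haveI : Module.Finite ℤ (A ⧸ P.asIdeal) :=
      finite_of_finite_type_of_isJacobsonRing ℤ (A ⧸ P.asIdeal)
    have hinj : Function.Injective (algebraMap ℤ (A ⧸ P.asIdeal)) := by
      rw [injective_iff_map_eq_zero]
      intro n hn
      apply hPint n
      rw [← Ideal.Quotient.eq_zero_iff_mem]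
      rw [eq_intCast] at hn
      rw [map_intCast]
      exact hn
    exact Int.not_isField (isField_of_isIntegral_of_isField hinj (Field.toIsField _))
  obtain ⟨Q, hQmax, hPQ⟩ := Ideal.exists_le_maximal P.asIdeal P.2.ne_top
  have hlt : l'.last < ⟨Q, hQmax.isPrime⟩ := by
    rw [LTSeries.last_map]
    rw [← PrimeSpectrum.asIdeal_lt_asIdeal]
    refine lt_of_le_of_ne hPQ ?_
    intro heq
    apply hnotmax
    change (PrimeSpectrum.comap (iota A) l.last).asIdeal.IsMaximal
    rw [heq]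
    exact hQmax
  have h3 := Order.LTSeries.length_le_krullDim (l'.snoc ⟨Q, hQmax.isPrime⟩ hlt)
  have h4 : (l'.snoc ⟨Q, hQmax.isPrime⟩ hlt).length = s + 1 := by
    simp [l', hl]
  rw [h4] at h3
  exact h3

end Groth.Agent.Lib27.IntNoether
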