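import Mathlib
import Groth.Agent.Lib27.Tower

/-!
# Pretriangulated categories with countable coproducts are idempotent complete
-/

set_option autoImplicit false
universe v u

open CategoryTheory CategoryTheory.Limits CategoryTheory.Pretriangulated
open scoped ZeroObject

namespace Groth.Agent.Lib27.Karoubi

open Groth.Agent.Lib27.Tower

variable {C : Type u} [Category.{v} C] [Preadditive C] [HasZeroObject C] [HasShift C ℤ]
  [∀ n : ℤ, (shiftFunctor C n).Additive] [Pretriangulated C]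
  [HasColimitsOfShape (Discrete ℕ) C]

theorem idempotent_splits {X : C} (e : X ⟶ X) (he : e ≫ e = e) :
    ∃ (Y : C) (i : Y ⟶ X) (p : X ⟶ Y), i ≫ p = 𝟙 Y ∧ p ≫ i = e := by
  let B : C := ∐ fun _ : ℕ => X
  let ε : B ⟶ B := Limits.Sigma.map (fun _ : ℕ => e)
  let T : B ⟶ B := T0 X
  let ρ : B ⟶ B := rho X
  let nab : B ⟶ X := Sigma.desc (fun _ : ℕ => 𝟙 X)
  let ι0 : X ⟶ B := Sigma.ι (fun _ : ℕ => X) 0
  have hι0 : ι0 ≫ nab = 𝟙 X := by simp [ι0, nab]
  have r1 : ε ≫ ε = ε := by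
    apply Sigma.hom_ext
    intro n
    simp only [ε, Sigma.ι_map_assoc, Sigma.ι_map]
    rw [← Category.assoc, he]
  have r2 : T ≫ ε = ε ≫ T := by
    apply Sigma.hom_ext
    intro n
    simp [ε, T]
  have r3 : ρ ≫ ε = ε ≫ ρ := by
    apply Sigma.hom_ext
    intro n
    simp [ε, ρ, Preadditive.sum_comp, Preadditive.comp_sum]
  have r4 : ρ - T ≫ ρ = 𝟙 B := by
    have := one_sub_T0_rho X
    rwa [Preadditive.sub_comp, Category.id_comp] at this
  have r5 : ρ - ρ ≫ T = 𝟙 B - nab ≫ ι0 := by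
    have := TowerData.rho_one_sub_T0 X
    rwa [Preadditive.comp_sub, Category.comp_id] at this
  have r6 : ε ≫ nab = nab ≫ e := by
    apply Sigma.hom_ext
    intro n
    simp [ε, nab]
  have r7 : ι0 ≫ ε = e ≫ ι0 := by simp [ι0, ε]
  let u : B ⟶ B := 𝟙 B - ε ≫ T
  let ρ' : B ⟶ B := (𝟙 B - ε) + ε ≫ ρ
  have h1 : u ≫ ρ' = 𝟙 B := by
    have a1 : ε ≫ T ≫ ε = ε ≫ T := by rw [r2, ← Category.assoc, r1]
    have a2 : ε ≫ T ≫ ε ≫ ρ = ε ≫ T ≫ ρ := by
      rw [← Category.assoc T, r2, Category.assoc, ← Category.assoc ε ε, r1]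
    have a3 : ε ≫ ρ - ε ≫ T ≫ ρ = ε := by
      rw [← Preadditive.comp_sub, r4, Category.comp_id]
    simp only [u, ρ', Preadditive.sub_comp, Preadditive.comp_add, Preadditive.comp_sub,
      Category.id_comp, Category.comp_id, Category.assoc, a1, a2]
    have a3' : ε ≫ T ≫ ρ = ε ≫ ρ - ε := by
      have h := a3
      rw [sub_eq_iff_eq_add] at h
      rw [h]
      abel
    rw [a3']
    abel
  have h2 : ρ' ≫ u = 𝟙 B - ε ≫ nab ≫ ι0 := by
    have b1 : ε ≫ ε ≫ T = ε ≫ T := by rw [← Category.assoc, r1]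
    have b2 : ε ≫ ρ ≫ ε ≫ T = ε ≫ ρ ≫ T := by
      rw [← Category.assoc ρ, r3, Category.assoc, ← Category.assoc ε ε, r1]
    have b3 : ε ≫ ρ - ε ≫ ρ ≫ T = ε - ε ≫ nab ≫ ι0 := by
      rw [← Preadditive.comp_sub, r5, Preadditive.comp_sub, Category.comp_id]
    simp only [u, ρ', Preadditive.add_comp, Preadditive.sub_comp, Preadditive.comp_sub,
      Category.id_comp, Category.comp_id, Category.assoc, b1, b2]
    have : ε ≫ nab ≫ ι0 = ε - (ε ≫ ρ - ε ≫ ρ ≫ T) := by rw [b3]; abel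
    rw [this]
    abel
  obtain ⟨Y, π, δ, hT⟩ := distinguished_cocone_triangle u
  haveI : Mono u := ⟨fun a b hab => by
    have := congrArg (· ≫ ρ') hab
    simpa only [Category.assoc, h1, Category.comp_id] using this⟩
  have hδ : δ = 0 := Triangle.mor₃_eq_zero_of_mono₁ _ hT (by assumption)
  haveI : Epi π := Triangle.epi₂ _ hT hδ
  let q : B ⟶ B := ε ≫ nab ≫ ι0
  have huπ : u ≫ π = 0 := comp_distTriang_mor_zero₁₂ _ hT
  have hq : u ≫ q = 0 := by
    have : q = 𝟙 B - ρ' ≫ u := by rw [h2]; simp [q]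
    rw [this, Preadditive.comp_sub, Category.comp_id, ← Category.assoc, h1, Category.id_comp,
      sub_self]
  obtain ⟨s, hs⟩ : ∃ s : Y ⟶ B, q = π ≫ s := Triangle.yoneda_exact₂ _ hT q hq
  have hqπ : q ≫ π = π := by
    have : q = 𝟙 B - ρ' ≫ u := by rw [h2]; simp [q]
    rw [this, Preadditive.sub_comp, Category.id_comp, Category.assoc, huπ, comp_zero, sub_zero]
  refine ⟨Y, s ≫ nab, ι0 ≫ π, ?_, ?_⟩
  · rw [← cancel_epi π]
    have h3 : π ≫ (s ≫ nab) ≫ ι0 ≫ π = (q ≫ nab) ≫ ι0 ≫ π := by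
      rw [hs]
      simp only [Category.assoc]
    have h4 : (q ≫ nab) ≫ ι0 ≫ π = q ≫ π := by
      simp only [q, Category.assoc]
      rw [← Category.assoc ι0 nab, hι0, Category.id_comp]
    rw [h3, h4, hqπ, Category.comp_id]
  · rw [Category.assoc, ← Category.assoc π, ← hs]
    simp only [q, Category.assoc]
    rw [hι0, Category.comp_id, ← Category.assoc, r7, Category.assoc, hι0, Category.comp_id]

theorem isIdempotentComplete : IsIdempotentComplete C :=
  ⟨fun _ e he => idempotent_splits e he⟩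

end Groth.Agent.Lib27.Karoubi
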