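import Groth.Agent.Lib27.Kos1

/-!
# Finite products of shifted copies of a graded module
-/

set_option autoImplicit false
set_option linter.unusedSectionVars false
set_option linter.unusedVariables false
set_option linter.style.haveILetI false
universe u

namespace Groth.Agent.Lib27.Kos

open DirectSum GrLC Groth.Agent.Lib.Helper11.GrLCLib Groth.Agent.Lib.Helper11.GrLes
  Groth.Agent.Lib27.LD

variable {R : Type u} [CommRing R] (𝒜 : ℤ → AddSubgroup R) [GradedRing 𝒜]
variable {M : Type u} [AddCommGroup M] [Module R M] (ℳ : ℤ → AddSubgroup M)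
  [DirectSum.Decomposition ℳ] [SetLike.GradedSMul 𝒜 ℳ]
variable {β : Type} [Fintype β] [DecidableEq β] (c : β → ℤ)

/-- pieces of the graded module `⊕_b M(-c b)`. -/
def piGr (j : ℤ) : AddSubgroup (β → M) where
  carrier := {w | ∀ b, w b ∈ ℳ (j - c b)}
  zero_mem' := fun b => zero_mem _
  add_mem' := fun h h' b => add_mem (h b) (h' b)
  neg_mem' := fun h b => neg_mem (h b)

lemma mem_piGr {j : ℤ} {w : β → M} : w ∈ piGr ℳ c j ↔ ∀ b, w b ∈ ℳ (j - c b) := Iff.rfl

/-- component projections. -/
noncomputable def piProj (j : ℤ) : (β → M) →+ (β → M) where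
  toFun w := fun b => (decompose ℳ (w b) (j - c b) : M)
  map_zero' := by
    funext b
    simp
  map_add' w w' := by
    funext b
    simp only [Pi.add_apply, decompose_add, DirectSum.add_apply, AddSubgroup.coe_add]

lemma piProj_apply (j : ℤ) (w : β → M) (b : β) :
    piProj ℳ c j w b = (decompose ℳ (w b) (j - c b) : M) := rfl

lemma piProj_same (j : ℤ) (w : β → M) (hw : w ∈ piGr ℳ c j) : piProj ℳ c j w = w := by
  funext b
  exact decompose_of_mem_same ℳ (hw b)

lemma piProj_ne (j j' : ℤ) (w : β → M) (hw : w ∈ piGr ℳ c j) (hne : j' ≠ j) :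
    piProj ℳ c j' w = 0 := by
  funext b
  rw [piProj_apply]
  exact decompose_of_mem_ne ℳ (hw b) (fun e => hne (by omega))

lemma piGr_isInternal : DirectSum.IsInternal (piGr ℳ c) := by
  classical
  refine isInternal_of_proj (piGr ℳ c) (piProj ℳ c) ?_ (piProj_same ℳ c) (piProj_ne ℳ c) ?_
  · intro j w b
    exact SetLike.coe_mem _
  · intro w
    refine ⟨Finset.univ.biUnion (fun b => (decompose ℳ (w b)).support.image (fun i => i + c b)), ?_⟩
    funext b
    rw [Finset.sum_apply]
    simp only [piProj_apply]
    have hsub : (decompose ℳ (w b)).support.image (fun i => i + c b) ⊆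
        Finset.univ.biUnion (fun b => (decompose ℳ (w b)).support.image (fun i => i + c b)) := by
      intro j hj
      exact Finset.mem_biUnion.2 ⟨b, Finset.mem_univ _, hj⟩
    rw [← Finset.sum_subset hsub]
    · rw [Finset.sum_image (fun x _ y _ h => by simpa using h)]
      rw [← DirectSum.sum_support_decompose ℳ (w b)]
      refine Finset.sum_congr ?_ (fun i _ => ?_)
      · rw [DirectSum.sum_support_decompose ℳ (w b)]
      · rw [add_sub_cancel_right, DirectSum.sum_support_decompose ℳ (w b)]
    · intro j _ hj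
      by_contra hne
      apply hj
      rw [Finset.mem_image]
      refine ⟨j - c b, ?_, by ring⟩
      rw [DFinsupp.mem_support_toFun]
      intro h0
      apply hne
      rw [h0]
      rfl

noncomputable instance piDecomposition : DirectSum.Decomposition (piGr ℳ c) :=
  (piGr_isInternal ℳ c).chooseDecomposition

lemma decompose_piGr (w : β → M) (j : ℤ) (b : β) :
    (decompose (piGr ℳ c) w j : β → M) b = (decompose ℳ (w b) (j - c b) : M) := by
  rw [decompose_eq_proj (piGr ℳ c) (piProj ℳ c) (piProj_same ℳ c) (piProj_ne ℳ c) w j]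
  rfl

instance piGradedSMul : SetLike.GradedSMul 𝒜 (piGr ℳ c) where
  smul_mem := by
    intro i j r w hr hw b
    have := SetLike.GradedSMul.smul_mem (A := 𝒜) (B := ℳ) hr (hw b)
    rw [vadd_eq_add] at this ⊢
    have e : i + j - c b = i + (j - c b) := by ring
    rw [e]
    exact this

/-- coordinate projection, of degree `-c b`. -/
lemma piProj_isGrHomDeg (b : β) :
    IsGrHomDeg (piGr ℳ c) ℳ (LinearMap.proj b : (β → M) →ₗ[R] M) (-c b) := by
  intro j w hw
  rw [← sub_eq_add_neg]
  exact hw b

/-- coordinate inclusion, of degree `c b`. -/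
lemma piSingle_isGrHomDeg (b : β) :
    IsGrHomDeg ℳ (piGr ℳ c) (LinearMap.single R (fun _ : β => M) b) (c b) := by
  intro j s hs b'
  change (Pi.single b s : β → M) b' ∈ ℳ (j + c b - c b')
  by_cases h : b' = b
  · subst h
    rw [Pi.single_eq_same, add_sub_cancel_right]
    exact hs
  · rw [Pi.single_eq_of_ne h]
    exact zero_mem _

lemma sum_piSingle_comp_proj :
    ∑ b : β, (LinearMap.single R (fun _ : β => M) b) ∘ₗ (LinearMap.proj b) =
      (LinearMap.id : (β → M) →ₗ[R] (β → M)) := by
  apply LinearMap.ext
  intro w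
  rw [LinearMap.sum_apply]
  simp only [LinearMap.comp_apply, LinearMap.proj_apply, LinearMap.single_apply, LinearMap.id_apply]
  exact Finset.univ_sum_single w

end Groth.Agent.Lib27.Kos
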