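import Groth.Agent.Lib27.Kos2

/-!
# The Koszul complex of a finite family of elements on a module, in coordinates
-/

set_option autoImplicit false
set_option linter.unusedSectionVars false
set_option linter.unusedVariables false
set_option linter.style.haveILetI false
universe u

namespace Groth.Agent.Lib27.Kos

open DirectSum GrLC

section Signs

variable {s : ℕ}

/-- the Koszul sign. -/
def sg (j : Fin s) (J : Finset (Fin s)) : ℤ := (-1) ^ (J.filter (· < j)).card

/-- `-1` if `p` holds and `1` otherwise. -/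
def eps (p : Prop) [Decidable p] : ℤ := if p then -1 else 1

lemma sg_mul_self (j : Fin s) (J : Finset (Fin s)) : sg j J * sg j J = 1 := by
  unfold sg
  rw [← pow_add, ← two_mul, pow_mul]
  simp

lemma sg_insert {i j : Fin s} {J : Finset (Fin s)} (hij : i ≠ j) (hi : i ∉ J) :
    sg j (insert i J) = sg j J * eps (i < j) := by
  unfold sg eps
  rw [Finset.filter_insert]
  split_ifs with h
  · have hi' : i ∉ J.filter (· < j) := fun h' => hi (Finset.mem_filter.1 h').1
    rw [Finset.card_insert_of_notMem hi', pow_succ]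
  · rw [mul_one]

lemma sg_erase {i j : Fin s} {J : Finset (Fin s)} (hij : i ≠ j) (hj : j ∈ J) :
    sg i (J.erase j) = sg i J * eps (j < i) := by
  unfold sg eps
  rw [Finset.filter_erase]
  split_ifs with h
  · have hj' : j ∈ J.filter (· < i) := Finset.mem_filter.2 ⟨hj, h⟩
    have hpos : 0 < (J.filter (· < i)).card := Finset.card_pos.2 ⟨j, hj'⟩
    rw [Finset.card_erase_of_mem hj']
    obtain ⟨k, hk⟩ : ∃ k, (J.filter (· < i)).card = k + 1 := ⟨_, (Nat.succ_pred_eq_of_pos hpos).symm⟩
    rw [hk, Nat.add_sub_cancel, pow_succ, mul_assoc]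
    norm_num
  · have hj' : j ∉ J.filter (· < i) := fun h' => h (Finset.mem_filter.1 h').2
    rw [Finset.erase_eq_of_notMem hj', mul_one]

lemma sg_insert_self (j : Fin s) (J : Finset (Fin s)) : sg j (insert j J) = sg j J := by
  unfold sg
  rw [Finset.filter_insert, if_neg (lt_irrefl j)]

lemma sg_erase_self (j : Fin s) (J : Finset (Fin s)) : sg j (J.erase j) = sg j J := by
  unfold sg
  rw [Finset.filter_erase]
  have hj' : j ∉ J.filter (· < j) := fun h' => lt_irrefl j (Finset.mem_filter.1 h').2
  rw [Finset.erase_eq_of_notMem hj']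

lemma eps_add {i j : Fin s} (hij : i ≠ j) : eps (i < j) + eps (j < i) = 0 := by
  unfold eps
  rcases lt_or_gt_of_ne hij with h | h
  · rw [if_pos h, if_neg (not_lt.2 h.le)]; norm_num
  · rw [if_neg (not_lt.2 h.le), if_pos h]; norm_num

end Signs

section Maps

variable {R : Type u} [CommRing R] {M : Type u} [AddCommGroup M] [Module R M]
variable {s : ℕ} (x : Fin s → R)

/-- the coefficient of `f (insert j J)` in `(D f) J`. -/
def cf (j : Fin s) (J : Finset (Fin s)) : R := if j ∈ J then 0 else ((sg j J : ℤ) : R) * x j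

lemma cf_of_mem {j : Fin s} {J : Finset (Fin s)} (h : j ∈ J) : cf x j J = 0 := if_pos h

lemma cf_of_notMem {j : Fin s} {J : Finset (Fin s)} (h : j ∉ J) :
    cf x j J = ((sg j J : ℤ) : R) * x j := if_neg h

/-- the Koszul differential. -/
def D : (Finset (Fin s) → M) →ₗ[R] (Finset (Fin s) → M) where
  toFun f J := ∑ j, cf x j J • f (insert j J)
  map_add' f g := by
    funext J
    simp only [Pi.add_apply, smul_add, Finset.sum_add_distrib]
  map_smul' r f := by
    funext J
    simp only [Pi.smul_apply, RingHom.id_apply, Finset.smul_sum]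
    refine Finset.sum_congr rfl fun j _ => ?_
    rw [smul_comm]

lemma D_apply (f : Finset (Fin s) → M) (J : Finset (Fin s)) :
    D x f J = ∑ j, cf x j J • f (insert j J) := rfl

/-- the homotopy for `x j`. -/
def hh (j : Fin s) : (Finset (Fin s) → M) →ₗ[R] (Finset (Fin s) → M) where
  toFun f J := if j ∈ J then ((sg j J : ℤ) : R) • f (J.erase j) else 0
  map_add' f g := by
    funext J
    simp only [Pi.add_apply]
    split_ifs
    · rw [smul_add]
    · rw [add_zero]
  map_smul' r f := by
    funext J
    simp only [Pi.smul_apply, RingHom.id_apply]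
    split_ifs
    · rw [smul_comm]
    · rw [smul_zero]

lemma hh_apply (j : Fin s) (f : Finset (Fin s) → M) (J : Finset (Fin s)) :
    hh (R := R) j f J = if j ∈ J then ((sg j J : ℤ) : R) • f (J.erase j) else 0 := rfl

theorem D_D (f : Finset (Fin s) → M) : D x (D x f) = 0 := by
  classical
  funext J
  rw [Pi.zero_apply, D_apply]
  simp only [D_apply, Finset.smul_sum, smul_smul]
  rw [← Finset.sum_product']
  refine Finset.sum_involution (fun p _ => p.swap) ?_ ?_ (fun p _ => Finset.mem_univ _)
    (fun p _ => Prod.swap_swap p)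
  · rintro ⟨j, i⟩ -
    change (cf x j J * cf x i (insert j J)) • f (insert i (insert j J)) +
      (cf x i J * cf x j (insert i J)) • f (insert j (insert i J)) = 0
    by_cases hij : i = j
    · subst hij
      rw [cf_of_mem x (Finset.mem_insert_self i J), mul_zero, zero_smul, add_zero]
    rw [Finset.insert_comm j i J, ← add_smul]
    convert zero_smul R _
    by_cases hj : j ∈ J
    · rw [cf_of_mem x hj, cf_of_mem x (Finset.mem_insert_of_mem hj), zero_mul, mul_zero, add_zero]
    by_cases hi : i ∈ J
    · rw [cf_of_mem x hi, cf_of_mem x (Finset.mem_insert_of_mem hi), zero_mul, mul_zero, add_zero]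
    have hi' : i ∉ insert j J := fun h => by
      rcases Finset.mem_insert.1 h with h | h
      · exact hij h
      · exact hi h
    have hj' : j ∉ insert i J := fun h => by
      rcases Finset.mem_insert.1 h with h | h
      · exact hij h.symm
      · exact hj h
    rw [cf_of_notMem x hj, cf_of_notMem x hi, cf_of_notMem x hi', cf_of_notMem x hj',
      sg_insert (Ne.symm hij) hj, sg_insert hij hi]
    have he : ((eps (j < i) : ℤ) : R) + ((eps (i < j) : ℤ) : R) = 0 := by
      rw [← Int.cast_add, eps_add (Ne.symm hij), Int.cast_zero]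
    push_cast
    linear_combination (((sg j J : ℤ) : R) * ((sg i J : ℤ) : R) * x i * x j) * he
  · rintro ⟨j, i⟩ - hne heq
    apply hne
    have hij : i = j := (congrArg Prod.fst heq)
    subst hij
    change (cf x i J * cf x i (insert i J)) • f (insert i (insert i J)) = 0
    rw [cf_of_mem x (Finset.mem_insert_self i J), mul_zero, zero_smul]

theorem D_hh (j : Fin s) (f : Finset (Fin s) → M) :
    D x (hh (R := R) j f) + hh (R := R) j (D x f) = x j • f := by
  classical
  funext J
  have hsq : ((sg j J : ℤ) : R) * ((sg j J : ℤ) : R) = 1 := by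
    rw [← Int.cast_mul, sg_mul_self, Int.cast_one]
  rw [Pi.add_apply, Pi.smul_apply, D_apply, hh_apply]
  by_cases hjJ : j ∈ J
  · rw [if_pos hjJ, D_apply, Finset.smul_sum, ← Finset.sum_add_distrib]
    rw [Finset.sum_eq_single j]
    · rw [cf_of_mem x hjJ, zero_smul, zero_add, cf_of_notMem x (Finset.notMem_erase j J),
        sg_erase_self, Finset.insert_erase hjJ, smul_smul, ← mul_assoc, hsq, one_mul]
    · intro i _ hij
      rw [hh_apply, if_pos (Finset.mem_insert_of_mem hjJ)]
      by_cases hi : i ∈ J
      · rw [cf_of_mem x hi, zero_smul, zero_add,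
          cf_of_mem x (Finset.mem_erase.2 ⟨hij, hi⟩), zero_smul, smul_zero]
      · have hi' : i ∉ J.erase j := fun h => hi (Finset.mem_of_mem_erase h)
        rw [Finset.erase_insert_of_ne hij, smul_smul, smul_smul, ← add_smul]
        convert zero_smul R _
        rw [cf_of_notMem x hi, cf_of_notMem x hi', sg_insert hij hi, sg_erase hij hjJ]
        have he : ((eps (i < j) : ℤ) : R) + ((eps (j < i) : ℤ) : R) = 0 := by
          rw [← Int.cast_add, eps_add hij, Int.cast_zero]
        push_cast
        linear_combination (((sg j J : ℤ) : R) * ((sg i J : ℤ) : R) * x i) * he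
    · intro h
      exact absurd (Finset.mem_univ j) h
  · rw [if_neg hjJ, add_zero]
    rw [Finset.sum_eq_single j]
    · rw [hh_apply, if_pos (Finset.mem_insert_self j J), cf_of_notMem x hjJ, sg_insert_self,
        Finset.erase_insert hjJ, smul_smul, mul_comm (((sg j J : ℤ) : R)) (x j), mul_assoc, hsq,
        mul_one]
    · intro i _ hij
      have hj' : j ∉ insert i J := fun h => by
        rcases Finset.mem_insert.1 h with h | h
        · exact hij h.symm
        · exact hjJ h
      rw [hh_apply, if_neg hj', smul_zero]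
    · intro h
      exact absurd (Finset.mem_univ j) h

/-- the part of homological degree `q`. -/
def Kq (q : ℕ) : Submodule R (Finset (Fin s) → M) where
  carrier := {f | ∀ J : Finset (Fin s), J.card ≠ q → f J = 0}
  zero_mem' := fun J _ => rfl
  add_mem' := fun {f g} hf hg J hJ => by rw [Pi.add_apply, hf J hJ, hg J hJ, add_zero]
  smul_mem' := fun r f hf J hJ => by rw [Pi.smul_apply, hf J hJ, smul_zero]

lemma mem_Kq {q : ℕ} {f : Finset (Fin s) → M} :
    f ∈ Kq (R := R) q ↔ ∀ J : Finset (Fin s), J.card ≠ q → f J = 0 := Iff.rfl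

lemma D_mem_Kq {q : ℕ} {f : Finset (Fin s) → M} (hf : f ∈ Kq (R := R) (q + 1)) :
    D x f ∈ Kq (R := R) q := by
  intro J hJ
  rw [D_apply]
  refine Finset.sum_eq_zero fun j _ => ?_
  by_cases hj : j ∈ J
  · rw [cf_of_mem x hj, zero_smul]
  · rw [hf (insert j J) (by rw [Finset.card_insert_of_notMem hj]; omega), smul_zero]

lemma D_eq_zero_of_mem_Kq_zero {f : Finset (Fin s) → M} (hf : f ∈ Kq (R := R) 0) : D x f = 0 := by
  funext J
  rw [D_apply, Pi.zero_apply]
  refine Finset.sum_eq_zero fun j _ => ?_
  by_cases hj : j ∈ J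
  · rw [cf_of_mem x hj, zero_smul]
  · rw [hf (insert j J) (by rw [Finset.card_insert_of_notMem hj]; omega), smul_zero]

lemma hh_mem_Kq {q : ℕ} (j : Fin s) {f : Finset (Fin s) → M} (hf : f ∈ Kq (R := R) q) :
    hh (R := R) j f ∈ Kq (R := R) (q + 1) := by
  intro J hJ
  rw [hh_apply]
  split_ifs with hj
  · rw [hf (J.erase j) (by rw [Finset.card_erase_of_mem hj]; have := Finset.card_pos.2 ⟨j, hj⟩; omega),
      smul_zero]
  · rfl

lemma Kq_eq_bot {q : ℕ} (hq : s < q) : Kq (R := R) (M := M) (s := s) q = ⊥ := by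
  rw [eq_bot_iff]
  intro f hf
  rw [Submodule.mem_bot]
  funext J
  apply hf
  have := Finset.card_le_univ J
  rw [Fintype.card_fin] at this
  omega

end Maps

section Graded

variable {R : Type u} [CommRing R] (𝒜 : ℤ → AddSubgroup R) [GradedRing 𝒜]
variable {M : Type u} [AddCommGroup M] [Module R M] (ℳ : ℤ → AddSubgroup M)
  [DirectSum.Decomposition ℳ] [SetLike.GradedSMul 𝒜 ℳ]
variable {s : ℕ} (x : Fin s → R)

/-- the internal grading of the Koszul complex (all homological degrees together). -/
abbrev kGr : ℤ → AddSubgroup (Finset (Fin s) → M) :=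
  piGr ℳ (fun J : Finset (Fin s) => (J.card : ℤ))

lemma cf_mem (hx : ∀ j, x j ∈ 𝒜 1) (j : Fin s) (J : Finset (Fin s)) : cf x j J ∈ 𝒜 1 := by
  unfold cf
  split_ifs
  · exact zero_mem _
  · rw [← zsmul_eq_mul]
    exact zsmul_mem (hx j) _

lemma D_isGrHomDeg (hx : ∀ j, x j ∈ 𝒜 1) :
    IsGrHomDeg (kGr (s := s) ℳ) (kGr (s := s) ℳ) (D (M := M) x) 0 := by
  intro n f hf J
  rw [add_zero]
  change ∑ j, cf x j J • f (insert j J) ∈ ℳ (n - (J.card : ℤ))
  refine sum_mem fun j _ => ?_
  by_cases hj : j ∈ J
  · rw [cf_of_mem x hj, zero_smul]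
    exact zero_mem _
  · have h1 := hf (insert j J)
    have h2 := SetLike.GradedSMul.smul_mem (A := 𝒜) (B := ℳ) (cf_mem 𝒜 x hx j J) h1
    rw [vadd_eq_add] at h2
    have e : (1 : ℤ) + (n - ((insert j J).card : ℤ)) = n - (J.card : ℤ) := by
      rw [Finset.card_insert_of_notMem hj]
      push_cast
      ring
    rw [e] at h2
    exact h2

lemma Kq_isHomogeneous (q : ℕ) :
    (Kq (R := R) (M := M) (s := s) q).IsHomogeneous (kGr (s := s) ℳ) := by
  intro n f hf J hJ
  rw [decompose_piGr, hf J hJ, decompose_zero, DirectSum.zero_apply, ZeroMemClass.coe_zero]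

end Graded

end Groth.Agent.Lib27.Kos
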