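import Groth.Agent.Lib27.Kos3

/-!
# The Koszul chase: vanishing on a diagonal passes to the submodule `aM`
-/

set_option autoImplicit false
set_option linter.unusedSectionVars false
set_option linter.unusedVariables false
set_option linter.style.haveILetI false
universe u

namespace Groth.Agent.Lib27.Kos

open DirectSum GrLC Groth.Agent.Lib.Helper11.GrLCLib Groth.Agent.Lib.Helper11.GrLes
  Groth.Agent.Lib27.LD

variable {R : Type u} [CommRing R] [IsNoetherianRing R] {𝒜 : ℤ → AddSubgroup R} [GradedRing 𝒜]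

section Sub

variable {E : Type u} [AddCommGroup E] [Module R E] (𝓔 : ℤ → AddSubgroup E)
  [DirectSum.Decomposition 𝓔] [SetLike.GradedSMul 𝒜 𝓔] (a : HomogeneousIdeal 𝒜)

/-- vanishing for a homogeneous submodule, viewed as a graded module. -/
def VanSub (P : Submodule R E) (hP : P.IsHomogeneous 𝓔) (i : ℕ) (n : ℤ) : Prop :=
  letI := subDecomposition 𝓔 P hP
  Van (𝒜 := 𝒜) (subGr 𝓔 P) a i n

variable {𝓔 a}

lemma vanSub_bot (hP : (⊥ : Submodule R E).IsHomogeneous 𝓔) (i : ℕ) (n : ℤ) :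
    VanSub 𝓔 a ⊥ hP i n := by
  letI := subDecomposition 𝓔 (⊥ : Submodule R E) hP
  exact van_of_subsingleton i n

lemma vanSub_congr {P Q : Submodule R E} (hP : P.IsHomogeneous 𝓔) (hQ : Q.IsHomogeneous 𝓔)
    (h : P = Q) {i : ℕ} {n : ℤ} (hv : VanSub 𝓔 a P hP i n) : VanSub 𝓔 a Q hQ i n := by
  subst h
  exact hv

/-- torsion cokernel. -/
lemma vanSub_of_torsion_coker {B Z : Submodule R E} (hB : B.IsHomogeneous 𝓔)
    (hZ : Z.IsHomogeneous 𝓔) (hBZ : B ≤ Z)
    (ht : ∀ z ∈ Z, ∀ r ∈ a.toIdeal, r • z ∈ B) (i : ℕ) (n : ℤ)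
    (h : VanSub 𝓔 a B hB (i + 1) n) : VanSub 𝓔 a Z hZ (i + 1) n := by
  letI := subDecomposition 𝓔 B hB
  letI := subDecomposition 𝓔 Z hZ
  have hu : IsGrHomDeg (subGr 𝓔 B) (subGr 𝓔 Z) (Submodule.inclusion hBZ) 0 := by
    intro j y hy
    rw [add_zero]
    exact hy
  refine van_of_torsion_coker (Submodule.inclusion hBZ) hu (Submodule.inclusion_injective hBZ) ?_
    i n h
  intro y
  refine ⟨1, fun r hr => ?_⟩
  rw [pow_one] at hr
  exact ⟨⟨r • (y : E), ht y y.2 r hr⟩, Subtype.ext rfl⟩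

/-- image of a homogeneous map. -/
lemma vanSub_image {A : Submodule R E} (hA : A.IsHomogeneous 𝓔) (Dm : E →ₗ[R] E)
    (hD : IsGrHomDeg 𝓔 𝓔 Dm 0) (hA' : (A ⊓ LinearMap.ker Dm).IsHomogeneous 𝓔)
    (hA'' : (A.map Dm).IsHomogeneous 𝓔) (i : ℕ) (n : ℤ)
    (h1 : VanSub 𝓔 a A hA i n) (h2 : VanSub 𝓔 a (A ⊓ LinearMap.ker Dm) hA' (i + 1) n) :
    VanSub 𝓔 a (A.map Dm) hA'' i n := by
  letI := subDecomposition 𝓔 A hA
  letI := subDecomposition 𝓔 (A ⊓ LinearMap.ker Dm) hA'
  letI := subDecomposition 𝓔 (A.map Dm) hA''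
  have hle : A ⊓ LinearMap.ker Dm ≤ A := inf_le_left
  let v : ↥A →ₗ[R] ↥(A.map Dm) :=
    LinearMap.codRestrict (A.map Dm) (Dm ∘ₗ A.subtype) (fun y => Submodule.mem_map_of_mem y.2)
  have hu : IsGrHomDeg (subGr 𝓔 (A ⊓ LinearMap.ker Dm)) (subGr 𝓔 A) (Submodule.inclusion hle) 0 := by
    intro j y hy
    rw [add_zero]
    exact hy
  have hv : IsGrHomDeg (subGr 𝓔 A) (subGr 𝓔 (A.map Dm)) v 0 := by
    intro j y hy
    exact hD j _ hy
  refine van_right (Submodule.inclusion hle) v hu hv (Submodule.inclusion_injective hle) ?_ ?_ h1 h2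
  · rintro ⟨_, ⟨y, hy, rfl⟩⟩
    exact ⟨⟨y, hy⟩, rfl⟩
  · ext y
    rw [LinearMap.mem_ker, LinearMap.mem_range]
    constructor
    · intro h0
      have h0' : Dm (y : E) = 0 := congrArg Subtype.val h0
      exact ⟨⟨(y : E), ⟨y.2, LinearMap.mem_ker.2 h0'⟩⟩, Subtype.ext rfl⟩
    · rintro ⟨w, rfl⟩
      apply Subtype.ext
      exact LinearMap.mem_ker.1 w.2.2

end Sub

section Koszul

variable {M : Type u} [AddCommGroup M] [Module R M] (ℳ : ℤ → AddSubgroup M)
  [DirectSum.Decomposition ℳ] [SetLike.GradedSMul 𝒜 ℳ]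
variable {s : ℕ} (x : Fin s → R) (a : HomogeneousIdeal 𝒜)

/-- cycles. -/
def Zq (q : ℕ) : Submodule R (Finset (Fin s) → M) :=
  Kq (R := R) q ⊓ LinearMap.ker (D (M := M) x)

/-- boundaries. -/
def Bq (q : ℕ) : Submodule R (Finset (Fin s) → M) :=
  (Kq (R := R) (q + 1)).map (D (M := M) x)

lemma Bq_le_Zq (q : ℕ) : Bq (M := M) x q ≤ Zq (M := M) x q := by
  rintro _ ⟨f, hf, rfl⟩
  exact ⟨D_mem_Kq x hf, LinearMap.mem_ker.2 (D_D x f)⟩

lemma Zq_zero : Zq (M := M) x 0 = Kq (R := R) 0 := by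
  apply le_antisymm inf_le_left
  intro f hf
  exact ⟨hf, LinearMap.mem_ker.2 (D_eq_zero_of_mem_Kq_zero x hf)⟩

variable {x a}

lemma smul_mem_Bq (ha : a.toIdeal = Ideal.span (Set.range x)) (q : ℕ)
    (z : Finset (Fin s) → M) (hz : z ∈ Zq (M := M) x q) (r : R) (hr : r ∈ a.toIdeal) :
    r • z ∈ Bq (M := M) x q := by
  rw [ha] at hr
  induction hr using Submodule.span_induction with
  | mem r hr =>
    obtain ⟨j, rfl⟩ := hr
    have h1 := D_hh x j z
    rw [LinearMap.mem_ker.1 hz.2, map_zero, add_zero] at h1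
    rw [← h1]
    exact ⟨hh (R := R) j z, hh_mem_Kq j hz.1, rfl⟩
  | zero => rw [zero_smul]; exact zero_mem _
  | add r r' _ _ h h' => rw [add_smul]; exact add_mem h h'
  | smul c r _ h => rw [smul_eq_mul, mul_smul]; exact Submodule.smul_mem _ c h

variable (x)

lemma Zq_isHomogeneous (hx : ∀ j, x j ∈ 𝒜 1) (q : ℕ) :
    (Zq (M := M) x q).IsHomogeneous (kGr (s := s) ℳ) := by
  intro n f hf
  exact ⟨Kq_isHomogeneous ℳ q n hf.1,
    ker_isHomogeneous_deg (kGr (s := s) ℳ) (kGr (s := s) ℳ) (D_isGrHomDeg 𝒜 ℳ x hx) n hf.2⟩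

lemma Bq_isHomogeneous (hx : ∀ j, x j ∈ 𝒜 1) (q : ℕ) :
    (Bq (M := M) x q).IsHomogeneous (kGr (s := s) ℳ) := by
  rintro n _ ⟨f, hf, rfl⟩
  have h := decompose_map_deg (kGr (s := s) ℳ) (kGr (s := s) ℳ) (D_isGrHomDeg 𝒜 ℳ x hx) f n
  rw [add_zero] at h
  rw [h]
  exact ⟨_, Kq_isHomogeneous ℳ (q + 1) n hf, rfl⟩

variable {x}

/-- local cohomology of the homological pieces. -/
lemma vanSub_Kq (q : ℕ) (i : ℕ) (n : ℤ) (h : Van (𝒜 := 𝒜) ℳ a i (n - q)) :
    VanSub (kGr (s := s) ℳ) a (Kq (R := R) q) (Kq_isHomogeneous ℳ q) i n := by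
  classical
  letI := subDecomposition (kGr (s := s) ℳ) (Kq (R := R) q) (Kq_isHomogeneous ℳ q)
  let β := {J : Finset (Fin s) // J.card = q}
  let p : β → ↥(Kq (R := R) (M := M) (s := s) q) →ₗ[R] M := fun J =>
    (LinearMap.proj (J : Finset (Fin s))) ∘ₗ (Kq (R := R) q).subtype
  let sJ : β → M →ₗ[R] ↥(Kq (R := R) (M := M) (s := s) q) := fun J =>
    LinearMap.codRestrict (Kq (R := R) q) (LinearMap.single R (fun _ : Finset (Fin s) => M) (J : Finset (Fin s)))
      (fun m J' hJ' => by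
        change (Pi.single (J : Finset (Fin s)) m : Finset (Fin s) → M) J' = 0
        rw [Pi.single_eq_of_ne]
        intro e
        exact hJ' (e ▸ J.2))
  refine van_of_sum (β := β) p sJ (q : ℤ) ?_ ?_ ?_ h
  · intro J j f hf
    have : (f : Finset (Fin s) → M) (J : Finset (Fin s)) ∈
        ℳ (j - (((J : Finset (Fin s)).card : ℕ) : ℤ)) := hf (J : Finset (Fin s))
    rw [J.2] at this
    rw [← sub_eq_add_neg]
    exact this
  · intro J j m hm J'
    change (Pi.single (J : Finset (Fin s)) m : Finset (Fin s) → M) J' ∈ ℳ (j + q - (J'.card : ℤ))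
    by_cases hJ : J' = (J : Finset (Fin s))
    · rw [hJ, Pi.single_eq_same, J.2, add_sub_cancel_right]
      exact hm
    · rw [Pi.single_eq_of_ne hJ]
      exact zero_mem _
  · apply LinearMap.ext
    intro f
    apply Subtype.ext
    funext J'
    rw [LinearMap.sum_apply, LinearMap.id_apply, Submodule.coe_sum, Finset.sum_apply]
    change ∑ J : β, (Pi.single (J : Finset (Fin s)) ((f : Finset (Fin s) → M) (J : Finset (Fin s))) :
      Finset (Fin s) → M) J' = (f : Finset (Fin s) → M) J'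
    by_cases hJ' : J'.card = q
    · rw [Finset.sum_eq_single (⟨J', hJ'⟩ : β)]
      · rw [Pi.single_eq_same]
      · intro J _ hne
        rw [Pi.single_eq_of_ne]
        intro e
        exact hne (Subtype.ext e.symm)
      · intro h'
        exact absurd (Finset.mem_univ _) h'
    · rw [f.2 J' hJ']
      refine Finset.sum_eq_zero fun J _ => ?_
      rw [Pi.single_eq_of_ne]
      intro e
      exact hJ' (e ▸ J.2)

/-- the module itself is the piece of homological degree zero. -/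
lemma van_of_vanSub_Kq_zero (i : ℕ) (n : ℤ)
    (h : VanSub (kGr (s := s) ℳ) a (Kq (R := R) 0) (Kq_isHomogeneous ℳ 0) i n) :
    Van (𝒜 := 𝒜) ℳ a i n := by
  classical
  letI := subDecomposition (kGr (s := s) ℳ) (Kq (R := R) 0) (Kq_isHomogeneous ℳ 0)
  let p : ↥(Kq (R := R) (M := M) (s := s) 0) →ₗ[R] M :=
    (LinearMap.proj (∅ : Finset (Fin s))) ∘ₗ (Kq (R := R) 0).subtype
  let s0 : M →ₗ[R] ↥(Kq (R := R) (M := M) (s := s) 0) :=
    LinearMap.codRestrict (Kq (R := R) 0) (LinearMap.single R (fun _ : Finset (Fin s) => M) ∅)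
      (fun m J' hJ' => by
        change (Pi.single (∅ : Finset (Fin s)) m : Finset (Fin s) → M) J' = 0
        rw [Pi.single_eq_of_ne]
        intro e
        exact hJ' (by rw [e]; rfl))
  obtain ⟨E'⟩ := nonempty_starInjRes 𝒜 (subGr (kGr (s := s) ℳ) (Kq (R := R) (M := M) (s := s) 0))
  refine van_retract s0 p 0 0 ?_ ?_ ?_ (add_zero 0) E' ?_
  · intro j m hm J'
    change (Pi.single (∅ : Finset (Fin s)) m : Finset (Fin s) → M) J' ∈ ℳ (j + 0 - (J'.card : ℤ))
    by_cases hJ : J' = ∅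
    · rw [hJ, Pi.single_eq_same, Finset.card_empty, add_zero, Nat.cast_zero, sub_zero]
      exact hm
    · rw [Pi.single_eq_of_ne hJ]
      exact zero_mem _
  · intro j f hf
    have : (f : Finset (Fin s) → M) ∅ ∈
        ℳ (j - (((∅ : Finset (Fin s)).card : ℕ) : ℤ)) := hf (∅ : Finset (Fin s))
    rw [Finset.card_empty, Nat.cast_zero, sub_zero] at this
    rw [add_zero]
    exact this
  · apply LinearMap.ext
    intro m
    change (Pi.single (∅ : Finset (Fin s)) m : Finset (Fin s) → M) ∅ = m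
    rw [Pi.single_eq_same]
  · intro z hz
    rw [add_zero] at hz
    exact h E' z hz

/-- **The Koszul chase.**  If `*H^{i₀+j}_a(M)_{n-1-j} = 0` for all `j ≥ 0`, then
`*H^{i₀}_a(aM)_n = 0`, where `aM` is realised as the module of boundaries `B_0`. -/
theorem vanSub_Bq_zero (hx : ∀ j, x j ∈ 𝒜 1) (ha : a.toIdeal = Ideal.span (Set.range x))
    (i₀ : ℕ) (n : ℤ) (h : ∀ j : ℕ, Van (𝒜 := 𝒜) ℳ a (i₀ + j) (n - 1 - j)) :
    VanSub (kGr (s := s) ℳ) a (Bq (M := M) x 0) (Bq_isHomogeneous ℳ x hx 0) i₀ n := by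
  classical
  -- downward induction on the homological degree
  have key : ∀ d q : ℕ, q + d = s →
      VanSub (kGr (s := s) ℳ) a (Bq (M := M) x q) (Bq_isHomogeneous ℳ x hx q) (i₀ + q) n := by
    intro d
    induction d with
    | zero =>
      intro q hq
      have hbot : Bq (M := M) x q = ⊥ := by
        unfold Bq
        rw [Kq_eq_bot (by omega), Submodule.map_bot]
      have hPb : (⊥ : Submodule R (Finset (Fin s) → M)).IsHomogeneous (kGr (s := s) ℳ) := by
        rw [← hbot]; exact Bq_isHomogeneous ℳ x hx q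
      exact vanSub_congr hPb (Bq_isHomogeneous ℳ x hx q) hbot.symm (vanSub_bot hPb _ _)
    | succ d ih =>
      intro q hq
      have hB1 := ih (q + 1) (by omega)
      -- pass from `B_{q+1}` to `Z_{q+1}`
      have hZ1 : VanSub (kGr (s := s) ℳ) a (Zq (M := M) x (q + 1))
          (Zq_isHomogeneous ℳ x hx (q + 1)) (i₀ + q + 1) n := by
        have := vanSub_of_torsion_coker (a := a) (Bq_isHomogeneous ℳ x hx (q + 1))
          (Zq_isHomogeneous ℳ x hx (q + 1)) (Bq_le_Zq x (q + 1))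
          (fun z hz r hr => smul_mem_Bq ha (q + 1) z hz r hr) (i₀ + q) n
        apply this
        have e : i₀ + (q + 1) = i₀ + q + 1 := by ring
        rw [← e]
        exact hB1
      have hK : VanSub (kGr (s := s) ℳ) a (Kq (R := R) (q + 1)) (Kq_isHomogeneous ℳ (q + 1))
          (i₀ + q) n := by
        apply vanSub_Kq
        have := h q
        have e : n - 1 - (q : ℤ) = n - ((q + 1 : ℕ) : ℤ) := by push_cast; ring
        rw [e] at this
        exact this
      exact vanSub_image (Kq_isHomogeneous ℳ (q + 1)) (D (M := M) x) (D_isGrHomDeg 𝒜 ℳ x hx)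
        (Zq_isHomogeneous ℳ x hx (q + 1)) (Bq_isHomogeneous ℳ x hx q) (i₀ + q) n hK hZ1
  have := key s 0 (by omega)
  rwa [add_zero] at this

end Koszul

end Groth.Agent.Lib27.Kos
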