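import Groth.Agent.Lib27.Kos4

/-!
# Consequences of the Koszul chase: generation in low degrees and persistence of regularity
-/

set_option autoImplicit false
set_option linter.unusedSectionVars false
set_option linter.unusedVariables false
set_option linter.style.haveILetI false
universe u

namespace Groth.Agent.Lib27.Kos

open DirectSum GrLC Groth.Agent.Lib.Helper11.GrLCLib Groth.Agent.Lib.Helper11.GrLes
  Groth.Agent.Lib27.LD Groth.Agent.Lib.Helper11.GrShift

variable {R : Type u} [CommRing R] [IsNoetherianRing R] {𝒜 : ℤ → AddSubgroup R} [GradedRing 𝒜]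
variable {M : Type u} [AddCommGroup M] [Module R M] (ℳ : ℤ → AddSubgroup M)
  [DirectSum.Decomposition ℳ] [SetLike.GradedSMul 𝒜 ℳ]
variable {s : ℕ} {x : Fin s → R} {a : HomogeneousIdeal 𝒜}

/-- in a torsion module, the piece of degree `n` embeds in `*H^0_a(M)_n`. -/
lemma eq_zero_of_van_zero (ht : ∀ y : M, ∃ k : ℕ, ∀ r ∈ a.toIdeal ^ k, r • y = 0) (n : ℤ)
    (h : Van (𝒜 := 𝒜) ℳ a 0 n) (y : M) (hyn : y ∈ ℳ n) : y = 0 := by
  obtain ⟨E⟩ := nonempty_starInjRes 𝒜 ℳ
  have hy : y ∈ gam a.toIdeal M := ht y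
  have h1 : h0 E a ⟨y, hy⟩ ∈ E.Hgr a 0 n := h0_mem E a ⟨y, hy⟩ hyn
  have h2 := h E _ h1
  have h3 := h0_injective E a (h2.trans (map_zero _).symm)
  exact congrArg Subtype.val h3

lemma sg_empty (j : Fin s) : sg j (∅ : Finset (Fin s)) = 1 := by
  unfold sg
  rw [Finset.filter_empty, Finset.card_empty, pow_zero]

/-- **Generation.**  If `*H^i_a(M)_{n-i} = 0` for all `i`, then `M_n ⊆ a M_{n-1}`. -/
theorem gen_step (hx : ∀ j, x j ∈ 𝒜 1) (ha : a.toIdeal = Ideal.span (Set.range x)) (n : ℤ)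
    (h : ∀ i : ℕ, Van (𝒜 := 𝒜) ℳ a i (n - i)) (m : M) (hm : m ∈ ℳ n) :
    ∃ g : Fin s → M, (∀ j, g j ∈ ℳ (n - 1)) ∧ m = ∑ j, x j • g j := by
  classical
  have hB : VanSub (kGr (s := s) ℳ) a (Bq (M := M) x 0) (Bq_isHomogeneous ℳ x hx 0) 1 n := by
    apply vanSub_Bq_zero ℳ hx ha 1 n
    intro j
    have := h (1 + j)
    have e : n - ((1 + j : ℕ) : ℤ) = n - 1 - (j : ℤ) := by push_cast; ring
    rwa [e] at this
  have hK : VanSub (kGr (s := s) ℳ) a (Kq (R := R) 0) (Kq_isHomogeneous ℳ 0) 0 n := by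
    apply vanSub_Kq
    exact h 0
  have hBK : Bq (M := M) x 0 ≤ Kq (R := R) 0 := (Bq_le_Zq x 0).trans (Zq_zero x).le
  letI := subDecomposition (kGr (s := s) ℳ) (Bq (M := M) x 0) (Bq_isHomogeneous ℳ x hx 0)
  letI := subDecomposition (kGr (s := s) ℳ) (Kq (R := R) (M := M) (s := s) 0)
    (Kq_isHomogeneous ℳ 0)
  have hu : IsGrHomDeg (subGr (kGr (s := s) ℳ) (Bq (M := M) x 0))
      (subGr (kGr (s := s) ℳ) (Kq (R := R) (M := M) (s := s) 0)) (Submodule.inclusion hBK) 0 := by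
    intro j y hy
    rw [add_zero]
    exact hy
  have hu' := (isGrHomDeg_zero_iff _ _).mp hu
  have hhom := range_isHomogeneous _ _ hu'
  letI := quotDecomposition (subGr (kGr (s := s) ℳ) (Kq (R := R) (M := M) (s := s) 0))
    (LinearMap.range (Submodule.inclusion hBK)) hhom
  have hv : IsGrHomDeg (subGr (kGr (s := s) ℳ) (Kq (R := R) (M := M) (s := s) 0))
      (quotGrM (subGr (kGr (s := s) ℳ) (Kq (R := R) (M := M) (s := s) 0))
        (LinearMap.range (Submodule.inclusion hBK)))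
      (LinearMap.range (Submodule.inclusion hBK)).mkQ 0 := by
    intro j y hy
    rw [add_zero]
    exact mkQ_isGrHom _ _ j y hy
  have hQ := van_right (a := a) (i := 0) (n := n) (Submodule.inclusion hBK)
    (LinearMap.range (Submodule.inclusion hBK)).mkQ hu hv (Submodule.inclusion_injective hBK)
    (Submodule.mkQ_surjective _) (Submodule.ker_mkQ _) hK hB
  have htors : ∀ c : ↥(Kq (R := R) (M := M) (s := s) 0) ⧸ LinearMap.range (Submodule.inclusion hBK),
      ∃ k : ℕ, ∀ r ∈ a.toIdeal ^ k, r • c = 0 := by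
    intro c
    obtain ⟨y, rfl⟩ := Submodule.mkQ_surjective _ c
    refine ⟨1, fun r hr => ?_⟩
    rw [pow_one] at hr
    rw [← map_smul]
    apply (Submodule.Quotient.mk_eq_zero _).2
    have hyZ : (y : Finset (Fin s) → M) ∈ Zq (M := M) x 0 := by rw [Zq_zero]; exact y.2
    exact ⟨⟨r • (y : Finset (Fin s) → M), smul_mem_Bq ha 0 _ hyZ r hr⟩, Subtype.ext rfl⟩
  -- the element `m` in homological degree zero
  have hfK : (Pi.single (∅ : Finset (Fin s)) m : Finset (Fin s) → M) ∈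
      Kq (R := R) (M := M) (s := s) 0 := by
    intro J hJ
    rw [Pi.single_eq_of_ne]
    intro e
    exact hJ (by rw [e]; rfl)
  have hfdeg : (Pi.single (∅ : Finset (Fin s)) m : Finset (Fin s) → M) ∈ kGr (s := s) ℳ n := by
    intro J
    change (Pi.single (∅ : Finset (Fin s)) m : Finset (Fin s) → M) J ∈ ℳ (n - (J.card : ℤ))
    by_cases hJ : J = ∅
    · rw [hJ, Pi.single_eq_same, Finset.card_empty, Nat.cast_zero, sub_zero]
      exact hm
    · rw [Pi.single_eq_of_ne hJ]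
      exact zero_mem _
  have hzero := eq_zero_of_van_zero _ htors n hQ
    ((LinearMap.range (Submodule.inclusion hBK)).mkQ ⟨_, hfK⟩)
    (mkQ_isGrHom _ _ n _ (show (⟨_, hfK⟩ : ↥(Kq (R := R) (M := M) (s := s) 0)) ∈
      subGr (kGr (s := s) ℳ) (Kq (R := R) (M := M) (s := s) 0) n from hfdeg))
  obtain ⟨b, hb⟩ := (Submodule.Quotient.mk_eq_zero _).1 hzero
  obtain ⟨g₀, hg₀K, hg₀⟩ := b.2
  have hb' : (b : Finset (Fin s) → M) = Pi.single (∅ : Finset (Fin s)) m :=
    congrArg Subtype.val hb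
  rw [hb'] at hg₀
  -- take the component of degree `n`
  have hdec := decompose_map_deg (kGr (s := s) ℳ) (kGr (s := s) ℳ) (D_isGrHomDeg 𝒜 ℳ x hx) g₀ n
  rw [add_zero, hg₀, decompose_of_mem_same _ hfdeg] at hdec
  let g₁ : Finset (Fin s) → M := (decompose (kGr (s := s) ℳ) g₀ n : Finset (Fin s) → M)
  have hg₁ : g₁ ∈ kGr (s := s) ℳ n := SetLike.coe_mem _
  refine ⟨fun j => g₁ (insert j ∅), fun j => ?_, ?_⟩
  · have : g₁ (insert j ∅) ∈ ℳ (n - (((insert j (∅ : Finset (Fin s))).card : ℕ) : ℤ)) :=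
      hg₁ (insert j ∅)
    rw [Finset.card_insert_of_notMem (Finset.notMem_empty j), Finset.card_empty] at this
    exact this
  · have h1 := congrFun hdec (∅ : Finset (Fin s))
    rw [Pi.single_eq_same, D_apply] at h1
    rw [h1]
    refine Finset.sum_congr rfl fun j _ => ?_
    rw [cf_of_notMem x (Finset.notMem_empty j), sg_empty, Int.cast_one, one_mul]

/-- **Persistence of regularity.** -/
theorem reg_step (hx : ∀ j, x j ∈ 𝒜 1) (ha : a.toIdeal = Ideal.span (Set.range x)) (i : ℕ) (n : ℤ)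
    (h : ∀ j : ℕ, Van (𝒜 := 𝒜) ℳ a (i + 1 + j) (n - 1 - j)) : Van (𝒜 := 𝒜) ℳ a (i + 1) n := by
  classical
  have hB := vanSub_Bq_zero ℳ hx ha (i + 1) n h
  have hBK : Bq (M := M) x 0 ≤ Kq (R := R) 0 := (Bq_le_Zq x 0).trans (Zq_zero x).le
  have hK := vanSub_of_torsion_coker (a := a) (Bq_isHomogeneous ℳ x hx 0) (Kq_isHomogeneous ℳ 0)
    hBK (fun z hz r hr => smul_mem_Bq ha 0 z (by rw [Zq_zero]; exact hz) r hr) i n hB
  exact van_of_vanSub_Kq_zero ℳ (i + 1) n hK

end Groth.Agent.Lib27.Kos
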