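import Mathlib
import Groth.Agent.Lib27.Adams

/-!
# Newton relations between "elementary" and "power sum" sequences, and a splitting principle

`Rel e p n` is the Newton relation `(k+1) e_{k+1} = (-1)^k Σ_{j ≤ k} (-1)^j e_j p_{k+1-j}` for `k < n`.
It holds for `(λ^k x, ψ^k x)` in any pre-λ-ring and for the elementary symmetric functions / power
sums of a finite family.  `e` determines `p` (always) and `p` determines `e` (without ℕ-torsion).
-/

set_option autoImplicit false
universe u
open Finset

namespace Groth.Agent.Lib27.Newton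

variable {A : Type*} [CommRing A]

/-- The Newton relation between two sequences up to level `n`. -/
def Rel (e p : ℕ → A) (n : ℕ) : Prop :=
  ∀ k < n, ((k : A) + 1) * e (k + 1) =
    (-1) ^ k * ∑ j ∈ range (k + 1), (-1) ^ j * e j * p (k + 1 - j)

/-- No `ℕ`-torsion. -/
def TF (A : Type*) [CommRing A] : Prop := ∀ (k : ℕ) (a : A), ((k : A) + 1) * a = 0 → a = 0

lemma Rel.mono {e p : ℕ → A} {m n : ℕ} (h : Rel e p n) (hmn : m ≤ n) : Rel e p m :=
  fun k hk => h k (lt_of_lt_of_le hk hmn)

lemma Rel.map {B : Type*} [CommRing B] (f : A →+* B) {e p : ℕ → A} {n : ℕ} (h : Rel e p n) :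
    Rel (fun k => f (e k)) (fun k => f (p k)) n := by
  intro k hk
  have := congrArg f (h k hk)
  simpa only [map_mul, map_add, map_natCast, map_one, map_pow, map_neg, map_sum] using this

lemma Rel.congr {e p e' p' : ℕ → A} {n : ℕ} (h : Rel e p n) (he : ∀ k ≤ n, e k = e' k)
    (hp : ∀ k, 1 ≤ k → k ≤ n → p k = p' k) : Rel e' p' n := by
  intro k hk
  rw [← he (k + 1) hk, h k hk]
  congr 1
  refine Finset.sum_congr rfl fun j hj => ?_
  have hj' : j ≤ k := Nat.lt_succ_iff.1 (Finset.mem_range.1 hj)
  rw [he j (by omega), hp (k + 1 - j) (by omega) (by omega)]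

/-- `p` determines `e` when there is no `ℕ`-torsion. -/
lemma Rel.e_unique (hA : TF A) {e p e' p' : ℕ → A} {n : ℕ} (h : Rel e p n) (h' : Rel e' p' n)
    (h0 : e 0 = e' 0) (hp : ∀ j, 1 ≤ j → j ≤ n → p j = p' j) : ∀ k ≤ n, e k = e' k := by
  intro k
  induction k using Nat.strong_induction_on with
  | _ k ih =>
    intro hk
    rcases Nat.eq_zero_or_pos k with rfl | hpos
    · exact h0
    · obtain ⟨m, rfl⟩ : ∃ m, k = m + 1 := ⟨k - 1, by omega⟩
      have e1 := h m (by omega)
      have e2 := h' m (by omega)
      have : ((m : A) + 1) * (e (m + 1) - e' (m + 1)) = 0 := by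
        rw [mul_sub, e1, e2, sub_eq_zero]
        congr 1
        refine Finset.sum_congr rfl fun j hj => ?_
        have hj' : j ≤ m := Nat.lt_succ_iff.1 (Finset.mem_range.1 hj)
        rw [ih j (by omega) (by omega), hp (m + 1 - j) (by omega) (by omega)]
      exact sub_eq_zero.1 (hA m _ this)

/-- `e` determines `p` (in positive degrees). -/
lemma Rel.p_unique {e p e' p' : ℕ → A} {n : ℕ} (h : Rel e p n) (h' : Rel e' p' n)
    (h0 : e 0 = 1) (he : ∀ j ≤ n, e j = e' j) : ∀ k, 1 ≤ k → k ≤ n → p k = p' k := by
  intro k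
  induction k using Nat.strong_induction_on with
  | _ k ih =>
    intro hk1 hk
    obtain ⟨m, rfl⟩ : ∃ m, k = m + 1 := ⟨k - 1, by omega⟩
    have e1 := h m (by omega)
    have e2 := h' m (by omega)
    rw [he (m + 1) hk, e2] at e1
    have hs : ((-1 : A) ^ m) * ((-1 : A) ^ m) = 1 := by rw [← mul_pow]; simp
    have e3 := congrArg (fun z => (-1 : A) ^ m * z) e1
    simp only [← mul_assoc, hs, one_mul] at e3
    rw [Finset.sum_range_succ', Finset.sum_range_succ'] at e3
    have e4 : ∑ j ∈ range m, (-1 : A) ^ (j + 1) * e' (j + 1) * p' (m + 1 - (j + 1)) =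
        ∑ j ∈ range m, (-1 : A) ^ (j + 1) * e (j + 1) * p (m + 1 - (j + 1)) := by
      refine Finset.sum_congr rfl fun j hj => ?_
      have hj' : j < m := Finset.mem_range.1 hj
      rw [he (j + 1) (by omega), ih (m + 1 - (j + 1)) (by omega) (by omega) (by omega)]
    rw [e4] at e3
    have e5 := add_left_cancel e3
    rw [← he 0 (Nat.zero_le _), h0] at e5
    simpa using e5.symm


section Lam
open LambdaRing LambdaRing.LambdaOps
variable {K : Type u} [CommRing K] [LambdaOps K]

/-- the Newton relation between the λ-operations and the Adams operations of a pre-λ-ring. -/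
lemma rel_lam (x : K) (n : ℕ) : Rel (fun k => lam k x) (fun k => adamsOp k x) n := by
  intro k _
  have h := Adams.newton k x
  rw [mul_comm] at h
  rw [h, ← Finset.Nat.sum_antidiagonal_swap, Finset.Nat.sum_antidiagonal_eq_sum_range_succ_mk,
    Finset.mul_sum]
  refine Finset.sum_congr rfl fun j hj => ?_
  have hj' : j ≤ k := Nat.lt_succ_iff.1 (Finset.mem_range.1 hj)
  simp only [Prod.swap_prod_mk]
  rw [Adams.c_eq, show k - j + 1 = k + 1 - j by omega]
  have hs : (-1 : K) ^ k = (-1) ^ (k - j) * (-1) ^ j := by
    rw [← pow_add, Nat.sub_add_cancel hj']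
  have hs2 : ((-1 : K) ^ j) * ((-1 : K) ^ j) = 1 := by rw [← mul_pow]; simp
  rw [hs]
  calc (-1 : K) ^ (k - j) * adamsOp (k + 1 - j) x * lam j x
      = (-1 : K) ^ (k - j) * (((-1 : K) ^ j) * ((-1 : K) ^ j)) * lam j x * adamsOp (k + 1 - j) x := by
        rw [hs2]; ring
    _ = _ := by ring

end Lam

section MV
open MvPolynomial

/-- the Newton relation between the elementary symmetric functions and the power sums of a finite
family of elements. -/
lemma rel_family {σ : Type*} [Fintype σ] (r : σ → A) (n : ℕ) :
    Rel (fun k => (univ.val.map r).esymm k) (fun k => ∑ i, r i ^ k) n := by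
  classical
  intro k _
  have h := congrArg (aeval r) (mul_esymm_eq_sum σ A (k + 1))
  simp only [map_mul, map_natCast, map_pow, map_neg, map_one, map_sum,
    aeval_esymm_eq_multiset_esymm, psum, aeval_X] at h
  rw [Finset.sum_filter, Finset.Nat.sum_antidiagonal_eq_sum_range_succ_mk,
    Finset.sum_range_succ] at h
  simp only [lt_self_iff_false, if_false, add_zero] at h
  have h2 : ((k + 1 : ℕ) : A) = (k : A) + 1 := by push_cast; rfl
  rw [h2] at h
  rw [h]
  have hs : (-1 : A) ^ (k + 1 + 1) = (-1) ^ k := by rw [pow_add, pow_add]; simp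
  rw [hs]
  congr 1
  refine Finset.sum_congr rfl fun j hj => ?_
  rw [if_pos (Finset.mem_range.1 hj)]

end MV

section Split
open Polynomial

/-- the polynomial `Σ_{k ≤ n} e_k X^{n-k}`. -/
noncomputable def spoly {K : Type u} [CommRing K] (e : ℕ → K) (n : ℕ) : K[X] :=
  ∑ k ∈ range (n + 1), C (e k) * X ^ (n - k)

lemma spoly_natDegree_le {K : Type u} [CommRing K] (e : ℕ → K) (n : ℕ) :
    (spoly e n).natDegree ≤ n :=
  natDegree_sum_le_of_forall_le _ _ fun _ _ =>
    (natDegree_C_mul_X_pow_le _ _).trans (Nat.sub_le _ _)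

lemma spoly_coeff {K : Type u} [CommRing K] (e : ℕ → K) (n k : ℕ) (hk : k ≤ n) :
    (spoly e n).coeff (n - k) = e k := by
  unfold spoly
  simp_rw [finsetSum_coeff, coeff_C_mul_X_pow]
  rw [Finset.sum_eq_single_of_mem k (Finset.mem_range.2 (by omega))]
  · simp
  · intro j hj hjk
    have := Finset.mem_range.1 hj
    rw [if_neg]
    omega

lemma spoly_monic {K : Type u} [CommRing K] (e : ℕ → K) (n : ℕ) (h0 : e 0 = 1) :
    (spoly e n).Monic :=
  monic_of_natDegree_le_of_coeff_eq_one n (spoly_natDegree_le e n)
    (by have := spoly_coeff e n 0 (Nat.zero_le _); rwa [Nat.sub_zero, h0] at this)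

lemma tf_of_free {K : Type u} [CommRing K] (S : Type u) [CommRing S] [Algebra K S]
    [Module.Free K S] (hK : TF K) : TF S := by
  intro k a ha
  let b := Module.Free.chooseBasis K S
  have h1 : ((k : S) + 1) * a = ((k : K) + 1) • a := by
    rw [Algebra.smul_def]; simp
  rw [h1] at ha
  apply b.repr.injective
  ext i
  have h2 := congrArg (fun z => b.repr z i) ha
  simp only [map_smul, Finsupp.smul_apply, smul_eq_mul, map_zero, Finsupp.zero_apply] at h2
  simpa using hK k _ h2

/-- **Splitting principle**: a sequence `1 = e_0, e_1, …, e_n` in `K` becomes the sequence of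
elementary symmetric functions of `n` elements in an extension ring `S ⊇ K`, which is free as a
`K`-module. -/
theorem exists_split {K : Type u} [CommRing K] (e : ℕ → K) (h0 : e 0 = 1) (n : ℕ) :
    ∃ (S : Type u) (_ : CommRing S) (ι : K →+* S), Function.Injective ι ∧ (TF K → TF S) ∧
      ∃ r : Fin n → S, ∀ k ≤ n, (univ.val.map r).esymm k = ι (e k) := by
  rcases subsingleton_or_nontrivial K with hsub | hnt
  · exact ⟨K, inferInstance, RingHom.id K, Function.injective_id, id, fun _ => 0,
      fun _ _ => Subsingleton.elim _ _⟩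
  · obtain ⟨S, _, _, _, _, _, hS⟩ := (spoly_monic e n h0).exists_splits_map
    obtain ⟨m, hm⟩ := splits_iff_exists_multiset'.1 hS
    have hmon : ((spoly e n).map (algebraMap K S)).Monic := (spoly_monic e n h0).map _
    rw [hmon.leadingCoeff, map_one, one_mul] at hm
    have hdeg : (spoly e n).natDegree = n :=
      natDegree_eq_of_le_of_coeff_ne_zero (spoly_natDegree_le e n)
        (by have := spoly_coeff e n 0 (Nat.zero_le _)
            rw [Nat.sub_zero, h0] at this; rw [this]; exact one_ne_zero)
    have hcard : Multiset.card m = n := by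
      have h1 := congrArg natDegree hm
      rw [(spoly_monic e n h0).natDegree_map, hdeg, natDegree_multiset_prod_of_monic] at h1
      · rw [h1, Multiset.map_map]; simp
      · exact Multiset.forall_mem_map_iff.2 fun a _ => monic_X_add_C a
    obtain ⟨l, rfl⟩ := Quot.exists_rep m
    have hl : l.length = n := by simpa using hcard
    subst hl
    refine ⟨S, inferInstance, algebraMap K S, FaithfulSMul.algebraMap_injective K S,
      fun hK => tf_of_free S hK, fun i => l.get i, fun k hk => ?_⟩
    have h2 : (univ : Finset (Fin l.length)).val.map (fun i => l.get i) = (l : Multiset S) := by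
      rw [Fin.univ_val_map, List.ofFn_get]
    rw [h2]
    have h3 := congrArg (fun q => q.coeff (l.length - k)) hm
    simp only [coeff_map, spoly_coeff e _ k hk] at h3
    rw [h3]
    have h4 := Multiset.prod_X_add_C_coeff (Quot.mk _ l : Multiset S) (k := l.length - k)
      (by simp)
    rw [h4]
    congr 1
    simp
    omega

end Split
end Groth.Agent.Lib27.Newton
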