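import Mathlib
import Groth.Agent.Lib27.Newton

/-!
# A criterion for a pre-λ-ring to be a λ-ring in the strict sense

A pre-λ-ring without `ℕ`-torsion whose Adams operations are unital, multiplicative and satisfy
`ψ^k ∘ ψ^{k'} = ψ^{kk'}` is special.  The proof uses the splitting principle of `Newton.lean`.
-/

set_option autoImplicit false
universe u
open LambdaRing LambdaRing.LambdaOps Finset MvPolynomial Groth.Agent.Lib27.Newton

namespace Groth.Agent.Lib27.Special

lemma map_esymm_family {A B : Type*} [CommRing A] [CommRing B] (f : A →+* B) {σ : Type*}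
    [Fintype σ] (r : σ → A) (k : ℕ) :
    (univ.val.map (fun i => f (r i))).esymm k = f ((univ.val.map r).esymm k) := by
  simp [Finset.esymm_map_val, map_sum, map_prod]

lemma esymm_family_zero {A : Type*} [CommRing A] {σ : Type*} [Fintype σ] (r : σ → A) :
    (univ.val.map r).esymm 0 = 1 := by
  simp [Finset.esymm_map_val]

/-- splitting two sequences at once. -/
theorem exists_split₂ {K : Type u} [CommRing K] (e f : ℕ → K) (he0 : e 0 = 1) (hf0 : f 0 = 1)
    (n m : ℕ) :
    ∃ (S : Type u) (_ : CommRing S) (ι : K →+* S), Function.Injective ι ∧ (TF K → TF S) ∧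
      ∃ (r : Fin n → S) (s : Fin m → S), (∀ k ≤ n, (univ.val.map r).esymm k = ι (e k)) ∧
        (∀ k ≤ m, (univ.val.map s).esymm k = ι (f k)) := by
  obtain ⟨S₁, _, ι₁, hι₁, hTF₁, r₁, hr₁⟩ := exists_split e he0 n
  obtain ⟨S₂, _, ι₂, hι₂, hTF₂, s, hs⟩ := exists_split (fun k => ι₁ (f k))
    (by simp [hf0]) m
  refine ⟨S₂, inferInstance, ι₂.comp ι₁, hι₂.comp hι₁, fun h => hTF₂ (hTF₁ h),
    fun a => ι₂ (r₁ a), s, fun k hk => ?_, fun k hk => ?_⟩
  · rw [map_esymm_family, hr₁ k hk]; rfl
  · rw [hs k hk]; rfl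

variable {K : Type u} [CommRing K] [LambdaOps K]

/-- the power sums of split roots are the Adams operations. -/
lemma psum_eq_adams {S : Type*} [CommRing S] (ι : K →+* S) {σ : Type*} [Fintype σ] (r : σ → S)
    (x : K) (n : ℕ) (hr : ∀ k ≤ n, (univ.val.map r).esymm k = ι (lam k x)) :
    ∀ k, 1 ≤ k → k ≤ n → ∑ a, r a ^ k = ι (adamsOp k x) :=
  (rel_family r n).p_unique ((rel_lam x n).map ι) (esymm_family_zero r) hr

/-- the elementary symmetric functions of a family whose power sums are Adams operations are the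
λ-operations. -/
lemma esymm_eq_lam {S : Type*} [CommRing S] (hS : TF S) (ι : K →+* S) {σ : Type*} [Fintype σ]
    (u : σ → S) (z : K) (n : ℕ) (hu : ∀ k, 1 ≤ k → k ≤ n → ∑ a, u a ^ k = ι (adamsOp k z)) :
    ∀ k ≤ n, (univ.val.map u).esymm k = ι (lam k z) :=
  (rel_family u n).e_unique hS ((rel_lam z n).map ι)
    (by rw [esymm_family_zero, lam_zero, map_one]) hu

theorem lam_one_eq_zero_of (hTF : TF K) (h1 : ∀ k : ℕ, 1 ≤ k → adamsOp k (1 : K) = 1)
    (n : ℕ) (hn : 2 ≤ n) : lam n (1 : K) = 0 := by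
  have h := esymm_eq_lam (K := K) hTF (RingHom.id K) (fun _ : Fin 1 => (1 : K)) 1 n
    (fun k hk _ => by simp [h1 k hk]) n le_rfl
  rw [RingHom.id_apply] at h
  rw [← h]
  unfold Multiset.esymm
  rw [Multiset.powersetCard_eq_empty]
  · simp
  · simp; omega

theorem lam_mul_of (hTF : TF K)
    (hmul : ∀ k : ℕ, 1 ≤ k → ∀ x y : K, adamsOp k (x * y) = adamsOp k x * adamsOp k y)
    (n : ℕ) (P : MvPolynomial (Fin n ⊕ Fin n) ℤ) (hP : IsMulPoly n P) (x y : K) :
    lam n (x * y) = aeval (Sum.elim (fun k : Fin n => lam ((k : ℕ) + 1) x)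
      (fun k : Fin n => lam ((k : ℕ) + 1) y)) P := by
  obtain ⟨S, _, ι, hι, hTFS, r, s, hr, hs⟩ := exists_split₂ (fun k => lam k x) (fun k => lam k y)
    (lam_zero x) (lam_zero y) n n
  apply hι
  -- the family of products
  let u : Fin n × Fin n → S := fun ab => r ab.1 * s ab.2
  have hpx := psum_eq_adams ι r x n hr
  have hpy := psum_eq_adams ι s y n hs
  have hu : ∀ k, 1 ≤ k → k ≤ n → ∑ ab, u ab ^ k = ι (adamsOp k (x * y)) := by
    intro k hk1 hk
    rw [hmul k hk1, map_mul, ← hpx k hk1 hk, ← hpy k hk1 hk, Fintype.sum_prod_type,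
      Finset.sum_mul_sum]
    simp only [u, mul_pow]
  have h1 := esymm_eq_lam (hTFS hTF) ι u (x * y) n hu n le_rfl
  rw [← h1]
  -- evaluate the defining identity of `P`
  have h2 := congrArg (aeval (Sum.elim r s)) hP.1
  rw [comp_aeval_apply] at h2
  have h3 : (fun i => aeval (Sum.elim r s)
      (Sum.elim (fun k : Fin n => rename Sum.inl (esymm (Fin n) ℤ ((k : ℕ) + 1)))
        (fun k : Fin n => rename Sum.inr (esymm (Fin n) ℤ ((k : ℕ) + 1))) i)) =
      fun i => ι.toIntAlgHom (Sum.elim (fun k : Fin n => lam ((k : ℕ) + 1) x)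
        (fun k : Fin n => lam ((k : ℕ) + 1) y) i) := by
    funext i
    rcases i with k | k
    · simp only [Sum.elim_inl, aeval_rename, RingHom.toIntAlgHom_apply]
      rw [show (Sum.elim r s ∘ Sum.inl) = r from rfl, aeval_esymm_eq_multiset_esymm,
        hr _ (Nat.succ_le_of_lt k.2)]
    · simp only [Sum.elim_inr, aeval_rename, RingHom.toIntAlgHom_apply]
      rw [show (Sum.elim r s ∘ Sum.inr) = s from rfl, aeval_esymm_eq_multiset_esymm,
        hs _ (Nat.succ_le_of_lt k.2)]
  rw [h3, ← comp_aeval_apply, RingHom.toIntAlgHom_apply] at h2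
  rw [h2]
  unfold mulGen
  rw [Finset.esymm_map_val, Finset.esymm_map_val]
  simp [u, map_sum, map_prod]

theorem lam_lam_of (hTF : TF K) (h1 : ∀ k : ℕ, 1 ≤ k → adamsOp k (1 : K) = 1)
    (hmul : ∀ k : ℕ, 1 ≤ k → ∀ x y : K, adamsOp k (x * y) = adamsOp k x * adamsOp k y)
    (hcomp : ∀ k k' : ℕ, 1 ≤ k → 1 ≤ k' → ∀ x : K,
      adamsOp k (adamsOp k' x) = adamsOp (k * k') x)
    (i j : ℕ) (Q : MvPolynomial (Fin (i * j)) ℤ) (hQ : IsCompPoly i j Q) (x : K) :
    lam j (lam i x) = aeval (fun k : Fin (i * j) => lam ((k : ℕ) + 1) x) Q := by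
  obtain ⟨S, _, ι, hι, hTFS, r, hr⟩ := exists_split (fun k => lam k x) (lam_zero x) (i * j)
  apply hι
  have hS := hTFS hTF
  have hpx := psum_eq_adams ι r x (i * j) hr
  let A : Finset (Finset (Fin (i * j))) := powersetCard i univ
  let v : A → S := fun s => ∏ a ∈ s.1, r a
  have hv : ∀ k, 1 ≤ k → k ≤ j → ∑ s, v s ^ k = ι (adamsOp k (lam i x)) := by
    intro k hk1 hk
    let ψ : K →+* K := RingHom.mk' ⟨⟨adamsOp k, h1 k hk1⟩, hmul k hk1⟩ (Adams.adamsOp_add k)
    have hψ : ∀ z, ψ z = adamsOp k z := fun _ => rfl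
    have R1 := rel_family (fun a => r a ^ k) i
    have R2 : Rel (fun m => ι (ψ (lam m x))) (fun m => ι (adamsOp (k * m) x)) i := by
      have := ((rel_lam x i).map ψ).map ι
      refine this.congr (fun _ _ => rfl) (fun m hm1 hm => ?_)
      show ι (adamsOp k (adamsOp m x)) = _
      rw [hcomp k m hk1 hm1]
    have hclaim := R1.e_unique hS R2
      (by rw [esymm_family_zero, lam_zero, map_one, map_one])
      (fun m hm1 hm => by
        rw [← hpx (k * m) (Nat.mul_pos hk1 hm1)
          (by rw [mul_comm i j]; exact Nat.mul_le_mul hk hm)]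
        simp only [pow_mul]) i le_rfl
    rw [← hψ, ← hclaim, Finset.esymm_map_val]
    rw [← Finset.sum_coe_sort (powersetCard i univ) (fun t => ∏ a ∈ t, r a ^ k)]
    refine Finset.sum_congr rfl fun s _ => ?_
    simp only [v, Finset.prod_pow]
  have h1' := esymm_eq_lam hS ι v (lam i x) j hv j le_rfl
  rw [← h1']
  have h2 := congrArg (aeval r) hQ.1
  rw [comp_aeval_apply] at h2
  have h3 : (fun k : Fin (i * j) => aeval r (esymm (Fin (i * j)) ℤ ((k : ℕ) + 1))) =
      fun k : Fin (i * j) => ι.toIntAlgHom (lam ((k : ℕ) + 1) x) := by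
    funext k
    rw [aeval_esymm_eq_multiset_esymm, hr _ (Nat.succ_le_of_lt k.2)]
    rfl
  rw [h3, ← comp_aeval_apply, RingHom.toIntAlgHom_apply] at h2
  rw [h2]
  unfold compGen
  have h4 : (univ : Finset A).val.map v = A.val.map (fun s => ∏ a ∈ s, r a) := by
    rw [Finset.univ_eq_attach, Finset.attach_val,
      ← Multiset.attach_map_val' A.val (fun s => ∏ a ∈ s, r a)]
    rfl
  rw [h4, Finset.esymm_map_val, Finset.esymm_map_val]
  simp [A, map_sum, map_prod]

/-- **Criterion**: a pre-λ-ring without `ℕ`-torsion whose Adams operations are unital,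
multiplicative and compose multiplicatively in the index is a λ-ring in the strict sense. -/
theorem isSpecial_of_adams (hTF : TF K) (h1 : ∀ k : ℕ, 1 ≤ k → adamsOp k (1 : K) = 1)
    (hmul : ∀ k : ℕ, 1 ≤ k → ∀ x y : K, adamsOp k (x * y) = adamsOp k x * adamsOp k y)
    (hcomp : ∀ k k' : ℕ, 1 ≤ k → 1 ≤ k' → ∀ x : K,
      adamsOp k (adamsOp k' x) = adamsOp (k * k') x) : IsSpecial K where
  lam_one_eq_zero := lam_one_eq_zero_of hTF h1
  lam_mul n P hP x y := lam_mul_of hTF hmul n P hP x y
  lam_lam i j Q hQ x := lam_lam_of hTF h1 hmul hcomp i j Q hQ x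

lemma tf_of_ratAlgebra (A : Type*) [CommRing A] [Algebra ℚ A] : TF A := by
  intro k a ha
  have hu : IsUnit ((k : A) + 1) := by
    have h : IsUnit ((k : ℚ) + 1) := IsUnit.mk0 _ (by positivity)
    have := h.map (algebraMap ℚ A)
    simpa using this
  exact (hu.mul_right_eq_zero).1 ha

section Binomial
variable {K : Type u} [CommRing K] [BinomialRing K]

lemma tf_of_binomial : TF K := by
  have := BinomialRing.toIsAddTorsionFree (R := K)
  intro k a ha
  have h : (k + 1) • a = (k + 1) • (0 : K) := by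
    rw [nsmul_eq_mul, smul_zero]; push_cast; exact ha
  exact nsmul_right_injective (Nat.succ_ne_zero k) h

lemma alt_sum_choose (x : K) (k : ℕ) :
    ∑ j ∈ range (k + 1), (-1 : K) ^ j * Ring.choose x j = (-1) ^ k * Ring.choose (x - 1) k := by
  induction k with
  | zero => simp
  | succ k ih =>
    rw [Finset.sum_range_succ, ih]
    have h := Ring.choose_succ_succ (x - 1) k
    rw [sub_add_cancel] at h
    rw [h, pow_succ]
    ring

lemma rel_choose (x : K) (n : ℕ) : Rel (fun k => Ring.choose x k) (fun _ => x) n := by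
  intro k _
  rw [← Finset.sum_mul, alt_sum_choose, ← mul_assoc, ← mul_assoc, ← mul_pow]
  have h := Ring.choose_smul_choose x (n := k + 1) (k := 1) (by omega)
  rw [Nat.choose_one_right, Ring.choose_one_right, nsmul_eq_mul, Nat.add_sub_cancel] at h
  push_cast at h
  rw [h]
  simp
  ring

end Binomial

theorem adamsOp_of_isBinomial {K : Type u} [CommRing K] [LambdaOps K] [BinomialRing K]
    (hKb : IsBinomial K) (k : ℕ) (hk : 1 ≤ k) (x : K) : adamsOp k x = x := by
  have R1 := rel_lam x k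
  have R2 := rel_choose x k
  exact R1.p_unique R2 (lam_zero x) (fun j _ => hKb j x) k hk le_rfl

theorem isSpecial_of_isBinomial {K : Type u} [CommRing K] [LambdaOps K] [BinomialRing K]
    (hKb : IsBinomial K) : IsSpecial K :=
  isSpecial_of_adams tf_of_binomial (fun k hk => adamsOp_of_isBinomial hKb k hk 1)
    (fun k hk x y => by simp only [adamsOp_of_isBinomial hKb k hk])
    (fun k k' hk hk' x => by
      rw [adamsOp_of_isBinomial hKb k' hk', adamsOp_of_isBinomial hKb k hk,
        adamsOp_of_isBinomial hKb (k * k') (Nat.mul_pos hk hk')])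

end Groth.Agent.Lib27.Special
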