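import Mathlib
import Groth.Agent.Lib27.Special

/-!
# Universal identities for the Adams operations of a λ-ring in the strict sense

Tools: existence of the power-sum sequence attached to any sequence `e` with `e 0 = 1`,
evaluation of the defining identities of the universal polynomials at split roots, and their
stability under enlarging the number of variables.
-/

set_option autoImplicit false
universe u
open LambdaRing LambdaRing.LambdaOps Finset MvPolynomial Groth.Agent.Lib27.Newton

namespace Groth.Agent.Lib27.Special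

section POf
open PowerSeries
variable {A : Type*} [CommRing A]

/-- the "power sum" sequence attached to a sequence `e` (meaningful when `e 0 = 1`). -/
noncomputable def pOf (e : ℕ → A) : ℕ → A
  | 0 => 0
  | k + 1 => (-1) ^ k * coeff k (derivative A (PowerSeries.mk e) * (PowerSeries.mk e).invOfUnit 1)

lemma rel_pOf (e : ℕ → A) (h0 : e 0 = 1) (n : ℕ) : Rel e (pOf e) n := by
  intro k _
  set E : PowerSeries A := PowerSeries.mk e with hE
  have hc : constantCoeff E = ((1 : Aˣ) : A) := by
    rw [← coeff_zero_eq_constantCoeff_apply, hE, coeff_mk, h0, Units.val_one]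
  have h1 : derivative A E * E.invOfUnit 1 * E = derivative A E := by
    rw [mul_assoc, invOfUnit_mul _ _ hc, mul_one]
  have h := congrArg (coeff k) h1
  rw [coeff_derivative, PowerSeries.coeff_mul] at h
  have e' : ∀ m, coeff m E = e m := fun m => by rw [hE, coeff_mk]
  rw [e'] at h
  rw [mul_comm ((k : A) + 1), ← h, ← Finset.Nat.sum_antidiagonal_swap, Finset.Nat.sum_antidiagonal_eq_sum_range_succ_mk,
    Finset.mul_sum]
  refine Finset.sum_congr rfl fun j hj => ?_
  have hj' : j ≤ k := Nat.lt_succ_iff.1 (Finset.mem_range.1 hj)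
  simp only [Prod.swap_prod_mk]
  rw [e', show k + 1 - j = (k - j) + 1 by omega, pOf]
  have hs : (-1 : A) ^ k = (-1) ^ (k - j) * (-1) ^ j := by
    rw [← pow_add, Nat.sub_add_cancel hj']
  have hs2 : ((-1 : A) ^ j) * ((-1 : A) ^ j) = 1 := by rw [← mul_pow]; simp
  have hs3 : ((-1 : A) ^ (k - j)) * ((-1 : A) ^ (k - j)) = 1 := by rw [← mul_pow]; simp
  rw [hs]
  calc coeff (k - j) (derivative A E * E.invOfUnit 1) * e j
      = (((-1 : A) ^ (k - j)) * ((-1 : A) ^ (k - j))) * (((-1 : A) ^ j) * ((-1 : A) ^ j)) *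
          (coeff (k - j) (derivative A E * E.invOfUnit 1) * e j) := by rw [hs2, hs3]; ring
    _ = _ := by ring

end POf

lemma Rel.of_injective {A B : Type*} [CommRing A] [CommRing B] (f : A →+* B)
    (hf : Function.Injective f) {e p : ℕ → A} {n : ℕ}
    (h : Rel (fun k => f (e k)) (fun k => f (p k)) n) : Rel e p n := by
  intro k hk
  apply hf
  have := h k hk
  simpa only [map_mul, map_add, map_natCast, map_one, map_pow, map_neg, map_sum] using this

lemma tf_mvPolynomial_int (σ : Type*) : TF (MvPolynomial σ ℤ) := by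
  intro k a ha
  rcases mul_eq_zero.1 ha with h | h
  · exact absurd h (by exact_mod_cast Nat.cast_add_one_ne_zero (R := MvPolynomial σ ℤ) k)
  · exact h

section Transfer
variable {S S' : Type*} [CommRing S] [CommRing S']

lemma psum_prod {σ τ : Type*} [Fintype σ] [Fintype τ] (r : σ → S) (s : τ → S) (j : ℕ) :
    ∑ ab : σ × τ, (r ab.1 * s ab.2) ^ j = (∑ a, r a ^ j) * (∑ b, s b ^ j) := by
  rw [Fintype.sum_prod_type, Finset.sum_mul_sum]
  simp only [mul_pow]

/-- equal elementary symmetric functions up to level `m` give equal power sums up to level `m`. -/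
lemma psum_transfer (ι : S →+* S') {σ σ' : Type*} [Fintype σ] [Fintype σ'] (r : σ → S)
    (r' : σ' → S') (m : ℕ)
    (h : ∀ k ≤ m, (univ.val.map r').esymm k = ι ((univ.val.map r).esymm k)) :
    ∀ j, 1 ≤ j → j ≤ m → ∑ a, r' a ^ j = ι (∑ a, r a ^ j) :=
  (rel_family r' m).p_unique ((rel_family r m).map ι) (esymm_family_zero r') h

/-- equal power sums up to level `m` give equal elementary symmetric functions up to level `m`
(no `ℕ`-torsion). -/
lemma esymm_transfer (hS' : TF S') (ι : S →+* S') {σ σ' : Type*} [Fintype σ] [Fintype σ']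
    (u : σ → S) (u' : σ' → S') (m : ℕ)
    (h : ∀ j, 1 ≤ j → j ≤ m → ∑ a, u' a ^ j = ι (∑ a, u a ^ j)) :
    ∀ k ≤ m, (univ.val.map u').esymm k = ι ((univ.val.map u).esymm k) :=
  (rel_family u' m).e_unique hS' ((rel_family u m).map ι)
    (by rw [esymm_family_zero, esymm_family_zero, map_one]) h

end Transfer

section Eval
variable {S : Type u} [CommRing S]

/-- the defining identity of `P_n`, evaluated at two families of `n` elements. -/
lemma isMulPoly_eval {n : ℕ} {P : MvPolynomial (Fin n ⊕ Fin n) ℤ} (hP : IsMulPoly n P)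
    (r s : Fin n → S) :
    aeval (Sum.elim (fun k : Fin n => (univ.val.map r).esymm ((k : ℕ) + 1))
      (fun k : Fin n => (univ.val.map s).esymm ((k : ℕ) + 1))) P =
    (univ.val.map (fun ab : Fin n × Fin n => r ab.1 * s ab.2)).esymm n := by
  have h2 := congrArg (aeval (Sum.elim r s)) hP.1
  rw [comp_aeval_apply] at h2
  have h3 : (fun i => aeval (Sum.elim r s)
      (Sum.elim (fun k : Fin n => rename Sum.inl (esymm (Fin n) ℤ ((k : ℕ) + 1)))
        (fun k : Fin n => rename Sum.inr (esymm (Fin n) ℤ ((k : ℕ) + 1))) i)) =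
      Sum.elim (fun k : Fin n => (univ.val.map r).esymm ((k : ℕ) + 1))
      (fun k : Fin n => (univ.val.map s).esymm ((k : ℕ) + 1)) := by
    funext i
    rcases i with k | k
    · simp only [Sum.elim_inl, aeval_rename]
      rw [show (Sum.elim r s ∘ Sum.inl) = r from rfl, aeval_esymm_eq_multiset_esymm]
    · simp only [Sum.elim_inr, aeval_rename]
      rw [show (Sum.elim r s ∘ Sum.inr) = s from rfl, aeval_esymm_eq_multiset_esymm]
  rw [h3] at h2
  rw [h2]
  unfold mulGen
  rw [Finset.esymm_map_val, Finset.esymm_map_val]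
  simp [map_sum, map_prod]

/-- the defining identity of `Q_{i,j}`, evaluated at a family of `ij` elements. -/
lemma isCompPoly_eval {i j : ℕ} {Q : MvPolynomial (Fin (i * j)) ℤ} (hQ : IsCompPoly i j Q)
    (r : Fin (i * j) → S) :
    aeval (fun k : Fin (i * j) => (univ.val.map r).esymm ((k : ℕ) + 1)) Q =
    (((univ : Finset (Fin (i * j))).powersetCard i).val.map fun s => ∏ a ∈ s, r a).esymm j := by
  have h2 := congrArg (aeval r) hQ.1
  rw [comp_aeval_apply] at h2
  simp only [aeval_esymm_eq_multiset_esymm] at h2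
  rw [h2]
  unfold compGen
  rw [Finset.esymm_map_val, Finset.esymm_map_val]
  simp [map_sum, map_prod]

/-- a ring homomorphism commutes with evaluation of integer polynomials (for arbitrary `ℤ`-algebra
structures). -/
lemma map_aeval_int {S₁ S' : Type*} [CommRing S₁] [CommRing S'] [Algebra ℤ S₁] [Algebra ℤ S']
    (ι : S₁ →+* S') {σ : Type*} (f : σ → S₁)
    (P : MvPolynomial σ ℤ) : ι (aeval f P) = aeval (fun i => ι (f i)) P := by
  have : (ι.comp (aeval f : MvPolynomial σ ℤ →ₐ[ℤ] S₁).toRingHom) =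
      (aeval (fun i => ι (f i)) : MvPolynomial σ ℤ →ₐ[ℤ] S').toRingHom := by
    apply MvPolynomial.ringHom_ext
    · intro n; simp
    · intro i; simp
  exact RingHom.congr_fun this P

/-- **Stability** of the defining identity of `P_m` under enlarging the families. -/
lemma isMulPoly_eval_stable (hS : TF S) {m : ℕ} {P : MvPolynomial (Fin m ⊕ Fin m) ℤ}
    (hP : IsMulPoly m P) {σ τ : Type*} [Fintype σ] [Fintype τ] (r : σ → S) (s : τ → S) :
    aeval (Sum.elim (fun k : Fin m => (univ.val.map r).esymm ((k : ℕ) + 1))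
      (fun k : Fin m => (univ.val.map s).esymm ((k : ℕ) + 1))) P =
    (univ.val.map (fun ab : σ × τ => r ab.1 * s ab.2)).esymm m := by
  obtain ⟨S', _, ι, hι, hTF', r', s', hr', hs'⟩ := exists_split₂
    (fun j => (univ.val.map r).esymm j) (fun j => (univ.val.map s).esymm j)
    (esymm_family_zero r) (esymm_family_zero s) m m
  apply hι
  rw [map_aeval_int]
  have h1 : (fun i => ι (Sum.elim (fun k : Fin m => (univ.val.map r).esymm ((k : ℕ) + 1))
      (fun k : Fin m => (univ.val.map s).esymm ((k : ℕ) + 1)) i)) =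
      Sum.elim (fun k : Fin m => (univ.val.map r').esymm ((k : ℕ) + 1))
      (fun k : Fin m => (univ.val.map s').esymm ((k : ℕ) + 1)) := by
    funext i
    rcases i with k | k
    · simp only [Sum.elim_inl]; rw [hr' _ (Nat.succ_le_of_lt k.2)]
    · simp only [Sum.elim_inr]; rw [hs' _ (Nat.succ_le_of_lt k.2)]
  rw [h1, isMulPoly_eval hP r' s']
  refine esymm_transfer (hTF' hS) ι _ _ m (fun j hj1 hj => ?_) m le_rfl
  rw [psum_prod, psum_prod, map_mul, psum_transfer ι r r' m hr' j hj1 hj,
    psum_transfer ι s s' m hs' j hj1 hj]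

end Eval

section SeqOf
variable {A : Type*} [CommRing A]

/-- the sequence `1, f 0, f 1, …, f (n-1), 0, 0, …`. -/
def seqOf (n : ℕ) (f : Fin n → A) : ℕ → A :=
  fun m => if m = 0 then 1 else if h : m - 1 < n then f ⟨m - 1, h⟩ else 0

lemma seqOf_zero (n : ℕ) (f : Fin n → A) : seqOf n f 0 = 1 := by simp [seqOf]

lemma seqOf_succ (n : ℕ) (f : Fin n → A) (j : Fin n) : seqOf n f ((j : ℕ) + 1) = f j := by
  simp [seqOf]

lemma map_seqOf {B : Type*} [CommRing B] (g : A →+* B) (n : ℕ) (f : Fin n → A) (m : ℕ) :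
    g (seqOf n f m) = seqOf n (fun j => g (f j)) m := by
  unfold seqOf
  split_ifs <;> simp

lemma seqOf_eq (n : ℕ) (a : ℕ → A) (h0 : a 0 = 1) (m : ℕ) (hm : m ≤ n) :
    seqOf n (fun j : Fin n => a ((j : ℕ) + 1)) m = a m := by
  unfold seqOf
  rcases Nat.eq_zero_or_pos m with rfl | hpos
  · simp [h0]
  · rw [if_neg (by omega), dif_pos (by omega)]
    simp only
    congr 1
    omega

end SeqOf

theorem adamsOp_mul_of_isSpecial (K : Type u) [CommRing K] [LambdaOps K] (hK : IsSpecial K)
    (hP : ∀ n : ℕ, ∃ P : MvPolynomial (Fin n ⊕ Fin n) ℤ, IsMulPoly n P)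
    (k : ℕ) (hk : 1 ≤ k) (x y : K) :
    adamsOp k (x * y) = adamsOp k x * adamsOp k y := by
  choose Pm hPm using hP
  -- the universal ring
  let z : ℕ → MvPolynomial (Fin k ⊕ Fin k) ℤ := seqOf k (fun j => X (Sum.inl j))
  let w : ℕ → MvPolynomial (Fin k ⊕ Fin k) ℤ := seqOf k (fun j => X (Sum.inr j))
  let θ : MvPolynomial (Fin k ⊕ Fin k) ℤ →+* K :=
    (aeval (Sum.elim (fun j : Fin k => lam ((j : ℕ) + 1) x)
    (fun j : Fin k => lam ((j : ℕ) + 1) y)) : MvPolynomial (Fin k ⊕ Fin k) ℤ →ₐ[ℤ] K).toRingHom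
  have hθz : ∀ m ≤ k, θ (z m) = lam m x := by
    intro m hm
    rw [map_seqOf]
    have : (fun j : Fin k => θ (X (Sum.inl j))) = fun j : Fin k => lam ((j : ℕ) + 1) x := by
      funext j
      show aeval _ (X (Sum.inl j)) = _
      rw [aeval_X]; rfl
    rw [this]
    exact seqOf_eq k (fun m => lam m x) (lam_zero x) m hm
  have hθw : ∀ m ≤ k, θ (w m) = lam m y := by
    intro m hm
    rw [map_seqOf]
    have : (fun j : Fin k => θ (X (Sum.inr j))) = fun j : Fin k => lam ((j : ℕ) + 1) y := by
      funext j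
      show aeval _ (X (Sum.inr j)) = _
      rw [aeval_X]; rfl
    rw [this]
    exact seqOf_eq k (fun m => lam m y) (lam_zero y) m hm
  let π : ℕ → MvPolynomial (Fin k ⊕ Fin k) ℤ := fun m => aeval (Sum.elim (fun j : Fin m => z ((j : ℕ) + 1))
    (fun j : Fin m => w ((j : ℕ) + 1))) (Pm m)
  have hθπ : ∀ m ≤ k, θ (π m) = lam m (x * y) := by
    intro m hm
    rw [hK.lam_mul m (Pm m) (hPm m) x y]
    show θ (aeval _ (Pm m)) = _
    rw [map_aeval_int]
    congr 2
    funext i
    rcases i with j | j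
    · simp only [Sum.elim_inl]; exact hθz _ (by have := j.2; omega)
    · simp only [Sum.elim_inr]; exact hθw _ (by have := j.2; omega)
  -- split
  obtain ⟨S₀, _, ι, hι, hTF, r, s, hr, hs⟩ := exists_split₂ z w (seqOf_zero _ _) (seqOf_zero _ _) k k
  have hS₀ : TF S₀ := hTF (tf_mvPolynomial_int _)
  let u : Fin k × Fin k → S₀ := fun ab => r ab.1 * s ab.2
  have hA : ∀ m ≤ k, (univ.val.map u).esymm m = ι (π m) := by
    intro m hm
    show _ = ι (aeval _ (Pm m))
    rw [map_aeval_int]
    rw [← isMulPoly_eval_stable hS₀ (hPm m) r s]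
    congr 2
    funext i
    rcases i with j | j
    · simp only [Sum.elim_inl]; exact hr _ (by have := j.2; omega)
    · simp only [Sum.elim_inr]; exact hs _ (by have := j.2; omega)
  have hπ0 : π 0 = 1 := by
    apply hι
    rw [← hA 0 (Nat.zero_le _), esymm_family_zero, map_one]
  have Rz := rel_pOf z (seqOf_zero _ _) k
  have Rw := rel_pOf w (seqOf_zero _ _) k
  have Rπ := rel_pOf π hπ0 k
  have e1 : ∑ a, r a ^ k = ι (pOf z k) :=
    (rel_family r k).p_unique (Rz.map ι) (esymm_family_zero r) hr k hk le_rfl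
  have e2 : ∑ a, s a ^ k = ι (pOf w k) :=
    (rel_family s k).p_unique (Rw.map ι) (esymm_family_zero s) hs k hk le_rfl
  have e3 : ∑ ab, u ab ^ k = ι (pOf π k) :=
    (rel_family u k).p_unique (Rπ.map ι) (esymm_family_zero u) hA k hk le_rfl
  have e4 : pOf π k = pOf z k * pOf w k := by
    apply hι
    rw [map_mul, ← e1, ← e2, ← e3]
    exact psum_prod r s k
  have f1 : adamsOp k x = θ (pOf z k) :=
    (rel_lam x k).p_unique (Rz.map θ) (lam_zero x) (fun j hj => (hθz j hj).symm) k hk le_rfl
  have f2 : adamsOp k y = θ (pOf w k) :=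
    (rel_lam y k).p_unique (Rw.map θ) (lam_zero y) (fun j hj => (hθw j hj).symm) k hk le_rfl
  have f3 : adamsOp k (x * y) = θ (pOf π k) :=
    (rel_lam (x * y) k).p_unique (Rπ.map θ) (lam_zero _) (fun j hj => (hθπ j hj).symm) k hk le_rfl
  rw [f1, f2, f3, e4, map_mul]

section ProdFam
variable {S : Type*} [CommRing S] {σ : Type*} [Fintype σ]

/-- the family of products of `r` over the `i`-element subsets. -/
def prodFam (r : σ → S) (i : ℕ) : ↥(powersetCard i (univ : Finset σ)) → S :=
  fun s => ∏ a ∈ s.1, r a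

lemma prodFam_map_univ (r : σ → S) (i : ℕ) :
    (univ : Finset ↥(powersetCard i (univ : Finset σ))).val.map (prodFam r i) =
      (powersetCard i (univ : Finset σ)).val.map (fun s => ∏ a ∈ s, r a) := by
  rw [Finset.univ_eq_attach, Finset.attach_val,
    ← Multiset.attach_map_val' (powersetCard i (univ : Finset σ)).val (fun s => ∏ a ∈ s, r a)]
  rfl

lemma psum_prodFam (r : σ → S) (i t : ℕ) :
    ∑ s, prodFam r i s ^ t = (univ.val.map (fun a => r a ^ t)).esymm i := by
  rw [Finset.esymm_map_val,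
    ← Finset.sum_coe_sort (powersetCard i univ) (fun s => ∏ a ∈ s, r a ^ t)]
  refine Finset.sum_congr rfl fun s _ => ?_
  simp only [prodFam, Finset.prod_pow]

end ProdFam

/-- **Stability** of the defining identity of `Q_{i,j}` under enlarging the family. -/
lemma isCompPoly_eval_stable {S : Type u} [CommRing S] (hS : TF S) {i j : ℕ}
    {Q : MvPolynomial (Fin (i * j)) ℤ}
    (hQ : IsCompPoly i j Q) {σ : Type*} [Fintype σ] (r : σ → S) :
    aeval (fun t : Fin (i * j) => (univ.val.map r).esymm ((t : ℕ) + 1)) Q =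
    (univ.val.map (prodFam r i)).esymm j := by
  obtain ⟨S', _, ι, hι, hTF', r', hr'⟩ := exists_split
    (fun t => (univ.val.map r).esymm t) (esymm_family_zero r) (i * j)
  apply hι
  rw [map_aeval_int]
  have h1 : (fun t : Fin (i * j) => ι ((univ.val.map r).esymm ((t : ℕ) + 1))) =
      fun t : Fin (i * j) => (univ.val.map r').esymm ((t : ℕ) + 1) := by
    funext t
    rw [hr' _ (Nat.succ_le_of_lt t.2)]
  rw [h1, isCompPoly_eval hQ r', ← prodFam_map_univ]
  refine esymm_transfer (hTF' hS) ι _ _ j (fun t ht1 ht => ?_) j le_rfl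
  rw [psum_prodFam, psum_prodFam]
  refine esymm_transfer (hTF' hS) ι _ _ i (fun l hl1 hl => ?_) i le_rfl
  simp only [← pow_mul]
  exact psum_transfer ι r r' (i * j) hr' (t * l) (Nat.mul_pos ht1 hl1)
    (by rw [mul_comm i j]; exact Nat.mul_le_mul ht hl)

theorem adamsOp_adamsOp_of_isSpecial (K : Type u) [CommRing K] [LambdaOps K] (hK : IsSpecial K)
    (hP : ∀ n : ℕ, ∃ P : MvPolynomial (Fin n ⊕ Fin n) ℤ, IsMulPoly n P)
    (hQ : ∀ i j : ℕ, ∃ Q : MvPolynomial (Fin (i * j)) ℤ, IsCompPoly i j Q)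
    (h1 : ∀ k : ℕ, 1 ≤ k → adamsOp k (1 : K) = 1)
    (k k' : ℕ) (hk : 1 ≤ k) (hk' : 1 ≤ k') (x : K) :
    adamsOp k (adamsOp k' x) = adamsOp (k * k') x := by
  choose Qm hQm using hQ
  -- `ψ^k` as a ring homomorphism
  let ψ : K →+* K := RingHom.mk' ⟨⟨adamsOp k, h1 k hk⟩, adamsOp_mul_of_isSpecial K hK hP k hk⟩
    (Adams.adamsOp_add k)
  have hψ : ∀ a, ψ a = adamsOp k a := fun _ => rfl
  -- the universal ring
  let z : ℕ → MvPolynomial (Fin (k * k')) ℤ := seqOf (k * k') (fun j => X j)
  let θ : MvPolynomial (Fin (k * k')) ℤ →+* K :=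
    (aeval (fun j : Fin (k * k') => lam ((j : ℕ) + 1) x) :
      MvPolynomial (Fin (k * k')) ℤ →ₐ[ℤ] K).toRingHom
  have hθz : ∀ m ≤ k * k', θ (z m) = lam m x := by
    intro m hm
    rw [map_seqOf]
    have : (fun j : Fin (k * k') => θ (X j)) = fun j : Fin (k * k') => lam ((j : ℕ) + 1) x := by
      funext j
      show aeval _ (X j) = _
      rw [aeval_X]
    rw [this]
    exact seqOf_eq (k * k') (fun m => lam m x) (lam_zero x) m hm
  let q : ℕ → ℕ → MvPolynomial (Fin (k * k')) ℤ := fun m j =>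
    aeval (fun t : Fin (m * j) => z ((t : ℕ) + 1)) (Qm m j)
  have hθq : ∀ m j, m * j ≤ k * k' → θ (q m j) = lam j (lam m x) := by
    intro m j hmj
    rw [hK.lam_lam m j (Qm m j) (hQm m j) x]
    show θ (aeval _ (Qm m j)) = _
    rw [map_aeval_int]
    congr 2
    funext t
    exact hθz _ (by have := t.2; omega)
  -- split
  obtain ⟨S₀, _, ι, hι, hTF, r, hr⟩ := exists_split z (seqOf_zero _ _) (k * k')
  have hS₀ : TF S₀ := hTF (tf_mvPolynomial_int _)
  have hB : ∀ m j, m * j ≤ k * k' → (univ.val.map (prodFam r m)).esymm j = ι (q m j) := by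
    intro m j hmj
    show _ = ι (aeval _ (Qm m j))
    rw [map_aeval_int, ← isCompPoly_eval_stable hS₀ (hQm m j) r]
    congr 2
    funext t
    exact hr _ (by have := t.2; omega)
  have hq0 : ∀ m, q m 0 = 1 := by
    intro m
    apply hι
    rw [← hB m 0 (by simp), esymm_family_zero, map_one]
  have hmj : ∀ m j, m ≤ k' → j ≤ k → m * j ≤ k * k' := fun m j hm hj => by
    rw [mul_comm k k']; exact Nat.mul_le_mul hm hj
  -- `ι (pOf (q m) k) = e_m(r^k)`
  have hC : ∀ m, m ≤ k' → ι (pOf (q m) k) = (univ.val.map (fun a => r a ^ k)).esymm m := by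
    intro m hm
    rw [← psum_prodFam]
    exact ((rel_family (prodFam r m) k).p_unique ((rel_pOf (q m) (hq0 m) k).map ι)
      (esymm_family_zero _) (fun j hj => hB m j (hmj m j hm hj)) k hk le_rfl).symm
  let E : ℕ → MvPolynomial (Fin (k * k')) ℤ := fun m => if m = 0 then 1 else pOf (q m) k
  let Pz : ℕ → MvPolynomial (Fin (k * k')) ℤ := fun l => pOf z (k * l)
  have Rz := rel_pOf z (seqOf_zero _ _) (k * k')
  have hD : Rel E Pz k' := by
    apply Rel.of_injective ι hι
    refine (rel_family (fun a => r a ^ k) k').congr (fun m hm => ?_) (fun l hl1 hl => ?_)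
    · show _ = ι (if m = 0 then 1 else pOf (q m) k)
      split_ifs with h0
      · rw [h0, esymm_family_zero, map_one]
      · exact (hC m hm).symm
    · show _ = ι (pOf z (k * l))
      simp only [← pow_mul]
      exact (rel_family r (k * k')).p_unique (Rz.map ι) (esymm_family_zero r) hr (k * l)
        (Nat.mul_pos hk hl1) (Nat.mul_le_mul le_rfl hl)
  have hθE : ∀ m ≤ k', θ (E m) = ψ (lam m x) := by
    intro m hm
    show θ (if m = 0 then 1 else pOf (q m) k) = _
    split_ifs with h0
    · rw [h0, lam_zero, map_one, map_one]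
    · rw [hψ]
      exact ((rel_lam (lam m x) k).p_unique ((rel_pOf (q m) (hq0 m) k).map θ) (lam_zero _)
        (fun j hj => (hθq m j (hmj m j hm hj)).symm) k hk le_rfl).symm
  have hθP : ∀ l, 1 ≤ l → l ≤ k' → θ (Pz l) = adamsOp (k * l) x := by
    intro l hl1 hl
    exact ((rel_lam x (k * k')).p_unique (Rz.map θ) (lam_zero x)
      (fun j hj => (hθz j hj).symm) (k * l) (Nat.mul_pos hk hl1) (Nat.mul_le_mul le_rfl hl)).symm
  have R1 : Rel (fun m => ψ (lam m x)) (fun l => ψ (adamsOp l x)) k' := (rel_lam x k').map ψ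
  have R2 : Rel (fun m => θ (E m)) (fun l => θ (Pz l)) k' := hD.map θ
  have := R1.p_unique R2 (by rw [lam_zero, map_one]) (fun j hj => (hθE j hj).symm) k' hk' le_rfl
  rw [← hψ, this, hθP k' hk' le_rfl]

end Groth.Agent.Lib27.Special
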