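import Mathlib
import Groth.Agent.Lib27.Special2
import Groth.Agent.Lib27.GammaFil

/-!
# A model λ-ring: `ℤ[u_i]` with the `u_i` (and all monomials) line elements

`λ_t(Σ c_m u^m) = ∏ (1 + u^m t)^{c_m}`.  Adams operations are `MvPolynomial.expand`, so the ring is a
λ-ring in the strict sense by the Adams criterion.
-/

set_option autoImplicit false
open LambdaRing LambdaRing.LambdaOps Finset

namespace Groth.Agent.Lib27.LModel

section PS
variable {R : Type*} [CommRing R]
open PowerSeries

/-- the unit `1 + a t`. -/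
noncomputable def onePlus (a : R) : (PowerSeries R)ˣ where
  val := 1 + PowerSeries.C a * PowerSeries.X
  inv := PowerSeries.mk fun k => (-a) ^ k
  val_inv := by
    ext n
    rcases n with _ | n
    · simp
    · rw [add_mul, one_mul, map_add, mul_assoc, PowerSeries.coeff_C_mul, PowerSeries.coeff_succ_X_mul,
        PowerSeries.coeff_mk, PowerSeries.coeff_mk, PowerSeries.coeff_one, if_neg (by omega)]
      ring
  inv_val := by
    rw [mul_comm]
    ext n
    rcases n with _ | n
    · simp
    · rw [add_mul, one_mul, map_add, mul_assoc, PowerSeries.coeff_C_mul, PowerSeries.coeff_succ_X_mul,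
        PowerSeries.coeff_mk, PowerSeries.coeff_mk, PowerSeries.coeff_one, if_neg (by omega)]
      ring

@[simp] lemma val_onePlus (a : R) :
    ((onePlus a : (PowerSeries R)ˣ) : PowerSeries R) = 1 + PowerSeries.C a * PowerSeries.X := rfl

@[simp] lemma val_inv_onePlus (a : R) :
    (((onePlus a)⁻¹ : (PowerSeries R)ˣ) : PowerSeries R) = PowerSeries.mk fun k => (-a) ^ k := rfl

/-- logarithmic derivative of a unit. -/
noncomputable def dlog (F : (PowerSeries R)ˣ) : PowerSeries R :=
  PowerSeries.derivative R (F : PowerSeries R) * ((F⁻¹ : (PowerSeries R)ˣ) : PowerSeries R)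

lemma dlog_one : dlog (1 : (PowerSeries R)ˣ) = 0 := by
  simp [dlog]

lemma dlog_mul (F G : (PowerSeries R)ˣ) : dlog (F * G) = dlog F + dlog G := by
  unfold dlog
  have hF : (F : PowerSeries R) * ((F⁻¹ : (PowerSeries R)ˣ) : PowerSeries R) = 1 := F.mul_inv
  have hG : (G : PowerSeries R) * ((G⁻¹ : (PowerSeries R)ˣ) : PowerSeries R) = 1 := G.mul_inv
  rw [mul_inv_rev, Units.val_mul, Units.val_mul, Derivation.leibniz, smul_eq_mul, smul_eq_mul]
  linear_combination (PowerSeries.derivative R (G : PowerSeries R) *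
      ((G⁻¹ : (PowerSeries R)ˣ) : PowerSeries R)) * hF +
    (PowerSeries.derivative R (F : PowerSeries R) *
      ((F⁻¹ : (PowerSeries R)ˣ) : PowerSeries R)) * hG

/-- `dlog` as an additive map. -/
noncomputable def dlogHom : Additive (PowerSeries R)ˣ →+ PowerSeries R where
  toFun F := dlog (Additive.toMul F)
  map_zero' := dlog_one
  map_add' F G := dlog_mul _ _

lemma coeff_dlog_onePlus (a : R) (k : ℕ) :
    PowerSeries.coeff k (dlog (onePlus a)) = (-1) ^ k * a ^ (k + 1) := by
  unfold dlog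
  rw [val_onePlus, val_inv_onePlus, map_add, Derivation.leibniz]
  simp only [Derivation.map_one_eq_zero, PowerSeries.derivative_C, smul_zero, zero_add, add_zero]
  rw [PowerSeries.derivative_X, smul_eq_mul, mul_one, PowerSeries.coeff_C_mul, PowerSeries.coeff_mk]
  ring

lemma constantCoeff_onePlus (a : R) :
    PowerSeries.constantCoeff ((onePlus a : (PowerSeries R)ˣ) : PowerSeries R) = 1 := by
  simp

end PS

section Model
variable (σ : Type*)
open MvPolynomial

lemma hom_ext_mono {G : Type*} [AddCommGroup G] (f g : MvPolynomial σ ℤ →+ G)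
    (h : ∀ m : σ →₀ ℕ, f (monomial m 1) = g (monomial m 1)) : f = g := by
  refine DFunLike.ext _ _ fun p => ?_
  induction p using MvPolynomial.induction_on' with
  | monomial m a =>
    have : (monomial m a : MvPolynomial σ ℤ) = a • monomial m 1 := by
      rw [MvPolynomial.smul_monomial]; simp
    rw [this, map_zsmul, map_zsmul, h]
  | add p q hp hq => rw [map_add, map_add, hp, hq]

/-- the additive map `f ↦ λ_t(f)`. -/
noncomputable def LtAdd : MvPolynomial σ ℤ →+ Additive (PowerSeries (MvPolynomial σ ℤ))ˣ :=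
  ((MvPolynomial.basisMonomials σ ℤ).constr ℤ fun m =>
    Additive.ofMul (onePlus (monomial m (1 : ℤ)))).toAddMonoidHom

lemma LtAdd_monomial (m : σ →₀ ℕ) :
    LtAdd σ (monomial m 1) = Additive.ofMul (onePlus (monomial m (1 : ℤ))) := by
  unfold LtAdd
  have := (MvPolynomial.basisMonomials σ ℤ).constr_basis ℤ
    (fun m => Additive.ofMul (onePlus (monomial m (1 : ℤ)))) m
  rw [MvPolynomial.coe_basisMonomials] at this
  exact this

/-- the series `λ_t(f)` as a unit. -/
noncomputable def Lt (f : MvPolynomial σ ℤ) : (PowerSeries (MvPolynomial σ ℤ))ˣ :=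
  Additive.toMul (LtAdd σ f)

lemma Lt_add (f g : MvPolynomial σ ℤ) : Lt σ (f + g) = Lt σ f * Lt σ g := by
  unfold Lt; rw [map_add]; rfl

lemma Lt_monomial (m : σ →₀ ℕ) : Lt σ (monomial m 1) = onePlus (monomial m (1 : ℤ)) := by
  unfold Lt; rw [LtAdd_monomial]; rfl

lemma constantCoeff_Lt (f : MvPolynomial σ ℤ) :
    PowerSeries.constantCoeff ((Lt σ f : (PowerSeries (MvPolynomial σ ℤ))ˣ) :
      PowerSeries (MvPolynomial σ ℤ)) = 1 := by
  let c0 : Additive (PowerSeries (MvPolynomial σ ℤ))ˣ →+ Additive (MvPolynomial σ ℤ)ˣ :=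
    MonoidHom.toAdditive (Units.map (PowerSeries.constantCoeff (R := MvPolynomial σ ℤ)).toMonoidHom)
  have h : c0.comp (LtAdd σ) = 0 := by
    apply hom_ext_mono
    intro m
    rw [AddMonoidHom.comp_apply, LtAdd_monomial, AddMonoidHom.zero_apply]
    apply Additive.toMul.injective
    apply Units.ext
    simp [c0]
  have h2 := DFunLike.congr_fun h f
  rw [AddMonoidHom.comp_apply, AddMonoidHom.zero_apply] at h2
  have h3 := congrArg (fun u : Additive (MvPolynomial σ ℤ)ˣ => ((Additive.toMul u : (MvPolynomial σ ℤ)ˣ) : MvPolynomial σ ℤ)) h2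
  simpa [c0, Lt] using h3

lemma coeff_one_mul {R : Type*} [CommRing R] (F G : PowerSeries R)
    (hF : PowerSeries.constantCoeff F = 1) (hG : PowerSeries.constantCoeff G = 1) :
    PowerSeries.coeff 1 (F * G) = PowerSeries.coeff 1 F + PowerSeries.coeff 1 G := by
  rw [PowerSeries.coeff_mul, Finset.Nat.sum_antidiagonal_eq_sum_range_succ_mk,
    Finset.sum_range_succ, Finset.sum_range_one]
  simp only [Nat.sub_zero, Nat.sub_self]
  rw [PowerSeries.coeff_zero_eq_constantCoeff_apply, PowerSeries.coeff_zero_eq_constantCoeff_apply,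
    hF, hG]
  ring

lemma coeff_one_Lt (f : MvPolynomial σ ℤ) :
    PowerSeries.coeff 1 ((Lt σ f : (PowerSeries (MvPolynomial σ ℤ))ˣ) :
      PowerSeries (MvPolynomial σ ℤ)) = f := by
  let c1 : MvPolynomial σ ℤ →+ MvPolynomial σ ℤ :=
    { toFun := fun f => PowerSeries.coeff 1 ((Lt σ f : (PowerSeries (MvPolynomial σ ℤ))ˣ) :
        PowerSeries (MvPolynomial σ ℤ))
      map_zero' := by
        have : Lt σ 0 = 1 := by unfold Lt; rw [map_zero]; rfl
        rw [this]; simp
      map_add' := fun f g => by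
        rw [Lt_add, Units.val_mul, coeff_one_mul _ _ (constantCoeff_Lt σ f) (constantCoeff_Lt σ g)] }
  have h : c1 = AddMonoidHom.id _ := by
    apply hom_ext_mono
    intro m
    change PowerSeries.coeff 1 ((Lt σ (monomial m 1) : (PowerSeries (MvPolynomial σ ℤ))ˣ) :
        PowerSeries (MvPolynomial σ ℤ)) = monomial m 1
    rw [Lt_monomial, val_onePlus]
    simp
  exact DFunLike.congr_fun h f

/-- the λ-operations of the model. -/
@[reducible] noncomputable def modelOps : LambdaOps (MvPolynomial σ ℤ) where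
  lam n f := PowerSeries.coeff n ((Lt σ f : (PowerSeries (MvPolynomial σ ℤ))ˣ) :
    PowerSeries (MvPolynomial σ ℤ))
  lam_zero f := by
    rw [PowerSeries.coeff_zero_eq_constantCoeff_apply, constantCoeff_Lt]
  lam_one f := coeff_one_Lt σ f
  lam_add k x y := by
    rw [Lt_add, Units.val_mul, PowerSeries.coeff_mul,
      Finset.Nat.sum_antidiagonal_eq_sum_range_succ_mk]

attribute [local instance] modelOps

lemma lamSeries_eq (f : MvPolynomial σ ℤ) :
    lamSeries f = ((Lt σ f : (PowerSeries (MvPolynomial σ ℤ))ˣ) : PowerSeries (MvPolynomial σ ℤ)) := by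
  refine PowerSeries.ext fun n => ?_
  rw [lamSeries, PowerSeries.coeff_mk]
  rfl

lemma invOfUnit_eq (f : MvPolynomial σ ℤ) :
    (lamSeries f).invOfUnit 1 =
      (((Lt σ f)⁻¹ : (PowerSeries (MvPolynomial σ ℤ))ˣ) : PowerSeries (MvPolynomial σ ℤ)) := by
  have h1 : lamSeries f * (lamSeries f).invOfUnit 1 = 1 := by
    apply PowerSeries.mul_invOfUnit
    rw [lamSeries_eq, constantCoeff_Lt]; simp
  have h2 : (((Lt σ f)⁻¹ : (PowerSeries (MvPolynomial σ ℤ))ˣ) : PowerSeries (MvPolynomial σ ℤ)) *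
      lamSeries f = 1 := by
    rw [lamSeries_eq]; exact (Lt σ f).inv_mul
  calc (lamSeries f).invOfUnit 1
      = (((Lt σ f)⁻¹ : (PowerSeries (MvPolynomial σ ℤ))ˣ) : PowerSeries (MvPolynomial σ ℤ)) *
          lamSeries f * (lamSeries f).invOfUnit 1 := by rw [h2, one_mul]
    _ = _ := by rw [mul_assoc, h1, mul_one]

lemma logDerivSeries_eq (f : MvPolynomial σ ℤ) : logDerivSeries f = dlog (Lt σ f) := by
  unfold logDerivSeries dlog
  rw [invOfUnit_eq, lamSeries_eq]

lemma coeff_dlog_Lt (k : ℕ) (f : MvPolynomial σ ℤ) :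
    PowerSeries.coeff k (dlog (Lt σ f)) = (-1) ^ k * MvPolynomial.expand (k + 1) f := by
  let a1 : MvPolynomial σ ℤ →+ MvPolynomial σ ℤ :=
    ((PowerSeries.coeff (R := MvPolynomial σ ℤ) k).toAddMonoidHom.comp dlogHom).comp (LtAdd σ)
  let a2 : MvPolynomial σ ℤ →+ MvPolynomial σ ℤ :=
    (AddMonoidHom.mulLeft ((-1 : MvPolynomial σ ℤ) ^ k)).comp
      (MvPolynomial.expand (k + 1) : MvPolynomial σ ℤ →ₐ[ℤ] MvPolynomial σ ℤ).toRingHom.toAddMonoidHom
  have h : a1 = a2 := by
    apply hom_ext_mono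
    intro m
    change PowerSeries.coeff k (dlog (Additive.toMul (LtAdd σ (monomial m 1)))) =
      (-1) ^ k * MvPolynomial.expand (k + 1) (monomial m 1)
    rw [LtAdd_monomial, toMul_ofMul, coeff_dlog_onePlus, MvPolynomial.expand_monomial,
      MvPolynomial.monomial_pow, one_pow]
  exact DFunLike.congr_fun h f

lemma adamsOp_eq_expand (k : ℕ) (hk : 1 ≤ k) (f : MvPolynomial σ ℤ) :
    adamsOp k f = MvPolynomial.expand k f := by
  obtain ⟨k, rfl⟩ : ∃ j, k = j + 1 := ⟨k - 1, by omega⟩
  rw [Groth.Agent.Lib27.Adams.adamsOp_succ, Groth.Agent.Lib27.Adams.c, logDerivSeries_eq,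
    coeff_dlog_Lt, ← mul_assoc, ← pow_add, ← two_mul, pow_mul]
  simp

theorem isSpecial_model : IsSpecial (MvPolynomial σ ℤ) := by
  apply Groth.Agent.Lib27.Special.isSpecial_of_adams
  · exact Groth.Agent.Lib27.Special.tf_mvPolynomial_int σ
  · intro k hk
    rw [adamsOp_eq_expand σ k hk, map_one]
  · intro k hk x y
    rw [adamsOp_eq_expand σ k hk, adamsOp_eq_expand σ k hk, adamsOp_eq_expand σ k hk, map_mul]
  · intro k k' hk hk' x
    rw [adamsOp_eq_expand σ k hk, adamsOp_eq_expand σ k' hk',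
      adamsOp_eq_expand σ (k * k') (Nat.one_le_iff_ne_zero.2 (Nat.mul_ne_zero (by omega) (by omega))),
      MvPolynomial.expand_mul]

/-- monomials are line elements. -/
lemma lam_monomial (m : σ →₀ ℕ) (j : ℕ) (hj : 2 ≤ j) :
    lam j (monomial m (1 : ℤ)) = 0 := by
  change PowerSeries.coeff j ((Lt σ (monomial m 1) : (PowerSeries (MvPolynomial σ ℤ))ˣ) :
    PowerSeries (MvPolynomial σ ℤ)) = 0
  rw [Lt_monomial, val_onePlus, map_add, PowerSeries.coeff_one, if_neg (by omega),
    PowerSeries.coeff_C_mul, PowerSeries.coeff_X, if_neg (by omega)]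
  simp

lemma lam_X (a : σ) (j : ℕ) (hj : 2 ≤ j) : lam j (X a : MvPolynomial σ ℤ) = 0 :=
  lam_monomial σ (Finsupp.single a 1) j hj

lemma lam_one_model (j : ℕ) (hj : 2 ≤ j) : lam j (1 : MvPolynomial σ ℤ) = 0 :=
  lam_monomial σ 0 j hj

end Model

end Groth.Agent.Lib27.LModel
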