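import Mathlib
import Groth.Agent.Lib27.Special2
import Groth.Agent.Lib27.GammaFil
import Groth.Agent.S8684
import Groth.Agent.S8685

/-!
# General lemmas on λ-rings in the strict sense: λ versus γ, products and λ-stable ideals
-/

set_option autoImplicit false
open LambdaRing LambdaRing.LambdaOps Finset

namespace Groth.Agent.Lib27.LOps

variable {A : Type*} [CommRing A] [LambdaOps A]

lemma gamma_succ_eq (k : ℕ) (x : A) :
    gamma (k + 1) x = ∑ i ∈ range (k + 1), (k.choose i : A) * lam (i + 1) x := by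
  rw [gamma, if_neg (Nat.succ_ne_zero k), Finset.sum_range_succ']
  simp

lemma lam_succ_eq (k : ℕ) (x : A) :
    lam (k + 1) x = gamma (k + 1) x - ∑ i ∈ range k, (k.choose i : A) * lam (i + 1) x := by
  rw [gamma_succ_eq, Finset.sum_range_succ, Nat.choose_self]
  simp

lemma gamma_mem_of_lam_mem (J : Ideal A) (x : A) (h : ∀ k, 1 ≤ k → lam k x ∈ J) :
    ∀ k, 1 ≤ k → gamma k x ∈ J := by
  intro k hk
  obtain ⟨k, rfl⟩ : ∃ j, k = j + 1 := ⟨k - 1, by omega⟩
  rw [gamma_succ_eq]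
  exact Ideal.sum_mem _ fun i _ => Ideal.mul_mem_left _ _ (h (i + 1) (by omega))

lemma lam_mem_of_gamma_mem (J : Ideal A) (x : A) (h : ∀ k, 1 ≤ k → gamma k x ∈ J) :
    ∀ k, 1 ≤ k → lam k x ∈ J := by
  intro k
  induction k using Nat.strong_induction_on with
  | _ k ih =>
    intro hk
    obtain ⟨k, rfl⟩ : ∃ j, k = j + 1 := ⟨k - 1, by omega⟩
    rw [lam_succ_eq]
    refine Ideal.sub_mem _ (h (k + 1) hk) (Ideal.sum_mem _ fun i hi => Ideal.mul_mem_left _ _ ?_)
    rw [Finset.mem_range] at hi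
    exact ih (i + 1) (by omega) (by omega)

/-- the universal polynomial `P_n` (a choice). -/
noncomputable def Pmul (n : ℕ) : MvPolynomial (Fin n ⊕ Fin n) ℤ :=
  Classical.choose (Groth.Agent.S8684.result n)

lemma isMulPoly_Pmul (n : ℕ) : IsMulPoly n (Pmul n) := Classical.choose_spec (Groth.Agent.S8684.result n)

/-- the universal polynomial `Q_{i,j}` (a choice). -/
noncomputable def Qcomp (i j : ℕ) : MvPolynomial (Fin (i * j)) ℤ :=
  Classical.choose (Groth.Agent.S8685.result i j)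

lemma isCompPoly_Qcomp (i j : ℕ) : IsCompPoly i j (Qcomp i j) :=
  Classical.choose_spec (Groth.Agent.S8685.result i j)

lemma aeval_sumElim_eq {n : ℕ} (f g : Fin n → A) (P : MvPolynomial (Fin n ⊕ Fin n) ℤ) :
    MvPolynomial.aeval (Sum.elim f g) P = ∑ d ∈ P.support, ((MvPolynomial.coeff d P : ℤ) : A) *
      ((∏ i, f i ^ d (Sum.inl i)) * ∏ i, g i ^ d (Sum.inr i)) := by
  rw [MvPolynomial.aeval_def, MvPolynomial.eval₂_eq']
  refine Finset.sum_congr rfl fun d _ => ?_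
  rw [Fintype.prod_sum_type]
  simp

lemma weight_fst {n : ℕ} (d : Fin n ⊕ Fin n →₀ ℕ) :
    (Finsupp.weight (Sum.elim (fun k : Fin n => ((((k : ℕ) + 1, 0)) : ℕ × ℕ))
      (fun k : Fin n => ((0, (k : ℕ) + 1) : ℕ × ℕ))) d).1 =
      ∑ i : Fin n, d (Sum.inl i) * ((i : ℕ) + 1) := by
  rw [Finsupp.weight_apply, Finsupp.sum_fintype _ _ (by simp), Fintype.sum_sum_type, Prod.fst_add,
    Prod.fst_sum, Prod.fst_sum]
  simp

lemma weight_snd {n : ℕ} (d : Fin n ⊕ Fin n →₀ ℕ) :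
    (Finsupp.weight (Sum.elim (fun k : Fin n => ((((k : ℕ) + 1, 0)) : ℕ × ℕ))
      (fun k : Fin n => ((0, (k : ℕ) + 1) : ℕ × ℕ))) d).2 =
      ∑ i : Fin n, d (Sum.inr i) * ((i : ℕ) + 1) := by
  rw [Finsupp.weight_apply, Finsupp.sum_fintype _ _ (by simp), Fintype.sum_sum_type, Prod.snd_add,
    Prod.snd_sum, Prod.snd_sum]
  simp

lemma support_Pmul {n : ℕ} (d : Fin n ⊕ Fin n →₀ ℕ) (hd : d ∈ (Pmul n).support) :
    ∑ i : Fin n, d (Sum.inl i) * ((i : ℕ) + 1) = n ∧ ∑ i : Fin n, d (Sum.inr i) * ((i : ℕ) + 1) = n := by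
  have h := (isMulPoly_Pmul n).2 (MvPolynomial.mem_support_iff.1 hd)
  rw [← weight_fst, ← weight_snd, h]
  exact ⟨rfl, rfl⟩

lemma prod_pow_mem (J : Ideal A) {n : ℕ} (f : Fin n → A) (hf : ∀ i, f i ∈ J) (e : Fin n → ℕ) :
    ∏ i, f i ^ e i ∈ J ^ (∑ i, e i) := by
  rw [← Finset.prod_pow_eq_pow_sum]
  exact Ideal.prod_mem_prod fun i _ => Ideal.pow_mem_pow (hf i) _

lemma sum_pos_of_weight {n : ℕ} (hn : 1 ≤ n) (e : Fin n → ℕ)
    (h : ∑ i : Fin n, e i * ((i : ℕ) + 1) = n) : 1 ≤ ∑ i, e i := by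
  by_contra hc
  have h0 : ∑ i, e i = 0 := by omega
  have h1 : ∀ i, e i = 0 := fun i => (Finset.sum_eq_zero_iff.1 h0) i (Finset.mem_univ i)
  have : ∑ i : Fin n, e i * ((i : ℕ) + 1) = 0 := Finset.sum_eq_zero fun i _ => by rw [h1 i, zero_mul]
  omega

/-- **Products**: `λ^k(xy)` lies in `J₁ J₂` as soon as the `λ^j x` lie in `J₁` and the `λ^j y` in
`J₂` (`j ≥ 1`). -/
theorem lam_mul_mem (hA : IsSpecial A) (J₁ J₂ : Ideal A) (x y : A)
    (hx : ∀ j, 1 ≤ j → lam j x ∈ J₁) (hy : ∀ j, 1 ≤ j → lam j y ∈ J₂) (k : ℕ) (hk : 1 ≤ k) :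
    lam k (x * y) ∈ J₁ * J₂ := by
  rw [hA.lam_mul k (Pmul k) (isMulPoly_Pmul k), aeval_sumElim_eq]
  refine Ideal.sum_mem _ fun d hd => Ideal.mul_mem_left _ _ ?_
  obtain ⟨h1, h2⟩ := support_Pmul d hd
  have m1 := prod_pow_mem J₁ (fun i : Fin k => lam ((i : ℕ) + 1) x) (fun i => hx _ (by omega))
    (fun i => d (Sum.inl i))
  have m2 := prod_pow_mem J₂ (fun i : Fin k => lam ((i : ℕ) + 1) y) (fun i => hy _ (by omega))
    (fun i => d (Sum.inr i))
  have p1 := sum_pos_of_weight hk _ h1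
  have p2 := sum_pos_of_weight hk _ h2
  exact Ideal.mul_mem_mul (Ideal.pow_le_self (by omega) m1) (Ideal.pow_le_self (by omega) m2)

/-- the special exponent `X_n Y_n`. -/
noncomputable def dspec (n : ℕ) : Fin (n + 1) ⊕ Fin (n + 1) →₀ ℕ :=
  Finsupp.single (Sum.inl (Fin.last n)) 1 + Finsupp.single (Sum.inr (Fin.last n)) 1

/-- the coefficient of `X_n Y_n` in `P_n`. -/
noncomputable def pkk : ℕ → ℤ
  | 0 => 0
  | n + 1 => MvPolynomial.coeff (dspec n) (Pmul (n + 1))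

lemma eq_single_of_sums {n : ℕ} (e : Fin (n + 1) → ℕ) (h1 : ∑ i, e i = 1)
    (h2 : ∑ i : Fin (n + 1), e i * ((i : ℕ) + 1) = n + 1) :
    ∀ i, e i = if i = Fin.last n then 1 else 0 := by
  have h3 : ∑ i : Fin (n + 1), e i * (n - (i : ℕ)) = 0 := by
    have h4 : ∑ i : Fin (n + 1), (e i * ((i : ℕ) + 1) + e i * (n - (i : ℕ))) =
        ∑ i : Fin (n + 1), e i * (n + 1) := by
      refine Finset.sum_congr rfl fun i _ => ?_
      have := i.2
      rw [← mul_add]; congr 1; omega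
    rw [Finset.sum_add_distrib, h2, ← Finset.sum_mul, h1] at h4
    omega
  have h5 : ∀ i : Fin (n + 1), i ≠ Fin.last n → e i = 0 := by
    intro i hi
    have := (Finset.sum_eq_zero_iff.1 h3) i (Finset.mem_univ i)
    rcases Nat.mul_eq_zero.1 this with h | h
    · exact h
    · exfalso
      apply hi
      apply Fin.ext
      have := i.2
      simp only [Fin.val_last]
      omega
  intro i
  split_ifs with hi
  · subst hi
    rw [Finset.sum_eq_single (Fin.last n) (fun j _ hj => h5 j hj) (by simp)] at h1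
    exact h1
  · exact h5 i hi

/-- **Products, finer**: modulo `J₁² J₂ + J₁ J₂²`, `λ^k(xy)` is `p_{kk} λ^k(x) λ^k(y)`. -/
theorem lam_mul_sub_mem (hA : IsSpecial A) (J₁ J₂ : Ideal A) (x y : A)
    (hx : ∀ j, 1 ≤ j → lam j x ∈ J₁) (hy : ∀ j, 1 ≤ j → lam j y ∈ J₂) (n : ℕ) :
    lam (n + 1) (x * y) - (pkk (n + 1) : A) * (lam (n + 1) x * lam (n + 1) y) ∈
      J₁ ^ 2 * J₂ ⊔ J₁ * J₂ ^ 2 := by
  classical
  rw [hA.lam_mul (n + 1) (Pmul (n + 1)) (isMulPoly_Pmul (n + 1)), aeval_sumElim_eq]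
  set t : (Fin (n + 1) ⊕ Fin (n + 1) →₀ ℕ) → A := fun d =>
    ((MvPolynomial.coeff d (Pmul (n + 1)) : ℤ) : A) *
      ((∏ i : Fin (n + 1), lam ((i : ℕ) + 1) x ^ d (Sum.inl i)) *
        ∏ i : Fin (n + 1), lam ((i : ℕ) + 1) y ^ d (Sum.inr i)) with ht
  have hspec : t (dspec n) = (pkk (n + 1) : A) * (lam (n + 1) x * lam (n + 1) y) := by
    rw [ht]
    simp only [pkk]
    congr 2
    · rw [Finset.prod_eq_single (Fin.last n)]
      · simp [dspec]
      · intro j _ hj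
        simp [dspec, hj, Ne.symm hj]
      · simp
    · rw [Finset.prod_eq_single (Fin.last n)]
      · simp [dspec]
      · intro j _ hj
        simp [dspec, hj, Ne.symm hj]
      · simp
  rw [← hspec]
  have hrest : ∀ d ∈ (Pmul (n + 1)).support, d ≠ dspec n → t d ∈ J₁ ^ 2 * J₂ ⊔ J₁ * J₂ ^ 2 := by
    intro d hd hne
    obtain ⟨h1, h2⟩ := support_Pmul d hd
    have m1 := prod_pow_mem J₁ (fun i : Fin (n + 1) => lam ((i : ℕ) + 1) x)
      (fun i => hx _ (by omega)) (fun i => d (Sum.inl i))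
    have m2 := prod_pow_mem J₂ (fun i : Fin (n + 1) => lam ((i : ℕ) + 1) y)
      (fun i => hy _ (by omega)) (fun i => d (Sum.inr i))
    have p1 := sum_pos_of_weight (by omega) _ h1
    have p2 := sum_pos_of_weight (by omega) _ h2
    have hcase : 2 ≤ ∑ i, d (Sum.inl i) ∨ 2 ≤ ∑ i, d (Sum.inr i) := by
      by_contra hc
      push Not at hc
      have q1 : ∑ i, d (Sum.inl i) = 1 := by omega
      have q2 : ∑ i, d (Sum.inr i) = 1 := by omega
      have e1 := eq_single_of_sums (fun i => d (Sum.inl i)) q1 h1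
      have e2 := eq_single_of_sums (fun i => d (Sum.inr i)) q2 h2
      apply hne
      ext v
      rcases v with i | i
      · rw [e1 i]
        by_cases hi : i = Fin.last n
        · simp [dspec, hi]
        · simp [dspec, hi, Ne.symm hi]
      · rw [e2 i]
        by_cases hi : i = Fin.last n
        · simp [dspec, hi]
        · simp [dspec, hi, Ne.symm hi]
    rw [ht]
    refine Ideal.mul_mem_left _ _ ?_
    rcases hcase with hc | hc
    · exact Ideal.mem_sup_left (Ideal.mul_mem_mul (Ideal.pow_le_pow_right hc m1)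
        (Ideal.pow_le_self (by omega) m2))
    · exact Ideal.mem_sup_right (Ideal.mul_mem_mul (Ideal.pow_le_self (by omega) m1)
        (Ideal.pow_le_pow_right hc m2))
  by_cases hmem : dspec n ∈ (Pmul (n + 1)).support
  · rw [← Finset.sum_erase_add _ _ hmem, add_sub_cancel_right]
    exact Ideal.sum_mem _ fun d hd => hrest d (Finset.mem_of_mem_erase hd) (Finset.ne_of_mem_erase hd)
  · have h0 : t (dspec n) = 0 := by
      rw [ht]
      simp only
      rw [MvPolynomial.notMem_support_iff.1 hmem]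
      simp
    rw [h0, sub_zero]
    exact Ideal.sum_mem _ fun d hd => hrest d hd (fun h => hmem (h ▸ hd))

end Groth.Agent.Lib27.LOps
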