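import Mathlib
import Groth.Agent.Lib27.LModel
import Groth.Agent.Lib27.LOps

/-!
# The augmentation filtration of the model λ-ring `ℤ[u_i]`

`Iu n` is the `n`-th power of the ideal generated by the `u_i - 1`, described through the
substitution `u_i ↦ u_i + 1`.  We prove: `γ^k` maps `Iu 1` to `Iu k`; every `Iu m` is a λ-ideal;
`λ^k(f) ≡ (-1)^{k-1} k^{m-1} f` modulo `Iu (m+1)` for `f ∈ Iu m`.
-/

set_option autoImplicit false
open LambdaRing LambdaRing.LambdaOps Finset MvPolynomial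

namespace Groth.Agent.Lib27.LModel

attribute [local instance] modelOps

variable (σ : Type*)

/-- `u ↦ u - 1`. -/
noncomputable def tau : MvPolynomial σ ℤ →ₐ[ℤ] MvPolynomial σ ℤ := aeval fun a => X a - 1

/-- `u ↦ u + 1`. -/
noncomputable def tauInv : MvPolynomial σ ℤ →ₐ[ℤ] MvPolynomial σ ℤ := aeval fun a => X a + 1

lemma tau_tauInv (f : MvPolynomial σ ℤ) : tau σ (tauInv σ f) = f := by
  have : (tau σ).comp (tauInv σ) = AlgHom.id ℤ _ := by
    apply MvPolynomial.algHom_ext
    intro a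
    simp [tau, tauInv]
  exact DFunLike.congr_fun this f

lemma tauInv_tau (f : MvPolynomial σ ℤ) : tauInv σ (tau σ f) = f := by
  have : (tauInv σ).comp (tau σ) = AlgHom.id ℤ _ := by
    apply MvPolynomial.algHom_ext
    intro a
    simp [tau, tauInv]
  exact DFunLike.congr_fun this f

/-- the filtration by powers of the augmentation ideal. -/
noncomputable def Iu (n : ℕ) : Ideal (MvPolynomial σ ℤ) :=
  Ideal.comap (tauInv σ) (idealOfVars σ ℤ ^ n)

variable {σ}

lemma mem_Iu {n : ℕ} {f : MvPolynomial σ ℤ} : f ∈ Iu σ n ↔ tauInv σ f ∈ idealOfVars σ ℤ ^ n :=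
  Iff.rfl

lemma tau_mem_Iu {n : ℕ} {g : MvPolynomial σ ℤ} (hg : g ∈ idealOfVars σ ℤ ^ n) : tau σ g ∈ Iu σ n := by
  rw [mem_Iu, tauInv_tau]; exact hg

lemma Iu_anti {a b : ℕ} (h : a ≤ b) : Iu σ b ≤ Iu σ a :=
  Ideal.comap_mono (Ideal.pow_le_pow_right h)

lemma Iu_zero : Iu σ 0 = ⊤ := by
  unfold Iu; rw [pow_zero, Ideal.one_eq_top, Ideal.comap_top]

lemma Iu_mul {a b : ℕ} {f g : MvPolynomial σ ℤ} (hf : f ∈ Iu σ a) (hg : g ∈ Iu σ b) :
    f * g ∈ Iu σ (a + b) := by
  rw [mem_Iu, map_mul, pow_add]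
  exact Ideal.mul_mem_mul hf hg

lemma Iu_mul_le (a b : ℕ) : Iu σ a * Iu σ b ≤ Iu σ (a + b) := by
  rw [Ideal.mul_le]
  intro f hf g hg
  exact Iu_mul hf hg

lemma Iu_pow_le (a p : ℕ) : Iu σ a ^ p ≤ Iu σ (p * a) := by
  induction p with
  | zero => rw [Nat.zero_mul, Iu_zero]; exact le_top
  | succ p ih =>
    rw [pow_succ, Nat.succ_mul]
    exact (Ideal.mul_mono_left ih).trans (Iu_mul_le _ _)

/-- the augmentation `u ↦ 1`. -/
noncomputable def aug : MvPolynomial σ ℤ →ₐ[ℤ] ℤ := aeval fun _ => (1 : ℤ)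

lemma constantCoeff_tauInv (f : MvPolynomial σ ℤ) : constantCoeff (tauInv σ f) = aug f := by
  have : (MvPolynomial.constantCoeff (R := ℤ) (σ := σ)).comp (tauInv σ).toRingHom =
      (aug (σ := σ)).toRingHom := by
    apply MvPolynomial.ringHom_ext
    · intro r; simp [tauInv, aug]
    · intro a; simp [tauInv, aug]
  exact RingHom.congr_fun this f

lemma mem_idealOfVars_iff (g : MvPolynomial σ ℤ) :
    g ∈ idealOfVars σ ℤ ↔ constantCoeff g = 0 := by
  have := mem_pow_idealOfVars_iff' (σ := σ) (R := ℤ) 1 g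
  rw [pow_one] at this
  rw [this]
  constructor
  · intro h
    exact h 0 (by simp)
  · intro h x hx
    have : x = 0 := by
      rw [Nat.lt_one_iff] at hx
      ext i
      have h1 : x i ≤ x.degree := Finsupp.le_degree i x
      simp only [Finsupp.coe_zero, Pi.zero_apply]
      omega
    rw [this]; exact h

lemma mem_Iu_one_iff (f : MvPolynomial σ ℤ) : f ∈ Iu σ 1 ↔ aug f = 0 := by
  rw [mem_Iu, pow_one, mem_idealOfVars_iff, constantCoeff_tauInv]

lemma aug_monomial (m : σ →₀ ℕ) : aug (monomial m (1 : ℤ)) = 1 := by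
  simp [aug, aeval_monomial]

lemma monomial_sub_one_mem (m : σ →₀ ℕ) : monomial m (1 : ℤ) - 1 ∈ Iu σ 1 := by
  rw [mem_Iu_one_iff, map_sub, aug_monomial, map_one, sub_self]

lemma X_sub_one_mem (a : σ) : (X a : MvPolynomial σ ℤ) - 1 ∈ Iu σ 1 :=
  monomial_sub_one_mem (Finsupp.single a 1)

/-- `γ^j(w - 1)` for a line element `w`. -/
lemma gamma_monomial_sub_one (m : σ →₀ ℕ) (j : ℕ) :
    gamma j (monomial m (1 : ℤ) - 1) =
      if j = 0 then 1 else if j = 1 then monomial m (1 : ℤ) - 1 else 0 := by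
  rcases j with _ | j
  · simp [gamma]
  · have h := Groth.Agent.Lib27.Lam.gamma_add_line (K := MvPolynomial σ ℤ) (lam_one_model σ)
      (monomial m (1 : ℤ)) (lam_monomial σ m) j 0
    rw [zero_add] at h
    rw [h]
    rcases j with _ | j
    · rw [Groth.Agent.Lib27.GammaFil.gamma_zero_arg 1 le_rfl, Groth.Agent.Lib27.Gamma.gamma_zero]
      simp
    · rw [Groth.Agent.Lib27.GammaFil.gamma_zero_arg (j + 1 + 1) (by omega),
        Groth.Agent.Lib27.GammaFil.gamma_zero_arg (j + 1) (by omega)]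
      simp

lemma gamma_monomial_sub_one_mem (m : σ →₀ ℕ) (j : ℕ) :
    gamma j (monomial m (1 : ℤ) - 1) ∈ Iu σ j := by
  rw [gamma_monomial_sub_one]
  split_ifs with h0 h1
  · subst h0; rw [Iu_zero]; trivial
  · subst h1; exact monomial_sub_one_mem m
  · exact zero_mem _

/-- **`γ^k` raises the filtration**: `γ^k(f) ∈ Iu k` for `f` of augmentation zero. -/
theorem gamma_mem_Iu (f : MvPolynomial σ ℤ) (hf : f ∈ Iu σ 1) (k : ℕ) : gamma k f ∈ Iu σ k := by
  classical
  let S : Set (MvPolynomial σ ℤ) := Set.range fun m : σ →₀ ℕ => monomial m (1 : ℤ)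
  have hS : AddSubgroup.closure S = ⊤ := by
    rw [eq_top_iff]
    rintro p -
    induction p using MvPolynomial.induction_on' with
    | monomial m a =>
      have : (monomial m a : MvPolynomial σ ℤ) = a • monomial m 1 := by
        rw [MvPolynomial.smul_monomial]; simp
      rw [this]
      exact AddSubgroup.zsmul_mem _ (AddSubgroup.subset_closure (show monomial m (1 : ℤ) ∈ S from ⟨m, rfl⟩)) a
    | add p q hp hq => exact AddSubgroup.add_mem _ hp hq
  have hgood := Groth.Agent.Lib27.GammaFil.good_sub_aug (K := ℤ) (aug (σ := σ)) S hS f k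
  rw [(mem_Iu_one_iff f).1 hf, map_zero, sub_zero] at hgood
  have hle : Groth.Agent.Lib27.GammaFil.M (K := ℤ) (aug (σ := σ)) S k ≤
      (Iu σ k).restrictScalars ℤ := by
    refine Submodule.span_le.2 ?_
    rintro y ⟨l, hl, hn, rfl⟩
    rw [SetLike.mem_coe, Submodule.restrictScalars_mem]
    refine Iu_anti hn ?_
    clear hn
    induction l with
    | nil => simp [Iu_zero]
    | cons p l ih =>
      simp only [List.map_cons, List.prod_cons, List.sum_cons]
      refine Iu_mul ?_ (ih fun q hq => hl q (List.mem_cons_of_mem _ hq))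
      obtain ⟨m, hm⟩ := hl p List.mem_cons_self
      rw [← hm, aug_monomial, map_one]
      exact gamma_monomial_sub_one_mem m p.1
  exact hle hgood

section Expand

/-- `expand k` in the coordinates `u - 1`. -/
noncomputable def phi (k : ℕ) : MvPolynomial σ ℤ →ₐ[ℤ] MvPolynomial σ ℤ :=
  aeval fun a => (1 + X a) ^ k - 1

lemma expand_tau (k : ℕ) (g : MvPolynomial σ ℤ) : expand k (tau σ g) = tau σ (phi k g) := by
  have : (expand k : MvPolynomial σ ℤ →ₐ[ℤ] MvPolynomial σ ℤ).comp (tau σ) = (tau σ).comp (phi k) := by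
    apply MvPolynomial.algHom_ext
    intro a
    simp [tau, phi]
  exact DFunLike.congr_fun this g

lemma constantCoeff_phi (k : ℕ) (g : MvPolynomial σ ℤ) :
    constantCoeff (phi k g) = constantCoeff g := by
  have : (MvPolynomial.constantCoeff (R := ℤ) (σ := σ)).comp (phi k).toRingHom =
      MvPolynomial.constantCoeff := by
    apply MvPolynomial.ringHom_ext
    · intro r; simp [phi]
    · intro a; simp [phi]
  exact RingHom.congr_fun this g

lemma phi_X_sub (k : ℕ) (a : σ) :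
    (1 + X a : MvPolynomial σ ℤ) ^ k - 1 - (k : MvPolynomial σ ℤ) * X a ∈ idealOfVars σ ℤ ^ 2 := by
  induction k with
  | zero => simp
  | succ k ih =>
    have hX : (X a : MvPolynomial σ ℤ) ∈ idealOfVars σ ℤ := Ideal.subset_span ⟨a, rfl⟩
    have : (1 + X a : MvPolynomial σ ℤ) ^ (k + 1) - 1 - ((k + 1 : ℕ) : MvPolynomial σ ℤ) * X a =
        (1 + X a) * ((1 + X a) ^ k - 1 - (k : MvPolynomial σ ℤ) * X a) +
          (k : MvPolynomial σ ℤ) * (X a * X a) := by
      push_cast; ring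
    rw [this]
    refine Ideal.add_mem _ (Ideal.mul_mem_left _ _ ih) (Ideal.mul_mem_left _ _ ?_)
    rw [pow_two]
    exact Ideal.mul_mem_mul hX hX

lemma phi_sub_mem_one (k : ℕ) (g : MvPolynomial σ ℤ) (hg : g ∈ idealOfVars σ ℤ) :
    phi k g - (k : MvPolynomial σ ℤ) * g ∈ idealOfVars σ ℤ ^ 2 := by
  unfold idealOfVars at hg
  induction hg using Submodule.span_induction with
  | mem y hy =>
    obtain ⟨a, rfl⟩ := hy
    have := phi_X_sub k a
    simpa [phi] using this
  | zero => simp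
  | add x y _ _ hx hy =>
    have : phi k (x + y) - (k : MvPolynomial σ ℤ) * (x + y) =
        (phi k x - (k : MvPolynomial σ ℤ) * x) + (phi k y - (k : MvPolynomial σ ℤ) * y) := by
      rw [map_add]; ring
    rw [this]; exact Ideal.add_mem _ hx hy
  | smul r x hx' hx =>
    have hx'' : x ∈ idealOfVars σ ℤ := hx'
    have h1 : phi k r - r ∈ idealOfVars σ ℤ := by
      rw [mem_idealOfVars_iff, map_sub, constantCoeff_phi, sub_self]
    have : phi k (r • x) - (k : MvPolynomial σ ℤ) * (r • x) =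
        phi k r * (phi k x - (k : MvPolynomial σ ℤ) * x) +
          (phi k r - r) * ((k : MvPolynomial σ ℤ) * x) := by
      rw [smul_eq_mul, map_mul]; ring
    rw [this]
    refine Ideal.add_mem _ (Ideal.mul_mem_left _ _ hx) ?_
    rw [pow_two]
    exact Ideal.mul_mem_mul h1 (Ideal.mul_mem_left _ _ hx'')

lemma phi_mem_one (k : ℕ) (g : MvPolynomial σ ℤ) (hg : g ∈ idealOfVars σ ℤ) :
    phi k g ∈ idealOfVars σ ℤ := by
  rw [mem_idealOfVars_iff, constantCoeff_phi]
  exact (mem_idealOfVars_iff g).1 hg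

lemma phi_sub_mem (k : ℕ) (m : ℕ) (g : MvPolynomial σ ℤ) (hg : g ∈ idealOfVars σ ℤ ^ (m + 1)) :
    phi k g - (k : MvPolynomial σ ℤ) ^ (m + 1) * g ∈ idealOfVars σ ℤ ^ (m + 2) ∧
      phi k g ∈ idealOfVars σ ℤ ^ (m + 1) := by
  induction m generalizing g with
  | zero =>
    rw [zero_add, pow_one] at hg
    rw [zero_add, pow_one, pow_one]
    exact ⟨phi_sub_mem_one k g hg, phi_mem_one k g hg⟩
  | succ m ih =>
    rw [pow_succ] at hg
    refine Submodule.mul_induction_on hg ?_ ?_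
    · intro x hx y hy
      obtain ⟨i1, i2⟩ := ih x hx
      have j1 := phi_sub_mem_one k y hy
      have j2 := phi_mem_one k y hy
      constructor
      · have : phi k (x * y) - (k : MvPolynomial σ ℤ) ^ (m + 1 + 1) * (x * y) =
            (phi k x - (k : MvPolynomial σ ℤ) ^ (m + 1) * x) * phi k y +
              (k : MvPolynomial σ ℤ) ^ (m + 1) * (x * (phi k y - (k : MvPolynomial σ ℤ) * y)) := by
          rw [map_mul]; ring
        rw [this]
        refine Ideal.add_mem _ ?_ (Ideal.mul_mem_left _ _ ?_)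
        · have := Ideal.mul_mem_mul i1 j2
          rwa [← pow_succ] at this
        · have := Ideal.mul_mem_mul hx j1
          rwa [← pow_add] at this
      · rw [map_mul, pow_succ]
        exact Ideal.mul_mem_mul i2 j2
    · intro x y hx hy
      constructor
      · have : phi k (x + y) - (k : MvPolynomial σ ℤ) ^ (m + 1 + 1) * (x + y) =
            (phi k x - (k : MvPolynomial σ ℤ) ^ (m + 1 + 1) * x) +
              (phi k y - (k : MvPolynomial σ ℤ) ^ (m + 1 + 1) * y) := by
          rw [map_add]; ring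
        rw [this]; exact Ideal.add_mem _ hx.1 hy.1
      · rw [map_add]; exact Ideal.add_mem _ hx.2 hy.2

/-- `ψ^k = expand k` multiplies by `k^m` on `Iu m / Iu (m+1)`. -/
theorem expand_sub_mem (k m : ℕ) (f : MvPolynomial σ ℤ) (hf : f ∈ Iu σ (m + 1)) :
    expand k f - (k : MvPolynomial σ ℤ) ^ (m + 1) * f ∈ Iu σ (m + 2) ∧ expand k f ∈ Iu σ (m + 1) := by
  obtain ⟨h1, h2⟩ := phi_sub_mem k m (tauInv σ f) hf
  have e1 : expand k f = tau σ (phi k (tauInv σ f)) := by
    rw [← expand_tau, tau_tauInv]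
  constructor
  · have : expand k f - (k : MvPolynomial σ ℤ) ^ (m + 1) * f =
        tau σ (phi k (tauInv σ f) - (k : MvPolynomial σ ℤ) ^ (m + 1) * tauInv σ f) := by
      rw [map_sub, map_mul, tau_tauInv, ← e1]; simp
    rw [this]; exact tau_mem_Iu h1
  · rw [e1]; exact tau_mem_Iu h2

end Expand

/-- the quotients of the filtration have no torsion. -/
lemma Iu_torsion_free (n : ℕ) (k : ℕ) (f : MvPolynomial σ ℤ)
    (h : ((k : MvPolynomial σ ℤ) + 1) * f ∈ Iu σ n) : f ∈ Iu σ n := by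
  rw [mem_Iu, mem_pow_idealOfVars_iff'] at h ⊢
  intro x hx
  have h1 := h x hx
  rw [map_mul, map_add, map_natCast, map_one] at h1
  have h2 : ((k : MvPolynomial σ ℤ) + 1) = C ((k : ℤ) + 1) := by simp
  rw [h2, coeff_C_mul] at h1
  rcases mul_eq_zero.1 h1 with h3 | h3
  · exfalso; omega
  · exact h3

/-- every `Iu m` is a λ-ideal. -/
theorem lam_mem_Iu (m : ℕ) (f : MvPolynomial σ ℤ) (hf : f ∈ Iu σ m) :
    ∀ j, 1 ≤ j → lam j f ∈ Iu σ m := by
  rcases m with _ | m
  · intro j _; rw [Iu_zero]; trivial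
  intro j
  induction j using Nat.strong_induction_on with
  | _ j ih =>
    intro hj
    obtain ⟨k, rfl⟩ : ∃ i, j = i + 1 := ⟨j - 1, by omega⟩
    have hrel := Groth.Agent.Lib27.Newton.rel_lam f (k + 1) k (Nat.lt_succ_self k)
    apply Iu_torsion_free (m + 1) k
    rw [hrel]
    refine Ideal.mul_mem_left _ _ (Ideal.sum_mem _ fun i hi => ?_)
    rw [Finset.mem_range] at hi
    have hpsi : adamsOp (k + 1 - i) f ∈ Iu σ (m + 1) := by
      rw [adamsOp_eq_expand σ (k + 1 - i) (by omega)]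
      exact (expand_sub_mem (k + 1 - i) m f hf).2
    exact Ideal.mul_mem_left _ _ hpsi

/-- **Leading term in the model**: for `f ∈ Iu m`, `m ≥ 1`,
`λ^{k+1}(f) ≡ (-1)^k (k+1)^{m-1} f` modulo `Iu (m+1)`. -/
theorem lam_sub_mem_Iu (m : ℕ) (f : MvPolynomial σ ℤ) (hf : f ∈ Iu σ (m + 1)) (k : ℕ) :
    lam (k + 1) f - (-1) ^ k * ((k : MvPolynomial σ ℤ) + 1) ^ m * f ∈ Iu σ (m + 2) := by
  have hrel := Groth.Agent.Lib27.Newton.rel_lam f (k + 1) k (Nat.lt_succ_self k)
  apply Iu_torsion_free (m + 2) k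
  have hsplit : ((k : MvPolynomial σ ℤ) + 1) *
      (lam (k + 1) f - (-1) ^ k * ((k : MvPolynomial σ ℤ) + 1) ^ m * f) =
      (-1) ^ k * (adamsOp (k + 1) f - ((k : MvPolynomial σ ℤ) + 1) ^ (m + 1) * f) +
        (-1) ^ k * ∑ j ∈ range k, (-1) ^ (j + 1) * lam (j + 1) f * adamsOp (k + 1 - (j + 1)) f := by
    rw [mul_sub, hrel, Finset.sum_range_succ']
    simp only [pow_zero, one_mul, Nat.sub_zero, LambdaOps.lam_zero]
    ring
  rw [hsplit]
  refine Ideal.add_mem _ (Ideal.mul_mem_left _ _ ?_) (Ideal.mul_mem_left _ _ (Ideal.sum_mem _ fun j hj => ?_))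
  · rw [adamsOp_eq_expand σ (k + 1) (by omega)]
    have := (expand_sub_mem (k + 1) m f hf).1
    simpa using this
  · rw [Finset.mem_range] at hj
    have h1 : lam (j + 1) f ∈ Iu σ (m + 1) := lam_mem_Iu (m + 1) f hf (j + 1) (by omega)
    have h2 : adamsOp (k + 1 - (j + 1)) f ∈ Iu σ (m + 1) := by
      rw [adamsOp_eq_expand σ _ (by omega)]
      exact (expand_sub_mem _ m f hf).2
    rw [mul_assoc]
    refine Ideal.mul_mem_left _ _ ?_
    exact Iu_anti (by omega) (Iu_mul h1 h2)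

end Groth.Agent.Lib27.LModel
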