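import Mathlib
import Groth.Agent.Lib27.LModelFil
import Groth.Agent.Lib27.SymmPoly

/-!
# Universal polynomials in two elements and the transfer of weight bounds from the model
-/

set_option autoImplicit false
open LambdaRing LambdaRing.LambdaOps Finset MvPolynomial

namespace Groth.Agent.Lib27.LUniv

open Groth.Agent.Lib27.LOps Groth.Agent.Lib27.LModel

/-- polynomials in two countable families of variables. -/
abbrev Lam2 := MvPolynomial (ℕ ⊕ ℕ) ℤ

/-- weight `j+1` for the `j`-th variable of either family. -/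
def wt2 : ℕ ⊕ ℕ → ℕ := Sum.elim (fun j => j + 1) (fun j => j + 1)

section LamOfGam
variable {R : Type*} [CommRing R]

/-- recover the `λ^k` from the `γ^k`. -/
noncomputable def lamOfGam (g : ℕ → R) : ℕ → R
  | 0 => 1
  | k + 1 => g (k + 1) - ∑ i : Fin k, (k.choose i : R) * lamOfGam g ((i : ℕ) + 1)
termination_by k => k
decreasing_by omega

lemma lamOfGam_succ (g : ℕ → R) (k : ℕ) :
    lamOfGam g (k + 1) = g (k + 1) - ∑ i ∈ range k, (k.choose i : R) * lamOfGam g (i + 1) := by
  rw [lamOfGam, Fin.sum_univ_eq_sum_range (fun i => (k.choose i : R) * lamOfGam g (i + 1)) k]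

lemma map_lamOfGam {S : Type*} [CommRing S] (f : R →+* S) (g : ℕ → R) (k : ℕ) :
    f (lamOfGam g k) = lamOfGam (fun i => f (g i)) k := by
  induction k using Nat.strong_induction_on with
  | _ k ih =>
    rcases k with _ | k
    · simp [lamOfGam]
    · rw [lamOfGam_succ, lamOfGam_succ, map_sub, map_sum]
      congr 1
      refine Finset.sum_congr rfl fun i hi => ?_
      rw [Finset.mem_range] at hi
      rw [map_mul, map_natCast, ih (i + 1) (by omega)]

end LamOfGam

section Ev
variable {A : Type*} [CommRing A] [LambdaOps A]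

/-- evaluation at the `λ^j` of two elements. -/
noncomputable def evL (x y : A) : Lam2 →ₐ[ℤ] A :=
  aeval (Sum.elim (fun j => lam (j + 1) x) (fun j => lam (j + 1) y))

/-- evaluation at the `γ^j` of two elements. -/
noncomputable def evG (x y : A) : Lam2 →ₐ[ℤ] A :=
  aeval (Sum.elim (fun j => gamma (j + 1) x) (fun j => gamma (j + 1) y))

lemma lamOfGam_gamma (x : A) (k : ℕ) : lamOfGam (fun i => gamma i x) k = lam k x := by
  induction k using Nat.strong_induction_on with
  | _ k ih =>
    rcases k with _ | k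
    · simp [lamOfGam, LambdaOps.lam_zero]
    · rw [lamOfGam_succ, lam_succ_eq]
      congr 1
      refine Finset.sum_congr rfl fun i hi => ?_
      rw [Finset.mem_range] at hi
      rw [ih (i + 1) (by omega)]

/-- the `k`-th variable of a family, with `1` in degree `0`. -/
noncomputable def gX (ι : ℕ → ℕ ⊕ ℕ) (k : ℕ) : Lam2 := if k = 0 then 1 else X (ι (k - 1))

/-- change of coordinates: a polynomial in the `λ^j` rewritten in the `γ^j`. -/
noncomputable def conv : Lam2 →ₐ[ℤ] Lam2 :=
  aeval (Sum.elim (fun j => lamOfGam (gX Sum.inl) (j + 1)) (fun j => lamOfGam (gX Sum.inr) (j + 1)))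

lemma evG_gX_inl (x y : A) (k : ℕ) : evG x y (gX Sum.inl k) = gamma k x := by
  unfold gX
  split_ifs with h
  · subst h; simp [Groth.Agent.Lib27.Gamma.gamma_zero]
  · obtain ⟨j, rfl⟩ : ∃ j, k = j + 1 := ⟨k - 1, by omega⟩
    simp [evG]

lemma evG_gX_inr (x y : A) (k : ℕ) : evG x y (gX Sum.inr k) = gamma k y := by
  unfold gX
  split_ifs with h
  · subst h; simp [Groth.Agent.Lib27.Gamma.gamma_zero]
  · obtain ⟨j, rfl⟩ : ∃ j, k = j + 1 := ⟨k - 1, by omega⟩
    simp [evG]

lemma evG_conv (x y : A) (R : Lam2) : evG x y (conv R) = evL x y R := by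
  have : (evG x y).comp conv = evL x y := by
    apply MvPolynomial.algHom_ext
    rintro (j | j)
    · rw [AlgHom.comp_apply]
      simp only [conv, evL, aeval_X, Sum.elim_inl]
      have := map_lamOfGam (evG x y).toRingHom (gX Sum.inl) (j + 1)
      simp only [AlgHom.toRingHom_eq_coe, RingHom.coe_coe] at this
      rw [this]
      simp only [evG_gX_inl]
      exact lamOfGam_gamma x (j + 1)
    · rw [AlgHom.comp_apply]
      simp only [conv, evL, aeval_X, Sum.elim_inr]
      have := map_lamOfGam (evG x y).toRingHom (gX Sum.inr) (j + 1)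
      simp only [AlgHom.toRingHom_eq_coe, RingHom.coe_coe] at this
      rw [this]
      simp only [evG_gX_inr]
      exact lamOfGam_gamma y (j + 1)
  exact DFunLike.congr_fun this R

/-- the embedding of finitely many variables. -/
def iotaN (N : ℕ) : Fin N ⊕ Fin N → ℕ ⊕ ℕ := Sum.map Fin.val Fin.val

lemma iotaN_injective (N : ℕ) : Function.Injective (iotaN N) :=
  Function.Injective.sumMap Fin.val_injective Fin.val_injective

/-- the universal polynomial for `λ^k(xy)`. -/
noncomputable def R1 (k : ℕ) : Lam2 := rename (iotaN k) (Pmul k)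

lemma evL_R1 (hA : IsSpecial A) (x y : A) (k : ℕ) : evL x y (R1 k) = lam k (x * y) := by
  rw [hA.lam_mul k (Pmul k) (isMulPoly_Pmul k), R1, evL, aeval_rename]
  congr 1
  ext v
  rcases v with i | i <;> simp [iotaN]

/-- the universal polynomial for `γ^{k+1}(xy)`. -/
noncomputable def R1g (k : ℕ) : Lam2 := ∑ i ∈ range (k + 1), (k.choose i : Lam2) * R1 (i + 1)

lemma evL_R1g (hA : IsSpecial A) (x y : A) (k : ℕ) : evL x y (R1g k) = gamma (k + 1) (x * y) := by
  rw [gamma_succ_eq, R1g, map_sum]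
  refine Finset.sum_congr rfl fun i _ => ?_
  rw [map_mul, map_natCast, evL_R1 hA]

/-- `λ^s(x)` as a polynomial, with `1` for `s = 0`. -/
noncomputable def Xs (s : ℕ) : Lam2 := if s = 0 then 1 else X (Sum.inl (s - 1))

lemma evL_Xs (x y : A) (s : ℕ) : evL x y (Xs s) = lam s x := by
  unfold Xs
  split_ifs with h
  · subst h; simp [LambdaOps.lam_zero]
  · obtain ⟨j, rfl⟩ : ∃ j, s = j + 1 := ⟨s - 1, by omega⟩
    simp [evL]

/-- `λ^{l+1}(x + m)` as a polynomial. -/
noncomputable def Sh (m l : ℕ) : Lam2 := ∑ s ∈ range (l + 2), Xs s * ((m.choose (l + 1 - s) : ℕ) : Lam2)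

lemma evL_Sh (hA : IsSpecial A) (x y : A) (m l : ℕ) :
    evL x y (Sh m l) = lam (l + 1) (x + (m : A)) := by
  rw [LambdaOps.lam_add, Sh, map_sum]
  refine Finset.sum_congr rfl fun s _ => ?_
  rw [map_mul, evL_Xs, map_natCast, Groth.Agent.Lib27.Lam.lam_natCast hA.lam_one_eq_zero]

/-- the universal polynomial for `λ^j(γ^{i+1} x)`. -/
noncomputable def R2 (i j : ℕ) : Lam2 :=
  aeval (fun l : Fin ((i + 1) * j) => Sh i l) (Qcomp (i + 1) j)

lemma evL_R2 (hA : IsSpecial A) (x y : A) (i j : ℕ) :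
    evL x y (R2 i j) = lam j (gamma (i + 1) x) := by
  rw [Groth.Agent.Lib27.Lam.gamma_eq_lam hA.lam_one_eq_zero]
  have e : x + ((i + 1 : ℕ) : A) - 1 = x + (i : A) := by push_cast; ring
  rw [e, hA.lam_lam (i + 1) j (Qcomp (i + 1) j) (isCompPoly_Qcomp (i + 1) j), R2]
  have := Groth.Agent.Lib27.Special.map_aeval_int (evL x y).toRingHom
    (fun l : Fin ((i + 1) * j) => Sh i l) (Qcomp (i + 1) j)
  simp only [AlgHom.toRingHom_eq_coe, RingHom.coe_coe] at this
  rw [this]
  have e2 : (fun l : Fin ((i + 1) * j) => evL x y (Sh i l)) =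
      fun k : Fin ((i + 1) * j) => lam ((k : ℕ) + 1) (x + (i : A)) :=
    funext fun l => evL_Sh hA x y i l
  rw [e2]

/-- the universal polynomial for `γ^{k+1}(γ^{i+1} x)`. -/
noncomputable def R2g (i k : ℕ) : Lam2 := ∑ j ∈ range (k + 1), (k.choose j : Lam2) * R2 i (j + 1)

lemma evL_R2g (hA : IsSpecial A) (x y : A) (i k : ℕ) :
    evL x y (R2g i k) = gamma (k + 1) (gamma (i + 1) x) := by
  rw [gamma_succ_eq, R2g, map_sum]
  refine Finset.sum_congr rfl fun j _ => ?_
  rw [map_mul, map_natCast, evL_R2 hA]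

end Ev

section Consumer
variable {A : Type*} [CommRing A] [LambdaOps A]

lemma pow_mem_F (F : ℕ → Ideal A) (hmul : ∀ a b, F a * F b ≤ F (a + b)) (h0 : F 0 = ⊤)
    (a : ℕ) (z : A) (hz : z ∈ F a) (k : ℕ) : z ^ k ∈ F (k * a) := by
  induction k with
  | zero => rw [Nat.zero_mul, h0]; trivial
  | succ k ih =>
    rw [pow_succ, Nat.succ_mul]
    exact hmul _ _ (Ideal.mul_mem_mul ih hz)

/-- a polynomial all of whose monomials have weight `≥ w`, evaluated at the `γ^j` of two elements
whose `γ^j` lie in `F j`, lies in `F w`. -/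
theorem evG_mem_of_weight (F : ℕ → Ideal A) (hanti : Antitone F)
    (hmul : ∀ a b, F a * F b ≤ F (a + b)) (h0 : F 0 = ⊤) (x y : A)
    (hx : ∀ k, 1 ≤ k → gamma k x ∈ F k) (hy : ∀ k, 1 ≤ k → gamma k y ∈ F k)
    (R : Lam2) (w : ℕ) (hR : ∀ d ∈ R.support, w ≤ Finsupp.weight wt2 d) : evG x y R ∈ F w := by
  classical
  rw [← MvPolynomial.support_sum_monomial_coeff R, map_sum]
  refine Ideal.sum_mem _ fun d hd => ?_
  refine hanti (hR d hd) ?_
  rw [evG, aeval_monomial]
  refine Ideal.mul_mem_left _ _ ?_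
  set g : ℕ ⊕ ℕ → A := Sum.elim (fun j => gamma (j + 1) x) (fun j => gamma (j + 1) y) with hg
  have hgv : ∀ v, g v ∈ F (wt2 v) := by
    rintro (j | j)
    · exact hx (j + 1) (by omega)
    · exact hy (j + 1) (by omega)
  clear hd
  induction d using Finsupp.induction with
  | zero => simp [h0]
  | single_add v k f hv hk ih =>
    have e1 : (Finsupp.single v k + f).prod (fun i k => g i ^ k) =
        g v ^ k * f.prod (fun i k => g i ^ k) := by
      rw [Finsupp.prod_add_index' (h := fun i k => g i ^ k) (fun _ => pow_zero _)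
        (fun _ _ _ => pow_add _ _ _),
        Finsupp.prod_single_index (h := fun i k => g i ^ k) (pow_zero _)]
    rw [e1, map_add]
    refine hmul _ _ (Ideal.mul_mem_mul ?_ ih)
    rw [Finsupp.weight_single]
    exact pow_mem_F F hmul h0 _ _ (hgv v) k

end Consumer

section Transfer

attribute [local instance] modelOps

/-- the sum of the `u_a - 1`, first family. -/
noncomputable def x0 (N : ℕ) : MvPolynomial (Fin N ⊕ Fin N) ℤ :=
  ∑ a : Fin N, X (Sum.inl a) - (N : MvPolynomial (Fin N ⊕ Fin N) ℤ)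

/-- the sum of the `v_b - 1`, second family. -/
noncomputable def y0 (N : ℕ) : MvPolynomial (Fin N ⊕ Fin N) ℤ :=
  ∑ a : Fin N, X (Sum.inr a) - (N : MvPolynomial (Fin N ⊕ Fin N) ℤ)

lemma gamma_x0 (N k : ℕ) :
    gamma k (x0 N) = tau (Fin N ⊕ Fin N) (rename Sum.inl (esymm (Fin N) ℤ k)) := by
  classical
  have h := Groth.Agent.Lib27.Lam.gamma_sum_sub_card (K := MvPolynomial (Fin N ⊕ Fin N) ℤ)
    (lam_one_model _) (fun a : Fin N => (X (Sum.inl a) : MvPolynomial (Fin N ⊕ Fin N) ℤ))
    (fun a => lam_X _ (Sum.inl a)) Finset.univ k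
  rw [Finset.card_univ, Fintype.card_fin] at h
  rw [x0, h, esymm, map_sum, map_sum]
  refine Finset.sum_congr rfl fun t _ => ?_
  rw [map_prod, map_prod]
  refine Finset.prod_congr rfl fun i _ => ?_
  simp [tau]

lemma gamma_y0 (N k : ℕ) :
    gamma k (y0 N) = tau (Fin N ⊕ Fin N) (rename Sum.inr (esymm (Fin N) ℤ k)) := by
  classical
  have h := Groth.Agent.Lib27.Lam.gamma_sum_sub_card (K := MvPolynomial (Fin N ⊕ Fin N) ℤ)
    (lam_one_model _) (fun a : Fin N => (X (Sum.inr a) : MvPolynomial (Fin N ⊕ Fin N) ℤ))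
    (fun a => lam_X _ (Sum.inr a)) Finset.univ k
  rw [Finset.card_univ, Fintype.card_fin] at h
  rw [y0, h, esymm, map_sum, map_sum]
  refine Finset.sum_congr rfl fun t _ => ?_
  rw [map_prod, map_prod]
  refine Finset.prod_congr rfl fun i _ => ?_
  simp [tau]

lemma evG_model (N : ℕ) (q : MvPolynomial (Fin N ⊕ Fin N) ℤ) :
    evG (x0 N) (y0 N) (rename (iotaN N) q) =
      tau (Fin N ⊕ Fin N) (Groth.Agent.Lib27.SymmPoly.Phi ℤ N q) := by
  have : ((evG (x0 N) (y0 N)).toRingHom).comp (rename (iotaN N)).toRingHom =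
      ((tau (Fin N ⊕ Fin N)).toRingHom).comp (Groth.Agent.Lib27.SymmPoly.Phi ℤ N).toRingHom := by
    apply MvPolynomial.ringHom_ext
    · intro r
      simp [evG, tau, Groth.Agent.Lib27.SymmPoly.Phi]
    · rintro (k | k)
      · simp only [AlgHom.toRingHom_eq_coe, RingHom.coe_comp, RingHom.coe_coe, Function.comp_apply,
          rename_X, Groth.Agent.Lib27.SymmPoly.Phi, aeval_X, evG, iotaN, Sum.map_inl, Sum.elim_inl]
        rw [gamma_x0]
      · simp only [AlgHom.toRingHom_eq_coe, RingHom.coe_comp, RingHom.coe_coe, Function.comp_apply,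
          rename_X, Groth.Agent.Lib27.SymmPoly.Phi, aeval_X, evG, iotaN, Sum.map_inr, Sum.elim_inr]
        rw [gamma_y0]
  exact RingHom.congr_fun this q

/-- weights of the finitely many variables. -/
def wtN (N : ℕ) : Fin N ⊕ Fin N → ℕ := Sum.elim (fun k => (k : ℕ) + 1) (fun k => (k : ℕ) + 1)

lemma weight_mapDomain_iotaN (N : ℕ) (d : Fin N ⊕ Fin N →₀ ℕ) :
    Finsupp.weight wt2 (Finsupp.mapDomain (iotaN N) d) = Finsupp.weight (wtN N) d := by
  rw [Finsupp.weight_apply, Finsupp.weight_apply, Finsupp.sum_mapDomain_index (by simp)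
    (by intro a b c; rw [add_smul])]
  refine Finsupp.sum_congr fun v _ => ?_
  rcases v with i | i <;> simp [iotaN, wt2, wtN]

lemma exists_fin (R : Lam2) : ∃ (N : ℕ) (q : MvPolynomial (Fin N ⊕ Fin N) ℤ), rename (iotaN N) q = R := by
  classical
  refine ⟨R.vars.sup (Sum.elim id id) + 1, ?_⟩
  apply exists_rename_eq_of_vars_subset_range R _ (iotaN_injective _)
  intro v hv
  have hle : Sum.elim id id v ≤ R.vars.sup (Sum.elim id id) := Finset.le_sup (f := Sum.elim id id) hv
  rcases v with j | j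
  · exact ⟨Sum.inl ⟨j, Nat.lt_succ_of_le hle⟩, rfl⟩
  · exact ⟨Sum.inr ⟨j, Nat.lt_succ_of_le hle⟩, rfl⟩

/-- **Transfer**: if the values of `R` (in the `γ`-coordinates) on the universal elements of all
models lie in the `w`-th power of the augmentation ideal, every monomial of `R` has weight `≥ w`. -/
theorem transfer (R : Lam2) (w : ℕ)
    (h : ∀ N, evG (x0 N) (y0 N) R ∈ Iu (Fin N ⊕ Fin N) w) :
    ∀ d ∈ R.support, w ≤ Finsupp.weight wt2 d := by
  classical
  obtain ⟨N, q, rfl⟩ := exists_fin R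
  intro d hd
  rw [support_rename_of_injective (iotaN_injective N), Finset.mem_image] at hd
  obtain ⟨d', hd', rfl⟩ := hd
  rw [weight_mapDomain_iotaN]
  by_contra hlt
  push Not at hlt
  have hN := h N
  rw [evG_model, mem_Iu, tauInv_tau, mem_pow_idealOfVars_iff'] at hN
  have hhom : ∀ v, ((Sum.elim (fun k : Fin N => rename Sum.inl (esymm (Fin N) ℤ ((k : ℕ) + 1)))
      (fun k : Fin N => rename Sum.inr (esymm (Fin N) ℤ ((k : ℕ) + 1)))) v :
        MvPolynomial (Fin N ⊕ Fin N) ℤ).IsHomogeneous (wtN N v) := by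
    rintro (k | k)
    · exact (Groth.Agent.Lib27.SymmPoly.esymm_isHomogeneous (R := ℤ) (Fin N) _).rename_isHomogeneous
    · exact (Groth.Agent.Lib27.SymmPoly.esymm_isHomogeneous (R := ℤ) (Fin N) _).rename_isHomogeneous
  have hcomp := Groth.Agent.Lib27.SymmPoly.homogeneousComponent_aeval (R := ℤ) (wtN N) _ hhom
    (Finsupp.weight (wtN N) d') q
  have hzero : homogeneousComponent (Finsupp.weight (wtN N) d')
      (Groth.Agent.Lib27.SymmPoly.Phi ℤ N q) = 0 := by
    ext m
    rw [coeff_homogeneousComponent, coeff_zero]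
    split_ifs with hm
    · exact hN m (by rw [hm]; exact hlt)
    · rfl
  have hP : Groth.Agent.Lib27.SymmPoly.Phi ℤ N
      (weightedHomogeneousComponent (wtN N) (Finsupp.weight (wtN N) d') q) = 0 := by
    rw [← hzero]; exact hcomp.symm
  have hq0 : weightedHomogeneousComponent (wtN N) (Finsupp.weight (wtN N) d') q = 0 := by
    apply Groth.Agent.Lib27.SymmPoly.Phi_injective ℤ N
    rw [hP, map_zero]
  have hc := congrArg (coeff d') hq0
  rw [coeff_weightedHomogeneousComponent, if_pos rfl, coeff_zero] at hc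
  exact (mem_support_iff.1 hd') hc

end Transfer

end Groth.Agent.Lib27.LUniv
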