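import Mathlib
import Groth.Agent.Lib27.LUniv

/-!
# Consequences of the transfer principle: weight bounds for `γ^k(xy)`, `γ^k(γ^i x)`, and leading terms
-/

set_option autoImplicit false
open LambdaRing LambdaRing.LambdaOps Finset MvPolynomial

namespace Groth.Agent.Lib27.LCons

open Groth.Agent.Lib27.LOps Groth.Agent.Lib27.LModel Groth.Agent.Lib27.LUniv

section ModelFacts
attribute [local instance] modelOps

lemma x0_mem (N : ℕ) : x0 N ∈ Iu (Fin N ⊕ Fin N) 1 := by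
  rw [mem_Iu_one_iff, x0, map_sub, map_sum, map_natCast]
  simp [aug]

lemma y0_mem (N : ℕ) : y0 N ∈ Iu (Fin N ⊕ Fin N) 1 := by
  rw [mem_Iu_one_iff, y0, map_sub, map_sum, map_natCast]
  simp [aug]

lemma gamma_mem_Iu' (N : ℕ) (f : MvPolynomial (Fin N ⊕ Fin N) ℤ) (m : ℕ)
    (hf : f ∈ Iu (Fin N ⊕ Fin N) (m + 1)) (k : ℕ) :
    gamma (k + 1) f ∈ Iu (Fin N ⊕ Fin N) (max (k + 1) (m + 1)) := by
  have h1 : gamma (k + 1) f ∈ Iu (Fin N ⊕ Fin N) (k + 1) :=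
    gamma_mem_Iu f (Iu_anti (by omega) hf) (k + 1)
  have h2 : gamma (k + 1) f ∈ Iu (Fin N ⊕ Fin N) (m + 1) :=
    gamma_mem_of_lam_mem _ f (lam_mem_Iu (m + 1) f hf) (k + 1) (by omega)
  rcases le_total (k + 1) (m + 1) with h | h
  · rwa [max_eq_right h]
  · rwa [max_eq_left h]

end ModelFacts

variable {A : Type*} [CommRing A] [LambdaOps A]

/-- **`γ^k(xy)` has weight `≥ k`.** -/
theorem gamma_mul_mem (hA : IsSpecial A) (F : ℕ → Ideal A) (hanti : Antitone F)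
    (hmul : ∀ a b, F a * F b ≤ F (a + b)) (h0 : F 0 = ⊤) (x y : A)
    (hx : ∀ k, 1 ≤ k → gamma k x ∈ F k) (hy : ∀ k, 1 ≤ k → gamma k y ∈ F k) (k : ℕ) :
    gamma (k + 1) (x * y) ∈ F (k + 1) := by
  rw [← evL_R1g hA x y k, ← evG_conv]
  apply evG_mem_of_weight F hanti hmul h0 x y hx hy
  apply transfer
  intro N
  let _ := modelOps (Fin N ⊕ Fin N)
  rw [evG_conv, evL_R1g (isSpecial_model _)]
  exact gamma_mem_Iu _ (Iu_anti (by omega) (Iu_mul (x0_mem N) (y0_mem N))) (k + 1)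

/-- **`γ^k(γ^i x)` has weight `≥ max k i`.** -/
theorem gamma_gamma_mem (hA : IsSpecial A) (F : ℕ → Ideal A) (hanti : Antitone F)
    (hmul : ∀ a b, F a * F b ≤ F (a + b)) (h0 : F 0 = ⊤) (x : A)
    (hx : ∀ k, 1 ≤ k → gamma k x ∈ F k) (i k : ℕ) :
    gamma (k + 1) (gamma (i + 1) x) ∈ F (max (k + 1) (i + 1)) := by
  rw [← evL_R2g hA x 0 i k, ← evG_conv]
  apply evG_mem_of_weight F hanti hmul h0 x 0 hx
  · intro j hj
    rw [Groth.Agent.Lib27.GammaFil.gamma_zero_arg j hj]; exact zero_mem _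
  apply transfer
  intro N
  let _ := modelOps (Fin N ⊕ Fin N)
  rw [evG_conv, evL_R2g (isSpecial_model _)]
  apply gamma_mem_Iu'
  rw [gamma_x0]
  apply tau_mem_Iu
  rw [mem_pow_idealOfVars_iff]
  intro d hd
  have h := (Groth.Agent.Lib27.SymmPoly.esymm_isHomogeneous (R := ℤ) (Fin N) (i + 1)).rename_isHomogeneous
    (f := (Sum.inl : Fin N → Fin N ⊕ Fin N)) (mem_support_iff.1 hd)
  have h2 : Finsupp.degree d = Finsupp.weight (1 : Fin N ⊕ Fin N → ℕ) d := by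
    rw [Finsupp.degree_eq_weight_one]; rfl
  omega

/-- **Leading term of `λ^{k+1}(γ^{i+1} x)`.** -/
theorem lam_gamma_sub_mem (hA : IsSpecial A) (F : ℕ → Ideal A) (hanti : Antitone F)
    (hmul : ∀ a b, F a * F b ≤ F (a + b)) (h0 : F 0 = ⊤) (x : A)
    (hx : ∀ k, 1 ≤ k → gamma k x ∈ F k) (i k : ℕ) :
    lam (k + 1) (gamma (i + 1) x) - (((-1) ^ k * ((k : ℤ) + 1) ^ i : ℤ) : A) * gamma (i + 1) x ∈
      F (i + 2) := by
  have e : lam (k + 1) (gamma (i + 1) x) - (((-1) ^ k * ((k : ℤ) + 1) ^ i : ℤ) : A) * gamma (i + 1) x =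
      evG x 0 (conv (R2 i (k + 1)) - C ((-1) ^ k * ((k : ℤ) + 1) ^ i) * X (Sum.inl i)) := by
    rw [map_sub, evG_conv, evL_R2 hA, map_mul]
    simp [evG]
  rw [e]
  apply evG_mem_of_weight F hanti hmul h0 x 0 hx
  · intro j hj
    rw [Groth.Agent.Lib27.GammaFil.gamma_zero_arg j hj]; exact zero_mem _
  apply transfer
  intro N
  let _ := modelOps (Fin N ⊕ Fin N)
  have hm : gamma (i + 1) (x0 N) ∈ Iu (Fin N ⊕ Fin N) (i + 1) :=
    gamma_mem_Iu _ (x0_mem N) (i + 1)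
  have := lam_sub_mem_Iu i (gamma (i + 1) (x0 N)) hm k
  rw [map_sub, evG_conv, evL_R2 (isSpecial_model _), map_mul]
  simp only [evG, aeval_C, aeval_X, Sum.elim_inl]
  convert this using 2
  simp

section Pkk
attribute [local instance] modelOps

/-- the coefficient of `X_k Y_k` in `P_k` is `(-1)^{k-1} k`. -/
theorem pkk_eq (n : ℕ) : pkk (n + 1) = (-1) ^ n * ((n : ℤ) + 1) := by
  classical
  set f : MvPolynomial (Fin 1 ⊕ Fin 1) ℤ := X (Sum.inl 0) - 1 with hfdef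
  set g : MvPolynomial (Fin 1 ⊕ Fin 1) ℤ := X (Sum.inr 0) - 1 with hgdef
  have hf : f ∈ Iu (Fin 1 ⊕ Fin 1) 1 := X_sub_one_mem _
  have hg : g ∈ Iu (Fin 1 ⊕ Fin 1) 1 := X_sub_one_mem _
  have h1 := lam_mul_sub_mem (isSpecial_model (Fin 1 ⊕ Fin 1)) (Iu _ 1) (Iu _ 1) f g
    (lam_mem_Iu 1 f hf) (lam_mem_Iu 1 g hg) n
  have hle : Iu (Fin 1 ⊕ Fin 1) 1 ^ 2 * Iu (Fin 1 ⊕ Fin 1) 1 ⊔
      Iu (Fin 1 ⊕ Fin 1) 1 * Iu (Fin 1 ⊕ Fin 1) 1 ^ 2 ≤ Iu (Fin 1 ⊕ Fin 1) 3 :=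
    sup_le ((Ideal.mul_mono_left (Iu_pow_le 1 2)).trans (Iu_mul_le 2 1))
      ((Ideal.mul_mono_right (Iu_pow_le 1 2)).trans (Iu_mul_le 1 2))
  have h2 := hle h1
  have hf2 := lam_sub_mem_Iu 0 f hf n
  have hg2 := lam_sub_mem_Iu 0 g hg n
  have hfg := lam_sub_mem_Iu 1 (f * g) (Iu_mul hf hg) n
  simp only [pow_zero, mul_one, pow_one, zero_add] at hf2 hg2 hfg
  set s : MvPolynomial (Fin 1 ⊕ Fin 1) ℤ := (-1) ^ n with hs
  have hss : s * s = 1 := by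
    rw [hs, ← pow_add, ← two_mul, pow_mul]; simp
  set a := lam (n + 1) f - s * f with ha
  set b := lam (n + 1) g - s * g with hb
  have key : ((pkk (n + 1) : MvPolynomial (Fin 1 ⊕ Fin 1) ℤ) - s * ((n : MvPolynomial (Fin 1 ⊕ Fin 1) ℤ) + 1)) *
      (f * g) ∈ Iu (Fin 1 ⊕ Fin 1) 3 := by
    have e : ((pkk (n + 1) : MvPolynomial (Fin 1 ⊕ Fin 1) ℤ) -
        s * ((n : MvPolynomial (Fin 1 ⊕ Fin 1) ℤ) + 1)) * (f * g) =
        (lam (n + 1) (f * g) - s * ((n : MvPolynomial (Fin 1 ⊕ Fin 1) ℤ) + 1) * (f * g)) -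
        (lam (n + 1) (f * g) - (pkk (n + 1) : MvPolynomial (Fin 1 ⊕ Fin 1) ℤ) *
          (lam (n + 1) f * lam (n + 1) g)) -
        (pkk (n + 1) : MvPolynomial (Fin 1 ⊕ Fin 1) ℤ) * (s * (f * b) + s * (a * g) + a * b) := by
      have e1 : lam (n + 1) f = s * f + a := by rw [ha]; ring
      have e2 : lam (n + 1) g = s * g + b := by rw [hb]; ring
      rw [e1, e2]
      linear_combination (-((pkk (n + 1) : MvPolynomial (Fin 1 ⊕ Fin 1) ℤ) * f * g)) * hss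
    rw [e]
    refine Ideal.sub_mem _ (Ideal.sub_mem _ hfg h2) (Ideal.mul_mem_left _ _ ?_)
    refine Ideal.add_mem _ (Ideal.add_mem _ (Ideal.mul_mem_left _ _ ?_) (Ideal.mul_mem_left _ _ ?_)) ?_
    · exact Iu_mul (a := 1) (b := 2) hf hg2
    · exact Iu_mul (a := 2) (b := 1) hf2 hg
    · exact Iu_anti (by omega) (Iu_mul (a := 2) (b := 2) hf2 hg2)
  set r : ℤ := pkk (n + 1) - (-1) ^ n * ((n : ℤ) + 1) with hr
  have e3 : ((pkk (n + 1) : MvPolynomial (Fin 1 ⊕ Fin 1) ℤ) -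
      s * ((n : MvPolynomial (Fin 1 ⊕ Fin 1) ℤ) + 1)) = C r := by
    rw [hr, hs]; simp
  rw [e3, mem_Iu, mem_pow_idealOfVars_iff'] at key
  have h3 := key (Finsupp.single (Sum.inl 0) 1 + Finsupp.single (Sum.inr 0) 1) (by
    rw [map_add, Finsupp.degree_single, Finsupp.degree_single]; norm_num)
  have e4 : tauInv (Fin 1 ⊕ Fin 1) (C r * (f * g)) = C r * (X (Sum.inl 0) * X (Sum.inr 0)) := by
    rw [hfdef, hgdef]; simp [tauInv]
  rw [e4, coeff_C_mul] at h3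
  have e5 : coeff (Finsupp.single (Sum.inl 0) 1 + Finsupp.single (Sum.inr 0) 1)
      ((X (Sum.inl 0) * X (Sum.inr 0) : MvPolynomial (Fin 1 ⊕ Fin 1) ℤ)) = 1 := by
    rw [X, X, monomial_mul, coeff_monomial, if_pos rfl, mul_one]
  rw [e5, mul_one] at h3
  rw [hr] at h3
  linarith

end Pkk

end Groth.Agent.Lib27.LCons
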