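import Mathlib
import Groth.Agent.Lib27.LCons

/-!
# Asymmetric models: `M` line elements for the first element, `e` for the second
-/

set_option autoImplicit false
open LambdaRing LambdaRing.LambdaOps Finset MvPolynomial

namespace Groth.Agent.Lib27.LAsym

open Groth.Agent.Lib27.LOps Groth.Agent.Lib27.LModel Groth.Agent.Lib27.LUniv

section Inj
variable (R : Type*) [CommRing R] (n₁ n₂ : ℕ)

/-- substitution of the elementary symmetric functions of two families of `n₁`, `n₂` variables. -/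
noncomputable def PhiA : MvPolynomial (Fin n₁ ⊕ Fin n₂) R →ₐ[R] MvPolynomial (Fin n₁ ⊕ Fin n₂) R :=
  aeval (Sum.elim (fun k : Fin n₁ => rename Sum.inl (esymm (Fin n₁) R ((k : ℕ) + 1)))
    (fun k : Fin n₂ => rename Sum.inr (esymm (Fin n₂) R ((k : ℕ) + 1))))

noncomputable def psiYA : MvPolynomial (Fin n₂) R →+* MvPolynomial (Fin n₂) R :=
  (aeval (fun k : Fin n₂ => esymm (Fin n₂) R ((k : ℕ) + 1)) :
    MvPolynomial (Fin n₂) R →ₐ[R] MvPolynomial (Fin n₂) R).toRingHom

noncomputable def PsiXA : MvPolynomial (Fin n₁) (MvPolynomial (Fin n₂) R) →+*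
    MvPolynomial (Fin n₁) (MvPolynomial (Fin n₂) R) :=
  (aeval (fun k : Fin n₁ => esymm (Fin n₁) (MvPolynomial (Fin n₂) R) ((k : ℕ) + 1)) :
    MvPolynomial (Fin n₁) (MvPolynomial (Fin n₂) R) →ₐ[MvPolynomial (Fin n₂) R] _).toRingHom

lemma sumAlgEquiv_rename_inl (p : MvPolynomial (Fin n₁) R) :
    sumAlgEquiv R (Fin n₁) (Fin n₂) (rename Sum.inl p) = map C p := by
  have := DFunLike.congr_fun (sumAlgEquiv_comp_rename_inl (R := R) (S₁ := Fin n₁) (S₂ := Fin n₂)) p
  simpa using this

lemma sumAlgEquiv_rename_inr (p : MvPolynomial (Fin n₂) R) :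
    sumAlgEquiv R (Fin n₁) (Fin n₂) (rename Sum.inr p) = C p := by
  have := DFunLike.congr_fun (sumAlgEquiv_comp_rename_inr (R := R) (S₁ := Fin n₁) (S₂ := Fin n₂)) p
  simpa using this

lemma keyA (p : MvPolynomial (Fin n₁ ⊕ Fin n₂) R) :
    sumAlgEquiv R (Fin n₁) (Fin n₂) (PhiA R n₁ n₂ p) =
      PsiXA R n₁ n₂ (map (psiYA R n₂) (sumAlgEquiv R (Fin n₁) (Fin n₂) p)) := by
  have : ((sumAlgEquiv R (Fin n₁) (Fin n₂)).toAlgHom.toRingHom).comp (PhiA R n₁ n₂).toRingHom =
      (PsiXA R n₁ n₂).comp ((map (psiYA R n₂)).comp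
        ((sumAlgEquiv R (Fin n₁) (Fin n₂)).toAlgHom.toRingHom)) := by
    apply MvPolynomial.ringHom_ext
    · intro r
      simp [PhiA, PsiXA, psiYA]
    · rintro (k | k)
      · simp [PhiA, PsiXA, psiYA, sumAlgEquiv_rename_inl, map_esymm]
      · simp [PhiA, PsiXA, psiYA, sumAlgEquiv_rename_inr]
  exact RingHom.congr_fun this p

theorem PhiA_injective : Function.Injective (PhiA R n₁ n₂) := by
  intro p q h
  have h1 := congrArg (sumAlgEquiv R (Fin n₁) (Fin n₂)) h
  rw [keyA, keyA] at h1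
  exact (sumAlgEquiv R (Fin n₁) (Fin n₂)).injective
    (map_injective _ (Groth.Agent.Lib27.SymmPoly.aeval_esymm_injective R n₂)
      (Groth.Agent.Lib27.SymmPoly.aeval_esymm_injective (MvPolynomial (Fin n₂) R) n₁ h1))

end Inj

section Model
attribute [local instance] modelOps

/-- the sum of the `u_a - 1`, first family (`M` of them). -/
noncomputable def x0A (M e : ℕ) : MvPolynomial (Fin M ⊕ Fin e) ℤ :=
  ∑ a : Fin M, X (Sum.inl a) - (M : MvPolynomial (Fin M ⊕ Fin e) ℤ)

/-- the sum of the `v_b - 1`, second family (`e` of them). -/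
noncomputable def y0A (M e : ℕ) : MvPolynomial (Fin M ⊕ Fin e) ℤ :=
  ∑ a : Fin e, X (Sum.inr a) - (e : MvPolynomial (Fin M ⊕ Fin e) ℤ)

lemma gamma_x0A (M e k : ℕ) :
    gamma k (x0A M e) = tau (Fin M ⊕ Fin e) (rename Sum.inl (esymm (Fin M) ℤ k)) := by
  classical
  have h := Groth.Agent.Lib27.Lam.gamma_sum_sub_card (K := MvPolynomial (Fin M ⊕ Fin e) ℤ)
    (lam_one_model _) (fun a : Fin M => (X (Sum.inl a) : MvPolynomial (Fin M ⊕ Fin e) ℤ))
    (fun a => lam_X _ (Sum.inl a)) Finset.univ k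
  rw [Finset.card_univ, Fintype.card_fin] at h
  rw [x0A, h, esymm, map_sum, map_sum]
  refine Finset.sum_congr rfl fun t _ => ?_
  rw [map_prod, map_prod]
  refine Finset.prod_congr rfl fun i _ => ?_
  simp [tau]

lemma gamma_y0A (M e k : ℕ) :
    gamma k (y0A M e) = tau (Fin M ⊕ Fin e) (rename Sum.inr (esymm (Fin e) ℤ k)) := by
  classical
  have h := Groth.Agent.Lib27.Lam.gamma_sum_sub_card (K := MvPolynomial (Fin M ⊕ Fin e) ℤ)
    (lam_one_model _) (fun a : Fin e => (X (Sum.inr a) : MvPolynomial (Fin M ⊕ Fin e) ℤ))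
    (fun a => lam_X _ (Sum.inr a)) Finset.univ k
  rw [Finset.card_univ, Fintype.card_fin] at h
  rw [y0A, h, esymm, map_sum, map_sum]
  refine Finset.sum_congr rfl fun t _ => ?_
  rw [map_prod, map_prod]
  refine Finset.prod_congr rfl fun i _ => ?_
  simp [tau]

lemma gamma_y0A_eq_zero (M e k : ℕ) (hk : e < k) : gamma k (y0A M e) = 0 := by
  rw [gamma_y0A, esymm, Finset.powersetCard_eq_empty.2 (by simpa using hk)]
  simp

/-- the embedding of the variables. -/
def iotaA (M e : ℕ) : Fin M ⊕ Fin e → ℕ ⊕ ℕ := Sum.map Fin.val Fin.val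

lemma iotaA_injective (M e : ℕ) : Function.Injective (iotaA M e) :=
  Function.Injective.sumMap Fin.val_injective Fin.val_injective

lemma evG_modelA (M e : ℕ) (q : MvPolynomial (Fin M ⊕ Fin e) ℤ) :
    evG (x0A M e) (y0A M e) (rename (iotaA M e) q) = tau (Fin M ⊕ Fin e) (PhiA ℤ M e q) := by
  have : ((evG (x0A M e) (y0A M e)).toRingHom).comp (rename (iotaA M e)).toRingHom =
      ((tau (Fin M ⊕ Fin e)).toRingHom).comp (PhiA ℤ M e).toRingHom := by
    apply MvPolynomial.ringHom_ext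
    · intro r
      simp [evG, tau, PhiA]
    · rintro (k | k)
      · simp only [AlgHom.toRingHom_eq_coe, RingHom.coe_comp, RingHom.coe_coe, Function.comp_apply,
          rename_X, PhiA, aeval_X, evG, iotaA, Sum.map_inl, Sum.elim_inl]
        rw [gamma_x0A]
      · simp only [AlgHom.toRingHom_eq_coe, RingHom.coe_comp, RingHom.coe_coe, Function.comp_apply,
          rename_X, PhiA, aeval_X, evG, iotaA, Sum.map_inr, Sum.elim_inr]
        rw [gamma_y0A]
  exact RingHom.congr_fun this q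

/-- a polynomial not involving the variables `inr k`, `k ≥ e`, which vanishes on the universal
elements of the models with `e` line elements in the second family, is zero. -/
theorem zero_of_modelA (e : ℕ) (R : Lam2)
    (hR : ∀ m ∈ R.support, ∀ k, e ≤ k → m (Sum.inr k) = 0)
    (h : ∀ M, evG (x0A M e) (y0A M e) R = 0) : R = 0 := by
  classical
  set M := R.vars.sup (Sum.elim id id) + 1 with hM
  obtain ⟨q, hq⟩ : ∃ q : MvPolynomial (Fin M ⊕ Fin e) ℤ, rename (iotaA M e) q = R := by
    apply exists_rename_eq_of_vars_subset_range R _ (iotaA_injective _ _)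
    intro v hv
    have hle : Sum.elim id id v ≤ R.vars.sup (Sum.elim id id) := Finset.le_sup (f := Sum.elim id id) hv
    rcases v with j | j
    · exact ⟨Sum.inl ⟨j, Nat.lt_succ_of_le hle⟩, rfl⟩
    · have hj : j < e := by
        by_contra hc
        rw [Finset.mem_coe, mem_vars] at hv
        obtain ⟨m, hm, hmv⟩ := hv
        have := hR m hm j (by omega)
        rw [Finsupp.mem_support_iff] at hmv
        exact hmv this
      exact ⟨Sum.inr ⟨j, hj⟩, rfl⟩
  have h1 := h M
  rw [← hq, evG_modelA] at h1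
  have h2 := congrArg (tauInv (Fin M ⊕ Fin e)) h1
  rw [tauInv_tau, map_zero] at h2
  have h3 : q = 0 := by
    apply PhiA_injective ℤ M e
    rw [h2, map_zero]
  rw [← hq, h3, map_zero]

end Model

end Groth.Agent.Lib27.LAsym
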