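import Groth.Agent.Lib.Helper11.GrLesD
import Groth.Agent.Lib.Helper11.GrLesF
import Groth.Agent.Lib.Helper11.GrLCRes
import Groth.Agent.Lib.Helper11.GrLCH

/-!
# Functoriality of graded local cohomology computed from *injective resolutions

`Hm E E' a q φ δ hφ : E.H a q →ₗ E'.H a q` is the map induced by a homogeneous map `φ` of degree `δ`
(through an arbitrary lift to the resolutions); it is independent of the lift, additive,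
compatible with composition and with homogeneous scalars.
-/

set_option autoImplicit false
set_option linter.unusedSectionVars false
set_option linter.unusedVariables false
universe u

namespace Groth.Agent.Lib27.LD

open DirectSum GrLC Groth.Agent.Lib.Helper11.GrLCLib Groth.Agent.Lib.Helper11.GrLes

variable {ι : Type} [DecidableEq ι] [AddCommGroup ι]
variable {R : Type u} [CommRing R] {𝒜 : ι → AddSubgroup R} [GradedRing 𝒜]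
variable {M : Type u} [AddCommGroup M] [Module R M] {ℳ : ι → AddSubgroup M}
  [DirectSum.Decomposition ℳ] [SetLike.GradedSMul 𝒜 ℳ]
variable {M' : Type u} [AddCommGroup M'] [Module R M'] {ℳ' : ι → AddSubgroup M'}
  [DirectSum.Decomposition ℳ'] [SetLike.GradedSMul 𝒜 ℳ']
variable {M'' : Type u} [AddCommGroup M''] [Module R M''] {ℳ'' : ι → AddSubgroup M''}
  [DirectSum.Decomposition ℳ''] [SetLike.GradedSMul 𝒜 ℳ'']

section CMapExtra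

variable {E : StarInjRes 𝒜 ℳ} {E' : StarInjRes 𝒜 ℳ'} {E'' : StarInjRes 𝒜 ℳ''}

/-- sum of chain maps. -/
def cadd (c c' : CMap E E') : CMap E E' where
  f n := c.f n + c'.f n
  comm n := by rw [LinearMap.add_comp, LinearMap.comp_add, c.comm, c'.comm]

/-- zero chain map. -/
def czero (E : StarInjRes 𝒜 ℳ) (E' : StarInjRes 𝒜 ℳ') : CMap E E' where
  f n := 0
  comm n := by rw [LinearMap.zero_comp, LinearMap.comp_zero]

lemma cadd_isDeg {c c' : CMap E E'} {δ : ι} (h : c.IsDeg δ) (h' : c'.IsDeg δ) :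
    (cadd c c').IsDeg δ := fun n g x hx => add_mem (h n g x hx) (h' n g x hx)

lemma cadd_lifts {c c' : CMap E E'} {φ φ' : M →ₗ[R] M'} (h : c.Lifts φ) (h' : c'.Lifts φ') :
    (cadd c c').Lifts (φ + φ') := by
  unfold CMap.Lifts at *
  change (c.f 0 + c'.f 0) ∘ₗ E.ε = _
  rw [LinearMap.add_comp, LinearMap.comp_add, h, h']

lemma czero_isDeg (δ : ι) : (czero E E').IsDeg δ := fun n g x hx => zero_mem _

lemma czero_lifts : (czero E E').Lifts (0 : M →ₗ[R] M') := by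
  unfold CMap.Lifts
  change (0 : (E.X 0).carrier →ₗ[R] (E'.X 0).carrier) ∘ₗ E.ε = _
  rw [LinearMap.zero_comp, LinearMap.comp_zero]

lemma cadd_Hmap (c c' : CMap E E') (a : HomogeneousIdeal 𝒜) (q : ℕ) :
    (cadd c c').Hmap a q = c.Hmap a q + c'.Hmap a q := by
  apply LinearMap.ext
  intro x
  obtain ⟨z, rfl⟩ := Submodule.mkQ_surjective _ x
  rfl

lemma czero_Hmap (a : HomogeneousIdeal 𝒜) (q : ℕ) :
    (czero E E').Hmap a q = 0 := by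
  apply LinearMap.ext
  intro x
  obtain ⟨z, rfl⟩ := Submodule.mkQ_surjective _ x
  change E'.toH a q ((czero E E').cocycMap a q z) = 0
  have : (czero E E').cocycMap a q z = 0 := by
    apply Subtype.ext
    rfl
  rw [this, map_zero]

end CMapExtra

section Hm

variable (E : StarInjRes 𝒜 ℳ) (E' : StarInjRes 𝒜 ℳ') (E'' : StarInjRes 𝒜 ℳ'')
  (a : HomogeneousIdeal 𝒜) (q : ℕ)

/-- the map induced on `*H^q_a` by a homogeneous map of degree `δ`. -/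
noncomputable def Hm (φ : M →ₗ[R] M') (δ : ι) (hφ : IsGrHomDeg ℳ ℳ' φ δ) :
    E.H a q →ₗ[R] E'.H a q :=
  (exists_cmap E E' φ δ hφ).choose.Hmap a q

variable {E E' E'' a q}

lemma Hm_eq_Hmap {φ : M →ₗ[R] M'} {δ : ι} (hφ : IsGrHomDeg ℳ ℳ' φ δ) {c : CMap E E'}
    (hc : c.IsDeg δ) (hl : c.Lifts φ) : Hm E E' a q φ δ hφ = c.Hmap a q := by
  have hs := (exists_cmap E E' φ δ hφ).choose_spec
  exact CMap.Hmap_eq_of_homotopic a (homotopic_of_lifts _ _ φ δ hs.1 hc hs.2 hl) q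

lemma Hm_congr {φ φ' : M →ₗ[R] M'} {δ δ' : ι} (hφ : IsGrHomDeg ℳ ℳ' φ δ)
    (hφ' : IsGrHomDeg ℳ ℳ' φ' δ') (h : φ = φ') (hδ : δ = δ') :
    Hm E E' a q φ δ hφ = Hm E E' a q φ' δ' hφ' := by
  subst h
  subst hδ
  rfl

lemma isGrHomDeg_id0 : IsGrHomDeg ℳ ℳ (LinearMap.id : M →ₗ[R] M) 0 := fun g x hx => by
  rw [add_zero]; exact hx

lemma isGrHomDeg_comp' {φ : M →ₗ[R] M'} {ψ : M' →ₗ[R] M''} {δ δ' : ι}
    (hφ : IsGrHomDeg ℳ ℳ' φ δ) (hψ : IsGrHomDeg ℳ' ℳ'' ψ δ') :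
    IsGrHomDeg ℳ ℳ'' (ψ ∘ₗ φ) (δ + δ') := fun g x hx => by
  have := hψ _ _ (hφ g x hx)
  rwa [add_assoc] at this

lemma isGrHomDeg_add' {φ φ' : M →ₗ[R] M'} {δ : ι}
    (hφ : IsGrHomDeg ℳ ℳ' φ δ) (hφ' : IsGrHomDeg ℳ ℳ' φ' δ) :
    IsGrHomDeg ℳ ℳ' (φ + φ') δ := fun g x hx => add_mem (hφ g x hx) (hφ' g x hx)

lemma isGrHomDeg_zero' (δ : ι) : IsGrHomDeg ℳ ℳ' (0 : M →ₗ[R] M') δ := fun g x hx => zero_mem _

lemma isGrHomDeg_sum' {β : Type*} (s : Finset β) (φ : β → M →ₗ[R] M') {δ : ι}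
    (hφ : ∀ b ∈ s, IsGrHomDeg ℳ ℳ' (φ b) δ) :
    IsGrHomDeg ℳ ℳ' (∑ b ∈ s, φ b) δ := fun g x hx => by
  rw [LinearMap.sum_apply]
  exact sum_mem fun b hb => hφ b hb g x hx

lemma isGrHomDeg_smul' {φ : M →ₗ[R] M'} {δ κ : ι} {r : R} (hr : r ∈ 𝒜 κ)
    (hφ : IsGrHomDeg ℳ ℳ' φ δ) : IsGrHomDeg ℳ ℳ' (r • φ) (δ + κ) := fun g x hx => by
  rw [LinearMap.smul_apply]
  have := isGrHomDeg_lsmul ℳ' 𝒜 hr _ _ (hφ g x hx)
  rwa [add_assoc] at this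

lemma Hm_id (h : IsGrHomDeg ℳ ℳ (LinearMap.id : M →ₗ[R] M) 0) :
    Hm E E a q LinearMap.id 0 h = LinearMap.id := by
  rw [Hm_eq_Hmap h (CMap.id_isDeg E) (CMap.id_lifts E), CMap.Hmap_id]

lemma Hm_id_apply (h : IsGrHomDeg ℳ ℳ (LinearMap.id : M →ₗ[R] M) 0) (x : E.H a q) :
    Hm E E a q LinearMap.id 0 h x = x := by
  rw [Hm_id]; rfl

lemma Hm_comp {φ : M →ₗ[R] M'} {ψ : M' →ₗ[R] M''} {δ δ' : ι}
    (hφ : IsGrHomDeg ℳ ℳ' φ δ) (hψ : IsGrHomDeg ℳ' ℳ'' ψ δ')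
    (h : IsGrHomDeg ℳ ℳ'' (ψ ∘ₗ φ) (δ + δ')) :
    Hm E E'' a q (ψ ∘ₗ φ) (δ + δ') h = Hm E' E'' a q ψ δ' hψ ∘ₗ Hm E E' a q φ δ hφ := by
  have hs := (exists_cmap E E' φ δ hφ).choose_spec
  have hs' := (exists_cmap E' E'' ψ δ' hψ).choose_spec
  rw [Hm_eq_Hmap h (CMap.comp_isDeg hs'.1 hs.1) (CMap.comp_lifts hs'.2 hs.2), CMap.Hmap_comp]
  rfl

lemma Hm_comp_apply {φ : M →ₗ[R] M'} {ψ : M' →ₗ[R] M''} {δ δ' : ι}
    (hφ : IsGrHomDeg ℳ ℳ' φ δ) (hψ : IsGrHomDeg ℳ' ℳ'' ψ δ')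
    (h : IsGrHomDeg ℳ ℳ'' (ψ ∘ₗ φ) (δ + δ')) (x : E.H a q) :
    Hm E' E'' a q ψ δ' hψ (Hm E E' a q φ δ hφ x) = Hm E E'' a q (ψ ∘ₗ φ) (δ + δ') h x := by
  rw [Hm_comp hφ hψ h]; rfl

/-- composition, with the degree of the composite given separately. -/
lemma Hm_comp_apply' {φ : M →ₗ[R] M'} {ψ : M' →ₗ[R] M''} {χ : M →ₗ[R] M''} {δ δ' ε : ι}
    (hφ : IsGrHomDeg ℳ ℳ' φ δ) (hψ : IsGrHomDeg ℳ' ℳ'' ψ δ')
    (hχ : IsGrHomDeg ℳ ℳ'' χ ε) (hc : ψ ∘ₗ φ = χ) (hε : δ + δ' = ε) (x : E.H a q) :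
    Hm E' E'' a q ψ δ' hψ (Hm E E' a q φ δ hφ x) = Hm E E'' a q χ ε hχ x := by
  rw [Hm_comp_apply hφ hψ (isGrHomDeg_comp' hφ hψ)]
  rw [Hm_congr (isGrHomDeg_comp' hφ hψ) hχ hc hε]

lemma Hm_add {φ φ' : M →ₗ[R] M'} {δ : ι}
    (hφ : IsGrHomDeg ℳ ℳ' φ δ) (hφ' : IsGrHomDeg ℳ ℳ' φ' δ)
    (h : IsGrHomDeg ℳ ℳ' (φ + φ') δ) :
    Hm E E' a q (φ + φ') δ h = Hm E E' a q φ δ hφ + Hm E E' a q φ' δ hφ' := by
  have hs := (exists_cmap E E' φ δ hφ).choose_spec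
  have hs' := (exists_cmap E E' φ' δ hφ').choose_spec
  rw [Hm_eq_Hmap h (cadd_isDeg hs.1 hs'.1) (cadd_lifts hs.2 hs'.2), cadd_Hmap]
  rfl

lemma Hm_zero (δ : ι) (h : IsGrHomDeg ℳ ℳ' (0 : M →ₗ[R] M') δ) :
    Hm E E' a q 0 δ h = 0 := by
  rw [Hm_eq_Hmap h (czero_isDeg δ) czero_lifts, czero_Hmap]

lemma Hm_sum {β : Type*} [DecidableEq β] (s : Finset β) (φ : β → M →ₗ[R] M') {δ : ι}
    (hφ : ∀ b, IsGrHomDeg ℳ ℳ' (φ b) δ)
    (h : IsGrHomDeg ℳ ℳ' (∑ b ∈ s, φ b) δ) :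
    Hm E E' a q (∑ b ∈ s, φ b) δ h = ∑ b ∈ s, Hm E E' a q (φ b) δ (hφ b) := by
  induction s using Finset.induction_on with
  | empty =>
    simp only [Finset.sum_empty]
    exact Hm_zero δ _
  | insert b s hb ih =>
    have h1 : IsGrHomDeg ℳ ℳ' (∑ b ∈ s, φ b) δ := isGrHomDeg_sum' s φ (fun b _ => hφ b)
    rw [Hm_congr h (isGrHomDeg_add' (hφ b) h1) (Finset.sum_insert hb) rfl]
    rw [Hm_add (hφ b) h1, ih h1, Finset.sum_insert hb]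

lemma Hm_smul {φ : M →ₗ[R] M'} {δ κ : ι} {r : R} (hr : r ∈ 𝒜 κ)
    (hφ : IsGrHomDeg ℳ ℳ' φ δ) (h : IsGrHomDeg ℳ ℳ' (r • φ) (δ + κ)) (x : E.H a q) :
    Hm E E' a q (r • φ) (δ + κ) h x = r • Hm E E' a q φ δ hφ x := by
  have hs := (exists_cmap E E' φ δ hφ).choose_spec
  have h2 : ((CMap.smul E' r).comp (exists_cmap E E' φ δ hφ).choose).Lifts (r • φ) := by
    have := CMap.comp_lifts (CMap.smul_lifts E' r) hs.2
    have e : LinearMap.lsmul R M' r ∘ₗ φ = r • φ := by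
      ext y; simp
    rwa [e] at this
  rw [Hm_eq_Hmap h (CMap.comp_isDeg (CMap.smul_isDeg E' hr) hs.1) h2, CMap.Hmap_comp]
  change (CMap.smul E' r).Hmap a q _ = _
  rw [CMap.Hmap_smul]
  rfl

lemma Hm_mem {φ : M →ₗ[R] M'} {δ : ι} (hφ : IsGrHomDeg ℳ ℳ' φ δ) {g : ι} {x : E.H a q}
    (hx : x ∈ E.Hgr a q g) : Hm E E' a q φ δ hφ x ∈ E'.Hgr a q (g + δ) :=
  CMap.Hmap_mem_Hcomp _ a (exists_cmap E E' φ δ hφ).choose_spec.1 q hx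

lemma Hm_isGrHomDeg {φ : M →ₗ[R] M'} {δ : ι} (hφ : IsGrHomDeg ℳ ℳ' φ δ) :
    IsGrHomDeg (E.Hgr a q) (E'.Hgr a q) (Hm E E' a q φ δ hφ) δ :=
  fun g x hx => Hm_mem hφ hx

/-- homogeneous preimages under `Hm`. -/
lemma Hm_exists_hom_preimage {φ : M →ₗ[R] M'} {δ : ι} (hφ : IsGrHomDeg ℳ ℳ' φ δ) {g : ι}
    {y : E'.H a q} (hy : y ∈ E'.Hgr a q (g + δ)) (x : E.H a q)
    (hx : Hm E E' a q φ δ hφ x = y) : ∃ x' ∈ E.Hgr a q g, Hm E E' a q φ δ hφ x' = y :=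
  exists_homogeneous_preimage (E.Hgr a q) (E'.Hgr a q) (Hgr_isInternal 𝒜 ℳ E a q)
    (Hgr_isInternal 𝒜 ℳ' E' a q) _ δ (Hm_isGrHomDeg hφ) g y hy x hx

end Hm

section LES

variable (E' : StarInjRes 𝒜 ℳ') (E : StarInjRes 𝒜 ℳ) (E'' : StarInjRes 𝒜 ℳ'')

/-- the long exact sequence in terms of `Hm`. -/
theorem les (u : M' →ₗ[R] M) (v : M →ₗ[R] M'') (hu : IsGrHomDeg ℳ' ℳ u 0)
    (hv : IsGrHomDeg ℳ ℳ'' v 0)
    (hui : Function.Injective u) (hvs : Function.Surjective v)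
    (hex : LinearMap.ker v = LinearMap.range u) (a : HomogeneousIdeal 𝒜) :
    ∃ γ : ∀ q, E''.H a q →ₗ[R] E'.H a (q + 1),
      (∀ q g x, x ∈ E''.Hgr a q g → γ q x ∈ E'.Hgr a (q + 1) g) ∧
      (∀ q, Function.Exact (Hm E' E a q u 0 hu) (Hm E E'' a q v 0 hv)) ∧
      (∀ q, Function.Exact (Hm E E'' a q v 0 hv) (γ q)) ∧
      (∀ q, Function.Exact (γ q) (Hm E' E a (q + 1) u 0 hu)) ∧
      Function.Injective (Hm E' E a 0 u 0 hu) := by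
  have hsu := (exists_cmap E' E u 0 hu).choose_spec
  have hsv := (exists_cmap E E'' v 0 hv).choose_spec
  exact exists_les E' E E'' u v ((isGrHomDeg_zero_iff ℳ' ℳ).mp hu)
    ((isGrHomDeg_zero_iff ℳ ℳ'').mp hv) hui hvs hex a _ hsu.1 hsu.2 _ hsv.1 hsv.2

end LES

end Groth.Agent.Lib27.LD
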