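import Groth.Agent.Lib27.LD9
import Groth.Agent.Lib.Helper11.GrStd

/-!
# Generation of the top local cohomology by linear forms; the pieces below the top have dimension ≥ 2
-/

set_option autoImplicit false
set_option linter.unusedSectionVars false
set_option linter.unusedVariables false
set_option linter.style.haveILetI false
universe u

namespace Groth.Agent.Lib27.LD

open DirectSum GrLC Groth.Agent.Lib.Helper11.GrLCLib Groth.Agent.Lib.Helper11.GrLes Matrix

variable {R : Type u} [CommRing R] [IsNoetherianRing R] {𝒜 : ℤ → AddSubgroup R} [GradedRing 𝒜]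

/-- if `R/(x)` has dimension `< r`, with `x` linear forms, and `*H^{r+1}_m = 0`, then
`H^r_m(R)_{n+1} = ∑ x_b H^r_m(R)_n`. -/
theorem top_gen (m : HomogeneousIdeal 𝒜) (t : ℕ) (x : Fin t → R) (hx : ∀ b, x b ∈ 𝒜 1) (r : ℕ)
    (hdim : Module.supportDim R (R ⧸ Ideal.span (Set.range x)) < (r : WithBot ℕ∞))
    (hvan : ∀ (X : Type u) [AddCommGroup X] [Module R X] (𝒳 : ℤ → AddSubgroup X)
      [DirectSum.Decomposition 𝒳] [SetLike.GradedSMul 𝒜 𝒳] (EX : StarInjRes 𝒜 𝒳),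
      Subsingleton (EX.H m (r + 1)))
    (I : StarInjRes 𝒜 𝒜) (n : ℤ) (z : I.H m r) (hz : z ∈ I.Hgr m r (n + 1)) :
    ∃ u : Fin t → I.H m r, (∀ b, u b ∈ I.Hgr m r n) ∧ z = ∑ b, x b • u b := by
  classical
  obtain ⟨a, hadef⟩ : ∃ a : Fin t → ℤ, a = fun _ => 1 := ⟨_, rfl⟩
  let EP : StarInjRes 𝒜 (freeGr 𝒜 a) := starInjRes 𝒜 (freeGr 𝒜 a)
  have hxG : Gmem 𝒜 a 0 x := fun b => by
    rw [zero_add, hadef]; exact hx b
  have hφ : IsGrHomDeg (freeGr 𝒜 a) 𝒜 (dotL x) 0 := dotL_isGrHomDeg hxG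
  obtain ⟨T, hTdef⟩ : ∃ T : Submodule R R, T = Ideal.span (Set.range x) := ⟨_, rfl⟩
  have hTh : T.IsHomogeneous 𝒜 := by
    rw [hTdef]
    apply Ideal.homogeneous_span
    rintro _ ⟨b, rfl⟩
    exact ⟨1, hx b⟩
  letI := quotDecomposition 𝒜 T hTh
  let EQ : StarInjRes 𝒜 (quotGrM 𝒜 T) := starInjRes 𝒜 (quotGrM 𝒜 T)
  have hq : IsGrHomDeg 𝒜 (quotGrM 𝒜 T) T.mkQ 0 := by
    intro j y hy
    rw [add_zero]
    exact mkQ_isGrHom 𝒜 T j y hy
  have hex : LinearMap.ker T.mkQ = LinearMap.range (dotL x) := by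
    rw [Submodule.ker_mkQ, hTdef, dotL_eq_linearCombination, Fintype.range_linearCombination]
  haveI hQ0 : Subsingleton (EQ.H m r) := by
    obtain ⟨e⟩ := Groth.Agent.Lib.Helper11.GrLCOrd.nonempty_H_equiv EQ m r
    have hdim' : Module.supportDim R (R ⧸ T) < (r : WithBot ℕ∞) := by rw [hTdef]; exact hdim
    have := Groth.Agent.Lib.Helper16.LC.subsingleton_H_of_supportDim_lt m.toIdeal (R ⧸ T) r
      hdim' r le_rfl
    exact e.injective.subsingleton
  obtain ⟨-, hre⟩ := re EP I EQ (dotL x) T.mkQ hφ hq (Submodule.mkQ_surjective T) hex m r hvan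
  obtain ⟨ξ, hξ⟩ := hre z (Subsingleton.elim _ _)
  have hz' : z ∈ I.Hgr m r ((n + 1) + 0) := by rwa [add_zero]
  obtain ⟨ξ', hξ', hξz⟩ := Hm_exists_hom_preimage hφ hz' ξ hξ
  refine ⟨fun b => Hm EP I m r (LinearMap.proj b) (-a b) (proj_isGrHomDeg 𝒜 a b) ξ',
    fun b => ?_, ?_⟩
  · have := Hm_mem (E' := I) (proj_isGrHomDeg 𝒜 a b) hξ'
    have e : n + 1 + -a b = n := by rw [hadef]; ring
    rwa [e] at this
  · have h1 : z = Hm EP I m r (dotL x) 0 hφ (∑ b, Hm I EP m r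
        (LinearMap.single R (fun _ : Fin t => R) b) (a b) (single_isGrHomDeg 𝒜 a b)
        (Hm EP I m r (LinearMap.proj b) (-a b) (proj_isGrHomDeg 𝒜 a b) ξ')) := by
      rw [← decomp_id (I := I) EP r ξ', hξz]
    rw [h1, map_sum]
    refine Finset.sum_congr rfl fun b _ => ?_
    have hls : IsGrHomDeg 𝒜 𝒜 (LinearMap.lsmul R R (x b)) 1 := isGrHomDeg_lsmul 𝒜 𝒜 (hx b)
    have hc : dotL x ∘ₗ LinearMap.single R (fun _ : Fin t => R) b = LinearMap.lsmul R R (x b) := by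
      rw [dotL_comp_single]
      apply LinearMap.ext
      intro s
      simp
    have hε : a b + 0 = 1 := by rw [hadef]; ring
    rw [Hm_comp_apply' (single_isGrHomDeg 𝒜 a b) hφ hls hc hε, Hm_lsmul I m r (hx b) hls]

/-- a standard graded ring over a field modulo a codimension-one space of linear forms has dimension
at most one. -/
theorem ringKrullDim_quot_le_one (hpos : ∀ n : ℤ, n < 0 → 𝒜 n = ⊥) (h0 : IsField (GrLC.deg0 𝒜))
    (hstd : Ideal.span (⋃ n ∈ Set.Ioi (0 : ℤ), (𝒜 n : Set R)) =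
      Ideal.span ((𝒜 1 : AddSubgroup R) : Set R))
    (J : Ideal R) (y : R) (hV : ∀ x ∈ 𝒜 1, ∃ c ∈ 𝒜 0, x - c * y ∈ J) :
    ringKrullDim (R ⧸ J) ≤ 1 := by
  classical
  let f0 : GrLC.deg0 𝒜 →+* R ⧸ J := (Ideal.Quotient.mk J).comp (GrLC.deg0 𝒜).subtype
  let F : Polynomial (GrLC.deg0 𝒜) →+* R ⧸ J := Polynomial.eval₂RingHom f0 (Ideal.Quotient.mk J y)
  let S : Subring R := F.range.comap (Ideal.Quotient.mk J)
  have hS0 : ∀ c ∈ 𝒜 0, c ∈ S := by
    intro c hc
    refine ⟨Polynomial.C (⟨c, hc⟩ : GrLC.deg0 𝒜), ?_⟩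
    change Polynomial.eval₂ f0 _ _ = _
    rw [Polynomial.eval₂_C]
    rfl
  have hSy : y ∈ S := by
    refine ⟨Polynomial.X, ?_⟩
    change Polynomial.eval₂ f0 _ _ = _
    rw [Polynomial.eval₂_X]
  have hSJ : ∀ j ∈ J, j ∈ S := by
    intro j hj
    refine ⟨0, ?_⟩
    rw [map_zero]
    exact ((Ideal.Quotient.eq_zero_iff_mem).2 hj).symm
  have hS1 : ∀ x ∈ 𝒜 1, x ∈ S := by
    intro x hx1
    obtain ⟨c, hc, hcj⟩ := hV x hx1
    have : x = (x - c * y) + c * y := by ring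
    rw [this]
    exact S.add_mem (hSJ _ hcj) (S.mul_mem (hS0 c hc) hSy)
  have hSn : ∀ n : ℕ, ∀ x ∈ 𝒜 (n : ℤ), x ∈ S := by
    intro n
    induction n with
    | zero => exact fun x hx => hS0 x hx
    | succ n ih =>
      intro x hx
      have hx' : x ∈ 𝒜 ((n : ℤ) + 1) := by
        have e : ((n + 1 : ℕ) : ℤ) = (n : ℤ) + 1 := by push_cast; ring
        rwa [e] at hx
      have h1 := Groth.Agent.Lib.Helper11.GrStd.mem_prodGrp_one 𝒜 hstd (n : ℤ)
        (Int.natCast_nonneg n) hx'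
      have key : ∀ w ∈ AddSubgroup.closure (Set.image2 (· * ·) ((𝒜 (n : ℤ) : AddSubgroup R) : Set R)
          ((𝒜 1 : AddSubgroup R) : Set R)), w ∈ S := by
        intro w hw
        induction hw using AddSubgroup.closure_induction with
        | mem w hw =>
          obtain ⟨p, hp, q, hq, rfl⟩ := hw
          exact S.mul_mem (ih p hp) (hS1 q hq)
        | zero => exact S.zero_mem
        | add a b _ _ ha hb => exact S.add_mem ha hb
        | neg a _ ha => exact S.neg_mem ha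
      exact key x h1
  have hStop : ∀ x : R, x ∈ S := by
    intro x
    rw [← DirectSum.sum_support_decompose 𝒜 x]
    refine S.sum_mem fun i _ => ?_
    by_cases hi : 0 ≤ i
    · obtain ⟨n, rfl⟩ := Int.eq_ofNat_of_zero_le hi
      exact hSn n _ (SetLike.coe_mem _)
    · have hbot := hpos i (by omega)
      have hmem : ((decompose 𝒜 x i : 𝒜 i) : R) ∈ (⊥ : AddSubgroup R) := hbot ▸ SetLike.coe_mem _
      rw [AddSubgroup.mem_bot] at hmem
      rw [hmem]
      exact S.zero_mem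
  have hFs : Function.Surjective F := by
    intro z
    obtain ⟨x, rfl⟩ := Ideal.Quotient.mk_surjective z
    exact hStop x
  calc ringKrullDim (R ⧸ J) ≤ ringKrullDim (Polynomial (GrLC.deg0 𝒜)) :=
        ringKrullDim_le_of_surjective F hFs
    _ ≤ 2 * ringKrullDim (GrLC.deg0 𝒜) + 1 := Polynomial.ringKrullDim_le
    _ = 1 := by rw [ringKrullDim_eq_zero_of_isField h0]; simp

end Groth.Agent.Lib27.LD
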