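import Groth.Agent.Lib27.LD11

/-!
# The canonical module of a standard graded ring of dimension ≥ 2 has pieces of dimension ≥ 2
-/

set_option autoImplicit false
set_option linter.unusedSectionVars false
set_option linter.unusedVariables false
set_option linter.style.haveILetI false
universe u

namespace Groth.Agent.Lib27.LD

open DirectSum GrLC GrSeg Groth.Agent.Lib.Helper11.GrLCLib Groth.Agent.Lib.Helper11.GrLes
  Groth.Agent.Lib.Helper11.GrDual Groth.Agent.Lib.Helper11.GrField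

variable {R : Type u} [CommRing R] [IsNoetherianRing R] {𝒜 : ℤ → AddSubgroup R} [GradedRing 𝒜]

attribute [local instance] subKGradedAlgebra

theorem canonical_ge_two (hpos : ∀ n : ℤ, n < 0 → 𝒜 n = ⊥) (h0 : IsField (GrLC.deg0 𝒜))
    (m : HomogeneousIdeal 𝒜) (hm : GrLC.IsStarLocal 𝒜 m)
    (hmsp : m.toIdeal = Ideal.span (⋃ n ∈ Set.Ioi (0 : ℤ), (𝒜 n : Set R)))
    (hstd : Ideal.span (⋃ n ∈ Set.Ioi (0 : ℤ), (𝒜 n : Set R)) =
      Ideal.span ((𝒜 1 : AddSubgroup R) : Set R))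
    (n : ℕ) (hn : ringKrullDim R = n) (h2 : 2 ≤ n) (I : StarInjRes 𝒜 𝒜) (a : ℤ)
    (ha : GrLC.endDeg (I.Hgr m n) = ((a : WithTop ℤ) : WithBot (WithTop ℤ)))
    {E' : Type u} [AddCommGroup E'] [Module R E'] (𝓔 : ℤ → AddSubgroup E')
    [DirectSum.Decomposition 𝓔] [SetLike.GradedSMul 𝒜 𝓔]
    (e : (R ⧸ m.toIdeal) →ₗ[R] E') (he : IsStarInjHull 𝒜 (quotGr 𝒜 m) 𝓔 e)
    {C : Type u} [AddCommGroup C] [Module R C] (𝒞 : ℤ → AddSubgroup C)
    [DirectSum.Decomposition 𝒞] [SetLike.GradedSMul 𝒜 𝒞] (hC : IsStarCanonical 𝒜 𝒞 𝓔 m n I)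
    (j : ℤ) (hj : -a < j) :
    2 ≤ Module.finrank (GrLC.deg0 𝒜) (GrLC.comp 𝒜 𝒞 j) := by
  classical
  letI : Field (GrLC.deg0 𝒜) := h0.toField
  letI algR : Algebra (GrLC.deg0 𝒜) R := (GrLC.deg0 𝒜).subtype.toAlgebra
  have hk : IsBase 𝒜 (GrLC.deg0 𝒜) := by
    intro x
    constructor
    · intro hx
      exact ⟨⟨x, hx⟩, rfl⟩
    · rintro ⟨c, rfl⟩
      exact c.2
  haveI : Nontrivial R := by
    refine ⟨⟨0, 1, fun h01 => ?_⟩⟩
    have : (0 : GrLC.deg0 𝒜) = 1 := Subtype.ext h01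
    exact h0.nontrivial.exists_pair_ne.elim (fun a ⟨b, hab⟩ => hab (by
      rw [← mul_one a, ← mul_one b, ← this, mul_zero, mul_zero]))
  letI : Module (GrLC.deg0 𝒜) E' := Module.compHom E' (algebraMap (GrLC.deg0 𝒜) R)
  haveI : IsScalarTower (GrLC.deg0 𝒜) R E' := IsScalarTower.of_algebraMap_smul (fun r x => rfl)
  letI : Module (GrLC.deg0 𝒜) C := Module.compHom C (algebraMap (GrLC.deg0 𝒜) R)
  haveI : IsScalarTower (GrLC.deg0 𝒜) R C := IsScalarTower.of_algebraMap_smul (fun r x => rfl)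
  letI : Module (GrLC.deg0 𝒜) (I.H m n) := Module.compHom (I.H m n) (algebraMap (GrLC.deg0 𝒜) R)
  haveI : IsScalarTower (GrLC.deg0 𝒜) R (I.H m n) :=
    IsScalarTower.of_algebraMap_smul (fun r x => rfl)
  letI : DirectSum.Decomposition (I.Hgr m n) := (Hgr_isInternal 𝒜 𝒜 I m n).chooseDecomposition
  haveI : SetLike.GradedSMul 𝒜 (I.Hgr m n) := Hgr_gradedSMul I m n
  obtain ⟨β, hD⟩ := exists_pairing_canonical hk 𝓔 𝒞 hpos m hmsp e he n I hC
  haveI : Module.Finite R C := hC.1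
  haveI : IsNoetherian R C := isNoetherian_of_isNoetherianRing_of_finite R C
  haveI : SetLike.GradedSMul (subK hk) 𝒞 := gradedSMul_K hk 𝒞
  have hfinK : Module.Finite (GrLC.deg0 𝒜) (compK (subK hk) 𝒞 j) :=
    finite_compK_of_isNoetherian (subK hk) 𝒞 (subK_neg hk hpos) (subK_zero hk) j
  haveI hfin : Module.Finite (GrLC.deg0 𝒜) (GrLC.comp 𝒜 𝒞 j) := by
    let φ : compK (subK hk) 𝒞 j →ₗ[GrLC.deg0 𝒜] GrLC.comp 𝒜 𝒞 j :=
      { toFun := fun x => ⟨x.1, x.2⟩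
        map_add' := fun _ _ => rfl
        map_smul' := fun _ _ => rfl }
    exact Module.Finite.of_surjective φ (fun x => ⟨⟨x.1, x.2⟩, rfl⟩)
  by_contra hlt
  have hle : Module.finrank (GrLC.deg0 𝒜) (GrLC.comp 𝒜 𝒞 j) ≤ 1 := by omega
  obtain ⟨v, hv⟩ := finrank_le_one_iff.1 hle
  have hvd : ∀ d ∈ 𝒞 j, ∃ t : GrLC.deg0 𝒜, d = t • (v : C) := by
    intro d hd
    obtain ⟨t, ht⟩ := hv ⟨d, hd⟩
    exact ⟨t, (congrArg Subtype.val ht).symm⟩
  -- a nonzero class in degree `-j + 1`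
  have hne := Groth.Agent.S18656.result R 𝒜 hpos h0 m hm hmsp hstd n hn (by omega) I a ha
    (-j + 1) (by omega)
  obtain ⟨z₀, hz₀, hz₀ne⟩ := Submodule.exists_mem_ne_zero_of_ne_bot hne
  have hdual : ∀ w : I.H m n, w ≠ 0 → ∃ g : I.H m n →ₗ[GrLC.deg0 𝒜] GrLC.deg0 𝒜, g w ≠ 0 := by
    intro w hw
    by_contra hcon
    push Not at hcon
    exact hw ((Module.forall_dual_apply_eq_zero_iff (GrLC.deg0 𝒜) w).mp hcon)
  have hsep : ∀ w, w ∈ I.Hgr m n (-j) → β (v : C) w = 0 → w = 0 := by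
    intro w hw hβ
    by_contra hw0
    obtain ⟨g, hg⟩ := hdual w hw0
    obtain ⟨d, hd, hdg⟩ := hD.exists_eq j g
    obtain ⟨t, ht⟩ := hvd d hd
    apply hg
    rw [← hdg w hw, ht, map_smul, LinearMap.smul_apply, hβ, smul_zero]
  by_cases hex : ∃ η, η ∈ I.Hgr m n (-j) ∧ η ≠ 0
  · obtain ⟨η, hη, hηne⟩ := hex
    have hβη : β (v : C) η ≠ 0 := fun h => hηne (hsep η hη h)
    refine H_not_le_one hpos h0 m hm hmsp hstd n hn h2 I (-j) z₀ hz₀ hz₀ne η hη ?_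
    intro z hz
    let s : GrLC.deg0 𝒜 := β (v : C) z * (β (v : C) η)⁻¹
    have hsη : (s : R) • η ∈ I.Hgr m n (-j) := by
      have := SetLike.GradedSMul.smul_mem (A := 𝒜) (B := I.Hgr m n) s.2 hη
      rwa [vadd_eq_add, zero_add] at this
    have hw : z - (s : R) • η ∈ I.Hgr m n (-j) := sub_mem hz hsη
    have hβw : β (v : C) (z - (s : R) • η) = 0 := by
      have e1 : (s : R) • η = s • η := rfl
      rw [map_sub, e1, map_smul, smul_eq_mul]
      change β (v : C) z - β (v : C) z * (β (v : C) η)⁻¹ * β (v : C) η = 0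
      rw [mul_assoc, inv_mul_cancel₀ hβη, mul_one, sub_self]
    exact ⟨(s : R), s.2, sub_eq_zero.1 (hsep _ hw hβw)⟩
  · push Not at hex
    refine H_not_le_one hpos h0 m hm hmsp hstd n hn h2 I (-j) z₀ hz₀ hz₀ne 0 (zero_mem _) ?_
    intro z hz
    exact ⟨0, zero_mem _, by rw [hex z hz, zero_smul]⟩

end Groth.Agent.Lib27.LD
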