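import Groth.Agent.Lib27.LD1
import Groth.Prelude.Def_GrSyz

/-!
# Graded free modules `⊕ R(-a b)` as graded modules; component maps; syzygies of a free resolution
-/

set_option autoImplicit false
set_option linter.unusedSectionVars false
set_option linter.unusedVariables false
set_option linter.style.haveILetI false
universe u

namespace Groth.Agent.Lib27.LD

open DirectSum GrLC Groth.Agent.Lib.Helper11.GrLCLib Groth.Agent.Lib.Helper11.GrLes Matrix

variable {R : Type u} [CommRing R] (𝒜 : ℤ → AddSubgroup R) [GradedRing 𝒜]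

section Free

variable {m : ℕ} (a : Fin m → ℤ)

/-- pieces of the graded free module `⊕_b R(-a b)`. -/
def freeGr (j : ℤ) : AddSubgroup (Fin m → R) where
  carrier := {w | ∀ b, w b ∈ 𝒜 (j - a b)}
  zero_mem' := fun b => zero_mem _
  add_mem' := fun h h' b => add_mem (h b) (h' b)
  neg_mem' := fun h b => neg_mem (h b)

lemma mem_freeGr {j : ℤ} {w : Fin m → R} : w ∈ freeGr 𝒜 a j ↔ ∀ b, w b ∈ 𝒜 (j - a b) := Iff.rfl

/-- component projections. -/
noncomputable def freeProj (j : ℤ) : (Fin m → R) →+ (Fin m → R) where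
  toFun w := fun b => (decompose 𝒜 (w b) (j - a b) : R)
  map_zero' := by
    funext b
    simp
  map_add' w w' := by
    funext b
    simp only [Pi.add_apply, decompose_add, DirectSum.add_apply, AddSubgroup.coe_add]

lemma freeProj_apply (j : ℤ) (w : Fin m → R) (b : Fin m) :
    freeProj 𝒜 a j w b = (decompose 𝒜 (w b) (j - a b) : R) := rfl

lemma freeGr_isInternal : DirectSum.IsInternal (freeGr 𝒜 a) := by
  classical
  refine isInternal_of_proj (freeGr 𝒜 a) (freeProj 𝒜 a) ?_ ?_ ?_ ?_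
  · intro j w b
    exact SetLike.coe_mem _
  · intro j w hw
    funext b
    exact decompose_of_mem_same 𝒜 (hw b)
  · intro j j' w hw hne
    funext b
    rw [freeProj_apply]
    exact decompose_of_mem_ne 𝒜 (hw b) (fun e => hne (by omega))
  · intro w
    refine ⟨Finset.univ.biUnion (fun b => (decompose 𝒜 (w b)).support.image (fun i => i + a b)), ?_⟩
    funext b
    rw [Finset.sum_apply]
    simp only [freeProj_apply]
    have hsub : (decompose 𝒜 (w b)).support.image (fun i => i + a b) ⊆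
        Finset.univ.biUnion (fun b => (decompose 𝒜 (w b)).support.image (fun i => i + a b)) := by
      intro j hj
      exact Finset.mem_biUnion.2 ⟨b, Finset.mem_univ _, hj⟩
    rw [← Finset.sum_subset hsub]
    · rw [Finset.sum_image (fun x _ y _ h => by simpa using h)]
      rw [← DirectSum.sum_support_decompose 𝒜 (w b)]
      refine Finset.sum_congr ?_ (fun i _ => ?_)
      · rw [DirectSum.sum_support_decompose 𝒜 (w b)]
      · rw [add_sub_cancel_right, DirectSum.sum_support_decompose 𝒜 (w b)]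
    · intro j _ hj
      by_contra hne
      apply hj
      rw [Finset.mem_image]
      refine ⟨j - a b, ?_, by ring⟩
      rw [DFinsupp.mem_support_toFun]
      intro h0
      apply hne
      rw [h0]
      rfl

noncomputable instance freeDecomposition : DirectSum.Decomposition (freeGr 𝒜 a) :=
  (freeGr_isInternal 𝒜 a).chooseDecomposition

instance freeGradedSMul : SetLike.GradedSMul 𝒜 (freeGr 𝒜 a) where
  smul_mem := by
    intro i j r w hr hw b
    have := SetLike.GradedMul.mul_mem (A := 𝒜) hr (hw b)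
    rw [vadd_eq_add]
    have e : i + j - a b = i + (j - a b) := by ring
    rw [e]
    exact this

/-- coordinate projection, of degree `-a b`. -/
lemma proj_isGrHomDeg (b : Fin m) :
    IsGrHomDeg (freeGr 𝒜 a) 𝒜 (LinearMap.proj b : (Fin m → R) →ₗ[R] R) (-a b) := by
  intro j w hw
  rw [← sub_eq_add_neg]
  exact hw b

/-- coordinate inclusion, of degree `a b`. -/
lemma single_isGrHomDeg (b : Fin m) :
    IsGrHomDeg 𝒜 (freeGr 𝒜 a) (LinearMap.single R (fun _ : Fin m => R) b) (a b) := by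
  intro j s hs b'
  change (Pi.single b s : Fin m → R) b' ∈ 𝒜 (j + a b - a b')
  by_cases h : b' = b
  · subst h
    rw [Pi.single_eq_same, add_sub_cancel_right]
    exact hs
  · rw [Pi.single_eq_of_ne h]
    exact zero_mem _

/-- the functional `w ↦ v ⬝ w`. -/
def dotL (v : Fin m → R) : (Fin m → R) →ₗ[R] R where
  toFun w := v ⬝ᵥ w
  map_add' := dotProduct_add v
  map_smul' c w := by simp [dotProduct_smul]

lemma dotL_apply (v w : Fin m → R) : dotL v w = v ⬝ᵥ w := rfl

/-- covectors of degree `e`. -/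
def Gmem (e : ℤ) (v : Fin m → R) : Prop := ∀ b, v b ∈ 𝒜 (e + a b)

variable {𝒜 a}

lemma dotL_isGrHomDeg {e : ℤ} {v : Fin m → R} (hv : Gmem 𝒜 a e v) :
    IsGrHomDeg (freeGr 𝒜 a) 𝒜 (dotL v) e := by
  intro j w hw
  rw [dotL_apply]
  refine sum_mem fun b _ => ?_
  have := SetLike.GradedMul.mul_mem (A := 𝒜) (hv b) (hw b)
  have e1 : e + a b + (j - a b) = j + e := by ring
  rw [e1] at this
  exact this

lemma Gmem_add {e : ℤ} {v v' : Fin m → R} (hv : Gmem 𝒜 a e v) (hv' : Gmem 𝒜 a e v') :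
    Gmem 𝒜 a e (v + v') := fun b => add_mem (hv b) (hv' b)

lemma Gmem_zero (e : ℤ) : Gmem 𝒜 a e 0 := fun b => zero_mem _

lemma Gmem_single {e : ℤ} (b : Fin m) {g : R} (hg : g ∈ 𝒜 (e + a b)) :
    Gmem 𝒜 a e (Pi.single b g) := by
  intro b'
  by_cases h : b' = b
  · subst h
    rw [Pi.single_eq_same]
    exact hg
  · rw [Pi.single_eq_of_ne h]
    exact zero_mem _

lemma dotL_add (v v' : Fin m → R) : dotL (v + v') = dotL v + dotL v' := by
  ext w
  simp [dotL_apply, add_dotProduct]

lemma dotL_smul (c : R) (v : Fin m → R) : dotL (c • v) = c • dotL v := by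
  apply LinearMap.ext
  intro w
  simp [dotL_apply, smul_dotProduct]

lemma dotL_single (b : Fin m) (g : R) :
    dotL (Pi.single b g) = g • (LinearMap.proj b : (Fin m → R) →ₗ[R] R) := by
  apply LinearMap.ext
  intro w
  simp [dotL_apply, single_dotProduct]

lemma dotL_comp_single (v : Fin m → R) (b : Fin m) :
    dotL v ∘ₗ LinearMap.single R (fun _ : Fin m => R) b = v b • (LinearMap.id : R →ₗ[R] R) := by
  apply LinearMap.ext
  intro s
  simp [dotL_apply, dotProduct_single]

lemma sum_single_comp_proj :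
    ∑ b : Fin m, (LinearMap.single R (fun _ : Fin m => R) b) ∘ₗ (LinearMap.proj b) =
      (LinearMap.id : (Fin m → R) →ₗ[R] (Fin m → R)) := by
  apply LinearMap.ext
  intro w
  rw [LinearMap.sum_apply]
  simp only [LinearMap.comp_apply, LinearMap.proj_apply, LinearMap.single_apply, LinearMap.id_apply]
  exact Finset.univ_sum_single w

section Mat

variable {m' : ℕ} {a' : Fin m' → ℤ}

/-- a matrix with homogeneous entries of the right degrees is a degree-zero map. -/
lemma mulVecLin_isGrHomDeg {D : Matrix (Fin m) (Fin m') R}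
    (hD : ∀ b b', D b b' ∈ 𝒜 (a' b' - a b)) :
    IsGrHomDeg (freeGr 𝒜 a') (freeGr 𝒜 a) (Matrix.mulVecLin D) 0 := by
  intro j w hw b
  change ∑ b', D b b' * w b' ∈ 𝒜 (j + 0 - a b)
  refine AddSubgroup.sum_mem _ fun b' _ => ?_
  have := SetLike.GradedMul.mul_mem (A := 𝒜) (hD b b') (hw b')
  have e1 : a' b' - a b + (j - a' b') = j + 0 - a b := by ring
  rw [e1] at this
  exact this

lemma dotL_comp_mulVecLin (v : Fin m → R) (D : Matrix (Fin m) (Fin m') R) :
    dotL v ∘ₗ Matrix.mulVecLin D = dotL (v ᵥ* D) := by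
  apply LinearMap.ext
  intro w
  simp [dotL_apply, dotProduct_mulVec]

lemma Gmem_vecMul {e : ℤ} {v : Fin m → R} (hv : Gmem 𝒜 a e v) {D : Matrix (Fin m) (Fin m') R}
    (hD : ∀ b b', D b b' ∈ 𝒜 (a' b' - a b)) : Gmem 𝒜 a' e (v ᵥ* D) := by
  intro b'
  change ∑ b, v b * D b b' ∈ 𝒜 (e + a' b')
  refine AddSubgroup.sum_mem _ fun b _ => ?_
  have := SetLike.GradedMul.mul_mem (A := 𝒜) (hv b) (hD b b')
  have e1 : e + a b + (a' b' - a b) = e + a' b' := by ring
  rw [e1] at this
  exact this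

end Mat

end Free

section Syz

variable {𝒜}
variable {N : Type u} [AddCommGroup N] [Module R N] {𝒩 : ℤ → AddSubgroup N}
  [DirectSum.Decomposition 𝒩] [SetLike.GradedSMul 𝒜 𝒩]

lemma dLin_isGrHomDeg (F : GrSyz.FreeRes 𝒜 𝒩) (i : ℕ) :
    IsGrHomDeg (freeGr 𝒜 (F.deg (i + 1))) (freeGr 𝒜 (F.deg i)) (F.dLin i) 0 :=
  mulVecLin_isGrHomDeg (F.d_mem i)

lemma augLin_isGrHomDeg (F : GrSyz.FreeRes 𝒜 𝒩) :
    IsGrHomDeg (freeGr 𝒜 (F.deg 0)) 𝒩 F.augLin 0 := by
  intro j w hw
  change Fintype.linearCombination R F.aug w ∈ 𝒩 (j + 0)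
  rw [Fintype.linearCombination_apply]
  refine sum_mem fun b _ => ?_
  have := SetLike.GradedSMul.smul_mem (A := 𝒜) (B := 𝒩) (hw b) (F.aug_mem b)
  rw [vadd_eq_add] at this
  have e1 : j - F.deg 0 b + F.deg 0 b = j + 0 := by ring
  rw [e1] at this
  exact this

/-- the first syzygy module. -/
def Zs (F : GrSyz.FreeRes 𝒜 𝒩) : Submodule R (Fin (F.rk 0) → R) := LinearMap.ker F.augLin

lemma Zs_isHomogeneous (F : GrSyz.FreeRes 𝒜 𝒩) : (Zs F).IsHomogeneous (freeGr 𝒜 (F.deg 0)) :=
  ker_isHomogeneous_deg _ 𝒩 (augLin_isGrHomDeg F)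

/-- grading of the first syzygy module. -/
abbrev ZGr (F : GrSyz.FreeRes 𝒜 𝒩) : ℤ → AddSubgroup (Zs F) := subGr (freeGr 𝒜 (F.deg 0)) (Zs F)

noncomputable instance ZDecomposition (F : GrSyz.FreeRes 𝒜 𝒩) :
    DirectSum.Decomposition (ZGr F) :=
  subDecomposition (freeGr 𝒜 (F.deg 0)) (Zs F) (Zs_isHomogeneous F)

lemma col_mem_Zs (F : GrSyz.FreeRes 𝒜 𝒩) (b : Fin (F.rk 1)) : (fun c => F.d 0 c b) ∈ Zs F := by
  change (fun c => F.d 0 c b) ∈ LinearMap.ker F.augLin
  rw [F.exact_zero]
  refine ⟨Pi.single b 1, ?_⟩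
  funext c
  simp [Matrix.mulVecLin_apply, Matrix.mulVec_single]

/-- the tail of a free resolution resolves the first syzygy module. -/
noncomputable def tail (F : GrSyz.FreeRes 𝒜 𝒩) : GrSyz.FreeRes 𝒜 (ZGr F) where
  rk i := F.rk (i + 1)
  deg i := F.deg (i + 1)
  d i := F.d (i + 1)
  aug b := ⟨fun c => F.d 0 c b, col_mem_Zs F b⟩
  d_mem i := F.d_mem (i + 1)
  aug_mem b := fun c => F.d_mem 0 c b
  aug_surjective := by
    rintro ⟨z, hz⟩
    have hz' : z ∈ LinearMap.range (Matrix.mulVecLin (F.d 0)) := by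
      rw [← F.exact_zero]; exact hz
    obtain ⟨w, rfl⟩ := hz'
    refine ⟨w, ?_⟩
    apply Subtype.ext
    rw [Fintype.linearCombination_apply, Submodule.coe_sum]
    funext c
    rw [Finset.sum_apply]
    simp only [Submodule.coe_smul, Pi.smul_apply, smul_eq_mul, Matrix.mulVecLin_apply]
    rw [Matrix.mulVec, dotProduct]
    exact Finset.sum_congr rfl fun b _ => mul_comm _ _
  exact_zero := by
    rw [← F.exact_succ 0]
    ext w
    rw [LinearMap.mem_ker, LinearMap.mem_ker]
    have key : ((Fintype.linearCombination R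
        (fun b : Fin (F.rk 1) => (⟨fun c => F.d 0 c b, col_mem_Zs F b⟩ : Zs F)) w : Zs F) :
          Fin (F.rk 0) → R) = Matrix.mulVecLin (F.d 0) w := by
      rw [Fintype.linearCombination_apply, Submodule.coe_sum]
      funext c
      rw [Finset.sum_apply]
      simp only [Submodule.coe_smul, Pi.smul_apply, smul_eq_mul, Matrix.mulVecLin_apply]
      rw [Matrix.mulVec, dotProduct]
      exact Finset.sum_congr rfl fun b _ => mul_comm _ _
    constructor
    · intro h
      rw [← key, h]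
      rfl
    · intro h
      apply Subtype.ext
      rw [key, h]
      rfl
  exact_succ i := F.exact_succ (i + 1)

lemma subtype_comp_tail_aug (F : GrSyz.FreeRes 𝒜 𝒩) :
    (Zs F).subtype ∘ₗ (tail F).augLin = F.dLin 0 := by
  apply LinearMap.ext
  intro w
  change ((Fintype.linearCombination R (tail F).aug w : Zs F) : Fin (F.rk 0) → R) = _
  rw [Fintype.linearCombination_apply, Submodule.coe_sum]
  funext c
  rw [Finset.sum_apply]
  change ∑ b, (w b • ((tail F).aug b : Fin (F.rk 0) → R)) c = (F.d 0 *ᵥ w) c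
  rw [Matrix.mulVec, dotProduct]
  exact Finset.sum_congr rfl fun b _ => mul_comm _ _

lemma Zs_subtype_isGrHomDeg (F : GrSyz.FreeRes 𝒜 𝒩) :
    IsGrHomDeg (ZGr F) (freeGr 𝒜 (F.deg 0)) (Zs F).subtype 0 := by
  intro j x hx
  rw [add_zero]
  exact hx

lemma ker_augLin_eq (F : GrSyz.FreeRes 𝒜 𝒩) :
    LinearMap.ker F.augLin = LinearMap.range (Zs F).subtype := by
  rw [Submodule.range_subtype]
  rfl

end Syz

end Groth.Agent.Lib27.LD
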