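import Groth.Agent.Lib27.LD4

/-!
# Graded local duality in vanishing form (abstract version)

`H^i_m(N)_j = 0` iff the complex `Hom(F_•, R)` is exact at the spot `n - i` in degree `-j-n`.
-/

set_option autoImplicit false
set_option linter.unusedSectionVars false
set_option linter.unusedVariables false
set_option linter.style.haveILetI false
universe u

namespace Groth.Agent.Lib27.LD

open DirectSum GrLC Groth.Agent.Lib.Helper11.GrLCLib Groth.Agent.Lib.Helper11.GrLes Matrix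

variable {R : Type u} [CommRing R] {𝒜 : ℤ → AddSubgroup R} [GradedRing 𝒜]
variable {k : Type u} [Field k] [Algebra k R] {m : HomogeneousIdeal 𝒜} {n : ℕ}
  {I : StarInjRes 𝒜 𝒜} (TD : TopDual k 𝒜 m n I)

/-- the chosen *injective resolution of a graded free module. -/
noncomputable def EPa (𝒜 : ℤ → AddSubgroup R) [GradedRing 𝒜] {r : ℕ} (a : Fin r → ℤ) :
    StarInjRes 𝒜 (freeGr 𝒜 a) := starInjRes 𝒜 (freeGr 𝒜 a)

section Defs

variable {N : Type u} [AddCommGroup N] [Module R N] {𝒩 : ℤ → AddSubgroup N}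
  [DirectSum.Decomposition 𝒩] [SetLike.GradedSMul 𝒜 𝒩]

/-- exactness of `H^n_m(F_•)` at the spot `p` in degree `j`. -/
def HVan (m : HomogeneousIdeal 𝒜) (n : ℕ) (F : GrSyz.FreeRes 𝒜 𝒩) : ℕ → ℤ → Prop
  | 0, j => ∀ ξ, ξ ∈ (EPa 𝒜 (F.deg 0)).Hgr m n j →
      ∃ η, η ∈ (EPa 𝒜 (F.deg (0 + 1))).Hgr m n j ∧
        Hm (EPa 𝒜 (F.deg (0 + 1))) (EPa 𝒜 (F.deg 0)) m n (F.dLin 0) 0 (dLin_isGrHomDeg F 0) η = ξ
  | p + 1, j => ∀ ξ, ξ ∈ (EPa 𝒜 (F.deg (p + 1))).Hgr m n j →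
      Hm (EPa 𝒜 (F.deg (p + 1))) (EPa 𝒜 (F.deg p)) m n (F.dLin p) 0 (dLin_isGrHomDeg F p) ξ = 0 →
      ∃ η, η ∈ (EPa 𝒜 (F.deg (p + 1 + 1))).Hgr m n j ∧
        Hm (EPa 𝒜 (F.deg (p + 1 + 1))) (EPa 𝒜 (F.deg (p + 1))) m n (F.dLin (p + 1)) 0
          (dLin_isGrHomDeg F (p + 1)) η = ξ

/-- exactness of `Hom(F_•, R)` at the spot `p` in degree `e`. -/
def ExtVan (F : GrSyz.FreeRes 𝒜 𝒩) : ℕ → ℤ → Prop
  | 0, e => ∀ v, Gmem 𝒜 (F.deg 0) e v → v ᵥ* F.d 0 = 0 → v = 0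
  | p + 1, e => ∀ v, Gmem 𝒜 (F.deg (p + 1)) e v → v ᵥ* F.d (p + 1) = 0 →
      ∃ w, Gmem 𝒜 (F.deg p) e w ∧ w ᵥ* F.d p = v

end Defs

section Pair0

variable {r : ℕ} {a : Fin r → ℤ} (EP : StarInjRes 𝒜 (freeGr 𝒜 a))

lemma pair_zero_left (e : ℤ) (v : Fin r → R) (hv : Gmem 𝒜 a e v) :
    pair TD EP 0 e v hv = 0 := by
  unfold pair
  rw [map_zero, map_zero]
  rfl

end Pair0

section Main

variable {N : Type u} [AddCommGroup N] [Module R N] {𝒩 : ℤ → AddSubgroup N}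
  [DirectSum.Decomposition 𝒩] [SetLike.GradedSMul 𝒜 𝒩]

include TD in
theorem hvan_iff_extVan (F : GrSyz.FreeRes 𝒜 𝒩) (p : ℕ) (j e : ℤ) (hje : e + j + n = 0) :
    HVan m n F p j ↔ ExtVan F p e := by
  cases p with
  | zero =>
    constructor
    · intro h v hv hv0
      apply pair_eq_zero_right TD (EPa 𝒜 (F.deg 0)) j e hje v hv
      intro ξ hξ
      obtain ⟨η, hη, rfl⟩ := h ξ hξ
      have := pair_Hm_mulVecLin TD (EPa 𝒜 (F.deg 0)) (EPa 𝒜 (F.deg (0 + 1))) (F.d_mem 0) η e v hv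
      refine this.trans ?_
      rw [pair_congr TD _ η e (Gmem_vecMul hv (F.d_mem 0)) (Gmem_zero e) hv0]
      exact pair_zero_right TD _ η e _
    · intro h ξ hξ
      refine exists_lift TD (EPa 𝒜 (F.deg 0)) (EPa 𝒜 (F.deg (0 + 1))) j e hje (F.d_mem 0) ξ hξ ?_
      intro v hv hv0
      have hv00 := h v hv hv0
      subst hv00
      exact pair_zero_right TD _ ξ e _
  | succ p =>
    constructor
    · intro h v hv hv0
      refine exists_colift TD (EPa 𝒜 (F.deg (p + 1))) j e hje (F.d_mem p) v hv ?_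
      intro ξ hξ hw
      have h1 : Hm (EPa 𝒜 (F.deg (p + 1))) (EPa 𝒜 (F.deg p)) m n (F.dLin p) 0
          (dLin_isGrHomDeg F p) ξ = 0 := by
        apply pair_eq_zero_left TD (EPa 𝒜 (F.deg p)) j e hje
        · have := Hm_mem (E' := EPa 𝒜 (F.deg p)) (a := m) (q := n) (dLin_isGrHomDeg F p) hξ
          rwa [add_zero] at this
        · intro w hw'
          have := pair_Hm_mulVecLin TD (EPa 𝒜 (F.deg p)) (EPa 𝒜 (F.deg (p + 1))) (F.d_mem p) ξ e w hw'
          exact this.trans (hw w hw')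
      obtain ⟨η, hη, rfl⟩ := h ξ hξ h1
      have := pair_Hm_mulVecLin TD (EPa 𝒜 (F.deg (p + 1))) (EPa 𝒜 (F.deg (p + 1 + 1)))
        (F.d_mem (p + 1)) η e v hv
      refine this.trans ?_
      rw [pair_congr TD _ η e (Gmem_vecMul hv (F.d_mem (p + 1))) (Gmem_zero e) hv0]
      exact pair_zero_right TD _ η e _
    · intro h ξ hξ hξ0
      refine exists_lift TD (EPa 𝒜 (F.deg (p + 1))) (EPa 𝒜 (F.deg (p + 1 + 1))) j e hje
        (F.d_mem (p + 1)) ξ hξ ?_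
      intro v hv hv0
      obtain ⟨w, hw, rfl⟩ := h v hv hv0
      have := pair_Hm_mulVecLin TD (EPa 𝒜 (F.deg p)) (EPa 𝒜 (F.deg (p + 1))) (F.d_mem p) ξ e w hw
      rw [pair_congr TD _ ξ e hv (Gmem_vecMul hw (F.d_mem p)) rfl, ← this]
      have hξ0' : Hm (EPa 𝒜 (F.deg (p + 1))) (EPa 𝒜 (F.deg p)) m n (Matrix.mulVecLin (F.d p)) 0
          (mulVecLin_isGrHomDeg (F.d_mem p)) ξ = 0 := hξ0
      rw [hξ0']
      exact pair_zero_left TD _ e w hw

lemma augLin_comp_dLin (F : GrSyz.FreeRes 𝒜 𝒩) : F.augLin ∘ₗ F.dLin 0 = 0 := by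
  apply LinearMap.ext
  intro w
  have : F.dLin 0 w ∈ LinearMap.ker F.augLin := by
    rw [F.exact_zero]
    exact ⟨w, rfl⟩
  simpa using this

end Main

section Induction

include TD in
theorem ldh : ∀ (p : ℕ) (N : Type u) [AddCommGroup N] [Module R N] (𝒩 : ℤ → AddSubgroup N)
    [DirectSum.Decomposition 𝒩] [SetLike.GradedSMul 𝒜 𝒩] (F : GrSyz.FreeRes 𝒜 𝒩)
    (E : StarInjRes 𝒜 𝒩) (i : ℕ) (j : ℤ), p + i = n →
    ((∀ x, x ∈ E.Hgr m i j → x = 0) ↔ HVan m n F p j) := by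
  intro p
  induction p with
  | zero =>
    intro N _ _ 𝒩 _ _ F E i j hpi
    have hi : i = n := by omega
    subst hi
    obtain ⟨h1, h2⟩ := re (EPa 𝒜 (F.deg (0 + 1))) (EPa 𝒜 (F.deg 0)) E (F.dLin 0) F.augLin
      (dLin_isGrHomDeg F 0) (augLin_isGrHomDeg F) F.aug_surjective F.exact_zero m i
      (fun X _ _ 𝒳 _ _ EX => TD.high X 𝒳 EX (i + 1) (Nat.lt_succ_self i))
    constructor
    · intro h ξ hξ
      have h0 : Hm (EPa 𝒜 (F.deg 0)) E m i F.augLin 0 (augLin_isGrHomDeg F) ξ = 0 := by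
        apply h
        have := Hm_mem (E' := E) (a := m) (q := i) (augLin_isGrHomDeg F) hξ
        rwa [add_zero] at this
      obtain ⟨η0, hη0⟩ := h2 ξ h0
      exact Hm_exists_hom_preimage (dLin_isGrHomDeg F 0) (by rw [add_zero]; exact hξ) η0 hη0
    · intro h x hx
      obtain ⟨y0, hy0⟩ := h1 x
      obtain ⟨y, hy, hyx⟩ := Hm_exists_hom_preimage (augLin_isGrHomDeg F)
        (by rw [add_zero]; exact hx) y0 hy0
      obtain ⟨η, hη, rfl⟩ := h y hy
      rw [← hyx, Hm_comp_apply' (dLin_isGrHomDeg F 0) (augLin_isGrHomDeg F) (isGrHomDeg_zero' 0)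
        (augLin_comp_dLin F) (add_zero 0), Hm_zero]
      rfl
  | succ p ih =>
    intro N _ _ 𝒩 _ _ F E i j hpi
    let EZ : StarInjRes 𝒜 (ZGr F) := starInjRes 𝒜 (ZGr F)
    rcases p with _ | p
    · -- `p = 1`
      have hi : i + 1 = n := by omega
      subst hi
      have hlow : Subsingleton ((EPa 𝒜 (F.deg 0)).H m i) :=
        free_low TD (EPa 𝒜 (F.deg 0)) i (Nat.lt_succ_self i)
      rw [lk EZ (EPa 𝒜 (F.deg 0)) E (Zs F).subtype F.augLin (Zs_subtype_isGrHomDeg F)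
        (augLin_isGrHomDeg F) (Submodule.injective_subtype _) F.aug_surjective (ker_augLin_eq F)
        m i hlow j]
      obtain ⟨h1, h2⟩ := re (EPa 𝒜 (F.deg (0 + 1 + 1))) (EPa 𝒜 (F.deg (0 + 1))) EZ
        ((tail F).dLin 0) (tail F).augLin
        (dLin_isGrHomDeg (tail F) 0) (augLin_isGrHomDeg (tail F)) (tail F).aug_surjective
        (tail F).exact_zero m (i + 1)
        (fun X _ _ 𝒳 _ _ EX => TD.high X 𝒳 EX (i + 1 + 1) (Nat.lt_succ_self (i + 1)))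
      have hcomp : ∀ ξ : (EPa 𝒜 (F.deg (0 + 1))).H m (i + 1),
          Hm EZ (EPa 𝒜 (F.deg 0)) m (i + 1) (Zs F).subtype 0 (Zs_subtype_isGrHomDeg F)
            (Hm (EPa 𝒜 (F.deg (0 + 1))) EZ m (i + 1) (tail F).augLin 0
              (augLin_isGrHomDeg (tail F)) ξ) =
          Hm (EPa 𝒜 (F.deg (0 + 1))) (EPa 𝒜 (F.deg 0)) m (i + 1) (F.dLin 0) 0
            (dLin_isGrHomDeg F 0) ξ := fun ξ =>
        Hm_comp_apply' (augLin_isGrHomDeg (tail F)) (Zs_subtype_isGrHomDeg F)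
          (dLin_isGrHomDeg F 0) (subtype_comp_tail_aug F) (add_zero 0) ξ
      constructor
      · intro h ξ hξ hξ0
        have hy : Hm (EPa 𝒜 (F.deg (0 + 1))) EZ m (i + 1) (tail F).augLin 0
            (augLin_isGrHomDeg (tail F)) ξ = 0 := by
          apply h
          · have := Hm_mem (E' := EZ) (a := m) (q := i + 1) (augLin_isGrHomDeg (tail F)) hξ
            rwa [add_zero] at this
          · exact (hcomp ξ).trans hξ0
        obtain ⟨η0, hη0⟩ := h2 ξ hy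
        exact Hm_exists_hom_preimage (dLin_isGrHomDeg (tail F) 0) (by rw [add_zero]; exact hξ) η0 hη0
      · intro h y hy hy0
        obtain ⟨ξ0, hξ0⟩ := h1 y
        obtain ⟨ξ, hξ, hξy⟩ := Hm_exists_hom_preimage (augLin_isGrHomDeg (tail F))
          (by rw [add_zero]; exact hy) ξ0 hξ0
        have hd : Hm (EPa 𝒜 (F.deg (0 + 1))) (EPa 𝒜 (F.deg 0)) m (i + 1) (F.dLin 0) 0
            (dLin_isGrHomDeg F 0) ξ = 0 := by
          exact ((hcomp ξ).symm.trans (congrArg _ hξy)).trans hy0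
        obtain ⟨η, hη, hηξ⟩ := h ξ hξ hd
        rw [← hξy, ← hηξ]
        have := Hm_comp_apply' (E := EPa 𝒜 (F.deg (0 + 1 + 1))) (E' := EPa 𝒜 (F.deg (0 + 1)))
          (E'' := EZ) (a := m) (q := i + 1)
          (dLin_isGrHomDeg (tail F) 0) (augLin_isGrHomDeg (tail F)) (isGrHomDeg_zero' 0)
          (augLin_comp_dLin (tail F)) (add_zero 0) η
        refine this.trans ?_
        rw [Hm_zero]
        rfl
    · -- `p + 2`
      have hlow0 : Subsingleton ((EPa 𝒜 (F.deg 0)).H m i) :=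
        free_low TD (EPa 𝒜 (F.deg 0)) i (by omega)
      have hlow1 : Subsingleton ((EPa 𝒜 (F.deg 0)).H m (i + 1)) :=
        free_low TD (EPa 𝒜 (F.deg 0)) (i + 1) (by omega)
      rw [ds EZ (EPa 𝒜 (F.deg 0)) E (Zs F).subtype F.augLin (Zs_subtype_isGrHomDeg F)
        (augLin_isGrHomDeg F) (Submodule.injective_subtype _) F.aug_surjective (ker_augLin_eq F)
        m i hlow0 hlow1 j]
      exact ih (Zs F) (ZGr F) (tail F) EZ (i + 1) j (by omega)

end Induction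

section Final

variable {N : Type u} [AddCommGroup N] [Module R N] {𝒩 : ℤ → AddSubgroup N}
  [DirectSum.Decomposition 𝒩] [SetLike.GradedSMul 𝒜 𝒩]

include TD in
/-- graded local duality, vanishing form. -/
theorem ld (F : GrSyz.FreeRes 𝒜 𝒩) (E : StarInjRes 𝒜 𝒩) (p i : ℕ) (hpi : p + i = n) (j e : ℤ)
    (hje : e + j + n = 0) :
    (∀ x, x ∈ E.Hgr m i j → x = 0) ↔ ExtVan F p e :=
  (ldh TD p N 𝒩 F E i j hpi).trans (hvan_iff_extVan TD F p j e hje)

end Final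

end Groth.Agent.Lib27.LD
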