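import Groth.Agent.Lib27.LD1
import Groth.Agent.Lib.Helper11.GrLesE
import Groth.Agent.Lib.Helper11.GrLCOrdB
import Groth.Agent.Lib.Helper16.LocCohGrothVanish
import Groth.Agent.Lib.Helper24.SystemOfParams

/-!
# The long exact sequence for an injection of arbitrary degree; quasi-regular elements
-/

set_option autoImplicit false
set_option linter.unusedSectionVars false
set_option linter.unusedVariables false
set_option linter.style.haveILetI false
universe u

namespace Groth.Agent.Lib27.LD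

open DirectSum GrLC Groth.Agent.Lib.Helper11.GrLCLib Groth.Agent.Lib.Helper11.GrLes

variable {ι : Type} [DecidableEq ι] [AddCommGroup ι]
variable {R : Type u} [CommRing R] {𝒜 : ι → AddSubgroup R} [GradedRing 𝒜]
variable {M : Type u} [AddCommGroup M] [Module R M] {ℳ : ι → AddSubgroup M}
  [DirectSum.Decomposition ℳ] [SetLike.GradedSMul 𝒜 ℳ]
variable {M' : Type u} [AddCommGroup M'] [Module R M'] {ℳ' : ι → AddSubgroup M'}
  [DirectSum.Decomposition ℳ'] [SetLike.GradedSMul 𝒜 ℳ']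
variable {M'' : Type u} [AddCommGroup M''] [Module R M''] {ℳ'' : ι → AddSubgroup M''}
  [DirectSum.Decomposition ℳ''] [SetLike.GradedSMul 𝒜 ℳ'']

section Shift

variable (E' : StarInjRes 𝒜 ℳ') (E : StarInjRes 𝒜 ℳ)

/-- a map of degree `δ` out of `M'` is a map of degree `0` out of `M'(-δ)`; the induced maps agree. -/
lemma Hm_shift (u : M' →ₗ[R] M) (δ : ι) (hu : IsGrHomDeg ℳ' ℳ u δ)
    [DirectSum.Decomposition (shiftGr ℳ' (-δ))]
    (hu0 : IsGrHomDeg (shiftGr ℳ' (-δ)) ℳ u 0) (a : HomogeneousIdeal 𝒜) (q : ℕ)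
    (z : (shiftRes E' (-δ)).H a q) :
    Hm (shiftRes E' (-δ)) E a q u 0 hu0 z = Hm E' E a q u δ hu (shiftResH E' (-δ) a q z) := by
  have hs := (exists_cmap E' E u δ hu).choose_spec
  let c := (exists_cmap E' E u δ hu).choose
  let cs : CMap (shiftRes E' (-δ)) E := ⟨c.f, c.comm⟩
  have hcs : cs.IsDeg 0 := by
    intro n g x hx
    have hx' : x ∈ (E'.X n).gr (g + -δ) := hx
    have := hs.1 n _ x hx'
    rw [neg_add_cancel_right] at this
    rw [add_zero]
    exact this
  have hls : cs.Lifts u := hs.2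
  rw [Hm_eq_Hmap hu0 hcs hls]
  obtain ⟨w, rfl⟩ := Submodule.mkQ_surjective _ z
  rfl

/-- the long exact sequence for `0 → M' → M → M'' → 0` with the injection of degree `δ`. -/
theorem les_deg (E'' : StarInjRes 𝒜 ℳ'') (u : M' →ₗ[R] M) (v : M →ₗ[R] M'') (δ : ι)
    (hu : IsGrHomDeg ℳ' ℳ u δ) (hv : IsGrHomDeg ℳ ℳ'' v 0)
    (hui : Function.Injective u) (hvs : Function.Surjective v)
    (hex : LinearMap.ker v = LinearMap.range u) (a : HomogeneousIdeal 𝒜) :
    ∃ γ : ∀ q, E''.H a q →ₗ[R] E'.H a (q + 1),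
      (∀ q g x, x ∈ E''.Hgr a q g → γ q x ∈ E'.Hgr a (q + 1) (g + -δ)) ∧
      (∀ q, Function.Exact (Hm E' E a q u δ hu) (Hm E E'' a q v 0 hv)) ∧
      (∀ q, Function.Exact (Hm E E'' a q v 0 hv) (γ q)) ∧
      (∀ q, Function.Exact (γ q) (Hm E' E a (q + 1) u δ hu)) := by
  letI := shiftDecomposition ℳ' (-δ)
  have hu0 : IsGrHomDeg (shiftGr ℳ' (-δ)) ℳ u 0 := by
    intro g x hx
    have hx' : x ∈ ℳ' (g + -δ) := hx
    have := hu _ x hx'
    rw [neg_add_cancel_right] at this
    rw [add_zero]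
    exact this
  obtain ⟨γ, hγ, e1, e2, e3, -⟩ := les (shiftRes E' (-δ)) E E'' u v hu0 hv hui hvs hex a
  refine ⟨fun q => (shiftResH E' (-δ) a (q + 1)).toLinearMap ∘ₗ γ q, ?_, ?_, ?_, ?_⟩
  · intro q g x hx
    exact (shiftRes_Hcomp E' (-δ) a (q + 1) g _).1 (hγ q g x hx)
  · intro q y
    rw [e1 q y]
    constructor
    · rintro ⟨z, rfl⟩
      exact ⟨shiftResH E' (-δ) a q z, (Hm_shift E' E u δ hu hu0 a q z).symm⟩
    · rintro ⟨z', rfl⟩
      refine ⟨(shiftResH E' (-δ) a q).symm z', ?_⟩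
      rw [Hm_shift E' E u δ hu hu0 a q, LinearEquiv.apply_symm_apply]
  · intro q x
    rw [← e2 q x]
    constructor
    · intro h
      exact (shiftResH E' (-δ) a (q + 1)).injective (h.trans (map_zero _).symm)
    · intro h
      show (shiftResH E' (-δ) a (q + 1)) (γ q x) = 0
      rw [h, map_zero]
  · intro q y'
    have := e3 q ((shiftResH E' (-δ) a (q + 1)).symm y')
    rw [Hm_shift E' E u δ hu hu0 a (q + 1), LinearEquiv.apply_symm_apply] at this
    rw [this]
    constructor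
    · rintro ⟨x, hx⟩
      refine ⟨x, ?_⟩
      show (shiftResH E' (-δ) a (q + 1)) (γ q x) = y'
      rw [hx, LinearEquiv.apply_symm_apply]
    · rintro ⟨x, hx⟩
      refine ⟨x, ?_⟩
      rw [← hx]
      exact ((shiftResH E' (-δ) a (q + 1)).symm_apply_apply _).symm

end Shift

section FiniteLength

variable [IsNoetherianRing R]

/-- the higher local cohomology of a module of finite length vanishes. -/
theorem subsingleton_H_of_isFiniteLength [Module.Finite R M] (hM : IsFiniteLength R M)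
    (E : StarInjRes 𝒜 ℳ) (a : HomogeneousIdeal 𝒜) (i : ℕ) (hi : 1 ≤ i) :
    Subsingleton (E.H a i) := by
  obtain ⟨e⟩ := Groth.Agent.Lib.Helper11.GrLCOrd.nonempty_H_equiv E a i
  have hdim : Module.supportDim R M < ((1 : ℕ) : WithBot ℕ∞) :=
    lt_of_le_of_lt (Groth.Agent.Lib.Helper24.supportDim_le_zero_of_isFiniteLength hM)
      (by exact_mod_cast zero_lt_one)
  have := Groth.Agent.Lib.Helper16.LC.subsingleton_H_of_supportDim_lt a.toIdeal M 1 hdim i hi
  exact e.injective.subsingleton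

end FiniteLength

section Smul

lemma Hm_lsmul (E : StarInjRes 𝒜 ℳ) (a : HomogeneousIdeal 𝒜) (q : ℕ) {x : R} {κ : ι}
    (hx : x ∈ 𝒜 κ) (h : IsGrHomDeg ℳ ℳ (LinearMap.lsmul R M x) κ) (z : E.H a q) :
    Hm E E a q (LinearMap.lsmul R M x) κ h z = x • z := by
  rw [Hm_eq_Hmap h (CMap.smul_isDeg E hx) (CMap.smul_lifts E x), CMap.Hmap_smul]

end Smul

end Groth.Agent.Lib27.LD
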