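import Mathlib
import Groth.Agent.Lib27.LAsym

/-!
# Divisibility of `γ^j(x · γ^d(y))` and `γ^j(γ^d(y))` by `γ^d(y)` when `γ^k(y) = 0` for `k > d`
-/

set_option autoImplicit false
open LambdaRing LambdaRing.LambdaOps Finset MvPolynomial

namespace Groth.Agent.Lib27.LDiv

open Groth.Agent.Lib27.LOps Groth.Agent.Lib27.LModel Groth.Agent.Lib27.LUniv Groth.Agent.Lib27.LCons
  Groth.Agent.Lib27.LAsym

section Defs
variable {A : Type*} [CommRing A] [LambdaOps A]

/-- exchange of the two families of variables. -/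
noncomputable def sw : Lam2 →ₐ[ℤ] Lam2 := rename Sum.swap

lemma evL_sw (x y : A) (R : Lam2) : evL x y (sw R) = evL y x R := by
  unfold sw evL
  rw [aeval_rename]
  have : (Sum.elim (fun j => lam (j + 1) x) (fun j => lam (j + 1) y)) ∘ Sum.swap =
      Sum.elim (fun j => lam (j + 1) y) (fun j => lam (j + 1) x) := by
    funext v; rcases v with j | j <;> rfl
  rw [this]

/-- `λ^k(γ^{d'+1} y)`. -/
noncomputable def lamG (d' k : ℕ) : Lam2 := sw (R2 d' k)

lemma evL_lamG (hA : IsSpecial A) (x y : A) (d' k : ℕ) :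
    evL x y (lamG d' k) = lam k (gamma (d' + 1) y) := by
  rw [lamG, evL_sw, evL_R2 hA]

/-- `λ^k(x · γ^{d'+1} y)`. -/
noncomputable def RLp (d' k : ℕ) : Lam2 :=
  aeval (Sum.elim (fun i : Fin k => (X (Sum.inl (i : ℕ)) : Lam2)) (fun i : Fin k => lamG d' ((i : ℕ) + 1)))
    (Pmul k)

lemma evL_RLp (hA : IsSpecial A) (x y : A) (d' k : ℕ) :
    evL x y (RLp d' k) = lam k (x * gamma (d' + 1) y) := by
  rw [hA.lam_mul k (Pmul k) (isMulPoly_Pmul k), RLp]
  have := Groth.Agent.Lib27.Special.map_aeval_int (evL x y).toRingHom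
    (Sum.elim (fun i : Fin k => (X (Sum.inl (i : ℕ)) : Lam2)) (fun i : Fin k => lamG d' ((i : ℕ) + 1)))
    (Pmul k)
  simp only [AlgHom.toRingHom_eq_coe, RingHom.coe_coe] at this
  rw [this]
  have e2 : (fun v : Fin k ⊕ Fin k => evL x y
      ((Sum.elim (fun i : Fin k => (X (Sum.inl (i : ℕ)) : Lam2))
        (fun i : Fin k => lamG d' ((i : ℕ) + 1))) v)) =
      Sum.elim (fun i : Fin k => lam ((i : ℕ) + 1) x)
        (fun i : Fin k => lam ((i : ℕ) + 1) (gamma (d' + 1) y)) := by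
    funext v
    rcases v with i | i
    · simp [evL]
    · simp only [Sum.elim_inr]
      exact evL_lamG hA x y d' _
  rw [e2]

/-- `γ^{j+1}(x · γ^{d'+1} y)` in the `λ`-coordinates. -/
noncomputable def RGp (d' j : ℕ) : Lam2 := ∑ i ∈ range (j + 1), (j.choose i : Lam2) * RLp d' (i + 1)

lemma evL_RGp (hA : IsSpecial A) (x y : A) (d' j : ℕ) :
    evL x y (RGp d' j) = gamma (j + 1) (x * gamma (d' + 1) y) := by
  rw [gamma_succ_eq, RGp, map_sum]
  refine Finset.sum_congr rfl fun i _ => ?_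
  rw [map_mul, map_natCast, evL_RLp hA]

/-- `γ^{j+1}(x · γ^{d'+1} y)` in the `γ`-coordinates. -/
noncomputable def Rp (d' j : ℕ) : Lam2 := conv (RGp d' j)

lemma evG_Rp (hA : IsSpecial A) (x y : A) (d' j : ℕ) :
    evG x y (Rp d' j) = gamma (j + 1) (x * gamma (d' + 1) y) := by
  rw [Rp, evG_conv, evL_RGp hA]

/-- `γ^{j+1}(γ^{d'+1} y)` in the `γ`-coordinates. -/
noncomputable def Re (d' j : ℕ) : Lam2 := conv (sw (R2g d' j))

lemma evG_Re (hA : IsSpecial A) (x y : A) (d' j : ℕ) :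
    evG x y (Re d' j) = gamma (j + 1) (gamma (d' + 1) y) := by
  rw [Re, evG_conv, evL_sw, evL_R2g hA]

/-- kill the variables `inr k`, `k ≥ d`. -/
noncomputable def kappa (d : ℕ) : Lam2 →ₐ[ℤ] Lam2 :=
  aeval (Sum.elim (fun k => X (Sum.inl k)) (fun k => if k < d then X (Sum.inr k) else 0))

lemma evG_kappa (x y : A) (d : ℕ) (hy : ∀ k, d < k → gamma k y = 0) (R : Lam2) :
    evG x y (kappa d R) = evG x y R := by
  have : (evG x y).comp (kappa d) = evG x y := by
    apply MvPolynomial.algHom_ext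
    rintro (k | k)
    · simp [kappa, evG]
    · rw [AlgHom.comp_apply]
      simp only [kappa, aeval_X, Sum.elim_inr]
      split_ifs with h
      · rfl
      · rw [map_zero]
        simp only [evG, aeval_X, Sum.elim_inr]
        rw [hy (k + 1) (by omega)]
  exact DFunLike.congr_fun this R

end Defs

section Kappa

open Classical in
lemma kappa_monomial (d : ℕ) (m : ℕ ⊕ ℕ →₀ ℕ) (c : ℤ) :
    kappa d (monomial m c) = if (∀ k, d ≤ k → m (Sum.inr k) = 0) then monomial m c else 0 := by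
  classical
  rw [kappa, aeval_monomial]
  split_ifs with h
  · rw [monomial_eq]
    congr 1
    refine Finsupp.prod_congr fun v hv => ?_
    rcases v with k | k
    · rfl
    · simp only [Sum.elim_inr]
      rw [if_pos]
      by_contra hc
      rw [Finsupp.mem_support_iff] at hv
      exact hv (h k (by omega))
  · push Not at h
    obtain ⟨k, hk, hmk⟩ := h
    rw [Finsupp.prod, Finset.prod_eq_zero (i := Sum.inr k) (Finsupp.mem_support_iff.2 hmk), mul_zero]
    simp only [Sum.elim_inr]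
    rw [if_neg (by omega), zero_pow hmk]

open Classical in
lemma coeff_kappa (d : ℕ) (R : Lam2) (m' : ℕ ⊕ ℕ →₀ ℕ) :
    coeff m' (kappa d R) = if (∀ k, d ≤ k → m' (Sum.inr k) = 0) then coeff m' R else 0 := by
  classical
  induction R using MvPolynomial.induction_on' with
  | monomial m c =>
    rw [kappa_monomial]
    by_cases hm : ∀ k, d ≤ k → m (Sum.inr k) = 0
    · rw [if_pos hm, coeff_monomial]
      split_ifs with h1 h2 h2
      · rfl
      · exfalso; subst h1; exact h2 hm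
      · rfl
      · rfl
    · rw [if_neg hm, coeff_zero, coeff_monomial]
      split_ifs with h1 h2
      · exfalso; subst h2; exact hm h1
      · rfl
      · rfl
  | add p q hp hq =>
    rw [map_add, coeff_add, coeff_add, hp, hq]
    split_ifs <;> simp

end Kappa

section Division

/-- the quotient of `κ R` by the variable `inr d'`. -/
noncomputable def Dv (d' : ℕ) (R : Lam2) : Lam2 :=
  MvPolynomial.divMonomial (kappa (d' + 1) R) (Finsupp.single (Sum.inr d') 1)

/-- the remainder. -/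
noncomputable def Rem (d' : ℕ) (R : Lam2) : Lam2 :=
  MvPolynomial.modMonomial (kappa (d' + 1) R) (Finsupp.single (Sum.inr d') 1)

lemma kappa_eq (d' : ℕ) (R : Lam2) : kappa (d' + 1) R = X (Sum.inr d') * Dv d' R + Rem d' R :=
  (divMonomial_add_modMonomial_single _ _).symm

lemma Rem_support (d' : ℕ) (R : Lam2) (m : ℕ ⊕ ℕ →₀ ℕ) (hm : m ∈ (Rem d' R).support) :
    ∀ k, d' ≤ k → m (Sum.inr k) = 0 := by
  classical
  rw [mem_support_iff] at hm
  have hnle : ¬ Finsupp.single (Sum.inr d') 1 ≤ m := by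
    intro hle
    exact hm (coeff_modMonomial_of_le _ hle)
  have h2 : coeff m (kappa (d' + 1) R) ≠ 0 := by
    rw [Rem, coeff_modMonomial_of_not_le _ hnle] at hm
    exact hm
  rw [coeff_kappa] at h2
  have h3 : ∀ k, d' + 1 ≤ k → m (Sum.inr k) = 0 := by
    by_contra hc
    rw [if_neg hc] at h2
    exact h2 rfl
  intro k hk
  rcases Nat.eq_or_lt_of_le hk with heq | hlt
  · subst heq
    by_contra hc
    apply hnle
    rw [Finsupp.single_le_iff]
    omega
  · exact h3 k hlt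

section
attribute [local instance] modelOps

theorem Rem_eq_zero (d' : ℕ) (R : Lam2)
    (hmodel : ∀ M, evG (x0A M d') (y0A M d') R = 0) : Rem d' R = 0 := by
  apply zero_of_modelA d' _ (Rem_support d' R)
  intro M
  have h1 : Rem d' R = kappa (d' + 1) R - X (Sum.inr d') * Dv d' R := by
    rw [kappa_eq]; ring
  rw [h1, map_sub, map_mul,
    evG_kappa _ _ _ (fun k hk => gamma_y0A_eq_zero M d' k (by omega)), hmodel M]
  simp only [evG, aeval_X, Sum.elim_inr]
  rw [gamma_y0A_eq_zero M d' (d' + 1) (by omega)]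
  simp

end

variable {A : Type*} [CommRing A] [LambdaOps A]

/-- **Divisibility.** -/
theorem evG_eq_mul (d' : ℕ) (R : Lam2) (hR : Rem d' R = 0) (x y : A)
    (hy : ∀ k, d' + 1 < k → gamma k y = 0) :
    evG x y R = gamma (d' + 1) y * evG x y (Dv d' R) := by
  rw [← evG_kappa x y (d' + 1) hy R, kappa_eq, hR, add_zero, map_mul]
  simp [evG]

lemma Dv_weight (d' : ℕ) (R : Lam2) (w : ℕ) (hR : ∀ m ∈ R.support, w ≤ Finsupp.weight wt2 m) :
    ∀ m ∈ (Dv d' R).support, w ≤ Finsupp.weight wt2 m + (d' + 1) := by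
  classical
  intro m hm
  rw [mem_support_iff, Dv, coeff_divMonomial, coeff_kappa] at hm
  have h2 : coeff (Finsupp.single (Sum.inr d') 1 + m) R ≠ 0 := by
    intro h0
    apply hm
    rw [h0]; simp
  have h3 := hR _ (mem_support_iff.2 h2)
  have hw : wt2 (Sum.inr d') = d' + 1 := rfl
  rw [map_add, Finsupp.weight_single, hw] at h3
  simp only [smul_eq_mul, one_mul] at h3
  omega

end Division

section Facts
attribute [local instance] modelOps

lemma Rem_Rp (d' j : ℕ) : Rem d' (Rp d' j) = 0 := by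
  apply Rem_eq_zero
  intro M
  rw [evG_Rp (isSpecial_model _), gamma_y0A_eq_zero M d' (d' + 1) (by omega), mul_zero,
    Groth.Agent.Lib27.GammaFil.gamma_zero_arg (j + 1) (by omega)]

lemma Rem_Re (d' j : ℕ) : Rem d' (Re d' j) = 0 := by
  apply Rem_eq_zero
  intro M
  rw [evG_Re (isSpecial_model _), gamma_y0A_eq_zero M d' (d' + 1) (by omega),
    Groth.Agent.Lib27.GammaFil.gamma_zero_arg (j + 1) (by omega)]

lemma Rp_weight (d' j : ℕ) : ∀ m ∈ (Rp d' j).support, max (j + 1) (d' + 2) ≤ Finsupp.weight wt2 m := by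
  apply transfer
  intro N
  rw [evG_Rp (isSpecial_model _)]
  have h1 : gamma (d' + 1) (y0 N) ∈ Iu (Fin N ⊕ Fin N) (d' + 1) := gamma_mem_Iu _ (y0_mem N) _
  have h2 : x0 N * gamma (d' + 1) (y0 N) ∈ Iu (Fin N ⊕ Fin N) (d' + 1 + 1) := by
    have := Iu_mul (x0_mem N) h1
    rwa [add_comm] at this
  exact gamma_mem_Iu' N _ (d' + 1) h2 j

lemma Re_weight (d' j : ℕ) : ∀ m ∈ (Re d' j).support, max (j + 1) (d' + 1) ≤ Finsupp.weight wt2 m := by
  apply transfer
  intro N
  rw [evG_Re (isSpecial_model _)]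
  have h1 : gamma (d' + 1) (y0 N) ∈ Iu (Fin N ⊕ Fin N) (d' + 1) := gamma_mem_Iu _ (y0_mem N) _
  exact gamma_mem_Iu' N _ d' h1 j

end Facts

/-- the universal quotient `γ^{j+1}(x γ^{d'+1} y) / γ^{d'+1} y`. -/
noncomputable def Dp (d' j : ℕ) : Lam2 := Dv d' (Rp d' j)

/-- the universal quotient `γ^{j+1}(γ^{d'+1} y) / γ^{d'+1} y`. -/
noncomputable def De (d' j : ℕ) : Lam2 := Dv d' (Re d' j)

section Main
variable {A : Type*} [CommRing A] [LambdaOps A]

theorem gamma_mul_gamma_eq (hA : IsSpecial A) (d' j : ℕ) (x y : A)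
    (hy : ∀ k, d' + 1 < k → gamma k y = 0) :
    gamma (j + 1) (x * gamma (d' + 1) y) = gamma (d' + 1) y * evG x y (Dp d' j) := by
  rw [← evG_Rp hA, Dp]
  exact evG_eq_mul d' _ (Rem_Rp d' j) x y hy

theorem gamma_gamma_eq (hA : IsSpecial A) (d' j : ℕ) (x y : A)
    (hy : ∀ k, d' + 1 < k → gamma k y = 0) :
    gamma (j + 1) (gamma (d' + 1) y) = gamma (d' + 1) y * evG x y (De d' j) := by
  rw [← evG_Re hA x y, De]
  exact evG_eq_mul d' _ (Rem_Re d' j) x y hy

lemma Dp_weight (d' j : ℕ) : ∀ m ∈ (Dp d' j).support,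
    max (j + 1) (d' + 2) ≤ Finsupp.weight wt2 m + (d' + 1) :=
  Dv_weight d' _ _ (Rp_weight d' j)

lemma De_weight (d' j : ℕ) : ∀ m ∈ (De d' j).support,
    max (j + 1) (d' + 1) ≤ Finsupp.weight wt2 m + (d' + 1) :=
  Dv_weight d' _ _ (Re_weight d' j)

end Main

end Groth.Agent.Lib27.LDiv

namespace Groth.Agent.Lib27.LDiv

open Groth.Agent.Lib27.LOps

section Rank
variable {A : Type*} [CommRing A] [LambdaOps A]

/-- if `λ^k(N) = 0` for `k > d`, then `γ^k(N - d) = 0` for `k > d`. -/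
lemma gamma_sub_rank_eq_zero (hA : IsSpecial A) (d : ℕ) (N : A) (hN : ∀ i, d < i → lam i N = 0)
    (k : ℕ) (hk : d < k) : gamma k (N - (d : A)) = 0 := by
  rw [Groth.Agent.Lib27.Lam.gamma_eq_lam hA.lam_one_eq_zero]
  have e : N - (d : A) + (k : A) - 1 = N + ((k - 1 - d : ℕ) : A) := by
    have : k = (k - 1 - d) + d + 1 := by omega
    conv_lhs => rw [this]
    push_cast; ring
  rw [e, LambdaOps.lam_add]
  refine Finset.sum_eq_zero fun i hi => ?_
  rw [Finset.mem_range] at hi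
  by_cases hid : d < i
  · rw [hN i hid, zero_mul]
  · rw [Groth.Agent.Lib27.Lam.lam_natCast hA.lam_one_eq_zero, Nat.choose_eq_zero_of_lt (by omega),
      Nat.cast_zero, mul_zero]

/-- `γ^d(N - d) = (-1)^d λ_{-1}(N)`. -/
lemma gamma_sub_rank (hA : IsSpecial A) (d' : ℕ) (N : A) :
    gamma (d' + 1) (N - ((d' + 1 : ℕ) : A)) =
      (-1 : A) ^ (d' + 1) * ∑ i ∈ range (d' + 1 + 1), (-1 : A) ^ i * lam i N := by
  rw [Groth.Agent.Lib27.Lam.gamma_eq_lam hA.lam_one_eq_zero]
  have e : N - ((d' + 1 : ℕ) : A) + ((d' + 1 : ℕ) : A) - 1 = N - 1 := by ring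
  rw [e, Groth.Agent.Lib27.Lam.lam_sub_one hA.lam_one_eq_zero]

end Rank

end Groth.Agent.Lib27.LDiv
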