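import Mathlib
import Groth.Agent.Lib27.LCons

/-!
# Scalars from a binomial ring: `γ_t(c z) = γ_t(z)^c`
-/

set_option autoImplicit false
open LambdaRing LambdaRing.LambdaOps Finset

namespace Groth.Agent.Lib27.LScal

open Groth.Agent.Lib27.LOps Groth.Agent.Lib27.LModel Groth.Agent.Lib27.LUniv

section BP0
attribute [local instance] BinomialRing.toIsAddTorsionFree

variable {K : Type*} [CommRing K] [BinomialRing K]

/-- evaluation of `X_j` at the binomial coefficient `C(c, j+1)`. -/
noncomputable def chEval (c : K) : MvPolynomial ℕ ℤ →ₐ[ℤ] K :=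
  MvPolynomial.aeval fun j => Ring.choose c (j + 1)

/-- the product of factorials attached to a monomial. -/
def Nfac (α : ℕ →₀ ℕ) : ℕ := α.prod fun j e => (j + 1).factorial ^ e

/-- the product of falling factorial polynomials attached to a monomial. -/
noncomputable def Pdesc (α : ℕ →₀ ℕ) : Polynomial ℤ := α.prod fun j e => descPochhammer ℤ (j + 1) ^ e

lemma Nfac_pos (α : ℕ →₀ ℕ) : 0 < Nfac α := by
  unfold Nfac Finsupp.prod
  exact Finset.prod_pos fun j _ => pow_pos (Nat.factorial_pos _) _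

lemma aeval_Pdesc (c : K) (α : ℕ →₀ ℕ) :
    Polynomial.aeval c (Pdesc α) = (Nfac α : K) * α.prod fun j e => Ring.choose c (j + 1) ^ e := by
  unfold Pdesc Nfac Finsupp.prod
  rw [map_prod, Nat.cast_prod, ← Finset.prod_mul_distrib]
  refine Finset.prod_congr rfl fun j _ => ?_
  rw [map_pow, Polynomial.aeval_eq_smeval, Ring.descPochhammer_eq_factorial_smul_choose, nsmul_eq_mul,
    mul_pow, Nat.cast_pow]

/-- the common denominator. -/
noncomputable def Dden (G : MvPolynomial ℕ ℤ) : ℕ := ∏ α ∈ G.support, Nfac α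

/-- the integer polynomial in `c` computing `D · G(C(c,1), C(c,2), …)`. -/
noncomputable def Hpoly (G : MvPolynomial ℕ ℤ) : Polynomial ℤ :=
  ∑ α ∈ G.support, Polynomial.C (MvPolynomial.coeff α G * ((Dden G / Nfac α : ℕ) : ℤ)) * Pdesc α

lemma Dden_pos (G : MvPolynomial ℕ ℤ) : 0 < Dden G := Finset.prod_pos fun α _ => Nfac_pos α

lemma aeval_Hpoly (G : MvPolynomial ℕ ℤ) (x : K) :
    Polynomial.aeval x (Hpoly G) = (Dden G : K) * chEval x G := by
  classical
  rw [Hpoly, map_sum, chEval, MvPolynomial.aeval_def, MvPolynomial.eval₂_eq, Finset.mul_sum]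
  refine Finset.sum_congr rfl fun α hα => ?_
  have hdvd : Nfac α ∣ Dden G := Finset.dvd_prod_of_mem _ hα
  rw [map_mul, Polynomial.aeval_C, aeval_Pdesc]
  have e : (Dden G : K) = ((Dden G / Nfac α : ℕ) : K) * (Nfac α : K) := by
    rw [← Nat.cast_mul, Nat.div_mul_cancel hdvd]
  rw [e]
  simp only [eq_intCast, Int.cast_mul, Int.cast_natCast, Finsupp.prod]
  ring

theorem bp0 (G : MvPolynomial ℕ ℤ) (h : ∀ c : ℕ, chEval ((c : ℕ) : ℤ) G = 0) (c : K) :
    chEval c G = 0 := by
  classical
  have hroot : Hpoly G = 0 := by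
    apply Polynomial.eq_zero_of_infinite_isRoot
    refine Set.Infinite.mono ?_ (Set.infinite_range_of_injective (Nat.cast_injective (R := ℤ)))
    rintro _ ⟨n, rfl⟩
    rw [Set.mem_setOf_eq, Polynomial.IsRoot.def]
    have := aeval_Hpoly G ((n : ℕ) : ℤ)
    rw [h n, mul_zero] at this
    rw [← this, Polynomial.aeval_def, Polynomial.eval₂_eq_eval_map]
    simp
  have h2 := aeval_Hpoly G c
  rw [hroot, map_zero] at h2
  have h3 : (Dden G : ℕ) • chEval c G = 0 := by rw [nsmul_eq_mul]; exact h2.symm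
  exact (nsmul_right_injective (Nat.pos_iff_ne_zero.1 (Dden_pos G))) (by simpa using h3)

end BP0

section BP
variable {K : Type*} [CommRing K] [BinomialRing K]
open MvPolynomial

/-- partial evaluation: the first family at the binomial coefficients of `c`. -/
noncomputable def peK (c : K) : Lam2 →ₐ[ℤ] MvPolynomial ℕ K :=
  aeval (Sum.elim (fun j => C (Ring.choose c (j + 1))) (fun j => X j))

/-- polynomials in the second family with coefficients polynomials in the first. -/
noncomputable def Psi : Lam2 →ₐ[ℤ] MvPolynomial ℕ (MvPolynomial ℕ ℤ) :=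
  aeval (Sum.elim (fun j => C (X j)) (fun j => X j))

lemma peK_eq (c : K) (F : Lam2) : peK c F = MvPolynomial.map (chEval c).toRingHom (Psi F) := by
  have : (peK c).toRingHom = (MvPolynomial.map (chEval c).toRingHom).comp (Psi).toRingHom := by
    apply MvPolynomial.ringHom_ext
    · intro r; simp
    · rintro (j | j)
      · simp [peK, Psi, chEval]
      · simp [peK, Psi]
  exact RingHom.congr_fun this F

theorem bp (F : Lam2) (h : ∀ c : ℕ, peK ((c : ℕ) : ℤ) F = 0) (c : K) : peK c F = 0 := by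
  rw [peK_eq]
  ext β
  rw [coeff_map, coeff_zero]
  apply bp0
  intro n
  have h1 := h n
  rw [peK_eq] at h1
  have h2 := congrArg (coeff β) h1
  rwa [coeff_map, coeff_zero] at h2

end BP

section U3
open MvPolynomial

section Defs
variable {A : Type*} [CommRing A] [LambdaOps A]

/-- mixed evaluation: `λ^j` of the first element, `γ^j` of the second. -/
noncomputable def evLG (x y : A) : Lam2 →ₐ[ℤ] A :=
  aeval (Sum.elim (fun j => lam (j + 1) x) (fun j => gamma (j + 1) y))

/-- change of coordinates in the second family. -/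
noncomputable def convY : Lam2 →ₐ[ℤ] Lam2 :=
  aeval (Sum.elim (fun j => X (Sum.inl j)) (fun j => lamOfGam (gX Sum.inr) (j + 1)))

lemma evLG_gX_inr (x y : A) (k : ℕ) : evLG x y (gX Sum.inr k) = gamma k y := by
  unfold gX
  split_ifs with h
  · subst h; simp [Groth.Agent.Lib27.Gamma.gamma_zero]
  · obtain ⟨j, rfl⟩ : ∃ j, k = j + 1 := ⟨k - 1, by omega⟩
    simp [evLG]

lemma evLG_convY (x y : A) (R : Lam2) : evLG x y (convY R) = evL x y R := by
  have : (evLG x y).comp convY = evL x y := by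
    apply MvPolynomial.algHom_ext
    rintro (j | j)
    · simp [convY, evL, evLG]
    · rw [AlgHom.comp_apply]
      simp only [convY, evL, aeval_X, Sum.elim_inr]
      have := map_lamOfGam (evLG x y).toRingHom (gX Sum.inr) (j + 1)
      simp only [AlgHom.toRingHom_eq_coe, RingHom.coe_coe] at this
      rw [this]
      simp only [evLG_gX_inr]
      exact lamOfGam_gamma y (j + 1)
  exact DFunLike.congr_fun this R

/-- the series `Σ_{i ≥ 1} Y_i t^i` of the variables of the second family. -/
noncomputable def GY : PowerSeries Lam2 :=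
  PowerSeries.mk fun i => if i = 0 then 0 else X (Sum.inr (i - 1))

/-- the series `γ_t(y) - 1`. -/
noncomputable def Gs (y : A) : PowerSeries A :=
  PowerSeries.mk fun i => if i = 0 then 0 else gamma i y

lemma map_GY (x y : A) : PowerSeries.map (evLG x y).toRingHom GY = Gs y := by
  refine PowerSeries.ext fun i => ?_
  rw [PowerSeries.coeff_map, GY, Gs, PowerSeries.coeff_mk, PowerSeries.coeff_mk]
  split_ifs with h
  · simp
  · obtain ⟨j, rfl⟩ : ∃ j, i = j + 1 := ⟨i - 1, by omega⟩
    simp [evLG]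

/-- the coefficient of `t^k` in `(Σ Y_i t^i)^j`. -/
noncomputable def Bkj (k j : ℕ) : Lam2 := PowerSeries.coeff k (GY ^ j)

lemma evLG_Bkj (x y : A) (k j : ℕ) : evLG x y (Bkj k j) = PowerSeries.coeff k (Gs y ^ j) := by
  rw [← map_GY x y, ← map_pow, PowerSeries.coeff_map, Bkj]
  rfl

lemma evLG_Xs (x y : A) (s : ℕ) : evLG x y (Xs s) = lam s x := by
  unfold Xs
  split_ifs with h
  · subst h; simp [LambdaOps.lam_zero]
  · obtain ⟨j, rfl⟩ : ∃ j, s = j + 1 := ⟨s - 1, by omega⟩
    simp [evLG]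

/-- the polynomial expressing `γ^{k+1}(xy) - Σ_j λ^j(x) · [t^{k+1}] (γ_t(y) - 1)^j`. -/
noncomputable def Fk (k : ℕ) : Lam2 :=
  convY (R1g k) - ∑ j ∈ range (k + 2), Xs j * Bkj (k + 1) j

lemma evLG_Fk (hA : IsSpecial A) (x y : A) (k : ℕ) :
    evLG x y (Fk k) = gamma (k + 1) (x * y) -
      ∑ j ∈ range (k + 2), lam j x * PowerSeries.coeff (k + 1) (Gs y ^ j) := by
  rw [Fk, map_sub, evLG_convY, evL_R1g hA, map_sum]
  congr 1
  refine Finset.sum_congr rfl fun j _ => ?_
  rw [map_mul, evLG_Xs, evLG_Bkj]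

lemma Gs_eq_X_mul (y : A) : Gs y = PowerSeries.X * PowerSeries.mk fun i => gamma (i + 1) y := by
  refine PowerSeries.ext fun i => ?_
  rcases i with _ | i
  · simp [Gs]
  · rw [PowerSeries.coeff_succ_X_mul, Gs, PowerSeries.coeff_mk, PowerSeries.coeff_mk,
      if_neg (Nat.succ_ne_zero i)]

lemma coeff_Gs_pow_of_lt (y : A) {k j : ℕ} (h : k < j) : PowerSeries.coeff k (Gs y ^ j) = 0 := by
  rw [Gs_eq_X_mul, mul_pow, PowerSeries.coeff_X_pow_mul', if_neg (by omega)]

lemma gammaSeries_eq (y : A) : Groth.Agent.Lib27.Gamma.gammaSeries y = 1 + Gs y := by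
  refine PowerSeries.ext fun i => ?_
  rw [Groth.Agent.Lib27.Gamma.coeff_gammaSeries, map_add, Gs, PowerSeries.coeff_mk, PowerSeries.coeff_one]
  rcases i with _ | i
  · simp [Groth.Agent.Lib27.Gamma.gamma_zero]
  · simp

lemma gammaSeries_natCast_mul (c : ℕ) (y : A) :
    Groth.Agent.Lib27.Gamma.gammaSeries ((c : A) * y) = Groth.Agent.Lib27.Gamma.gammaSeries y ^ c := by
  induction c with
  | zero =>
    rw [Nat.cast_zero, zero_mul, pow_zero]
    refine PowerSeries.ext fun i => ?_
    rw [Groth.Agent.Lib27.Gamma.coeff_gammaSeries, PowerSeries.coeff_one]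
    split_ifs with h
    · subst h; exact Groth.Agent.Lib27.Gamma.gamma_zero _
    · exact Groth.Agent.Lib27.GammaFil.gamma_zero_arg i (by omega)
  | succ c ih =>
    have : ((c + 1 : ℕ) : A) * y = (c : A) * y + y := by push_cast; ring
    rw [this, Groth.Agent.Lib27.Gamma.gammaSeries_add, ih, pow_succ]

lemma gamma_natCast_mul (c : ℕ) (y : A) (k : ℕ) :
    gamma k ((c : A) * y) =
      ∑ j ∈ range (k + 1), (c.choose j : A) * PowerSeries.coeff k (Gs y ^ j) := by
  rw [← Groth.Agent.Lib27.Gamma.coeff_gammaSeries, gammaSeries_natCast_mul, gammaSeries_eq,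
    add_comm, add_pow, map_sum]
  have e : ∀ m, PowerSeries.coeff k (Gs y ^ m * 1 ^ (c - m) * ((c.choose m : ℕ) : PowerSeries A)) =
      (c.choose m : A) * PowerSeries.coeff k (Gs y ^ m) := by
    intro m
    rw [one_pow, mul_one, mul_comm, ← nsmul_eq_mul, map_nsmul, nsmul_eq_mul]
  simp only [e]
  have h1 : ∑ m ∈ range (c + 1), (c.choose m : A) * PowerSeries.coeff k (Gs y ^ m) =
      ∑ m ∈ range (max c k + 1), (c.choose m : A) * PowerSeries.coeff k (Gs y ^ m) := by
    apply Finset.sum_subset (Finset.range_subset_range.2 (by omega))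
    intro m _ hm
    rw [Finset.mem_range] at hm
    rw [Nat.choose_eq_zero_of_lt (by omega), Nat.cast_zero, zero_mul]
  have h2 : ∑ m ∈ range (k + 1), (c.choose m : A) * PowerSeries.coeff k (Gs y ^ m) =
      ∑ m ∈ range (max c k + 1), (c.choose m : A) * PowerSeries.coeff k (Gs y ^ m) := by
    apply Finset.sum_subset (Finset.range_subset_range.2 (by omega))
    intro m _ hm
    rw [Finset.mem_range] at hm
    rw [coeff_Gs_pow_of_lt y (by omega), mul_zero]
  rw [h1, h2]

end Defs

section NatCase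
attribute [local instance] modelOps

lemma exists_fin1 (p : MvPolynomial ℕ ℤ) :
    ∃ (N : ℕ) (q : MvPolynomial (Fin N) ℤ), rename (Fin.val : Fin N → ℕ) q = p := by
  classical
  refine ⟨p.vars.sup id + 1, ?_⟩
  apply exists_rename_eq_of_vars_subset_range p _ Fin.val_injective
  intro v hv
  have hle : id v ≤ p.vars.sup id := Finset.le_sup (f := id) hv
  exact ⟨⟨v, Nat.lt_succ_of_le hle⟩, rfl⟩

/-- evaluation of the second family at the `γ^j` of the universal element of the model. -/
noncomputable def EN (N : ℕ) : MvPolynomial ℕ ℤ →ₐ[ℤ] MvPolynomial (Fin N ⊕ Fin N) ℤ :=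
  aeval fun j => gamma (j + 1) (y0 N)

lemma EN_rename (N : ℕ) (q : MvPolynomial (Fin N) ℤ) :
    EN N (rename (Fin.val : Fin N → ℕ) q) =
      tau (Fin N ⊕ Fin N) (rename Sum.inr (aeval (fun k : Fin N => esymm (Fin N) ℤ ((k : ℕ) + 1)) q)) := by
  have : ((EN N).toRingHom).comp (rename (Fin.val : Fin N → ℕ)).toRingHom =
      ((tau (Fin N ⊕ Fin N)).toRingHom).comp ((rename (Sum.inr : Fin N → Fin N ⊕ Fin N)).toRingHom.comp
        (aeval (fun k : Fin N => esymm (Fin N) ℤ ((k : ℕ) + 1)) :
          MvPolynomial (Fin N) ℤ →ₐ[ℤ] MvPolynomial (Fin N) ℤ).toRingHom) := by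
    apply MvPolynomial.ringHom_ext
    · intro r
      simp [EN, tau]
    · intro k
      simp only [AlgHom.toRingHom_eq_coe, RingHom.coe_comp, RingHom.coe_coe, Function.comp_apply,
        rename_X, EN, aeval_X]
      rw [gamma_y0]
  exact RingHom.congr_fun this q

lemma EN_peK (N c : ℕ) (R : Lam2) :
    EN N (peK ((c : ℕ) : ℤ) R) = evLG ((c : ℕ) : MvPolynomial (Fin N ⊕ Fin N) ℤ) (y0 N) R := by
  have : ((EN N).toRingHom).comp (peK ((c : ℕ) : ℤ)).toRingHom =
      (evLG ((c : ℕ) : MvPolynomial (Fin N ⊕ Fin N) ℤ) (y0 N)).toRingHom := by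
    apply MvPolynomial.ringHom_ext
    · intro r
      simp [EN, peK, evLG]
    · rintro (j | j)
      · simp only [AlgHom.toRingHom_eq_coe, RingHom.coe_comp, RingHom.coe_coe, Function.comp_apply,
          peK, aeval_X, Sum.elim_inl, EN, evLG, aeval_C]
        rw [Groth.Agent.Lib27.Lam.lam_natCast (lam_one_model _), Ring.choose_natCast]
        simp
      · simp [EN, peK, evLG]
  exact RingHom.congr_fun this R

lemma peK_Fk_nat (k c : ℕ) : peK ((c : ℕ) : ℤ) (Fk k) = 0 := by
  obtain ⟨N, q, hq⟩ := exists_fin1 (peK ((c : ℕ) : ℤ) (Fk k))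
  have h1 : EN N (peK ((c : ℕ) : ℤ) (Fk k)) = 0 := by
    rw [EN_peK, evLG_Fk (isSpecial_model _), gamma_natCast_mul, sub_eq_zero]
    refine Finset.sum_congr rfl fun j _ => ?_
    rw [Groth.Agent.Lib27.Lam.lam_natCast (lam_one_model _)]
  rw [← hq, EN_rename] at h1
  have h2 := congrArg (tauInv (Fin N ⊕ Fin N)) h1
  rw [tauInv_tau, map_zero] at h2
  have h3 : aeval (fun k : Fin N => esymm (Fin N) ℤ ((k : ℕ) + 1)) q = 0 := by
    apply rename_injective _ Sum.inr_injective
    rw [h2, map_zero]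
  have h4 : q = 0 := by
    apply Groth.Agent.Lib27.SymmPoly.aeval_esymm_injective ℤ N
    rw [h3, map_zero]
  rw [← hq, h4, map_zero]

end NatCase

section Final
variable {K : Type*} [CommRing K] [BinomialRing K]
variable {A : Type*} [CommRing A] [LambdaOps A] [Algebra K A]

/-- **Scalars**: `γ^{k+1}(c z) = Σ_j C(c, j) · [t^{k+1}] (γ_t(z) - 1)^j` for `c` in a binomial ring
acting through its binomial λ-structure. -/
theorem gamma_smul (hA : IsSpecial A)
    (hKA : ∀ (n : ℕ) (c : K), lam n (algebraMap K A c) = algebraMap K A (Ring.choose c n))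
    (c : K) (z : A) (k : ℕ) :
    gamma (k + 1) (c • z) =
      ∑ j ∈ range (k + 2), Ring.choose c j • PowerSeries.coeff (k + 1) (Gs z ^ j) := by
  have hev : ∀ R : Lam2, evLG (algebraMap K A c) z R =
      (aeval (fun j => gamma (j + 1) z) : MvPolynomial ℕ K →ₐ[K] A) (peK c R) := by
    intro R
    have : (evLG (algebraMap K A c) z).toRingHom =
        ((aeval (fun j => gamma (j + 1) z) : MvPolynomial ℕ K →ₐ[K] A).toRingHom).comp
          (peK c).toRingHom := by
      apply MvPolynomial.ringHom_ext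
      · intro r; simp
      · rintro (j | j)
        · simp [evLG, peK, hKA]
        · simp [evLG, peK]
    exact RingHom.congr_fun this R
  have h0 : evLG (algebraMap K A c) z (Fk k) = 0 := by
    rw [hev, bp (Fk k) (fun n => peK_Fk_nat k n) c, map_zero]
  rw [evLG_Fk hA, sub_eq_zero] at h0
  rw [Algebra.smul_def, h0]
  refine Finset.sum_congr rfl fun j _ => ?_
  rw [hKA, Algebra.smul_def]

end Final

end U3

end Groth.Agent.Lib27.LScal
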