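import Mathlib
import Groth.Agent.Lib27.LScal

/-!
# λ-operations and multiplicative filtrations

For a decreasing multiplicative filtration `F` by ideals of a λ-ring `A` (an algebra over a binomial
ring `K` compatibly with the λ-operations), the set `T F m` of elements `z` with
`γ^k(z) ∈ F (max k m)` for all `k ≥ 1` is stable under sums, scalars from `K`, products
(`T a · T b ⊆ T (a+b)`) and `γ^i` (`γ^i (T 1) ⊆ T i`).  Leading terms: the property
`λ^k(z) ≡ (-1)^{k-1} k^{m-1} z mod F (m+1)` is stable under the same operations.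
-/

set_option autoImplicit false
open LambdaRing LambdaRing.LambdaOps Finset

namespace Groth.Agent.Lib27.LFil

open Groth.Agent.Lib27.LOps Groth.Agent.Lib27.LUniv Groth.Agent.Lib27.LCons Groth.Agent.Lib27.LScal

variable {K : Type*} [CommRing K] [BinomialRing K]
variable {A : Type*} [CommRing A] [LambdaOps A] [Algebra K A]

/-- `γ^k(z) ∈ F (max k m)` for all `k ≥ 1`. -/
def T (F : ℕ → Ideal A) (m : ℕ) (z : A) : Prop := ∀ k, gamma (k + 1) z ∈ F (max (k + 1) m)

section Basic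
variable (F : ℕ → Ideal A) (hanti : Antitone F)
include hanti

lemma T_anti {m m' : ℕ} (h : m ≤ m') {z : A} (hz : T F m' z) : T F m z :=
  fun k => hanti (max_le_max le_rfl h) (hz k)

lemma T_gam {m : ℕ} {z : A} (hz : T F m z) : ∀ k, 1 ≤ k → gamma k z ∈ F k := by
  intro k hk
  obtain ⟨k, rfl⟩ : ∃ j, k = j + 1 := ⟨k - 1, by omega⟩
  exact hanti (le_max_left _ _) (hz k)

lemma T_gam' {m : ℕ} {z : A} (hz : T F m z) : ∀ k, 1 ≤ k → gamma k z ∈ F m := by
  intro k hk
  obtain ⟨k, rfl⟩ : ∃ j, k = j + 1 := ⟨k - 1, by omega⟩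
  exact hanti (le_max_right _ _) (hz k)

lemma T_lam' {m : ℕ} {z : A} (hz : T F m z) : ∀ k, 1 ≤ k → lam k z ∈ F m :=
  lam_mem_of_gamma_mem (F m) z (T_gam' F hanti hz)

lemma T_of_mem {m : ℕ} {z : A} (h1 : ∀ k, 1 ≤ k → gamma k z ∈ F k) (h2 : ∀ k, 1 ≤ k → gamma k z ∈ F m) :
    T F m z := by
  intro k
  rcases le_total (k + 1) m with h | h
  · rw [max_eq_right h]; exact h2 (k + 1) (by omega)
  · rw [max_eq_left h]; exact h1 (k + 1) (by omega)

omit hanti in
lemma T_zero (m : ℕ) : T F m (0 : A) := by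
  intro k
  rw [Groth.Agent.Lib27.GammaFil.gamma_zero_arg (k + 1) (by omega)]
  exact zero_mem _

end Basic

section Main
variable (F : ℕ → Ideal A) (hanti : Antitone F) (hmul : ∀ a b, F a * F b ≤ F (a + b)) (h0 : F 0 = ⊤)
include hanti hmul

lemma mul_mem_F {a b c : ℕ} {u v : A} (hu : u ∈ F a) (hv : v ∈ F b) (h : c ≤ a + b) : u * v ∈ F c :=
  hanti h (hmul a b (Ideal.mul_mem_mul hu hv))

lemma T_add {m : ℕ} {z z' : A} (hz : T F m z) (hz' : T F m z') : T F m (z + z') := by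
  intro k
  rw [Groth.Agent.Lib27.Gamma.gamma_add]
  refine Ideal.sum_mem _ fun i hi => ?_
  have hi' : i ≤ k + 1 := Nat.lt_succ_iff.1 (Finset.mem_range.1 hi)
  rcases Nat.eq_zero_or_pos i with rfl | hipos
  · rw [Groth.Agent.Lib27.Gamma.gamma_zero, one_mul, Nat.sub_zero]; exact hz' k
  rcases Nat.eq_zero_or_pos (k + 1 - i) with h0' | hpos
  · rw [h0', Groth.Agent.Lib27.Gamma.gamma_zero, mul_one]
    have : i = k + 1 := by omega
    rw [this]; exact hz k
  · obtain ⟨a, rfl⟩ : ∃ j, i = j + 1 := ⟨i - 1, by omega⟩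
    obtain ⟨b, hb⟩ : ∃ j, k + 1 - (a + 1) = j + 1 := ⟨k + 1 - (a + 1) - 1, by omega⟩
    rw [hb]
    refine mul_mem_F F hanti hmul (hz a) (hz' b) ?_
    omega

include h0 in
lemma T_mul (hA : IsSpecial A) {a b : ℕ} {z z' : A} (hz : T F a z) (hz' : T F b z') :
    T F (a + b) (z * z') := by
  apply T_of_mem F hanti
  · intro k hk
    obtain ⟨k, rfl⟩ : ∃ j, k = j + 1 := ⟨k - 1, by omega⟩
    exact gamma_mul_mem hA F hanti hmul h0 z z' (T_gam F hanti hz) (T_gam F hanti hz') k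
  · apply gamma_mem_of_lam_mem
    intro k hk
    exact hmul a b (lam_mul_mem hA (F a) (F b) z z' (T_lam' F hanti hz) (T_lam' F hanti hz') k hk)

include h0 in
lemma T_gamma (hA : IsSpecial A) {x : A} (hx : ∀ k, 1 ≤ k → gamma k x ∈ F k) (i : ℕ) :
    T F (i + 1) (gamma (i + 1) x) :=
  fun k => gamma_gamma_mem hA F hanti hmul h0 x hx i k

lemma coeff_Gs_pow_mem {m : ℕ} {z : A} (hz : T F m z) :
    ∀ j n, PowerSeries.coeff n (Gs z ^ (j + 1)) ∈ F (max n m) := by
  have hG : ∀ n, PowerSeries.coeff n (Gs z) ∈ F (max n m) := by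
    intro n
    rw [Gs, PowerSeries.coeff_mk]
    split_ifs with h
    · exact zero_mem _
    · obtain ⟨k, rfl⟩ : ∃ j, n = j + 1 := ⟨n - 1, by omega⟩
      exact hz k
  intro j
  induction j with
  | zero => intro n; rw [zero_add, pow_one]; exact hG n
  | succ j ih =>
    intro n
    rw [pow_succ, PowerSeries.coeff_mul]
    refine Ideal.sum_mem _ fun p hp => ?_
    rw [Finset.HasAntidiagonal.mem_antidiagonal] at hp
    refine mul_mem_F F hanti hmul (ih p.1) (hG p.2) ?_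
    omega

lemma coeff_Gs_pow_mem2 {m : ℕ} {z : A} (hz : T F m z) (j n : ℕ) :
    PowerSeries.coeff n (Gs z ^ (j + 2)) ∈ F m * F m := by
  rw [pow_succ, PowerSeries.coeff_mul]
  refine Ideal.sum_mem _ fun p _ => ?_
  refine Ideal.mul_mem_mul (hanti (le_max_right _ _) (coeff_Gs_pow_mem F hanti hmul hz j p.1)) ?_
  have := coeff_Gs_pow_mem F hanti hmul hz 0 p.2
  rw [zero_add, pow_one] at this
  exact hanti (le_max_right _ _) this

lemma T_smul (hA : IsSpecial A)
    (hKA : ∀ (n : ℕ) (c : K), lam n (algebraMap K A c) = algebraMap K A (Ring.choose c n))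
    {m : ℕ} {z : A} (hz : T F m z) (c : K) : T F m (c • z) := by
  intro k
  rw [gamma_smul hA hKA]
  refine Ideal.sum_mem _ fun j _ => ?_
  rw [Algebra.smul_def]
  refine Ideal.mul_mem_left _ _ ?_
  rcases j with _ | j
  · rw [pow_zero, PowerSeries.coeff_one, if_neg (by omega)]; exact zero_mem _
  · exact coeff_Gs_pow_mem F hanti hmul hz j (k + 1)

/-- `γ^n(c z) - c γ^n(z)` is decomposable. -/
lemma gamma_smul_sub_mem (hA : IsSpecial A)
    (hKA : ∀ (n : ℕ) (c : K), lam n (algebraMap K A c) = algebraMap K A (Ring.choose c n))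
    {m : ℕ} {z : A} (hz : T F m z) (c : K) (k : ℕ) :
    gamma (k + 1) (c • z) - c • gamma (k + 1) z ∈ F m * F m := by
  rw [gamma_smul hA hKA, Finset.sum_range_succ', Finset.sum_range_succ']
  have e0 : PowerSeries.coeff (k + 1) (Gs z ^ 0) = 0 := by
    rw [pow_zero, PowerSeries.coeff_one, if_neg (by omega)]
  have e1 : PowerSeries.coeff (k + 1) (Gs z ^ (0 + 1)) = gamma (k + 1) z := by
    rw [zero_add, pow_one, Gs, PowerSeries.coeff_mk, if_neg (by omega)]
  rw [e0, e1, smul_zero, add_zero, zero_add, Ring.choose_one_right, add_sub_cancel_right]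
  refine Ideal.sum_mem _ fun j _ => ?_
  rw [Algebra.smul_def]
  exact Ideal.mul_mem_left _ _ (coeff_Gs_pow_mem2 F hanti hmul hz j (k + 1))

/-- `λ^n(c z) - c λ^n(z)` is decomposable. -/
lemma lam_smul_sub_mem (hA : IsSpecial A)
    (hKA : ∀ (n : ℕ) (c : K), lam n (algebraMap K A c) = algebraMap K A (Ring.choose c n))
    {m : ℕ} {z : A} (hz : T F m z) (c : K) (k : ℕ) :
    lam (k + 1) (c • z) - c • lam (k + 1) z ∈ F m * F m := by
  induction k using Nat.strong_induction_on with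
  | _ k ih =>
    rw [lam_succ_eq k (c • z), lam_succ_eq k z]
    have hS : ∑ i ∈ range k, (k.choose i : A) * lam (i + 1) (c • z) -
        c • ∑ i ∈ range k, (k.choose i : A) * lam (i + 1) z =
        ∑ i ∈ range k, (k.choose i : A) * (lam (i + 1) (c • z) - c • lam (i + 1) z) := by
      rw [Finset.smul_sum, ← Finset.sum_sub_distrib]
      refine Finset.sum_congr rfl fun i _ => ?_
      rw [mul_sub, mul_smul_comm]
    have e : gamma (k + 1) (c • z) - ∑ i ∈ range k, (k.choose i : A) * lam (i + 1) (c • z) -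
        c • (gamma (k + 1) z - ∑ i ∈ range k, (k.choose i : A) * lam (i + 1) z) =
        (gamma (k + 1) (c • z) - c • gamma (k + 1) z) -
          ∑ i ∈ range k, (k.choose i : A) * (lam (i + 1) (c • z) - c • lam (i + 1) z) := by
      rw [← hS, smul_sub]
      ring
    rw [e]
    refine Ideal.sub_mem _ (gamma_smul_sub_mem F hanti hmul hA hKA hz c k)
      (Ideal.sum_mem _ fun i hi => Ideal.mul_mem_left _ _ (ih i (Finset.mem_range.1 hi)))

end Main

/-! ### Leading terms -/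

/-- `λ^{k+1}(z) ≡ (-1)^k (k+1)^{m'} z` modulo `F (m'+2)`. -/
def Lp (F : ℕ → Ideal A) (m' : ℕ) (z : A) : Prop :=
  ∀ k : ℕ, lam (k + 1) z - (((-1) ^ k * ((k : ℤ) + 1) ^ m' : ℤ) : A) * z ∈ F (m' + 2)

/-- the package: `z ∈ F (m'+1)`, `z ∈ T (m'+1)` and the leading-term property. -/
def Zp (F : ℕ → Ideal A) (m' : ℕ) (z : A) : Prop := z ∈ F (m' + 1) ∧ T F (m' + 1) z ∧ Lp F m' z

section Leading
variable (F : ℕ → Ideal A) (hanti : Antitone F) (hmul : ∀ a b, F a * F b ≤ F (a + b)) (h0 : F 0 = ⊤)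
include hanti hmul

lemma Zp_add {m' : ℕ} {z z' : A} (hz : Zp F m' z) (hz' : Zp F m' z') : Zp F m' (z + z') := by
  refine ⟨Ideal.add_mem _ hz.1 hz'.1, T_add F hanti hmul hz.2.1 hz'.2.1, ?_⟩
  intro k
  rw [LambdaOps.lam_add, Finset.sum_range_succ, Finset.sum_range_succ', Nat.sub_self,
    LambdaOps.lam_zero, LambdaOps.lam_zero, mul_one, one_mul, Nat.sub_zero]
  have e : ∑ i ∈ range k, lam (i + 1) z * lam (k + 1 - (i + 1)) z' + lam (k + 1) z' + lam (k + 1) z -
      (((-1) ^ k * ((k : ℤ) + 1) ^ m' : ℤ) : A) * (z + z') =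
      ∑ i ∈ range k, lam (i + 1) z * lam (k + 1 - (i + 1)) z' +
        (lam (k + 1) z - (((-1) ^ k * ((k : ℤ) + 1) ^ m' : ℤ) : A) * z) +
        (lam (k + 1) z' - (((-1) ^ k * ((k : ℤ) + 1) ^ m' : ℤ) : A) * z') := by ring
  rw [e]
  refine Ideal.add_mem _ (Ideal.add_mem _ (Ideal.sum_mem _ fun i hi => ?_) (hz.2.2 k)) (hz'.2.2 k)
  rw [Finset.mem_range] at hi
  refine mul_mem_F F hanti hmul (T_lam' F hanti hz.2.1 (i + 1) (by omega))
    (T_lam' F hanti hz'.2.1 (k + 1 - (i + 1)) (by omega)) (by omega)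

lemma Zp_smul (hA : IsSpecial A)
    (hKA : ∀ (n : ℕ) (c : K), lam n (algebraMap K A c) = algebraMap K A (Ring.choose c n))
    {m' : ℕ} {z : A} (hz : Zp F m' z) (c : K) : Zp F m' (c • z) := by
  refine ⟨?_, T_smul F hanti hmul hA hKA hz.2.1 c, ?_⟩
  · rw [Algebra.smul_def]; exact Ideal.mul_mem_left _ _ hz.1
  intro k
  have e : lam (k + 1) (c • z) - (((-1) ^ k * ((k : ℤ) + 1) ^ m' : ℤ) : A) * (c • z) =
      (lam (k + 1) (c • z) - c • lam (k + 1) z) +
        c • (lam (k + 1) z - (((-1) ^ k * ((k : ℤ) + 1) ^ m' : ℤ) : A) * z) := by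
    rw [smul_sub, mul_smul_comm]; ring
  rw [e]
  refine Ideal.add_mem _ ?_ ?_
  · exact hanti (by omega) (hmul _ _ (lam_smul_sub_mem F hanti hmul hA hKA hz.2.1 c k))
  · rw [Algebra.smul_def]; exact Ideal.mul_mem_left _ _ (hz.2.2 k)

lemma Zp_of_big {m' : ℕ} {z : A} (h1 : z ∈ F (m' + 2)) (h2 : T F (m' + 2) z) : Zp F m' z := by
  refine ⟨hanti (by omega) h1, T_anti F hanti (by omega) h2, ?_⟩
  intro k
  exact Ideal.sub_mem _ (T_lam' F hanti h2 (k + 1) (by omega)) (Ideal.mul_mem_left _ _ h1)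

include h0 in
lemma Zp_gamma (hA : IsSpecial A) {x : A} (hx : ∀ k, 1 ≤ k → gamma k x ∈ F k) (i : ℕ) :
    Zp F i (gamma (i + 1) x) :=
  ⟨hx (i + 1) (by omega), T_gamma F hanti hmul h0 hA hx i,
    fun k => lam_gamma_sub_mem hA F hanti hmul h0 x hx i k⟩

include h0 in
lemma Zp_mul (hA : IsSpecial A) {a b : ℕ} {z z' : A} (hz : Zp F a z) (hz' : Zp F b z') :
    Zp F (a + b + 1) (z * z') := by
  refine ⟨mul_mem_F F hanti hmul hz.1 hz'.1 (by omega), ?_, ?_⟩
  · have := T_mul F hanti hmul h0 hA hz.2.1 hz'.2.1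
    exact T_anti F hanti (by omega) this
  intro k
  have h1 := lam_mul_sub_mem hA (F (a + 1)) (F (b + 1)) z z' (T_lam' F hanti hz.2.1)
    (T_lam' F hanti hz'.2.1) k
  have hle : F (a + 1) ^ 2 * F (b + 1) ⊔ F (a + 1) * F (b + 1) ^ 2 ≤ F (a + b + 1 + 2) := by
    refine sup_le ?_ ?_
    · rw [pow_two]
      exact (Ideal.mul_mono_left (hmul _ _)).trans ((hmul _ _).trans (hanti (by omega)))
    · rw [pow_two]
      exact (Ideal.mul_mono_right (hmul _ _)).trans ((hmul _ _).trans (hanti (by omega)))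
  have h2 := hle h1
  rw [pkk_eq] at h2
  set ea : A := (((-1) ^ k * ((k : ℤ) + 1) ^ a : ℤ) : A) with hea
  set eb : A := (((-1) ^ k * ((k : ℤ) + 1) ^ b : ℤ) : A) with heb
  set p : A := (((-1) ^ k * ((k : ℤ) + 1) : ℤ) : A) with hp
  have hprod : (((-1) ^ k * ((k : ℤ) + 1) ^ (a + b + 1) : ℤ) : A) = p * ea * eb := by
    rw [hp, hea, heb, ← Int.cast_mul, ← Int.cast_mul]
    congr 1
    have : ((-1 : ℤ) ^ k) * ((-1) ^ k) = 1 := by rw [← pow_add, ← two_mul, pow_mul]; simp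
    rw [pow_succ, pow_add]
    linear_combination (-((-1 : ℤ) ^ k * ((k : ℤ) + 1) ^ a * ((k : ℤ) + 1) ^ b * ((k : ℤ) + 1))) * this
  rw [hprod]
  have e : lam (k + 1) (z * z') - p * ea * eb * (z * z') =
      (lam (k + 1) (z * z') - p * (lam (k + 1) z * lam (k + 1) z')) +
        p * ((lam (k + 1) z - ea * z) * lam (k + 1) z' + ea * z * (lam (k + 1) z' - eb * z')) := by
    ring
  rw [e]
  refine Ideal.add_mem _ h2 (Ideal.mul_mem_left _ _ (Ideal.add_mem _ ?_ ?_))
  · exact mul_mem_F F hanti hmul (hz.2.2 k) (T_lam' F hanti hz'.2.1 (k + 1) (by omega)) (by omega)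
  · exact mul_mem_F F hanti hmul (Ideal.mul_mem_left _ _ hz.1) (hz'.2.2 k) (by omega)

end Leading

end Groth.Agent.Lib27.LFil
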