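import Mathlib
import Groth.Agent.Lib27.LFil

/-!
# The γ-filtration of an augmented λ-algebra over a binomial ring
-/

set_option autoImplicit false
open LambdaRing LambdaRing.LambdaOps Finset

namespace Groth.Agent.Lib27.LGam

open Groth.Agent.Lib27.LOps Groth.Agent.Lib27.LFil

section Gen
variable {K : Type*} [CommRing K] {A : Type*} [CommRing A] [LambdaOps A]
variable (ε : A →+* K)

lemma gammaFil_anti : Antitone (fun n => gammaFil ε n) := by
  intro a b hab
  refine Ideal.span_mono ?_
  rintro y ⟨l, hl, hn, rfl⟩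
  exact ⟨l, hl, hab.trans hn, rfl⟩

lemma gammaFil_mul (a b : ℕ) : gammaFil ε a * gammaFil ε b ≤ gammaFil ε (a + b) := by
  unfold gammaFil
  rw [Ideal.span_mul_span']
  refine Ideal.span_mono ?_
  rintro _ ⟨u, ⟨l, hl, hn, rfl⟩, w, ⟨l', hl', hn', rfl⟩, rfl⟩
  refine ⟨l ++ l', ?_, ?_, ?_⟩
  · intro p hp
    rcases List.mem_append.1 hp with hp | hp
    · exact hl p hp
    · exact hl' p hp
  · simp only [List.map_append, List.sum_append]; omega
  · simp only [List.map_append, List.prod_append]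

lemma gammaFil_zero : gammaFil ε 0 = ⊤ := by
  rw [Ideal.eq_top_iff_one]
  exact Ideal.subset_span ⟨[], by simp, by simp, by simp⟩

lemma gamma_mem_gammaFil (u : A) (hu : ε u = 0) (k : ℕ) : gamma k u ∈ gammaFil ε k :=
  Ideal.subset_span ⟨[(k, u)], by simpa using hu, by simp, by simp⟩

end Gen

section Main
variable {K : Type*} [CommRing K] [BinomialRing K]
variable {A : Type*} [CommRing A] [LambdaOps A] [Algebra K A]

/-- the list lemma: a product of `γ^{i}` of elements of augmentation zero has the full package. -/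
lemma list_Zp (hA : IsSpecial A) (ε : A →ₐ[K] K) (l : List (ℕ × A)) (hl : ∀ p ∈ l, ε p.2 = 0) :
    ((l.map Prod.fst).sum = 0 ∧ (l.map fun p => gamma p.1 p.2).prod = 1) ∨
      (1 ≤ (l.map Prod.fst).sum ∧
        Zp (fun n => gammaFil (ε : A →+* K) n) ((l.map Prod.fst).sum - 1)
          (l.map fun p => gamma p.1 p.2).prod) := by
  have hanti := gammaFil_anti (ε : A →+* K)
  have hmul := gammaFil_mul (ε : A →+* K)
  have h0 := gammaFil_zero (ε : A →+* K)
  induction l with
  | nil => left; simp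
  | cons p l ih =>
    have ih' := ih fun q hq => hl q (List.mem_cons_of_mem _ hq)
    have hp : ε p.2 = 0 := hl p List.mem_cons_self
    simp only [List.map_cons, List.prod_cons, List.sum_cons]
    rcases Nat.eq_zero_or_pos p.1 with hj | hj
    · rw [hj, Groth.Agent.Lib27.Gamma.gamma_zero, one_mul, zero_add]
      exact ih'
    · obtain ⟨i, hi⟩ : ∃ i, p.1 = i + 1 := ⟨p.1 - 1, by omega⟩
      right
      refine ⟨by omega, ?_⟩
      have hfac : Zp (fun n => gammaFil (ε : A →+* K) n) i (gamma (i + 1) p.2) :=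
        Zp_gamma _ hanti hmul h0 hA (fun k _ => gamma_mem_gammaFil (ε : A →+* K) p.2 hp k) i
      rw [hi]
      rcases ih' with ⟨hs, hprod⟩ | ⟨hs, hZ⟩
      · rw [hs, hprod, mul_one, add_zero, Nat.add_sub_cancel]
        exact hfac
      · have := Zp_mul _ hanti hmul h0 hA hfac hZ
        have e : i + ((l.map Prod.fst).sum - 1) + 1 = i + 1 + (l.map Prod.fst).sum - 1 := by omega
        rw [e] at this
        exact this

/-- **Main theorem**: every element of `Fil^{m'+1}` has the full package. -/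
theorem Zp_of_mem (hA : IsSpecial A)
    (hKA : ∀ (n : ℕ) (c : K), lam n (algebraMap K A c) = algebraMap K A (Ring.choose c n))
    (ε : A →ₐ[K] K) (m' : ℕ) (z : A) (hz : z ∈ gammaFil (ε : A →+* K) (m' + 1)) :
    Zp (fun n => gammaFil (ε : A →+* K) n) m' z := by
  have hanti := gammaFil_anti (ε : A →+* K)
  have hmul := gammaFil_mul (ε : A →+* K)
  have h0 := gammaFil_zero (ε : A →+* K)
  have hspan := Groth.Agent.Lib27.GammaFil.gammaFil_eq_span ε (Set.univ : Set A)
    (by rw [eq_top_iff]; intro x _; exact AddSubgroup.subset_closure (Set.mem_univ x)) (m' + 1)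
  have hz' : z ∈ Groth.Agent.Lib27.GammaFil.M ε (Set.univ : Set A) (m' + 1) := by
    rw [← hspan, Submodule.restrictScalars_mem]; exact hz
  unfold Groth.Agent.Lib27.GammaFil.M at hz'
  clear hz hspan
  induction hz' using Submodule.span_induction with
  | mem y hy =>
    obtain ⟨l, -, hn, rfl⟩ := hy
    have hlist := list_Zp hA ε (l.map fun p => (p.1, p.2 - algebraMap K A (ε p.2))) (by
      intro p hp
      obtain ⟨q, _, rfl⟩ := List.mem_map.1 hp
      simp)
    simp only [List.map_map, Function.comp_def] at hlist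
    rcases hlist with ⟨hs, -⟩ | ⟨hs, hZ⟩
    · exfalso
      have : (l.map Prod.fst).sum = 0 := hs
      omega
    · have hsum : (l.map fun p : ℕ × A => p.1) = l.map Prod.fst := rfl
      rw [hsum] at hZ hs
      rcases Nat.eq_or_lt_of_le hn with heq | hlt
      · rw [← heq, Nat.add_sub_cancel] at hZ
        exact hZ
      · apply Zp_of_big _ hanti hmul
        · exact hanti (by omega) hZ.1
        · exact T_anti _ hanti (by omega) hZ.2.1
  | zero =>
    refine ⟨zero_mem _, T_zero _ _, ?_⟩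
    intro k
    rw [Groth.Agent.Lib27.Lam.lam_zero_arg (k + 1) (by omega), mul_zero, sub_zero]
    exact zero_mem _
  | add x y _ _ hx hy => exact Zp_add _ hanti hmul hx hy
  | smul c x _ hx => exact Zp_smul _ hanti hmul hA hKA hx c

lemma alt_sum_pow (n : ℕ) :
    ∑ i ∈ range (n + 1), ((n.choose i : ℤ) * ((-1) ^ i * ((i : ℤ) + 1) ^ n)) =
      (-1) ^ n * (n.factorial : ℤ) := by
  have h1 := fwdDiff_iter_eq_sum_shift (h := (1 : ℤ)) (fun r : ℤ => r ^ n) n 1
  have h2 : (fwdDiff (1 : ℤ))^[n] (fun r : ℤ => r ^ n) 1 = (n.factorial : ℤ) := by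
    rw [fwdDiff_iter_eq_factorial]; simp
  rw [h2] at h1
  have h3 : (-1 : ℤ) ^ n * (n.factorial : ℤ) =
      ∑ k ∈ range (n + 1), (-1 : ℤ) ^ n * (((-1 : ℤ) ^ (n - k) * (n.choose k : ℤ)) • (1 + k • (1 : ℤ)) ^ n) := by
    rw [h1, Finset.mul_sum]
  rw [h3]
  refine Finset.sum_congr rfl fun k hk => ?_
  have hk' : k ≤ n := Nat.lt_succ_iff.1 (Finset.mem_range.1 hk)
  have h4 : (-1 : ℤ) ^ n * (-1) ^ (n - k) = (-1) ^ k := by
    have : (-1 : ℤ) ^ n = (-1) ^ (n - k) * (-1) ^ k := by rw [← pow_add, Nat.sub_add_cancel hk']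
    rw [this]
    have h5 : (-1 : ℤ) ^ (n - k) * (-1) ^ (n - k) = 1 := by rw [← pow_add, ← two_mul, pow_mul]; simp
    linear_combination ((-1 : ℤ) ^ k) * h5
  simp only [smul_eq_mul, nsmul_eq_mul, mul_one]
  have : (1 + (k : ℤ)) = (k : ℤ) + 1 := add_comm _ _
  rw [this]
  linear_combination (-((n.choose k : ℤ) * ((k : ℤ) + 1) ^ n)) * h4

/-- **The `m`-th Chern class on `Gr^m`**: `γ^m(z) ≡ (-1)^{m-1} (m-1)! z` modulo `Fil^{m+1}`. -/
theorem gamma_sub_mem (hA : IsSpecial A)
    (hKA : ∀ (n : ℕ) (c : K), lam n (algebraMap K A c) = algebraMap K A (Ring.choose c n))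
    (ε : A →ₐ[K] K) (m' : ℕ) (z : A) (hz : z ∈ gammaFil (ε : A →+* K) (m' + 1)) :
    gamma (m' + 1) z - (-1 : A) ^ m' * (m'.factorial : A) * z ∈ gammaFil (ε : A →+* K) (m' + 2) := by
  have hZ := (Zp_of_mem hA hKA ε m' z hz).2.2
  have e : gamma (m' + 1) z - (-1 : A) ^ m' * (m'.factorial : A) * z =
      ∑ i ∈ range (m' + 1), (m'.choose i : A) *
        (lam (i + 1) z - (((-1) ^ i * ((i : ℤ) + 1) ^ m' : ℤ) : A) * z) := by
    rw [gamma_succ_eq]
    simp only [mul_sub]
    rw [Finset.sum_sub_distrib]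
    congr 1
    have h := congrArg (fun t : ℤ => (t : A)) (alt_sum_pow m')
    simp only [Int.cast_sum, Int.cast_mul, Int.cast_pow, Int.cast_neg, Int.cast_one, Int.cast_natCast,
      Int.cast_add] at h
    rw [← h, Finset.sum_mul]
    refine Finset.sum_congr rfl fun i _ => ?_
    push_cast
    ring
  rw [e]
  exact Ideal.sum_mem _ fun i _ => Ideal.mul_mem_left _ _ (hZ i)

end Main

section Compare
variable {K : Type*} [CommRing K] [BinomialRing K]
variable {B : Type*} [CommRing B] [LambdaOps B] [Algebra K B]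

/-- a ring map commuting with the `λ^n` commutes with the `γ^n`. -/
lemma map_gamma {R S : Type*} [CommRing R] [LambdaOps R] [CommRing S] [LambdaOps S] (f : R →+* S)
    (hf : ∀ (n : ℕ) (a : R), f (lam n a) = lam n (f a)) (k : ℕ) (a : R) :
    f (gamma k a) = gamma k (f a) := by
  unfold gamma
  split_ifs with h
  · simp
  · rw [map_sum]
    refine Finset.sum_congr rfl fun j _ => ?_
    rw [map_mul, map_natCast]
    split_ifs
    · simp
    · rw [hf]

variable (F : ℕ → Ideal B) (hanti : Antitone F) (hmul : ∀ a b, F a * F b ≤ F (a + b)) (h0 : F 0 = ⊤)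
include hanti hmul h0

lemma subAug_add (ε : B →ₐ[K] K) {z z' : B}
    (hz : T F 1 (z - algebraMap K B (ε z))) (hz' : T F 1 (z' - algebraMap K B (ε z'))) :
    T F 1 (z + z' - algebraMap K B (ε (z + z'))) := by
  have e : z + z' - algebraMap K B (ε (z + z')) =
      (z - algebraMap K B (ε z)) + (z' - algebraMap K B (ε z')) := by
    rw [map_add, map_add]; ring
  rw [e]
  exact T_add F hanti hmul hz hz'

lemma subAug_mul (hB : IsSpecial B)
    (hKB : ∀ (n : ℕ) (c : K), lam n (algebraMap K B c) = algebraMap K B (Ring.choose c n))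
    (ε : B →ₐ[K] K) {z z' : B}
    (hz : T F 1 (z - algebraMap K B (ε z))) (hz' : T F 1 (z' - algebraMap K B (ε z'))) :
    T F 1 (z * z' - algebraMap K B (ε (z * z'))) := by
  have e : z * z' - algebraMap K B (ε (z * z')) =
      (z - algebraMap K B (ε z)) * (z' - algebraMap K B (ε z')) +
        (ε z' • (z - algebraMap K B (ε z)) + ε z • (z' - algebraMap K B (ε z'))) := by
    rw [map_mul, map_mul, Algebra.smul_def, Algebra.smul_def]; ring
  rw [e]
  refine T_add F hanti hmul (T_anti F hanti (by omega) (T_mul F hanti hmul h0 hB hz hz')) ?_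
  exact T_add F hanti hmul (T_smul F hanti hmul hB hKB hz _) (T_smul F hanti hmul hB hKB hz' _)

omit [BinomialRing K] in
/-- if all `γ^i` of elements of augmentation zero lie in `F i`, the γ-filtration is contained in `F`. -/
lemma gammaFil_le_of (ε : B →ₐ[K] K)
    (h : ∀ z : B, ε z = 0 → ∀ i, 1 ≤ i → gamma i z ∈ F i) (k : ℕ) :
    gammaFil (ε : B →+* K) k ≤ F k := by
  refine Ideal.span_le.2 ?_
  rintro y ⟨l, hl, hn, rfl⟩
  refine hanti hn ?_
  clear hn
  induction l with
  | nil => simp [h0]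
  | cons p l ih =>
    simp only [List.map_cons, List.prod_cons, List.sum_cons]
    refine hmul _ _ (Ideal.mul_mem_mul ?_ (ih fun q hq => hl q (List.mem_cons_of_mem _ hq)))
    rcases Nat.eq_zero_or_pos p.1 with hj | hj
    · rw [hj, h0]; trivial
    · exact h p.2 (hl p List.mem_cons_self) p.1 hj

omit [BinomialRing K] [Algebra K B] in
lemma prod_pow_mem_F {ι : Type*} (s : Finset ι) (g : ι → B) (w e : ι → ℕ)
    (hg : ∀ j ∈ s, g j ∈ F (w j)) : ∏ j ∈ s, g j ^ e j ∈ F (∑ j ∈ s, w j * e j) := by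
  classical
  induction s using Finset.induction_on with
  | empty => simp [h0]
  | insert a s ha ih =>
    rw [Finset.prod_insert ha, Finset.sum_insert ha]
    refine hmul _ _ (Ideal.mul_mem_mul ?_ (ih fun j hj => hg j (Finset.mem_insert_of_mem hj)))
    rw [mul_comm]
    exact Groth.Agent.Lib27.LUniv.pow_mem_F F hmul h0 _ _ (hg a (Finset.mem_insert_self a s)) _

end Compare

end Groth.Agent.Lib27.LGam
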