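import Mathlib
import Groth.Agent.Lib27.LDiv
import Groth.Agent.Lib27.LGam

/-!
# Elements of rank `d`: the quotients `γ^p(x · γ^d(y)) / γ^d(y)` and the γ-filtration
-/

set_option autoImplicit false
open LambdaRing LambdaRing.LambdaOps Finset MvPolynomial

namespace Groth.Agent.Lib27.LRank

open Groth.Agent.Lib27.LOps Groth.Agent.Lib27.LModel Groth.Agent.Lib27.LUniv Groth.Agent.Lib27.LCons
  Groth.Agent.Lib27.LAsym Groth.Agent.Lib27.LDiv Groth.Agent.Lib27.LFil Groth.Agent.Lib27.LScal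

section General
variable {A : Type*} [CommRing A] [LambdaOps A]
variable (F : ℕ → Ideal A)

/-- a polynomial all of whose monomials have weight `≥ w` (for any weight function), evaluated at
elements `g v ∈ F (wt v)`, lies in `F w`. -/
theorem aeval_mem_of_weight (hanti : Antitone F) (hmul : ∀ a b, F a * F b ≤ F (a + b)) (h0 : F 0 = ⊤)
    {σ : Type*} (g : σ → A) (wt : σ → ℕ) (hg : ∀ v, g v ∈ F (wt v))
    (R : MvPolynomial σ ℤ) (w : ℕ) (hR : ∀ d ∈ R.support, w ≤ Finsupp.weight wt d) :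
    aeval g R ∈ F w := by
  classical
  rw [← MvPolynomial.support_sum_monomial_coeff R, map_sum]
  refine Ideal.sum_mem _ fun d hd => ?_
  refine hanti (hR d hd) ?_
  rw [aeval_monomial]
  refine Ideal.mul_mem_left _ _ ?_
  clear hd
  induction d using Finsupp.induction with
  | zero => simp [h0]
  | single_add v k f hv hk ih =>
    have e1 : (Finsupp.single v k + f).prod (fun i k => g i ^ k) =
        g v ^ k * f.prod (fun i k => g i ^ k) := by
      rw [Finsupp.prod_add_index' (h := fun i k => g i ^ k) (fun _ => pow_zero _)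
        (fun _ _ _ => pow_add _ _ _),
        Finsupp.prod_single_index (h := fun i k => g i ^ k) (pow_zero _)]
    rw [e1, map_add]
    refine hmul _ _ (Ideal.mul_mem_mul ?_ ih)
    rw [Finsupp.weight_single]
    exact pow_mem_F F hmul h0 _ _ (hg v) k

/-- the ideal `G · F (n - d)`. -/
def Ig (G : A) (d n : ℕ) : Ideal A := Ideal.span {G} * F (n - d)

lemma Ig_mul (hanti : Antitone F) (hmul : ∀ a b, F a * F b ≤ F (a + b))
    (G : A) (d : ℕ) (hG : G ∈ F d) (a b : ℕ) :
    Ig F G d a * Ig F G d b ≤ Ig F G d (a + b) := by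
  rw [Ideal.mul_le]
  intro u hu v hv
  obtain ⟨q, hq, rfl⟩ := Ideal.mem_span_singleton_mul.1 hu
  obtain ⟨q', hq', rfl⟩ := Ideal.mem_span_singleton_mul.1 hv
  have e : G * q * (G * q') = G * (G * q * q') := by ring
  rw [e]
  refine Ideal.mem_span_singleton_mul.2 ⟨_, ?_, rfl⟩
  have h1 : G * q ∈ F (d + (a - d)) := hmul _ _ (Ideal.mul_mem_mul hG hq)
  have h2 : G * q * q' ∈ F (d + (a - d) + (b - d)) := hmul _ _ (Ideal.mul_mem_mul h1 hq')
  exact hanti (by omega) h2

/-- a power series whose coefficient of `t^n`, `n ≥ 1`, lies in `I n`. -/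
def Good (I : ℕ → Ideal A) (S : PowerSeries A) : Prop := ∀ n, 1 ≤ n → PowerSeries.coeff n S ∈ I n

lemma good_one (I : ℕ → Ideal A) : Good I 1 := by
  intro n hn
  rw [PowerSeries.coeff_one, if_neg (by omega)]
  exact zero_mem _

lemma good_mul (I : ℕ → Ideal A) (hI : ∀ a b, I a * I b ≤ I (a + b)) {S S' : PowerSeries A}
    (hS : Good I S) (hS' : Good I S') : Good I (S * S') := by
  intro n hn
  rw [PowerSeries.coeff_mul]
  refine Ideal.sum_mem _ fun ab hab => ?_
  rcases ab with ⟨a, b⟩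
  rw [Finset.HasAntidiagonal.mem_antidiagonal] at hab
  simp only at hab ⊢
  subst hab
  rcases Nat.eq_zero_or_pos a with rfl | ha
  · rw [zero_add]; exact Ideal.mul_mem_left _ _ (hS' b (by omega))
  rcases Nat.eq_zero_or_pos b with rfl | hb
  · rw [add_zero]; exact Ideal.mul_mem_right _ _ (hS a (by omega))
  exact hI _ _ (Ideal.mul_mem_mul (hS a ha) (hS' b hb))

lemma good_pow (I : ℕ → Ideal A) (hI : ∀ a b, I a * I b ≤ I (a + b)) {S : PowerSeries A}
    (hS : Good I S) (j : ℕ) : Good I (S ^ j) := by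
  induction j with
  | zero => rw [pow_zero]; exact good_one I
  | succ j ih => rw [pow_succ]; exact good_mul I hI ih hS

section PartA
variable {K : Type*} [CommRing K] [BinomialRing K] [Algebra K A]

/-- **Divisibility with filtration control**: `γ^p((c + x') · G) ∈ G · F (p - d)` for `G = γ^d(y)`,
`y` of γ-rank `≤ d`. -/
theorem gamma_mulG_mem (hanti : Antitone F) (hmul : ∀ a b, F a * F b ≤ F (a + b)) (h0 : F 0 = ⊤)
    (hA : IsSpecial A)
    (hKA : ∀ (n : ℕ) (c : K), lam n (algebraMap K A c) = algebraMap K A (Ring.choose c n))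
    (d' : ℕ) (y : A) (hy0 : ∀ k, d' + 1 < k → gamma k y = 0) (hyF : ∀ k, 1 ≤ k → gamma k y ∈ F k)
    (x' : A) (hx' : ∀ k, 1 ≤ k → gamma k x' ∈ F k) (c : K) (p : ℕ) (hp : 1 ≤ p) :
    gamma p (c • gamma (d' + 1) y + x' * gamma (d' + 1) y) ∈ Ig F (gamma (d' + 1) y) (d' + 1) p := by
  set G := gamma (d' + 1) y with hG
  have hGF : G ∈ F (d' + 1) := hyF _ (by omega)
  have hI := Ig_mul F hanti hmul G (d' + 1) hGF
  have h1 : ∀ n, 1 ≤ n → gamma n G ∈ Ig F G (d' + 1) n := by
    intro n hn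
    obtain ⟨j, rfl⟩ : ∃ j, n = j + 1 := ⟨n - 1, by omega⟩
    rw [hG, gamma_gamma_eq hA d' j y y hy0]
    refine Ideal.mem_span_singleton_mul.2 ⟨_, ?_, rfl⟩
    apply evG_mem_of_weight F hanti hmul h0 y y hyF hyF
    intro m hm
    have := De_weight d' j m hm
    omega
  have h2 : ∀ n, 1 ≤ n → gamma n (x' * G) ∈ Ig F G (d' + 1) n := by
    intro n hn
    obtain ⟨j, rfl⟩ : ∃ j, n = j + 1 := ⟨n - 1, by omega⟩
    rw [hG, gamma_mul_gamma_eq hA d' j x' y hy0]
    refine Ideal.mem_span_singleton_mul.2 ⟨_, ?_, rfl⟩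
    apply evG_mem_of_weight F hanti hmul h0 x' y hx' hyF
    intro m hm
    have := Dp_weight d' j m hm
    omega
  have hGs : Good (Ig F G (d' + 1)) (Gs G) := by
    intro n hn
    rw [Gs, PowerSeries.coeff_mk, if_neg (by omega)]
    exact h1 n hn
  have h3 : ∀ n, 1 ≤ n → gamma n (c • G) ∈ Ig F G (d' + 1) n := by
    intro n hn
    obtain ⟨k, rfl⟩ : ∃ k, n = k + 1 := ⟨n - 1, by omega⟩
    rw [gamma_smul hA hKA c G k]
    refine Ideal.sum_mem _ fun j _ => ?_
    rw [Algebra.smul_def]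
    exact Ideal.mul_mem_left _ _ (good_pow _ hI hGs j (k + 1) (by omega))
  have hS1 : Good (Ig F G (d' + 1)) (Groth.Agent.Lib27.Gamma.gammaSeries (c • G)) := by
    intro n hn; rw [Groth.Agent.Lib27.Gamma.coeff_gammaSeries]; exact h3 n hn
  have hS2 : Good (Ig F G (d' + 1)) (Groth.Agent.Lib27.Gamma.gammaSeries (x' * G)) := by
    intro n hn; rw [Groth.Agent.Lib27.Gamma.coeff_gammaSeries]; exact h2 n hn
  have := good_mul _ hI hS1 hS2 p hp
  rwa [← Groth.Agent.Lib27.Gamma.gammaSeries_add, Groth.Agent.Lib27.Gamma.coeff_gammaSeries] at this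

end PartA

end General

end Groth.Agent.Lib27.LRank
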