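import Mathlib
import Groth.Agent.Lib27.LRank

/-!
# Leading terms of the quotients `γ^{d+i}(x · γ^d(y)) / γ^d(y)`
-/

set_option autoImplicit false
open LambdaRing LambdaRing.LambdaOps Finset MvPolynomial

namespace Groth.Agent.Lib27.LRank

open Groth.Agent.Lib27.LOps Groth.Agent.Lib27.LModel Groth.Agent.Lib27.LUniv Groth.Agent.Lib27.LCons
  Groth.Agent.Lib27.LAsym Groth.Agent.Lib27.LDiv Groth.Agent.Lib27.LFil Groth.Agent.Lib27.LScal

section B1
variable {A : Type*} [CommRing A] [LambdaOps A]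

/-- from the leading terms of the `λ^k` to the leading term of `γ^m`. -/
theorem gamma_sub_of_Lp (F : ℕ → Ideal A) (m' : ℕ) (z : A) (hZ : Lp F m' z) :
    gamma (m' + 1) z - (-1 : A) ^ m' * (m'.factorial : A) * z ∈ F (m' + 2) := by
  have e : gamma (m' + 1) z - (-1 : A) ^ m' * (m'.factorial : A) * z =
      ∑ i ∈ range (m' + 1), (m'.choose i : A) *
        (lam (i + 1) z - (((-1) ^ i * ((i : ℤ) + 1) ^ m' : ℤ) : A) * z) := by
    rw [gamma_succ_eq]
    simp only [mul_sub]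
    rw [Finset.sum_sub_distrib]
    congr 1
    have h := congrArg (fun t : ℤ => (t : A)) (Groth.Agent.Lib27.LGam.alt_sum_pow m')
    simp only [Int.cast_sum, Int.cast_mul, Int.cast_pow, Int.cast_neg, Int.cast_one, Int.cast_natCast,
      Int.cast_add] at h
    rw [← h, Finset.sum_mul]
    refine Finset.sum_congr rfl fun i _ => ?_
    push_cast
    ring
  rw [e]
  exact Ideal.sum_mem _ fun i _ => Ideal.mul_mem_left _ _ (hZ i)

end B1

section B2
variable {A : Type*} [CommRing A] [LambdaOps A]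

/-- kill the variables of the first family. -/
noncomputable def rho : Lam2 →ₐ[ℤ] Lam2 :=
  aeval (Sum.elim (fun _ => (0 : Lam2)) (fun k => X (Sum.inr k)))

lemma evG_rho (x y : A) (R : Lam2) : evG x y (rho R) = evG 0 y R := by
  have : (evG x y).comp rho = evG 0 y := by
    apply MvPolynomial.algHom_ext
    rintro (k | k)
    · rw [AlgHom.comp_apply]
      simp only [rho, aeval_X, Sum.elim_inl, map_zero, evG]
      rw [Groth.Agent.Lib27.GammaFil.gamma_zero_arg (k + 1) (by omega)]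
    · simp [rho, evG]
  exact DFunLike.congr_fun this R

open Classical in
lemma rho_monomial (m : ℕ ⊕ ℕ →₀ ℕ) (c : ℤ) :
    rho (monomial m c) = if (∀ k, m (Sum.inl k) = 0) then monomial m c else 0 := by
  classical
  rw [rho, aeval_monomial]
  split_ifs with h
  · rw [monomial_eq]
    congr 1
    refine Finsupp.prod_congr fun v hv => ?_
    rcases v with k | k
    · exfalso
      rw [Finsupp.mem_support_iff] at hv
      exact hv (h k)
    · rfl
  · push Not at h
    obtain ⟨k, hmk⟩ := h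
    rw [Finsupp.prod, Finset.prod_eq_zero (i := Sum.inl k) (Finsupp.mem_support_iff.2 hmk), mul_zero]
    simp only [Sum.elim_inl]
    rw [zero_pow hmk]

open Classical in
lemma coeff_rho (R : Lam2) (m' : ℕ ⊕ ℕ →₀ ℕ) :
    coeff m' (rho R) = if (∀ k, m' (Sum.inl k) = 0) then coeff m' R else 0 := by
  classical
  induction R using MvPolynomial.induction_on' with
  | monomial m c =>
    rw [rho_monomial]
    by_cases hm : ∀ k, m (Sum.inl k) = 0
    · rw [if_pos hm, coeff_monomial]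
      split_ifs with h1 h2 h2
      · rfl
      · exfalso; subst h1; exact h2 hm
      · rfl
      · rfl
    · rw [if_neg hm, coeff_zero, coeff_monomial]
      split_ifs with h1 h2
      · exfalso; subst h2; exact hm h1
      · rfl
      · rfl
  | add p q hp hq =>
    rw [map_add, coeff_add, coeff_add, hp, hq]
    split_ifs <;> simp

end B2

section B2model
attribute [local instance] modelOps

/-- a universal polynomial vanishing on all models is zero. -/
theorem zero_of_model (R : Lam2) (h : ∀ N, evG (x0 N) (y0 N) R = 0) : R = 0 := by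
  obtain ⟨N, q, rfl⟩ := exists_fin R
  have h1 := h N
  rw [evG_model] at h1
  have h2 := congrArg (tauInv (Fin N ⊕ Fin N)) h1
  rw [tauInv_tau, map_zero] at h2
  have h3 : q = 0 := by
    apply Groth.Agent.Lib27.SymmPoly.Phi_injective ℤ N
    rw [h2, map_zero]
  rw [h3, map_zero]

lemma rho_Rp (d' j : ℕ) : rho (Rp d' j) = 0 := by
  apply zero_of_model
  intro N
  rw [evG_rho, evG_Rp (isSpecial_model _), zero_mul,
    Groth.Agent.Lib27.GammaFil.gamma_zero_arg (j + 1) (by omega)]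

lemma coeff_Rp_pure (d' j : ℕ) (m : ℕ ⊕ ℕ →₀ ℕ) (hm : ∀ k, m (Sum.inl k) = 0) :
    coeff m (Rp d' j) = 0 := by
  classical
  have := coeff_rho (Rp d' j) m
  rw [if_pos hm, rho_Rp, coeff_zero] at this
  exact this.symm

lemma coeff_Dp_pure (d' j : ℕ) (m : ℕ ⊕ ℕ →₀ ℕ) (hm : ∀ k, m (Sum.inl k) = 0) :
    coeff m (Dp d' j) = 0 := by
  classical
  rw [Dp, Dv, coeff_divMonomial, coeff_kappa]
  split_ifs
  · apply coeff_Rp_pure
    intro k
    rw [Finsupp.add_apply, hm k, Finsupp.single_apply, if_neg (by simp)]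
  · rfl

end B2model

section B3
variable {A : Type*} [CommRing A] [LambdaOps A]

/-- the effective weights when `x` lies in the `(i'+1)`-st step of the filtration. -/
def wtI (i' : ℕ) : ℕ ⊕ ℕ → ℕ := Sum.elim (fun k => max (k + 1) (i' + 1)) (fun k => k + 1)

/-- **Leading term of a universal polynomial** all of whose monomials have weight `≥ i'+1` and
involve the first family, evaluated at `x` in the `(i'+1)`-st step of the filtration. -/
theorem evG_lead (F : ℕ → Ideal A) (hanti : Antitone F) (hmul : ∀ a b, F a * F b ≤ F (a + b))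
    (h0 : F 0 = ⊤) (i' : ℕ) (x y : A) (hx : T F (i' + 1) x) (hL : Lp F i' x)
    (hy : ∀ k, 1 ≤ k → gamma k y ∈ F k) (D : Lam2)
    (hw : ∀ m ∈ D.support, i' + 1 ≤ Finsupp.weight wt2 m)
    (hnp : ∀ m : ℕ ⊕ ℕ →₀ ℕ, (∀ k, m (Sum.inl k) = 0) → coeff m D = 0) :
    evG x y D - ((coeff (Finsupp.single (Sum.inl i') 1) D : ℤ) : A) *
      ((-1 : A) ^ i' * (i'.factorial : A)) * x ∈ F (i' + 2) := by
  classical
  set m₀ : ℕ ⊕ ℕ →₀ ℕ := Finsupp.single (Sum.inl i') 1 with hm₀
  set c₀ : ℤ := coeff m₀ D with hc₀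
  set D' : Lam2 := D - monomial m₀ c₀ with hD'
  have hD : D' + monomial m₀ c₀ = D := by rw [hD']; ring
  have hev : evG x y (monomial m₀ c₀) = (c₀ : A) * gamma (i' + 1) x := by
    rw [evG, aeval_monomial, hm₀,
      Finsupp.prod_single_index (h := fun v k =>
        (Sum.elim (fun j => gamma (j + 1) x) (fun j => gamma (j + 1) y) v) ^ k) (pow_zero _)]
    simp
  have hD'mem : evG x y D' ∈ F (i' + 2) := by
    rw [evG]
    apply aeval_mem_of_weight F hanti hmul h0 _ (wtI i')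
    · rintro (k | k)
      · exact hx k
      · exact hy (k + 1) (by omega)
    · intro m hm
      rw [mem_support_iff, hD', coeff_sub, coeff_monomial] at hm
      have hm1 : m ≠ m₀ := by
        intro h
        apply hm
        rw [if_pos h.symm, h, hc₀, sub_self]
      have hm2 : coeff m D ≠ 0 := by
        rw [if_neg (Ne.symm hm1), sub_zero] at hm; exact hm
      obtain ⟨k, hk⟩ : ∃ k, m (Sum.inl k) ≠ 0 := by
        by_contra hc
        push Not at hc
        exact hm2 (hnp m hc)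
      have hwm := hw m (mem_support_iff.2 hm2)
      have h1 := Finsupp.weight_sub_single_add (w := wtI i') hk
      by_cases hz : m - Finsupp.single (Sum.inl k) 1 = 0
      · have hmk : m = Finsupp.single (Sum.inl k) 1 := by
          have := Finsupp.sub_add_single_one_cancel hk
          rw [hz, zero_add] at this; exact this.symm
        have hki : k ≠ i' := by
          intro h
          apply hm1
          rw [hmk, h]
        rw [hmk, Finsupp.weight_single] at hwm ⊢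
        simp only [wt2, wtI, Sum.elim_inl, smul_eq_mul, one_mul] at hwm ⊢
        omega
      · obtain ⟨v, hv⟩ : ∃ v, (m - Finsupp.single (Sum.inl k) 1 : ℕ ⊕ ℕ →₀ ℕ) v ≠ 0 := by
          by_contra hc; push Not at hc; exact hz (Finsupp.ext hc)
        have h2 := Finsupp.le_weight_of_ne_zero' (wtI i') hv
        have h3 : 1 ≤ wtI i' v := by rcases v with j | j <;> simp [wtI]
        have h4 : i' + 1 ≤ wtI i' (Sum.inl k) := by simp [wtI]
        omega
  have hG := gamma_sub_of_Lp F i' x hL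
  have e : evG x y D - (c₀ : A) * ((-1 : A) ^ i' * (i'.factorial : A)) * x =
      evG x y D' + (c₀ : A) * (gamma (i' + 1) x - (-1 : A) ^ i' * (i'.factorial : A) * x) := by
    rw [← hD, map_add, hev]
    ring
  rw [e]
  exact Ideal.add_mem _ hD'mem (Ideal.mul_mem_left _ _ hG)

end B3

section B4
attribute [local instance] modelOps

lemma x0A_mem (M e : ℕ) : x0A M e ∈ Iu (Fin M ⊕ Fin e) 1 := by
  rw [mem_Iu_one_iff, x0A, map_sub, map_sum, map_natCast]
  simp [aug]

lemma y0A_mem (M e : ℕ) : y0A M e ∈ Iu (Fin M ⊕ Fin e) 1 := by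
  rw [mem_Iu_one_iff, y0A, map_sub, map_sum, map_natCast]
  simp [aug]

lemma esymm_card (M : ℕ) : esymm (Fin M) ℤ M = ∏ a : Fin M, X a := by
  rw [esymm]
  have : Finset.powersetCard M (Finset.univ : Finset (Fin M)) = {Finset.univ} := by
    have h := Finset.powersetCard_self (Finset.univ : Finset (Fin M))
    rw [Finset.card_univ, Fintype.card_fin] at h
    exact h
  rw [this, Finset.sum_singleton]

/-- an integer multiple of `∏ (u_a - 1) ∏ (v_b - 1)` in the next step of the filtration vanishes. -/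
lemma int_eq_zero (M e : ℕ) (n : ℤ)
    (h : (n : MvPolynomial (Fin M ⊕ Fin e) ℤ) * (gamma M (x0A M e) * gamma e (y0A M e)) ∈
      Iu (Fin M ⊕ Fin e) (M + e + 1)) : n = 0 := by
  classical
  by_contra hn
  rw [mem_Iu, map_mul, map_mul, gamma_x0A, gamma_y0A, tauInv_tau, tauInv_tau, esymm_card, esymm_card,
    map_prod, map_prod] at h
  simp only [rename_X, map_intCast] at h
  have hprod : (∏ a : Fin M, (X (Sum.inl a) : MvPolynomial (Fin M ⊕ Fin e) ℤ)) *
      ∏ b : Fin e, X (Sum.inr b) = monomial (∑ v : Fin M ⊕ Fin e, Finsupp.single v 1) 1 := by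
    rw [monomial_sum_one, Fintype.prod_sum_type]
    rfl
  rw [hprod] at h
  have h2 : (n : MvPolynomial (Fin M ⊕ Fin e) ℤ) *
      monomial (∑ v : Fin M ⊕ Fin e, Finsupp.single v 1) 1 =
      monomial (∑ v : Fin M ⊕ Fin e, Finsupp.single v 1) n := by
    rw [← eq_intCast (C : ℤ →+* MvPolynomial (Fin M ⊕ Fin e) ℤ) n, C_mul_monomial, mul_one]
  rw [h2, monomial_mem_pow_idealOfVars_iff _ _ hn, map_sum] at h
  simp only [Finsupp.degree_single, Finset.sum_const, Finset.card_univ, Fintype.card_sum,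
    Fintype.card_fin, smul_eq_mul, mul_one] at h
  omega

lemma model_Lp {σ : Type*} (m : ℕ) (z : MvPolynomial σ ℤ) (hz : z ∈ Iu σ (m + 1)) :
    Lp (fun n => Iu σ n) m z := by
  intro k
  have h := lam_sub_mem_Iu m z hz k
  have e : (((-1) ^ k * ((k : ℤ) + 1) ^ m : ℤ) : MvPolynomial σ ℤ) =
      (-1) ^ k * ((k : MvPolynomial σ ℤ) + 1) ^ m := by push_cast; ring
  show lam (k + 1) z - _ * z ∈ Iu σ (m + 2)
  rw [e]
  exact h

lemma model_gamma_sub {σ : Type*} (m : ℕ) (z : MvPolynomial σ ℤ) (hz : z ∈ Iu σ (m + 1)) :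
    gamma (m + 1) z - (-1) ^ m * (m.factorial : MvPolynomial σ ℤ) * z ∈ Iu σ (m + 2) :=
  gamma_sub_of_Lp (fun n => Iu σ n) m z (model_Lp m z hz)

end B4

section B5
attribute [local instance] modelOps

/-- the coefficient of `γ^{i'+1}(x)` in the universal quotient `γ^{d+i}(x γ^d y)/γ^d y`. -/
theorem coeff_Dp_lead (d' i' : ℕ) :
    coeff (Finsupp.single (Sum.inl i') 1) (Dp d' (d' + i' + 1)) * ((-1) ^ i' * (i'.factorial : ℤ)) =
      (-1) ^ (d' + i' + 1) * ((d' + i' + 1).factorial : ℤ) := by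
  set M := i' + 1 with hM
  set e := d' + 1 with he
  set x₁ := gamma M (x0A M e) with hx₁
  set y₀ := y0A M e with hy₀
  set G₀ := gamma e y₀ with hG₀
  have hsp := isSpecial_model (Fin M ⊕ Fin e)
  have hanti : Antitone (fun n => Iu (Fin M ⊕ Fin e) n) := fun a b h => Iu_anti h
  have hmul : ∀ a b, Iu (Fin M ⊕ Fin e) a * Iu (Fin M ⊕ Fin e) b ≤ Iu (Fin M ⊕ Fin e) (a + b) :=
    Iu_mul_le
  have h0 : Iu (Fin M ⊕ Fin e) 0 = ⊤ := Iu_zero
  have hxk : ∀ k, 1 ≤ k → gamma k (x0A M e) ∈ Iu (Fin M ⊕ Fin e) k :=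
    fun k _ => gamma_mem_Iu _ (x0A_mem M e) k
  have hyk : ∀ k, 1 ≤ k → gamma k y₀ ∈ Iu (Fin M ⊕ Fin e) k :=
    fun k _ => gamma_mem_Iu _ (y0A_mem M e) k
  have hZ : Zp (fun n => Iu (Fin M ⊕ Fin e) n) i' x₁ :=
    Zp_gamma (fun n => Iu (Fin M ⊕ Fin e) n) hanti hmul h0 hsp hxk i'
  have hy0 : ∀ k, d' + 1 < k → gamma k y₀ = 0 := fun k hk => gamma_y0A_eq_zero M e k hk
  have hw : ∀ m ∈ (Dp d' (d' + i' + 1)).support, i' + 1 ≤ Finsupp.weight wt2 m := by
    intro m hm
    have := Dp_weight d' (d' + i' + 1) m hm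
    omega
  have h1 := evG_lead (fun n => Iu (Fin M ⊕ Fin e) n) hanti hmul h0 i' x₁ y₀ hZ.2.1 hZ.2.2 hyk
    (Dp d' (d' + i' + 1)) hw (coeff_Dp_pure d' (d' + i' + 1))
  have h2 : gamma (d' + i' + 1 + 1) (x₁ * G₀) = G₀ * evG x₁ y₀ (Dp d' (d' + i' + 1)) :=
    gamma_mul_gamma_eq hsp d' _ x₁ y₀ hy0
  have hz : x₁ * G₀ ∈ Iu (Fin M ⊕ Fin e) (d' + i' + 1 + 1) := by
    have := Iu_mul (hxk M (by omega)) (hyk e (by omega))
    exact Iu_anti (by omega) this
  have h3 := model_gamma_sub (d' + i' + 1) (x₁ * G₀) hz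
  have h4 := Iu_mul (hyk e (by omega)) h1
  set c₀ : ℤ := coeff (Finsupp.single (Sum.inl i') 1) (Dp d' (d' + i' + 1)) with hc₀
  have h5 : ((c₀ * ((-1) ^ i' * (i'.factorial : ℤ)) -
      (-1) ^ (d' + i' + 1) * ((d' + i' + 1).factorial : ℤ) : ℤ) : MvPolynomial (Fin M ⊕ Fin e) ℤ) *
      (x₁ * G₀) ∈ Iu (Fin M ⊕ Fin e) (M + e + 1) := by
    have e1 : ((c₀ * ((-1) ^ i' * (i'.factorial : ℤ)) -
        (-1) ^ (d' + i' + 1) * ((d' + i' + 1).factorial : ℤ) : ℤ) : MvPolynomial (Fin M ⊕ Fin e) ℤ) *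
        (x₁ * G₀) =
        (gamma (d' + i' + 1 + 1) (x₁ * G₀) -
          (-1) ^ (d' + i' + 1) * ((d' + i' + 1).factorial : MvPolynomial (Fin M ⊕ Fin e) ℤ) *
            (x₁ * G₀)) -
        G₀ * (evG x₁ y₀ (Dp d' (d' + i' + 1)) - (c₀ : MvPolynomial (Fin M ⊕ Fin e) ℤ) *
          ((-1) ^ i' * (i'.factorial : MvPolynomial (Fin M ⊕ Fin e) ℤ)) * x₁) := by
      rw [h2]; push_cast; ring
    rw [e1]
    exact Ideal.sub_mem _ (Iu_anti (by omega) h3) (Iu_anti (by omega) h4)
  have h6 := int_eq_zero M e _ h5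
  linarith

/-- the constant coefficient of the universal quotient `γ^d(γ^d y)/γ^d y`. -/
theorem coeff_De_const (d' : ℕ) : coeff 0 (De d' d') = (-1) ^ d' * (d'.factorial : ℤ) := by
  classical
  set e := d' + 1 with he
  set y₀ := y0A 0 e with hy₀
  set G₀ := gamma e y₀ with hG₀
  have hsp := isSpecial_model (Fin 0 ⊕ Fin e)
  have hanti : Antitone (fun n => Iu (Fin 0 ⊕ Fin e) n) := fun a b h => Iu_anti h
  have hmul : ∀ a b, Iu (Fin 0 ⊕ Fin e) a * Iu (Fin 0 ⊕ Fin e) b ≤ Iu (Fin 0 ⊕ Fin e) (a + b) :=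
    Iu_mul_le
  have h0 : Iu (Fin 0 ⊕ Fin e) 0 = ⊤ := Iu_zero
  have hyk : ∀ k, 1 ≤ k → gamma k y₀ ∈ Iu (Fin 0 ⊕ Fin e) k :=
    fun k _ => gamma_mem_Iu _ (y0A_mem 0 e) k
  have hy0 : ∀ k, d' + 1 < k → gamma k y₀ = 0 := fun k hk => gamma_y0A_eq_zero 0 e k hk
  set κ : ℤ := coeff 0 (De d' d') with hκ
  have h1 : evG y₀ y₀ (De d' d') - (κ : MvPolynomial (Fin 0 ⊕ Fin e) ℤ) ∈ Iu (Fin 0 ⊕ Fin e) 1 := by
    have h := evG_mem_of_weight (fun n => Iu (Fin 0 ⊕ Fin e) n) hanti hmul h0 y₀ y₀ hyk hyk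
      (De d' d' - C κ) 1 (fun m hm => by
        rw [mem_support_iff, coeff_sub, coeff_C] at hm
        have hm0 : m ≠ 0 := by
          intro h
          apply hm
          rw [if_pos h.symm, h, hκ, sub_self]
        obtain ⟨v, hv⟩ : ∃ v, m v ≠ 0 := by
          by_contra hc; push Not at hc; exact hm0 (Finsupp.ext hc)
        have h2 := Finsupp.le_weight_of_ne_zero' wt2 hv
        have h3 : 1 ≤ wt2 v := by rcases v with j | j <;> simp [wt2]
        omega)
    rw [map_sub] at h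
    have e1 : evG y₀ y₀ (C κ) = (κ : MvPolynomial (Fin 0 ⊕ Fin e) ℤ) := by
      rw [eq_intCast (C : ℤ →+* Lam2) κ, map_intCast]
    rwa [e1] at h
  have h2 : gamma (d' + 1) G₀ = G₀ * evG y₀ y₀ (De d' d') := gamma_gamma_eq hsp d' d' y₀ y₀ hy0
  have hz : G₀ ∈ Iu (Fin 0 ⊕ Fin e) (d' + 1) := hyk e (by omega)
  have h3 := model_gamma_sub d' G₀ hz
  have h4 := Iu_mul hz h1
  have h5 : ((κ - (-1) ^ d' * (d'.factorial : ℤ) : ℤ) : MvPolynomial (Fin 0 ⊕ Fin e) ℤ) *
      (gamma 0 (x0A 0 e) * G₀) ∈ Iu (Fin 0 ⊕ Fin e) (0 + e + 1) := by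
    have e1 : ((κ - (-1) ^ d' * (d'.factorial : ℤ) : ℤ) : MvPolynomial (Fin 0 ⊕ Fin e) ℤ) *
        (gamma 0 (x0A 0 e) * G₀) =
        (gamma (d' + 1) G₀ - (-1) ^ d' * (d'.factorial : MvPolynomial (Fin 0 ⊕ Fin e) ℤ) * G₀) -
        G₀ * (evG y₀ y₀ (De d' d') - (κ : MvPolynomial (Fin 0 ⊕ Fin e) ℤ)) := by
      rw [h2, Groth.Agent.Lib27.Gamma.gamma_zero]; push_cast; ring
    rw [e1]
    exact Ideal.sub_mem _ (Iu_anti (by omega) h3) (Iu_anti (by omega) h4)
  have h6 := int_eq_zero 0 e _ h5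
  linarith

end B5

section B6
variable {A : Type*} [CommRing A] [LambdaOps A]
variable {K : Type*} [CommRing K] [BinomialRing K] [Algebra K A]

/-- **The case `p = d`**: `γ^d((c + x') G) ≡ c · γ^d(G)` modulo `G · F 1`. -/
theorem gamma_mulG_sub_mem (F : ℕ → Ideal A) (hanti : Antitone F)
    (hmul : ∀ a b, F a * F b ≤ F (a + b)) (h0 : F 0 = ⊤) (hA : IsSpecial A)
    (hKA : ∀ (n : ℕ) (c : K), lam n (algebraMap K A c) = algebraMap K A (Ring.choose c n))
    (d' : ℕ) (y : A) (hy0 : ∀ k, d' + 1 < k → gamma k y = 0) (hyF : ∀ k, 1 ≤ k → gamma k y ∈ F k)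
    (x' : A) (hx' : ∀ k, 1 ≤ k → gamma k x' ∈ F k) (c : K) :
    gamma (d' + 1) (c • gamma (d' + 1) y + x' * gamma (d' + 1) y) -
      c • (gamma (d' + 1) y * evG y y (De d' d')) ∈ Ideal.span {gamma (d' + 1) y} * F 1 := by
  set G := gamma (d' + 1) y with hG
  set J : Ideal A := Ideal.span {G} * F 1 with hJ
  have hT : T F (d' + 1) G := T_gamma F hanti hmul h0 hA hyF d'
  have hGn1 : ∀ n, gamma (n + 1) G ∈ F 1 := fun n => hanti (by omega) (hT n)
  have hGe : ∀ j, gamma (j + 1) G = G * evG y y (De d' j) := fun j =>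
    gamma_gamma_eq hA d' j y y hy0
  have hb : ∀ b, gamma (b + 1) (x' * G) ∈ J := by
    intro b
    rw [hG, gamma_mul_gamma_eq hA d' b x' y hy0]
    refine Ideal.mem_span_singleton_mul.2 ⟨_, ?_, rfl⟩
    apply evG_mem_of_weight F hanti hmul h0 x' y hx' hyF
    intro m hm
    have := Dp_weight d' b m hm
    omega
  have hsq2 : ∀ n, PowerSeries.coeff n (Gs G * Gs G) ∈ J := by
    intro n
    rw [PowerSeries.coeff_mul]
    refine Ideal.sum_mem _ fun ab _ => ?_
    rcases ab with ⟨a, b⟩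
    simp only [Gs, PowerSeries.coeff_mk]
    rcases a with _ | a
    · simp
    rcases b with _ | b
    · simp
    rw [if_neg (Nat.succ_ne_zero a), if_neg (Nat.succ_ne_zero b), hGe a]
    refine Ideal.mem_span_singleton_mul.2 ⟨evG y y (De d' a) * gamma (b + 1) G, ?_, by ring⟩
    exact Ideal.mul_mem_left _ _ (hGn1 b)
  have hpow : ∀ j n, PowerSeries.coeff n (Gs G ^ (j + 2)) ∈ J := by
    intro j n
    rw [show Gs G ^ (j + 2) = (Gs G * Gs G) * Gs G ^ j by ring, PowerSeries.coeff_mul]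
    exact Ideal.sum_mem _ fun ab _ => Ideal.mul_mem_right _ _ (hsq2 _)
  have hc : gamma (d' + 1) (c • G) - c • gamma (d' + 1) G ∈ J := by
    rw [gamma_smul hA hKA c G d', Finset.sum_range_succ', Finset.sum_range_succ']
    have e0 : Ring.choose c 0 • PowerSeries.coeff (d' + 1) (Gs G ^ 0) = 0 := by
      rw [pow_zero, PowerSeries.coeff_one, if_neg (by omega), smul_zero]
    have e1 : Ring.choose c (0 + 1) • PowerSeries.coeff (d' + 1) (Gs G ^ (0 + 1)) =
        c • gamma (d' + 1) G := by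
      rw [zero_add, pow_one, Ring.choose_one_right, Gs, PowerSeries.coeff_mk, if_neg (by omega)]
    rw [e0, e1, add_zero, add_sub_cancel_right]
    refine Ideal.sum_mem _ fun j _ => ?_
    rw [Algebra.smul_def]
    exact Ideal.mul_mem_left _ _ (hpow j _)
  rw [Groth.Agent.Lib27.Gamma.gamma_add, Finset.sum_range_succ, Nat.sub_self,
    Groth.Agent.Lib27.Gamma.gamma_zero, mul_one, ← hGe d']
  have e : ∑ i ∈ range (d' + 1), gamma i (c • G) * gamma (d' + 1 - i) (x' * G) +
      gamma (d' + 1) (c • G) - c • gamma (d' + 1) G =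
      ∑ i ∈ range (d' + 1), gamma i (c • G) * gamma (d' + 1 - i) (x' * G) +
      (gamma (d' + 1) (c • G) - c • gamma (d' + 1) G) := by ring
  rw [e]
  refine Ideal.add_mem _ (Ideal.sum_mem _ fun i hi => ?_) hc
  rw [Finset.mem_range] at hi
  obtain ⟨b, hb'⟩ : ∃ b, d' + 1 - i = b + 1 := ⟨d' - i, by omega⟩
  rw [hb']
  exact Ideal.mul_mem_left _ _ (hb b)

end B6

end Groth.Agent.Lib27.LRank
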