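import Groth.Prelude.Def_LiftSq
import Groth.Prelude.Def_FibCat2
import Mathlib

/-!
# Formal properties of unique lifting for 2-commutative squares of based categories (helper27)

* `liftsUniquely_comp`: stability of `LiftSq.LiftsUniquely j` under composition on the right side.
* `liftsUniquely_fpFst`: stability under base change (first projection of the 2-fibre product).
-/

set_option backward.isDefEq.respectTransparency false
set_option backward.isDefEq.respectTransparency.types false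

universe v₆ u₆ v₅ u₅ v₄ u₄ v₃ u₃ v₂ u₂ v u

open CategoryTheory

namespace Groth.Agent.Lib27.LiftSqL

open LiftSq

variable {C : Type u} [Category.{v} C]

section Basic

variable {𝒜 : BasedCategory.{v₂, u₂} C} {ℬ : BasedCategory.{v₃, u₃} C}
  {𝒳 : BasedCategory.{v₄, u₄} C}

@[simp] lemma comp_app {F G H : 𝒜 ⥤ᵇ ℬ} (α : F ⟶ G) (β : G ⟶ H) (x : 𝒜.obj) :
    (α ≫ β).app x = α.app x ≫ β.app x := rfl

@[simp] lemma id_app (F : 𝒜 ⥤ᵇ ℬ) (x : 𝒜.obj) : (𝟙 F : F ⟶ F).app x = 𝟙 (F.obj x) := rfl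

lemma ext_app {F G : 𝒜 ⥤ᵇ ℬ} {α β : F ⟶ G} (h : ∀ x, α.app x = β.app x) : α = β := by
  apply BasedNatTrans.homCategory.ext
  ext x
  exact h x

lemma congr_app {F G : 𝒜 ⥤ᵇ ℬ} {α β : F ⟶ G} (h : α = β) (x : 𝒜.obj) : α.app x = β.app x := by
  rw [h]

@[simp] lemma hom_inv_app {F G : 𝒜 ⥤ᵇ ℬ} (α : F ≅ G) (x : 𝒜.obj) :
    α.hom.app x ≫ α.inv.app x = 𝟙 (F.obj x) := by
  rw [← comp_app, α.hom_inv_id]; rfl

@[simp] lemma inv_hom_app {F G : 𝒜 ⥤ᵇ ℬ} (α : F ≅ G) (x : 𝒜.obj) :
    α.inv.app x ≫ α.hom.app x = 𝟙 (G.obj x) := by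
  rw [← comp_app, α.inv_hom_id]; rfl

@[simp] lemma hom_inv_app_assoc {F G : 𝒜 ⥤ᵇ ℬ} (α : F ≅ G) (x : 𝒜.obj) {z : ℬ.obj}
    (h : F.obj x ⟶ z) : α.hom.app x ≫ α.inv.app x ≫ h = h := by
  rw [← Category.assoc, hom_inv_app, Category.id_comp]

@[simp] lemma inv_hom_app_assoc {F G : 𝒜 ⥤ᵇ ℬ} (α : F ≅ G) (x : 𝒜.obj) {z : ℬ.obj}
    (h : G.obj x ⟶ z) : α.inv.app x ≫ α.hom.app x ≫ h = h := by
  rw [← Category.assoc, inv_hom_app, Category.id_comp]

@[simp] lemma whiskerLeft_app (F : 𝒜 ⥤ᵇ ℬ) {G H : ℬ ⥤ᵇ 𝒳} (α : G ⟶ H) (x : 𝒜.obj) :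
    (BasedCategory.whiskerLeft F α).app x = α.app (F.obj x) := rfl

@[simp] lemma whiskerRight_app {F G : 𝒜 ⥤ᵇ ℬ} (α : F ⟶ G) (H : ℬ ⥤ᵇ 𝒳) (x : 𝒜.obj) :
    (BasedCategory.whiskerRight α H).app x = H.map (α.app x) := rfl

lemma naturality {F G : 𝒜 ⥤ᵇ ℬ} (α : F ⟶ G) {x y : 𝒜.obj} (g : x ⟶ y) :
    F.map g ≫ α.app y = α.app x ≫ G.map g := α.toNatTrans.naturality g

/-- The component isomorphism of an invertible 2-morphism. -/
@[simps]
def appIso {F G : 𝒜 ⥤ᵇ ℬ} (α : F ≅ G) (x : 𝒜.obj) : F.obj x ≅ G.obj x where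
  hom := α.hom.app x
  inv := α.inv.app x
  hom_inv_id := hom_inv_app α x
  inv_hom_id := inv_hom_app α x

lemma inv_compat {D : Type*} [Category D] {a a' b b' : D} (p : a ≅ a') (q : b ≅ b') (i : a ⟶ b)
    (i' : a' ⟶ b') (h : p.hom ≫ i' = i ≫ q.hom) : p.inv ≫ i = i' ≫ q.inv := by
  rw [Iso.inv_comp_eq, ← Category.assoc, Iso.eq_comp_inv, h]

/-- Right whiskering of an isomorphism. -/
@[simps]
def wrIso {F G : 𝒜 ⥤ᵇ ℬ} (α : F ≅ G) (H : ℬ ⥤ᵇ 𝒳) : BasedFunctor.comp F H ≅ BasedFunctor.comp G H where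
  hom := BasedCategory.whiskerRight α.hom H
  inv := BasedCategory.whiskerRight α.inv H
  hom_inv_id := by rw [← whiskerRight_comp', α.hom_inv_id, whiskerRight_id']
  inv_hom_id := by rw [← whiskerRight_comp', α.inv_hom_id, whiskerRight_id']

/-- Left whiskering of an isomorphism. -/
@[simps]
def wlIso (F : 𝒜 ⥤ᵇ ℬ) {G H : ℬ ⥤ᵇ 𝒳} (α : G ≅ H) : BasedFunctor.comp F G ≅ BasedFunctor.comp F H where
  hom := BasedCategory.whiskerLeft F α.hom
  inv := BasedCategory.whiskerLeft F α.inv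
  hom_inv_id := by rw [← whiskerLeft_comp', α.hom_inv_id, whiskerLeft_id']
  inv_hom_id := by rw [← whiskerLeft_comp', α.inv_hom_id, whiskerLeft_id']

end Basic

section UniqIso

variable {𝒜 : BasedCategory.{v₂, u₂} C} {ℬ : BasedCategory.{v₃, u₃} C}
  {𝒳 : BasedCategory.{v₄, u₄} C} {𝒴 : BasedCategory.{v₅, u₅} C}
  {j : 𝒜 ⥤ᵇ ℬ} {f : 𝒳 ⥤ᵇ 𝒴} {sq : Sq j f}

/-- When dotted arrows are unique up to unique morphism, the morphisms between them are invertible. -/
lemma exists_inverse (h : sq.UniqLift) (d d' : sq.Lift) (θ : d ⟶ d') :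
    ∃ θ' : d' ⟶ d, θ.hom ≫ θ'.hom = 𝟙 d.fn ∧ θ'.hom ≫ θ.hom = 𝟙 d'.fn := by
  obtain ⟨u⟩ := h d' d
  obtain ⟨u₁⟩ := h d d
  obtain ⟨u₂⟩ := h d' d'
  refine ⟨u.default, ?_, ?_⟩
  · have : θ ≫ u.default = 𝟙 d := (u₁.uniq _).trans (u₁.uniq _).symm
    exact congrArg Sq.Lift.Hom.hom this
  · have : u.default ≫ θ = 𝟙 d' := (u₂.uniq _).trans (u₂.uniq _).symm
    exact congrArg Sq.Lift.Hom.hom this

end UniqIso

section Comp

variable {𝒜 : BasedCategory.{v₂, u₂} C} {ℬ : BasedCategory.{v₃, u₃} C}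
  {𝒳 : BasedCategory.{v₄, u₄} C} {𝒴 : BasedCategory.{v₅, u₅} C} {𝒵 : BasedCategory.{v₆, u₆} C}
  (j : 𝒜 ⥤ᵇ ℬ) (f : 𝒳 ⥤ᵇ 𝒴) (g : 𝒴 ⥤ᵇ 𝒵)

/-- The square against `g` induced by a square against `f ⋙ g`. -/
def sqG (sq : Sq j (BasedFunctor.comp f g)) : Sq j g where
  top := BasedFunctor.comp sq.top f
  bot := sq.bot
  iso := sq.iso

/-- The square against `f` induced by a dotted arrow of `sqG`. -/
def sqF (sq : Sq j (BasedFunctor.comp f g)) (d : (sqG j f g sq).Lift) : Sq j f where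
  top := sq.top
  bot := d.fn
  iso := d.isoTop

variable {j f g}

/-- Composite dotted arrow. -/
def liftComp (sq : Sq j (BasedFunctor.comp f g)) (d : (sqG j f g sq).Lift)
    (e : (sqF j f g sq d).Lift) : sq.Lift where
  fn := e.fn
  isoTop := e.isoTop
  isoBot := d.isoBot ≪≫ wrIso e.isoBot g
  w := by
    apply ext_app
    intro x
    have h1 := congr_app d.w x
    have h2 := congr_app e.w x
    simp only [comp_app, whiskerLeft_app, whiskerRight_app, Iso.trans_hom, wrIso_hom] at h1 h2 ⊢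
    change (d.isoBot.hom.app (j.obj x) ≫ g.map (e.isoBot.hom.app (j.obj x))) ≫
      g.map (f.map (e.isoTop.hom.app x)) = sq.iso.hom.app x
    change d.isoBot.hom.app (j.obj x) ≫ g.map (d.isoTop.hom.app x) = sq.iso.hom.app x at h1
    change e.isoBot.hom.app (j.obj x) ≫ f.map (e.isoTop.hom.app x) = d.isoTop.hom.app x at h2
    rw [← h1, ← h2, Category.assoc, Functor.map_comp]

/-- A dotted arrow of `sq` gives a dotted arrow of `sqG`. -/
def liftToG (sq : Sq j (BasedFunctor.comp f g)) (d : sq.Lift) : (sqG j f g sq).Lift where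
  fn := BasedFunctor.comp d.fn f
  isoTop := wrIso d.isoTop f
  isoBot := d.isoBot
  w := d.w

/-- A morphism of dotted arrows of `sq` gives one of the induced dotted arrows of `sqG`. -/
def homToG {sq : Sq j (BasedFunctor.comp f g)} {d d' : sq.Lift} (φ : d ⟶ d') :
    liftToG sq d ⟶ liftToG sq d' where
  hom := BasedCategory.whiskerRight φ.hom f
  w_top := by
    apply ext_app
    intro x
    have h := congr_app φ.w_top x
    simp only [comp_app, whiskerLeft_app] at h
    change f.map (φ.hom.app (j.obj x)) ≫ f.map (d'.isoTop.hom.app x) = f.map (d.isoTop.hom.app x)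
    rw [← Functor.map_comp, h]
  w_bot := φ.w_bot

theorem liftsUniquely_comp (hf : LiftsUniquely j f) (hg : LiftsUniquely j g) :
    LiftsUniquely j (BasedFunctor.comp f g) := by
  intro sq
  refine ⟨?_, ?_⟩
  · obtain ⟨d⟩ := (hg (sqG j f g sq)).1
    obtain ⟨e⟩ := (hf (sqF j f g sq d)).1
    exact ⟨liftComp sq d e⟩
  · intro d d'
    -- the unique morphism between the induced dotted arrows against `g`
    obtain ⟨uG⟩ := (hg (sqG j f g sq)).2 (liftToG sq d) (liftToG sq d')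
    obtain ⟨θ', hθ1, hθ2⟩ := exists_inverse (hg (sqG j f g sq)).2 _ _ uG.default
    set θ := uG.default with hθ
    -- the square against `f` with bottom `d'.fn ⋙ f`
    let sqf : Sq j f := ⟨sq.top, BasedFunctor.comp d'.fn f, wrIso d'.isoTop f⟩
    let l' : sqf.Lift :=
      { fn := d'.fn
        isoTop := d'.isoTop
        isoBot := Iso.refl _
        w := by
          apply ext_app
          intro x
          change 𝟙 _ ≫ f.map (d'.isoTop.hom.app x) = f.map (d'.isoTop.hom.app x)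
          rw [Category.id_comp] }
    let l : sqf.Lift :=
      { fn := d.fn
        isoTop := d.isoTop
        isoBot := ⟨θ'.hom, θ.hom, hθ2, hθ1⟩
        w := by
          apply ext_app
          intro x
          have h := congr_app θ.w_top x
          have h' := congr_app hθ2 (j.obj x)
          change θ.hom.app (j.obj x) ≫ f.map (d'.isoTop.hom.app x) = f.map (d.isoTop.hom.app x) at h
          change θ'.hom.app (j.obj x) ≫ θ.hom.app (j.obj x) = 𝟙 _ at h'
          change θ'.hom.app (j.obj x) ≫ f.map (d.isoTop.hom.app x) = f.map (d'.isoTop.hom.app x)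
          rw [← h, ← Category.assoc, h', Category.id_comp] }
    obtain ⟨uF⟩ := (hf sqf).2 l l'
    have key : BasedCategory.whiskerRight uF.default.hom f = θ.hom := by
      have h := uF.default.w_bot
      change θ'.hom ≫ BasedCategory.whiskerRight uF.default.hom f = 𝟙 _ at h
      calc BasedCategory.whiskerRight uF.default.hom f
          = (θ.hom ≫ θ'.hom) ≫ BasedCategory.whiskerRight uF.default.hom f := by
            rw [hθ1]; exact (Category.id_comp _).symm
        _ = θ.hom := by rw [Category.assoc, h]; exact Category.comp_id _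
    refine ⟨⟨⟨⟨uF.default.hom, uF.default.w_top, ?_⟩⟩, ?_⟩⟩
    · have h := θ.w_bot
      change d.isoBot.hom ≫ BasedCategory.whiskerRight θ.hom g = d'.isoBot.hom at h
      rw [← key] at h
      exact h
    · intro φ
      have h1 : BasedCategory.whiskerRight φ.hom f = θ.hom :=
        congrArg Sq.Lift.Hom.hom (uG.uniq (homToG φ))
      let ψ : l ⟶ l' :=
        { hom := φ.hom
          w_top := φ.w_top
          w_bot := by
            change θ'.hom ≫ BasedCategory.whiskerRight φ.hom f = 𝟙 _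
            rw [h1, hθ2] }
      have h2 : ψ = uF.default := uF.uniq ψ
      apply Sq.Lift.hom_ext
      exact (congrArg Sq.Lift.Hom.hom h2 : ψ.hom = uF.default.hom)

end Comp

section FibreProduct

open FibCat

variable {𝒳 : BasedCategory.{v₂, u₂} C} {𝒴 : BasedCategory.{v₃, u₃} C} {𝒮 : BasedCategory.{v₄, u₄} C}
  {F : 𝒳 ⥤ᵇ 𝒮} {G : 𝒴 ⥤ᵇ 𝒮} {𝒲 : BasedCategory.{v₅, u₅} C}

/-- A 2-morphism between functors into the 2-fibre product from its two components. -/
def fpHomMk {A B : 𝒲 ⥤ᵇ fp F G}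
    (α : BasedFunctor.comp A (fpFst F G) ⟶ BasedFunctor.comp B (fpFst F G))
    (β : BasedFunctor.comp A (fpSnd F G) ⟶ BasedFunctor.comp B (fpSnd F G))
    (h : ∀ w : 𝒲.obj, F.map (α.app w) ≫ (B.obj w).obj.iso.hom = (A.obj w).obj.iso.hom ≫ G.map (β.app w)) :
    A ⟶ B where
  toNatTrans :=
    { app := fun w => ObjectProperty.homMk ⟨α.app w, β.app w, h w⟩
      naturality := fun w w' m => by
        apply ObjectProperty.hom_ext
        apply Limits.CategoricalPullback.hom_ext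
        · exact naturality α m
        · exact naturality β m }
  isHomLift' := fun w => by
    have h1 : 𝒳.p.IsHomLift (𝟙 (𝒲.p.obj w)) (α.app w) := α.isHomLift' w
    exact (BasedFunctor.isHomLift_iff (fpFst F G) (𝟙 (𝒲.p.obj w))
      (ObjectProperty.homMk ⟨α.app w, β.app w, h w⟩ : A.obj w ⟶ B.obj w)).1 h1

@[simp] lemma fpHomMk_app_fst {A B : 𝒲 ⥤ᵇ fp F G}
    (α : BasedFunctor.comp A (fpFst F G) ⟶ BasedFunctor.comp B (fpFst F G))
    (β : BasedFunctor.comp A (fpSnd F G) ⟶ BasedFunctor.comp B (fpSnd F G)) (h) (w : 𝒲.obj) :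
    ((fpHomMk α β h).app w).hom.fst = α.app w := rfl

@[simp] lemma fpHomMk_app_snd {A B : 𝒲 ⥤ᵇ fp F G}
    (α : BasedFunctor.comp A (fpFst F G) ⟶ BasedFunctor.comp B (fpFst F G))
    (β : BasedFunctor.comp A (fpSnd F G) ⟶ BasedFunctor.comp B (fpSnd F G)) (h) (w : 𝒲.obj) :
    ((fpHomMk α β h).app w).hom.snd = β.app w := rfl

lemma fp_ext {A B : 𝒲 ⥤ᵇ fp F G} {φ ψ : A ⟶ B}
    (h1 : ∀ w : 𝒲.obj, (φ.app w).hom.fst = (ψ.app w).hom.fst)
    (h2 : ∀ w : 𝒲.obj, (φ.app w).hom.snd = (ψ.app w).hom.snd) : φ = ψ := by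
  apply ext_app
  intro w
  apply ObjectProperty.hom_ext
  apply Limits.CategoricalPullback.hom_ext
  · exact h1 w
  · exact h2 w

lemma fp_comp_fst {x y z : (fp F G).obj} (m : x ⟶ y) (n : y ⟶ z) :
    (m ≫ n).hom.fst = m.hom.fst ≫ n.hom.fst := rfl

lemma fp_comp_snd {x y z : (fp F G).obj} (m : x ⟶ y) (n : y ⟶ z) :
    (m ≫ n).hom.snd = m.hom.snd ≫ n.hom.snd := rfl

lemma fp_id_fst (x : (fp F G).obj) : (𝟙 x : x ⟶ x).hom.fst = 𝟙 _ := rfl

lemma fp_id_snd (x : (fp F G).obj) : (𝟙 x : x ⟶ x).hom.snd = 𝟙 _ := rfl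

/-- An invertible 2-morphism between functors into the 2-fibre product from its two components. -/
def fpIsoMk {A B : 𝒲 ⥤ᵇ fp F G}
    (α : BasedFunctor.comp A (fpFst F G) ≅ BasedFunctor.comp B (fpFst F G))
    (β : BasedFunctor.comp A (fpSnd F G) ≅ BasedFunctor.comp B (fpSnd F G))
    (h : ∀ w : 𝒲.obj, F.map (α.hom.app w) ≫ (B.obj w).obj.iso.hom
      = (A.obj w).obj.iso.hom ≫ G.map (β.hom.app w)) :
    A ≅ B where
  hom := fpHomMk α.hom β.hom h
  inv := fpHomMk α.inv β.inv (fun w =>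
    inv_compat (F.mapIso (appIso α w)) (G.mapIso (appIso β w)) (A.obj w).obj.iso.hom
      (B.obj w).obj.iso.hom (h w))
  hom_inv_id := by
    apply fp_ext
    · intro w
      change α.hom.app w ≫ α.inv.app w = 𝟙 _
      exact hom_inv_app α w
    · intro w
      change β.hom.app w ≫ β.inv.app w = 𝟙 _
      exact hom_inv_app β w
  inv_hom_id := by
    apply fp_ext
    · intro w
      change α.inv.app w ≫ α.hom.app w = 𝟙 _
      exact inv_hom_app α w
    · intro w
      change β.inv.app w ≫ β.hom.app w = 𝟙 _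
      exact inv_hom_app β w

variable {𝒜 : BasedCategory.{v₅, u₅} C} {ℬ : BasedCategory.{v₆, u₆} C} {j : 𝒜 ⥤ᵇ ℬ}

variable (F G) in
/-- The square against `G` induced by a square against the projection `fpFst F G`. -/
def sqSnd (sq : Sq j (fpFst F G)) : Sq j G where
  top := BasedFunctor.comp sq.top (fpSnd F G)
  bot := BasedFunctor.comp sq.bot F
  iso := wrIso sq.iso F ≪≫ wlIso sq.top (fpIso F G)

lemma sqSnd_iso_hom_app (sq : Sq j (fpFst F G)) (a : 𝒜.obj) :
    (sqSnd F G sq).iso.hom.app a = F.map (sq.iso.hom.app a) ≫ (sq.top.obj a).obj.iso.hom := rfl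

/-- The dotted arrow into the fibre product built from a dotted arrow against `G`. -/
def liftFp (sq : Sq j (fpFst F G)) (d : (sqSnd F G sq).Lift) : sq.Lift where
  fn := fpLift sq.bot d.fn d.isoBot
  isoTop := fpIsoMk (A := BasedFunctor.comp j (fpLift sq.bot d.fn d.isoBot)) (B := sq.top)
    sq.iso d.isoTop (fun a => by
      have h := congr_app d.w a
      rw [sqSnd_iso_hom_app] at h
      exact h.symm)
  isoBot := Iso.refl _
  w := by
    apply ext_app
    intro a
    change 𝟙 _ ≫ sq.iso.hom.app a = sq.iso.hom.app a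
    exact Category.id_comp _

/-- A dotted arrow of `sq` gives a dotted arrow of `sqSnd`. -/
def liftToSnd (sq : Sq j (fpFst F G)) (d : sq.Lift) : (sqSnd F G sq).Lift where
  fn := BasedFunctor.comp d.fn (fpSnd F G)
  isoTop := wrIso d.isoTop (fpSnd F G)
  isoBot := wrIso d.isoBot F ≪≫ wlIso d.fn (fpIso F G)
  w := by
    apply ext_app
    intro a
    rw [sqSnd_iso_hom_app]
    have h := congr_app d.w a
    change d.isoBot.hom.app (j.obj a) ≫ (d.isoTop.hom.app a).hom.fst = sq.iso.hom.app a at h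
    have hw := (d.isoTop.hom.app a).hom.w
    change (F.map (d.isoBot.hom.app (j.obj a)) ≫ (d.fn.obj (j.obj a)).obj.iso.hom) ≫
      G.map (d.isoTop.hom.app a).hom.snd = _
    rw [← h, Functor.map_comp, Category.assoc, Category.assoc]
    exact congrArg (F.map (d.isoBot.hom.app (j.obj a)) ≫ ·) hw.symm

/-- A morphism of dotted arrows of `sq` gives one between the induced dotted arrows of `sqSnd`. -/
def homToSnd {sq : Sq j (fpFst F G)} {d d' : sq.Lift} (φ : d ⟶ d') :
    liftToSnd sq d ⟶ liftToSnd sq d' where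
  hom := BasedCategory.whiskerRight φ.hom (fpSnd F G)
  w_top := by
    apply ext_app
    intro a
    have h := congr_app φ.w_top a
    change (φ.hom.app (j.obj a) ≫ d'.isoTop.hom.app a) = d.isoTop.hom.app a at h
    change (φ.hom.app (j.obj a)).hom.snd ≫ (d'.isoTop.hom.app a).hom.snd = (d.isoTop.hom.app a).hom.snd
    rw [← fp_comp_snd, h]
  w_bot := by
    apply ext_app
    intro b
    have h := congr_app φ.w_bot b
    change d.isoBot.hom.app b ≫ (φ.hom.app b).hom.fst = d'.isoBot.hom.app b at h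
    have hw := (φ.hom.app b).hom.w
    change (F.map (d.isoBot.hom.app b) ≫ (d.fn.obj b).obj.iso.hom) ≫ G.map (φ.hom.app b).hom.snd
      = F.map (d'.isoBot.hom.app b) ≫ (d'.fn.obj b).obj.iso.hom
    rw [← h, Functor.map_comp, Category.assoc, Category.assoc]
    exact congrArg (F.map (d.isoBot.hom.app b) ≫ ·) hw.symm

theorem liftsUniquely_fpFst (F : 𝒳 ⥤ᵇ 𝒮) (G : 𝒴 ⥤ᵇ 𝒮) (hG : LiftsUniquely j G) :
    LiftsUniquely j (fpFst F G) := by
  intro sq
  refine ⟨?_, ?_⟩
  · obtain ⟨d⟩ := (hG (sqSnd F G sq)).1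
    exact ⟨liftFp sq d⟩
  · intro d d'
    obtain ⟨u⟩ := (hG (sqSnd F G sq)).2 (liftToSnd sq d) (liftToSnd sq d')
    set θ := u.default with hθ
    have hcompat : ∀ b : ℬ.obj, F.map ((d.isoBot.inv ≫ d'.isoBot.hom).app b) ≫ (d'.fn.obj b).obj.iso.hom
        = (d.fn.obj b).obj.iso.hom ≫ G.map (θ.hom.app b) := by
      intro b
      have h := congr_app θ.w_bot b
      change (F.map (d.isoBot.hom.app b) ≫ (d.fn.obj b).obj.iso.hom) ≫ G.map (θ.hom.app b)
        = F.map (d'.isoBot.hom.app b) ≫ (d'.fn.obj b).obj.iso.hom at h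
      have e1 : F.map (d.isoBot.inv.app b) ≫ F.map (d.isoBot.hom.app b) = 𝟙 _ := by
        rw [← Functor.map_comp, inv_hom_app]; exact F.map_id _
      rw [comp_app, Functor.map_comp, Category.assoc, ← h, Category.assoc, ← Category.assoc, e1,
        Category.id_comp]
    let hom : d.fn ⟶ d'.fn := fpHomMk (d.isoBot.inv ≫ d'.isoBot.hom) θ.hom hcompat
    have hdw : ∀ a : 𝒜.obj, d.isoBot.hom.app (j.obj a) ≫ (d.isoTop.hom.app a).hom.fst
        = sq.iso.hom.app a := fun a => congr_app d.w a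
    have hdw' : ∀ a : 𝒜.obj, d'.isoBot.hom.app (j.obj a) ≫ (d'.isoTop.hom.app a).hom.fst
        = sq.iso.hom.app a := fun a => congr_app d'.w a
    refine ⟨⟨⟨⟨hom, ?_, ?_⟩⟩, ?_⟩⟩
    · apply fp_ext
      · intro a
        change (d.isoBot.inv.app (j.obj a) ≫ d'.isoBot.hom.app (j.obj a)) ≫ (d'.isoTop.hom.app a).hom.fst
          = (d.isoTop.hom.app a).hom.fst
        rw [Category.assoc, hdw' a, ← hdw a, inv_hom_app_assoc]
      · intro a
        have h := congr_app θ.w_top a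
        exact h
    · apply ext_app
      intro b
      change d.isoBot.hom.app b ≫ (d.isoBot.inv.app b ≫ d'.isoBot.hom.app b) = d'.isoBot.hom.app b
      rw [hom_inv_app_assoc]
    · intro φ
      apply Sq.Lift.hom_ext
      change φ.hom = hom
      apply fp_ext
      · intro b
        have h := congr_app φ.w_bot b
        change d.isoBot.hom.app b ≫ (φ.hom.app b).hom.fst = d'.isoBot.hom.app b at h
        change (φ.hom.app b).hom.fst = d.isoBot.inv.app b ≫ d'.isoBot.hom.app b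
        rw [← h, inv_hom_app_assoc]
      · intro b
        have h1 : homToSnd φ = θ := u.uniq (homToSnd φ)
        have h2 := congr_app (congrArg Sq.Lift.Hom.hom h1) b
        exact h2

end FibreProduct

end Groth.Agent.Lib27.LiftSqL
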