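import Mathlib
import Groth.Prelude.Def_W4c3perfectstacksMV

/-!
# Mayer–Vietoris squares of triangulated categories (helper27)
-/

set_option autoImplicit false
universe v u

open CategoryTheory CategoryTheory.Limits CategoryTheory.Pretriangulated
open W4c3perfectstacks W4c3perfectstacks.MVSq

namespace Groth.Agent.Lib27.MVSq

section Gen

variable {C : Type u} [Category.{v} C] [Preadditive C] [HasZeroObject C] [HasShift C ℤ]
  [∀ n : ℤ, (shiftFunctor C n).Additive] [Pretriangulated C]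

/-- if `A` and `A⟦1⟧` have no nonzero maps to the third vertex, maps from `A` to the first two
vertices correspond. -/
lemma bijective_comp_mor₁ (T : Triangle C) (hT : T ∈ distTriang C) (A : C)
    (h0 : ∀ g : A ⟶ T.obj₃, g = 0)
    (h1 : ∀ g : (shiftFunctor C (1 : ℤ)).obj A ⟶ T.obj₃, g = 0) :
    Function.Bijective (fun x : A ⟶ T.obj₁ => x ≫ T.mor₁) := by
  constructor
  · intro x x' hxx'
    dsimp only at hxx'
    rw [← sub_eq_zero] at hxx' ⊢
    rw [← Preadditive.sub_comp] at hxx'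
    generalize x - x' = x at hxx'
    have h2 : (shiftFunctor C (1 : ℤ)).map x ≫ (shiftFunctor C (1 : ℤ)).map T.mor₁ = 0 := by
      rw [← Functor.map_comp, hxx', Functor.map_zero]
    obtain ⟨g, hg⟩ := Triangle.coyoneda_exact₁ T hT _ h2
    rw [h1 g, zero_comp] at hg
    exact (shiftFunctor C (1 : ℤ)).map_injective (hg.trans (Functor.map_zero _ _ _).symm)
  · intro y
    obtain ⟨x, hx⟩ := Triangle.coyoneda_exact₂ T hT y (h0 _)
    exact ⟨x, hx.symm⟩

end Gen

section Split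

variable {R : Type u} [Category.{v} R] [Preadditive R]

/-- the comparison of two "cokernels" of a split monomorphism. -/
lemma isIso_of_split {A P Q Y Z Z' : R}
    (a : A ⟶ Y) (b : Y ⟶ Z) (b' : Y ⟶ Z') (c : Z' ⟶ Z) (hc : b' ≫ c = b) (hab' : a ≫ b' = 0)
    [Epi b'] (ι₁ : P ⟶ Y) (ι₂ : Q ⟶ Y) (π₁ : Y ⟶ P) (π₂ : Y ⟶ Q)
    (hid : π₁ ≫ ι₁ + π₂ ≫ ι₂ = 𝟙 Y)
    (u : A ≅ P) (hu : a ≫ π₁ = u.hom) (w : Q ≅ Z) (hw : ι₂ ≫ b = -w.hom)
    (hnat : u.hom ≫ ι₁ ≫ b = a ≫ π₂ ≫ w.hom) : IsIso c := by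
  have h1 : ι₁ ≫ b' = -(u.inv ≫ a ≫ π₂ ≫ ι₂ ≫ b') := by
    have h : a ≫ (π₁ ≫ ι₁ + π₂ ≫ ι₂) ≫ b' = 0 := by rw [hid, Category.id_comp, hab']
    rw [Preadditive.add_comp, Preadditive.comp_add, Category.assoc, Category.assoc,
      ← Category.assoc a π₁, hu] at h
    have h' : u.hom ≫ ι₁ ≫ b' = -(a ≫ π₂ ≫ ι₂ ≫ b') := eq_neg_of_add_eq_zero_left h
    have := congrArg (fun z => u.inv ≫ z) h'
    simp only [Iso.inv_hom_id_assoc, Preadditive.comp_neg] at this
    exact this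
  have h2 : ι₁ ≫ b ≫ w.inv = u.inv ≫ a ≫ π₂ := by
    have := congrArg (fun z => u.inv ≫ z ≫ w.inv) hnat
    simp only [Iso.inv_hom_id_assoc, Category.assoc, Iso.hom_inv_id, Category.comp_id] at this
    exact this
  have h3 : b ≫ w.inv = π₁ ≫ u.inv ≫ a ≫ π₂ - π₂ := by
    calc b ≫ w.inv = (π₁ ≫ ι₁ + π₂ ≫ ι₂) ≫ b ≫ w.inv := by rw [hid, Category.id_comp]
      _ = π₁ ≫ (ι₁ ≫ b ≫ w.inv) + π₂ ≫ ((ι₂ ≫ b) ≫ w.inv) := by
          simp only [Preadditive.add_comp, Category.assoc]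
      _ = π₁ ≫ u.inv ≫ a ≫ π₂ - π₂ := by
          rw [h2, hw, Preadditive.neg_comp, Iso.hom_inv_id, Preadditive.comp_neg, Category.comp_id,
            sub_eq_add_neg]
  refine ⟨⟨-(w.inv ≫ ι₂ ≫ b'), ?_, ?_⟩⟩
  · rw [← cancel_epi b', ← Category.assoc, hc, Preadditive.comp_neg, ← Category.assoc b, h3,
      Preadditive.sub_comp, Category.comp_id]
    simp only [Category.assoc]
    have h4 : π₁ ≫ u.inv ≫ a ≫ π₂ ≫ ι₂ ≫ b' = -(π₁ ≫ ι₁ ≫ b') := by
      rw [h1, Preadditive.comp_neg, neg_neg]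
    rw [h4]
    have h5 : b' = π₁ ≫ ι₁ ≫ b' + π₂ ≫ ι₂ ≫ b' := by
      have := congrArg (fun z => z ≫ b') hid
      simp only [Preadditive.add_comp, Category.assoc, Category.id_comp] at this
      exact this.symm
    conv_rhs => rw [h5]
    abel
  · rw [Preadditive.neg_comp, Category.assoc, Category.assoc, hc, hw, Preadditive.comp_neg,
      neg_neg, Iso.inv_hom_id]

end Split

section MV

variable {S S' R R' : Type u} [Category.{v} S] [Category.{v} S'] [Category.{v} R] [Category.{v} R']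
  [Preadditive S] [Preadditive S'] [Preadditive R] [Preadditive R']
  [HasZeroObject S] [HasZeroObject S'] [HasZeroObject R] [HasZeroObject R']
  [HasShift S ℤ] [HasShift S' ℤ] [HasShift R ℤ] [HasShift R' ℤ]
  [∀ n : ℤ, (shiftFunctor S n).Additive] [∀ n : ℤ, (shiftFunctor S' n).Additive]
  [∀ n : ℤ, (shiftFunctor R n).Additive] [∀ n : ℤ, (shiftFunctor R' n).Additive]
  [Pretriangulated S] [Pretriangulated S'] [Pretriangulated R] [Pretriangulated R']
  (q : W4c3perfectstacks.MVSq S S' R R')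
  [q.jst.CommShift ℤ] [q.fst.CommShift ℤ] [q.jpst.CommShift ℤ] [q.gst.CommShift ℤ]
  [q.jst.IsTriangulated] [q.fst.IsTriangulated] [q.jpst.IsTriangulated] [q.gst.IsTriangulated]

omit [HasShift S ℤ] [HasShift R ℤ] [Preadditive S] [Preadditive R]
  [HasZeroObject S] [HasZeroObject R] in
lemma hom_jls_ext {K : S} (hK : IsZero (q.jst.obj K)) {Q : R} (f g : K ⟶ q.jls.obj Q) : f = g :=
  (q.adjJ.homEquiv K Q).symm.injective (hK.eq_of_src _ _)

lemma hom_jpls_ext {M : S'} (hM : IsZero (q.jpst.obj M)) {Q : R'} (f g : M ⟶ q.jpls.obj Q) :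
    f = g :=
  (q.adjJp.homEquiv M Q).symm.injective (hM.eq_of_src _ _)

lemma kerJ_shift {K : S} (hK : IsZero (q.jst.obj K)) (n : ℤ) :
    IsZero (q.jst.obj ((shiftFunctor S n).obj K)) :=
  IsZero.of_iso ((shiftFunctor R n).map_isZero hK) ((q.jst.commShiftIso n).app K)

lemma kerJp_shift {M : S'} (hM : IsZero (q.jpst.obj M)) (n : ℤ) :
    IsZero (q.jpst.obj ((shiftFunctor S' n).obj M)) :=
  IsZero.of_iso ((shiftFunctor R' n).map_isZero hM) ((q.jpst.commShiftIso n).app M)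

lemma kerJp_fst {K : S} (hK : IsZero (q.jst.obj K)) : IsZero (q.jpst.obj (q.fst.obj K)) :=
  IsZero.of_iso (q.gst.map_isZero hK) (q.e.app K).symm

variable (hq : q.IsMV)

include hq

lemma hom_fst_jls_ext {M : S'} (hM : IsZero (q.jpst.obj M)) {Q : R}
    (f g : M ⟶ q.fst.obj (q.jls.obj Q)) : f = g := by
  haveI := hq.isIso_bc2App Q
  rw [← cancel_mono (q.bc2App Q)]
  exact hom_jpls_ext q hM _ _

lemma hom_theta_jls_ext {K : S} (hK : IsZero (q.jst.obj K)) {Q : R}
    (f g : K ⟶ q.fls.obj (q.fst.obj (q.jls.obj Q))) : f = g :=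
  (q.adjF.homEquiv K _).symm.injective (hom_fst_jls_ext q hq (kerJp_fst q hK) _ _)

lemma isIso_jst_map_unit (N : S) : IsIso (q.jst.map (q.adjJ.unit.app N)) := by
  haveI := hq.isIso_counitJ
  haveI : IsIso (q.adjJ.counit.app (q.jst.obj N)) := inferInstance
  haveI : IsIso (q.jst.map (q.adjJ.unit.app N) ≫ q.adjJ.counit.app (q.jst.obj N)) := by
    have h := q.adjJ.left_triangle_components N
    rw [h]
    exact IsIso.id _
  exact IsIso.of_isIso_comp_right _ (q.adjJ.counit.app (q.jst.obj N))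

lemma isIso_jpst_map_unit (M : S') : IsIso (q.jpst.map (q.adjJp.unit.app M)) := by
  haveI := hq.isIso_counitJp
  haveI : IsIso (q.adjJp.counit.app (q.jpst.obj M)) := inferInstance
  haveI : IsIso (q.jpst.map (q.adjJp.unit.app M) ≫ q.adjJp.counit.app (q.jpst.obj M)) := by
    have h := q.adjJp.left_triangle_components M
    rw [h]
    exact IsIso.id _
  exact IsIso.of_isIso_comp_right _ (q.adjJp.counit.app (q.jpst.obj M))

/-- the localization triangle -/
lemma exists_loc_triangle (N : S) :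
    ∃ (K : S) (k : K ⟶ N) (δ : q.jls.obj (q.jst.obj N) ⟶ (shiftFunctor S (1 : ℤ)).obj K),
      Triangle.mk k (q.adjJ.unit.app N) δ ∈ distTriang S ∧ IsZero (q.jst.obj K) := by
  obtain ⟨K, k, δ, hT⟩ := distinguished_cocone_triangle₁ (q.adjJ.unit.app N)
  refine ⟨K, k, δ, hT, ?_⟩
  have hT' := q.jst.map_distinguished _ hT
  haveI := isIso_jst_map_unit q hq N
  exact (Triangle.isZero₁_iff_isIso₂ _ hT').2
    (show IsIso (q.jst.map (q.adjJ.unit.app N)) from inferInstance)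

/-- `f^*` is fully faithful on maps out of objects killed by `j^*`. -/
lemma bijective_fst_map {K₀ : S} (hK₀ : IsZero (q.jst.obj K₀)) (N : S) :
    Function.Bijective (fun φ : K₀ ⟶ N => q.fst.map φ) := by
  obtain ⟨K, k, δ, hT, hK⟩ := exists_loc_triangle q hq N
  have h1 : Function.Bijective (fun x : K₀ ⟶ K => x ≫ k) :=
    bijective_comp_mor₁ _ hT K₀ (fun g => hom_jls_ext q hK₀ g 0)
      (fun g => hom_jls_ext q (kerJ_shift q hK₀ 1) g 0)
  have hT' := q.fst.map_distinguished _ hT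
  have h2 : Function.Bijective (fun x : q.fst.obj K₀ ⟶ q.fst.obj K => x ≫ q.fst.map k) :=
    bijective_comp_mor₁ _ hT' (q.fst.obj K₀)
      (fun g => hom_fst_jls_ext q hq (kerJp_fst q hK₀) g 0)
      (fun g => hom_fst_jls_ext q hq (kerJp_shift q (kerJp_fst q hK₀) 1) g 0)
  have h3 : Function.Bijective (fun φ : K₀ ⟶ K => q.fst.map φ) := by
    haveI := hq.isIso_unitF K hK
    have : (fun φ : K₀ ⟶ K => q.fst.map φ) =
        (q.adjF.homEquiv K₀ (q.fst.obj K)).symm ∘ (fun φ : K₀ ⟶ K => φ ≫ q.adjF.unit.app K) := by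
      funext φ
      apply (q.adjF.homEquiv K₀ (q.fst.obj K)).injective
      simp only [Function.comp_apply, Equiv.apply_symm_apply]
      rw [Adjunction.homEquiv_unit]
      exact (q.adjF.unit.naturality φ).symm
    rw [this]
    refine (Equiv.bijective _).comp ⟨fun a b hab => ?_, fun b => ⟨b ≫ inv (q.adjF.unit.app K), ?_⟩⟩
    · exact (cancel_mono (q.adjF.unit.app K)).1 hab
    · simp
  constructor
  · intro φ φ' hφ
    dsimp only at hφ
    obtain ⟨x, rfl⟩ := h1.2 φ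
    obtain ⟨x', rfl⟩ := h1.2 φ'
    dsimp only at hφ ⊢
    rw [Functor.map_comp, Functor.map_comp] at hφ
    rw [h3.1 (h2.1 hφ)]
  · intro ψ
    obtain ⟨y, rfl⟩ := h2.2 ψ
    obtain ⟨x, rfl⟩ := h3.2 y
    exact ⟨x ≫ k, by dsimp only; rw [Functor.map_comp]⟩

/-- `(· ≫ η_f)` is bijective on maps out of objects killed by `j^*`. -/
lemma bijective_comp_unitF {K₀ : S} (hK₀ : IsZero (q.jst.obj K₀)) (N : S) :
    Function.Bijective (fun φ : K₀ ⟶ N => φ ≫ q.adjF.unit.app N) := by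
  have : (fun φ : K₀ ⟶ N => φ ≫ q.adjF.unit.app N) =
      (q.adjF.homEquiv K₀ (q.fst.obj N)) ∘ (fun φ : K₀ ⟶ N => q.fst.map φ) := by
    funext φ
    simp only [Function.comp_apply]
    rw [Adjunction.homEquiv_unit]
    exact q.adjF.unit.naturality φ
  rw [this]
  exact (Equiv.bijective _).comp (bijective_fst_map q hq hK₀ N)

/-- `j^* f_* M` vanishes when `j'^* M` does. -/
lemma kerJ_fls {M : S'} (hM : IsZero (q.jpst.obj M)) : IsZero (q.jst.obj (q.fls.obj M)) := by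
  haveI := hq.isIso_bcApp M
  haveI : q.gls.PreservesZeroMorphisms := by
    haveI := q.adjG.right_adjoint_additive
    infer_instance
  exact IsZero.of_iso (q.gls.map_isZero hM) (asIso (q.bcApp M))

omit hq in
lemma bcApp_naturality {M M' : S'} (m : M ⟶ M') :
    q.jst.map (q.fls.map m) ≫ q.bcApp M' = q.bcApp M ≫ q.gls.map (q.jpst.map m) := by
  dsimp only [MVSq.bcApp]
  have h1 := q.adjG.unit.naturality (q.jst.map (q.fls.map m))
  have h2 := q.e.hom.naturality (q.fls.map m)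
  have h3 := q.adjF.counit.naturality m
  dsimp only [Functor.comp_obj, Functor.comp_map, Functor.id_obj, Functor.id_map] at h1 h2 h3
  rw [← Category.assoc, h1, Category.assoc, ← q.gls.map_comp_assoc, h2, q.gls.map_comp_assoc,
    ← q.gls.map_comp, ← q.jpst.map_comp, h3, q.jpst.map_comp, q.gls.map_comp]
  simp only [Category.assoc]

lemma isIso_jst_map_fls_map {M M' : S'} (m : M ⟶ M') [IsIso (q.jpst.map m)] :
    IsIso (q.jst.map (q.fls.map m)) := by
  haveI := hq.isIso_bcApp M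
  haveI := hq.isIso_bcApp M'
  have h : q.jst.map (q.fls.map m) = q.bcApp M ≫ q.gls.map (q.jpst.map m) ≫ inv (q.bcApp M') := by
    rw [← Category.assoc, ← bcApp_naturality, Category.assoc, IsIso.hom_inv_id, Category.comp_id]
  rw [h]
  infer_instance

lemma isIso_jpst_map_fst_map_unit (N : S) :
    IsIso (q.jpst.map (q.fst.map (q.adjJ.unit.app N))) := by
  haveI := isIso_jst_map_unit q hq N
  have h2 := q.e.hom.naturality (q.adjJ.unit.app N)
  dsimp only [Functor.comp_obj, Functor.comp_map] at h2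
  have h : q.jpst.map (q.fst.map (q.adjJ.unit.app N)) =
      q.e.inv.app N ≫ q.gst.map (q.jst.map (q.adjJ.unit.app N)) ≫
        q.e.hom.app (q.jls.obj (q.jst.obj N)) := by
    rw [h2]
    exact (Iso.inv_hom_id_app_assoc q.e N _).symm
  rw [h]
  infer_instance

lemma isIso_jst_map_theta_unit (N : S) :
    IsIso (q.jst.map (q.fls.map (q.fst.map (q.adjJ.unit.app N)))) := by
  haveI := isIso_jpst_map_fst_map_unit q hq N
  exact isIso_jst_map_fls_map q hq _

omit hq in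
/-- the first map of the Mayer–Vietoris triangle -/
noncomputable abbrev mvα (N : S) :
    N ⟶ q.jls.obj (q.jst.obj N) ⊞ q.fls.obj (q.fst.obj N) :=
  biprod.lift (q.adjJ.unit.app N) (q.adjF.unit.app N)

omit hq in
/-- the second map of the Mayer–Vietoris triangle -/
noncomputable abbrev mvβ (N : S) :
    q.jls.obj (q.jst.obj N) ⊞ q.fls.obj (q.fst.obj N) ⟶
      q.fls.obj (q.fst.obj (q.jls.obj (q.jst.obj N))) :=
  biprod.desc (q.adjF.unit.app (q.jls.obj (q.jst.obj N)))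
    (-(q.fls.map (q.fst.map (q.adjJ.unit.app N))))

omit hq in
lemma unit_nat (N : S) :
    q.adjJ.unit.app N ≫ q.adjF.unit.app (q.jls.obj (q.jst.obj N)) =
      q.adjF.unit.app N ≫ q.fls.map (q.fst.map (q.adjJ.unit.app N)) :=
  q.adjF.unit.naturality (q.adjJ.unit.app N)

omit hq in
lemma mvα_mvβ (N : S) : mvα q N ≫ mvβ q N = 0 := by
  dsimp only [mvα, mvβ]
  rw [biprod.lift_desc, Preadditive.comp_neg, unit_nat, add_neg_cancel]

omit hq in
lemma mono_fst_map_mvα (N : S) : Mono (q.fst.map (mvα q N)) := by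
  have h : q.fst.map (mvα q N) ≫ (q.fst.map biprod.snd ≫ q.adjF.counit.app (q.fst.obj N)) =
      𝟙 _ := by
    rw [← Category.assoc, ← q.fst.map_comp, biprod.lift_snd]
    exact q.adjF.left_triangle_components N
  haveI : Mono (q.fst.map (mvα q N) ≫
      (q.fst.map biprod.snd ≫ q.adjF.counit.app (q.fst.obj N))) := by
    rw [h]; infer_instance
  exact mono_of_mono _ (q.fst.map biprod.snd ≫ q.adjF.counit.app (q.fst.obj N))

lemma mono_jst_map_mvα (N : S) : Mono (q.jst.map (mvα q N)) := by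
  haveI := isIso_jst_map_unit q hq N
  haveI : Mono (q.jst.map (mvα q N) ≫ q.jst.map biprod.fst) := by
    rw [← q.jst.map_comp, biprod.lift_fst]; infer_instance
  exact mono_of_mono _ (q.jst.map biprod.fst)

/-- maps from objects killed by `j^*` to a cone of `mvα` vanish. -/
lemma hom_cone_eq_zero (N : S) {Z' : S}
    (β' : q.jls.obj (q.jst.obj N) ⊞ q.fls.obj (q.fst.obj N) ⟶ Z')
    (d' : Z' ⟶ (shiftFunctor S (1 : ℤ)).obj N)
    (hT : Triangle.mk (mvα q N) β' d' ∈ distTriang S)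
    {K₀ : S} (hK₀ : IsZero (q.jst.obj K₀)) (x : K₀ ⟶ Z') : x = 0 := by
  have hT' := q.fst.map_distinguished _ hT
  have h3 : (q.fst.mapTriangle.obj (Triangle.mk (mvα q N) β' d')).mor₃ = 0 :=
    Triangle.mor₃_eq_zero_of_mono₁ _ hT' (mono_fst_map_mvα q N)
  obtain ⟨z, hz⟩ : ∃ z : q.fst.obj K₀ ⟶ q.fst.obj _, q.fst.map x = z ≫ q.fst.map β' :=
    Triangle.coyoneda_exact₃ _ hT' (q.fst.map x) (by rw [h3]; exact comp_zero)
  obtain ⟨x₁, hx₁⟩ := (bijective_fst_map q hq hK₀ _).2 z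
  dsimp only at hx₁
  have hx : x = x₁ ≫ β' := by
    apply (bijective_fst_map q hq hK₀ _).1
    dsimp only
    rw [hz, Functor.map_comp, hx₁]
  obtain ⟨φ, hφ⟩ := (bijective_comp_unitF q hq hK₀ N).2 (x₁ ≫ biprod.snd)
  dsimp only at hφ
  have hx₁' : x₁ = φ ≫ mvα q N := by
    apply biprod.hom_ext
    · exact hom_jls_ext q hK₀ _ _
    · rw [Category.assoc, biprod.lift_snd, hφ]
  have h0 : mvα q N ≫ β' = 0 := comp_distTriang_mor_zero₁₂ _ hT
  rw [hx, hx₁', Category.assoc, h0, comp_zero]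

/-- existence of the Mayer–Vietoris triangle. -/
theorem exists_mv_triangle (N : S) :
    ∃ d : q.fls.obj (q.fst.obj (q.jls.obj (q.jst.obj N))) ⟶ (shiftFunctor S (1 : ℤ)).obj N,
      Triangle.mk (mvα q N) (mvβ q N) d ∈ distTriang S := by
  obtain ⟨Z', β', d', hT⟩ := distinguished_cocone_triangle (mvα q N)
  obtain ⟨γ, hγ⟩ : ∃ γ : Z' ⟶ q.fls.obj (q.fst.obj (q.jls.obj (q.jst.obj N))),
      mvβ q N = β' ≫ γ := Triangle.yoneda_exact₂ _ hT (mvβ q N) (mvα_mvβ q N)
  -- `j^* γ` is an isomorphism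
  have hT₁ := q.jst.map_distinguished _ hT
  have h3 : (q.jst.mapTriangle.obj (Triangle.mk (mvα q N) β' d')).mor₃ = 0 :=
    Triangle.mor₃_eq_zero_of_mono₁ _ hT₁ (mono_jst_map_mvα q hq N)
  haveI hepi : Epi (q.jst.map β') := Triangle.epi₂ _ hT₁ h3
  haveI := isIso_jst_map_unit q hq N
  haveI := isIso_jst_map_theta_unit q hq N
  haveI hγiso : IsIso (q.jst.map γ) := by
    refine isIso_of_split (q.jst.map (mvα q N)) (q.jst.map (mvβ q N)) (q.jst.map β')
      (q.jst.map γ) ?_ ?_ (q.jst.map biprod.inl) (q.jst.map biprod.inr) (q.jst.map biprod.fst)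
      (q.jst.map biprod.snd) ?_ (asIso (q.jst.map (q.adjJ.unit.app N))) ?_
      (asIso (q.jst.map (q.fls.map (q.fst.map (q.adjJ.unit.app N))))) ?_ ?_
    · rw [← q.jst.map_comp, ← hγ]
    · have h0 : mvα q N ≫ β' = 0 := comp_distTriang_mor_zero₁₂ _ hT
      rw [← q.jst.map_comp, h0, Functor.map_zero]
    · rw [← q.jst.map_comp, ← q.jst.map_comp, ← q.jst.map_add, biprod.total,
        CategoryTheory.Functor.map_id]
    · rw [← q.jst.map_comp, biprod.lift_fst]
      rfl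
    · rw [← q.jst.map_comp, biprod.inr_desc, Functor.map_neg]
      rfl
    · dsimp only [asIso_hom]
      rw [← q.jst.map_comp, ← q.jst.map_comp, ← q.jst.map_comp, ← q.jst.map_comp,
        biprod.inl_desc, biprod.lift_snd_assoc, unit_nat]
  -- the cone of `γ`
  obtain ⟨C, w, p, hC⟩ := distinguished_cocone_triangle₁ γ
  have hCker : IsZero (q.jst.obj C) :=
    (Triangle.isZero₁_iff_isIso₂ _ (q.jst.map_distinguished _ hC)).2 hγiso
  have hw : w = 0 := hom_cone_eq_zero q hq N β' d' hT hCker w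
  have hb := bijective_comp_mor₁ _ hC C (fun g => hom_theta_jls_ext q hq hCker g 0)
    (fun g => hom_theta_jls_ext q hq (kerJ_shift q hCker 1) g 0)
  have hid : 𝟙 C = 0 := hb.1 (by
    show 𝟙 C ≫ w = 0 ≫ w
    rw [hw, comp_zero, comp_zero])
  have hCz : IsZero C := (IsZero.iff_id_eq_zero C).2 hid
  haveI : IsIso γ := (Triangle.isZero₁_iff_isIso₂ _ hC).1 hCz
  refine ⟨inv γ ≫ d', isomorphic_distinguished _ hT _
    (Triangle.isoMk _ _ (Iso.refl _) (Iso.refl _) (asIso γ).symm ?_ ?_ ?_)⟩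
  · show mvα q N ≫ 𝟙 _ = 𝟙 _ ≫ mvα q N
    rw [Category.comp_id, Category.id_comp]
  · show mvβ q N ≫ inv γ = 𝟙 _ ≫ β'
    rw [Category.id_comp, hγ, Category.assoc, IsIso.hom_inv_id, Category.comp_id]
  · show (inv γ ≫ d') ≫ (shiftFunctor S (1 : ℤ)).map (𝟙 N) = inv γ ≫ d'
    rw [CategoryTheory.Functor.map_id, Category.comp_id]

omit hq in
/-- `f^*` kills the connecting map of any Mayer–Vietoris triangle. -/
lemma fst_map_connecting_eq_zero (N : S)
    (d : q.fls.obj (q.fst.obj (q.jls.obj (q.jst.obj N))) ⟶ (shiftFunctor S (1 : ℤ)).obj N)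
    (hT : Triangle.mk (mvα q N) (mvβ q N) d ∈ distTriang S) : q.fst.map d = 0 := by
  have hT' := q.fst.map_distinguished _ hT
  have h3 : (q.fst.mapTriangle.obj (Triangle.mk (mvα q N) (mvβ q N) d)).mor₃ = 0 :=
    Triangle.mor₃_eq_zero_of_mono₁ _ hT' (mono_fst_map_mvα q N)
  have h3' : q.fst.map d ≫ (q.fst.commShiftIso (1 : ℤ)).hom.app N = 0 := h3
  rw [← cancel_mono ((q.fst.commShiftIso (1 : ℤ)).hom.app N), h3', zero_comp]

omit hq in
/-- the connecting map of a Mayer–Vietoris triangle kills all maps to objects `f_* W`. -/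
lemma connecting_comp_eq_zero (N : S)
    (d : q.fls.obj (q.fst.obj (q.jls.obj (q.jst.obj N))) ⟶ (shiftFunctor S (1 : ℤ)).obj N)
    (hT : Triangle.mk (mvα q N) (mvβ q N) d ∈ distTriang S) {W : S'}
    (ψ : (shiftFunctor S (1 : ℤ)).obj N ⟶ q.fls.obj W) : d ≫ ψ = 0 := by
  haveI := q.adjF.right_adjoint_additive
  have h1 : ψ = q.adjF.unit.app _ ≫ q.fls.map ((q.adjF.homEquiv _ _).symm ψ) := by
    have := (q.adjF.homEquiv _ _).apply_symm_apply ψ
    rw [Adjunction.homEquiv_unit] at this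
    exact this.symm
  have h2 := q.adjF.unit.naturality d
  dsimp only [Functor.id_obj, Functor.id_map, Functor.comp_obj, Functor.comp_map] at h2
  rw [h1, ← Category.assoc, h2, fst_map_connecting_eq_zero q N d hT, Functor.map_zero, comp_zero,
    zero_comp]

omit hq in
/-- rigidity: compatible maps between Mayer–Vietoris triangles commute with the connecting maps. -/
lemma connecting_natural (N₁ N₂ : S)
    (d₁ : q.fls.obj (q.fst.obj (q.jls.obj (q.jst.obj N₁))) ⟶ (shiftFunctor S (1 : ℤ)).obj N₁)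
    (d₂ : q.fls.obj (q.fst.obj (q.jls.obj (q.jst.obj N₂))) ⟶ (shiftFunctor S (1 : ℤ)).obj N₂)
    (h₁ : Triangle.mk (mvα q N₁) (mvβ q N₁) d₁ ∈ distTriang S)
    (h₂ : Triangle.mk (mvα q N₂) (mvβ q N₂) d₂ ∈ distTriang S)
    (a : N₁ ⟶ N₂)
    (b : q.jls.obj (q.jst.obj N₁) ⊞ q.fls.obj (q.fst.obj N₁) ⟶
      q.jls.obj (q.jst.obj N₂) ⊞ q.fls.obj (q.fst.obj N₂))
    (z : q.fls.obj (q.fst.obj (q.jls.obj (q.jst.obj N₁))) ⟶
      q.fls.obj (q.fst.obj (q.jls.obj (q.jst.obj N₂))))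
    (hab : mvα q N₁ ≫ b = a ≫ mvα q N₂) (hbz : mvβ q N₁ ≫ z = b ≫ mvβ q N₂) :
    d₁ ≫ (shiftFunctor S (1 : ℤ)).map a = z ≫ d₂ := by
  obtain ⟨w, hw1, hw2⟩ : ∃ w : q.fls.obj (q.fst.obj (q.jls.obj (q.jst.obj N₁))) ⟶
      q.fls.obj (q.fst.obj (q.jls.obj (q.jst.obj N₂))),
      mvβ q N₁ ≫ w = b ≫ mvβ q N₂ ∧ d₁ ≫ (shiftFunctor S (1 : ℤ)).map a = w ≫ d₂ :=
    complete_distinguished_triangle_morphism _ _ h₁ h₂ a b hab
  have h0 : mvβ q N₁ ≫ (w - z) = 0 := by
    rw [Preadditive.comp_sub, hw1, hbz, sub_self]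
  obtain ⟨ψ, hψ⟩ : ∃ ψ : (shiftFunctor S (1 : ℤ)).obj N₁ ⟶
      q.fls.obj (q.fst.obj (q.jls.obj (q.jst.obj N₂))), w - z = d₁ ≫ ψ :=
    Triangle.yoneda_exact₃ _ h₁ (w - z) h0
  rw [connecting_comp_eq_zero q N₁ d₁ h₁ ψ, sub_eq_zero] at hψ
  rw [hw2, hψ]

omit hq in
lemma connecting_unique (N : S)
    (d₁ d₂ : q.fls.obj (q.fst.obj (q.jls.obj (q.jst.obj N))) ⟶ (shiftFunctor S (1 : ℤ)).obj N)
    (h₁ : Triangle.mk (mvα q N) (mvβ q N) d₁ ∈ distTriang S)
    (h₂ : Triangle.mk (mvα q N) (mvβ q N) d₂ ∈ distTriang S) : d₁ = d₂ := by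
  have := connecting_natural q N N d₁ d₂ h₁ h₂ (𝟙 N) (𝟙 _) (𝟙 _)
    (by rw [Category.comp_id, Category.id_comp]) (by rw [Category.comp_id, Category.id_comp])
  rw [CategoryTheory.Functor.map_id, Category.comp_id, Category.id_comp] at this
  exact this

omit hq in
lemma connecting_functorial (N₁ N₂ : S) (φ : N₁ ⟶ N₂)
    (d₁ : q.fls.obj (q.fst.obj (q.jls.obj (q.jst.obj N₁))) ⟶ (shiftFunctor S (1 : ℤ)).obj N₁)
    (d₂ : q.fls.obj (q.fst.obj (q.jls.obj (q.jst.obj N₂))) ⟶ (shiftFunctor S (1 : ℤ)).obj N₂)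
    (h₁ : Triangle.mk (mvα q N₁) (mvβ q N₁) d₁ ∈ distTriang S)
    (h₂ : Triangle.mk (mvα q N₂) (mvβ q N₂) d₂ ∈ distTriang S) :
    d₁ ≫ (shiftFunctor S (1 : ℤ)).map φ =
      q.fls.map (q.fst.map (q.jls.map (q.jst.map φ))) ≫ d₂ := by
  haveI := q.adjF.right_adjoint_additive
  apply connecting_natural q N₁ N₂ d₁ d₂ h₁ h₂ φ
    (biprod.map (q.jls.map (q.jst.map φ)) (q.fls.map (q.fst.map φ)))
  · have e1 := q.adjJ.unit.naturality φ
    have e2 := q.adjF.unit.naturality φ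
    dsimp only [Functor.id_obj, Functor.id_map, Functor.comp_obj, Functor.comp_map] at e1 e2
    dsimp only [mvα]
    apply biprod.hom_ext
    · rw [Category.assoc, biprod.map_fst, biprod.lift_fst_assoc, Category.assoc, biprod.lift_fst,
        e1]
    · rw [Category.assoc, biprod.map_snd, biprod.lift_snd_assoc, Category.assoc, biprod.lift_snd,
        e2]
  · have e1 := q.adjF.unit.naturality (q.jls.map (q.jst.map φ))
    have e2 := q.adjJ.unit.naturality φ
    dsimp only [Functor.id_obj, Functor.id_map, Functor.comp_obj, Functor.comp_map] at e1 e2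
    dsimp only [mvβ]
    apply biprod.hom_ext'
    · rw [biprod.inl_desc_assoc, biprod.inl_map_assoc, biprod.inl_desc, e1]
    · rw [biprod.inr_desc_assoc, biprod.inr_map_assoc, biprod.inr_desc, Preadditive.neg_comp,
        Preadditive.comp_neg, ← q.fls.map_comp, ← q.fst.map_comp, ← e2, q.fst.map_comp,
        q.fls.map_comp]

end MV

end Groth.Agent.Lib27.MVSq
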