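import Mathlib
import Groth.Agent.Lib27.MVSq
import Groth.Agent.Lib27.CptEnv

/-!
# Mayer–Vietoris squares: descent of compactness (helper27)
-/

set_option autoImplicit false
universe v u

open CategoryTheory CategoryTheory.Limits CategoryTheory.Pretriangulated
open W4c3perfectstacks W4c3perfectstacks.MVSq

namespace Groth.Agent.Lib27.MVSq

open Groth.Agent.Lib27.CptEnv

section Fix

variable {D : Type u} [Category.{v} D] [Preadditive D] [HasCoproducts.{v} D]
  {D' : Type u} [Category.{v} D'] [Preadditive D']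

/-- enlarging the support for maps into the image of a coproduct. -/
lemma fix_map_mono (G : D ⥤ D') {κ : Type v} (Z : κ → D) {t t' : Finset κ} (h : t ⊆ t')
    {K : D'} (f : K ⟶ G.obj (∐ Z)) (hf : f ≫ G.map (proj Z t) = f) :
    f ≫ G.map (proj Z t') = f := by
  calc f ≫ G.map (proj Z t') = (f ≫ G.map (proj Z t)) ≫ G.map (proj Z t') := by rw [hf]
    _ = f ≫ G.map (proj Z t) := by
        rw [Category.assoc, ← G.map_comp, proj_comp_proj Z h]
    _ = f := hf

end Fix

section MV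

variable {S S' R R' : Type u} [Category.{v} S] [Category.{v} S'] [Category.{v} R] [Category.{v} R']
  [Preadditive S] [Preadditive S'] [Preadditive R] [Preadditive R']
  [HasZeroObject S] [HasZeroObject S'] [HasZeroObject R] [HasZeroObject R']
  [HasShift S ℤ] [HasShift S' ℤ] [HasShift R ℤ] [HasShift R' ℤ]
  [∀ n : ℤ, (shiftFunctor S n).Additive] [∀ n : ℤ, (shiftFunctor S' n).Additive]
  [∀ n : ℤ, (shiftFunctor R n).Additive] [∀ n : ℤ, (shiftFunctor R' n).Additive]
  [Pretriangulated S] [Pretriangulated S'] [Pretriangulated R] [Pretriangulated R']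
  (q : W4c3perfectstacks.MVSq S S' R R')
  [q.jst.CommShift ℤ] [q.fst.CommShift ℤ] [q.jpst.CommShift ℤ] [q.gst.CommShift ℤ]
  [q.jst.IsTriangulated] [q.fst.IsTriangulated] [q.jpst.IsTriangulated] [q.gst.IsTriangulated]

lemma bc2App_naturality {P P' : R} (p : P ⟶ P') :
    q.fst.map (q.jls.map p) ≫ q.bc2App P' = q.bc2App P ≫ q.jpls.map (q.gst.map p) := by
  dsimp only [MVSq.bc2App]
  have h1 := q.adjJp.unit.naturality (q.fst.map (q.jls.map p))
  have h2 := q.e.inv.naturality (q.jls.map p)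
  have h3 := q.adjJ.counit.naturality p
  dsimp only [Functor.comp_obj, Functor.comp_map, Functor.id_obj, Functor.id_map] at h1 h2 h3
  rw [← Category.assoc, h1, Category.assoc, ← q.jpls.map_comp_assoc, h2, q.jpls.map_comp_assoc,
    ← q.jpls.map_comp, ← q.gst.map_comp, h3, q.gst.map_comp, q.jpls.map_comp]
  simp only [Category.assoc]

variable (hq : q.IsMV)
  [HasCoproducts.{v} S] [HasCoproducts.{v} S'] [HasCoproducts.{v} R] [HasCoproducts.{v} R']

include hq

/-- finite support for maps into `f_* f^* j_* j^* (∐ M)` from an object whose restriction to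
`U'` is compact. -/
lemma exists_fix_theta {A : S} (hA : Cpt (q.gst.obj (q.jst.obj A))) {κ : Type v} (M : κ → S)
    (x : A ⟶ q.fls.obj (q.fst.obj (q.jls.obj (q.jst.obj (∐ M))))) :
    ∃ t : Finset κ, ∀ t', t ⊆ t' →
      x ≫ q.fls.map (q.fst.map (q.jls.map (q.jst.map (proj M t')))) = x := by
  haveI := q.adjJ.leftAdjoint_preservesColimits
  haveI := q.adjG.leftAdjoint_preservesColimits
  haveI := hq.isIso_bc2App (q.jst.obj (∐ M))
  -- transposes
  let x1 : q.fst.obj A ⟶ q.fst.obj (q.jls.obj (q.jst.obj (∐ M))) := (q.adjF.homEquiv _ _).symm x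
  let x2 : q.fst.obj A ⟶ q.jpls.obj (q.gst.obj (q.jst.obj (∐ M))) :=
    x1 ≫ q.bc2App (q.jst.obj (∐ M))
  let x3 : q.jpst.obj (q.fst.obj A) ⟶ q.gst.obj (q.jst.obj (∐ M)) :=
    (q.adjJp.homEquiv _ _).symm x2
  let x4 : q.gst.obj (q.jst.obj A) ⟶ (q.jst ⋙ q.gst).obj (∐ M) := q.e.hom.app A ≫ x3
  obtain ⟨t, ht⟩ := hA.exists_fix_map' (q.jst ⋙ q.gst) M x4
  refine ⟨t, fun t' htt' => ?_⟩
  have ht' := fix_map_mono (q.jst ⋙ q.gst) M htt' x4 ht
  have h3 : x3 ≫ q.gst.map (q.jst.map (proj M t')) = x3 := by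
    have := congrArg (fun z => q.e.inv.app A ≫ z) ht'
    simp only [x4, Functor.comp_map, Category.assoc, Iso.inv_hom_id_app_assoc] at this
    exact this
  have h2 : x2 ≫ q.jpls.map (q.gst.map (q.jst.map (proj M t'))) = x2 := by
    apply (q.adjJp.homEquiv _ _).symm.injective
    rw [Adjunction.homEquiv_naturality_right_symm]
    exact h3
  have h1 : x1 ≫ q.fst.map (q.jls.map (q.jst.map (proj M t'))) = x1 := by
    rw [← cancel_mono (q.bc2App (q.jst.obj (∐ M))), Category.assoc, bc2App_naturality,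
      ← Category.assoc]
    exact h2
  apply (q.adjF.homEquiv _ _).symm.injective
  rw [Adjunction.homEquiv_naturality_right_symm]
  exact h1

/-- descent of compactness along a Mayer–Vietoris square. -/
theorem cpt_of_restrictions (N : S) (hU : Cpt (q.jst.obj N)) (hX' : Cpt (q.fst.obj N))
    (hU' : Cpt (q.gst.obj (q.jst.obj N))) : Cpt N := by
  classical
  intro κ M f
  haveI := q.adjJ.leftAdjoint_preservesColimits
  haveI := q.adjF.leftAdjoint_preservesColimits
  haveI := q.adjJ.right_adjoint_additive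
  haveI := q.adjF.right_adjoint_additive
  obtain ⟨t₁, ht₁⟩ := hU.exists_fix_map' q.jst M (q.jst.map f)
  obtain ⟨t₂, ht₂⟩ := hX'.exists_fix_map' q.fst M (q.fst.map f)
  obtain ⟨d, hd⟩ := exists_mv_triangle q hq (∐ M)
  have hA : Cpt (q.gst.obj (q.jst.obj ((shiftFunctor S (1 : ℤ)).obj N))) := by
    have e1 : q.gst.obj (q.jst.obj ((shiftFunctor S (1 : ℤ)).obj N)) ≅
        (shiftFunctor R' (1 : ℤ)).obj (q.gst.obj (q.jst.obj N)) :=
      q.gst.mapIso ((q.jst.commShiftIso (1 : ℤ)).app N) ≪≫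
        (q.gst.commShiftIso (1 : ℤ)).app (q.jst.obj N)
    exact cpt_of_iso e1.symm (cpt_shift hU' 1)
  obtain ⟨g, hg⟩ : ∃ g : N ⟶ ∐ M, g = f - f ≫ proj M (t₁ ∪ t₂) := ⟨_, rfl⟩
  have hg1 : q.jst.map g = 0 := by
    rw [hg, Functor.map_sub, Functor.map_comp,
      fix_map_mono q.jst M Finset.subset_union_left _ ht₁, sub_self]
  have hg2 : q.fst.map g = 0 := by
    rw [hg, Functor.map_sub, Functor.map_comp,
      fix_map_mono q.fst M Finset.subset_union_right _ ht₂, sub_self]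
  have hgα : g ≫ mvα q (∐ M) = 0 := by
    have e1 := q.adjJ.unit.naturality g
    have e2 := q.adjF.unit.naturality g
    dsimp only [Functor.id_obj, Functor.id_map, Functor.comp_obj, Functor.comp_map] at e1 e2
    apply biprod.hom_ext
    · rw [Category.assoc, biprod.lift_fst, zero_comp, e1, hg1, Functor.map_zero, comp_zero]
    · rw [Category.assoc, biprod.lift_snd, zero_comp, e2, hg2, Functor.map_zero, comp_zero]
  have hgα' : (shiftFunctor S (1 : ℤ)).map g ≫ (shiftFunctor S (1 : ℤ)).map (mvα q (∐ M)) = 0 := by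
    rw [← Functor.map_comp, hgα, Functor.map_zero]
  obtain ⟨x, hx⟩ : ∃ x : (shiftFunctor S (1 : ℤ)).obj N ⟶
      q.fls.obj (q.fst.obj (q.jls.obj (q.jst.obj (∐ M)))),
      (shiftFunctor S (1 : ℤ)).map g = x ≫ d :=
    Triangle.coyoneda_exact₁ _ hd ((shiftFunctor S (1 : ℤ)).map g) hgα'
  obtain ⟨t₃, ht₃⟩ := exists_fix_theta q hq hA M x
  have hx' := ht₃ ((t₁ ∪ t₂) ∪ t₃) Finset.subset_union_right
  have hnat := connecting_functorial q (∐ M) (∐ M) (proj M ((t₁ ∪ t₂) ∪ t₃)) d d hd hd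
  have h6 : g ≫ proj M ((t₁ ∪ t₂) ∪ t₃) = g := by
    apply (shiftFunctor S (1 : ℤ)).map_injective
    rw [Functor.map_comp, hx, Category.assoc, hnat, ← Category.assoc, hx']
  refine ⟨(t₁ ∪ t₂) ∪ t₃, ?_⟩
  have h7 : g ≫ proj M ((t₁ ∪ t₂) ∪ t₃) =
      f ≫ proj M ((t₁ ∪ t₂) ∪ t₃) - f ≫ proj M (t₁ ∪ t₂) := by
    rw [hg, Preadditive.sub_comp, Category.assoc, proj_comp_proj M Finset.subset_union_left]
  have h8 : f ≫ proj M ((t₁ ∪ t₂) ∪ t₃) - f ≫ proj M (t₁ ∪ t₂) = f - f ≫ proj M (t₁ ∪ t₂) := by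
    rw [← h7, h6, hg]
  exact sub_left_injective h8

end MV

end Groth.Agent.Lib27.MVSq
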