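import Mathlib
import Groth.Agent.Lib27.MVSq

/-!
# Mayer–Vietoris squares: glueing (helper27)
-/

set_option autoImplicit false
universe v u

open CategoryTheory CategoryTheory.Limits CategoryTheory.Pretriangulated
open W4c3perfectstacks W4c3perfectstacks.MVSq

namespace Groth.Agent.Lib27.MVSq

section Gen

variable {C : Type u} [Category.{v} C] [Preadditive C] [HasZeroObject C] [HasShift C ℤ]
  [∀ n : ℤ, (shiftFunctor C n).Additive] [Pretriangulated C]

/-- in a distinguished triangle `X ⟶ A ⊕ B ⟶ Z` (abstract biproduct) whose second map is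
invertible on `B`, the component `X ⟶ A` is an isomorphism. -/
lemma isIso_comp_proj_of_isIso {X Y Z A B : C} (a : X ⟶ Y) (b : Y ⟶ Z)
    (d : Z ⟶ (shiftFunctor C (1 : ℤ)).obj X) (hT : Triangle.mk a b d ∈ distTriang C)
    (ι₁ : A ⟶ Y) (ι₂ : B ⟶ Y) (π₁ : Y ⟶ A) (π₂ : Y ⟶ B)
    (h11 : ι₁ ≫ π₁ = 𝟙 A) (h21 : ι₂ ≫ π₁ = 0)
    (hid : π₁ ≫ ι₁ + π₂ ≫ ι₂ = 𝟙 Y) [IsIso (ι₂ ≫ b)] : IsIso (a ≫ π₁) := by
  -- `b` is a split epi, so `a` is mono
  have hs : (inv (ι₂ ≫ b) ≫ ι₂) ≫ b = 𝟙 Z := by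
    rw [Category.assoc, IsIso.inv_hom_id]
  haveI : Epi b := by
    haveI : Epi ((inv (ι₂ ≫ b) ≫ ι₂) ≫ b) := by rw [hs]; infer_instance
    exact epi_of_epi (inv (ι₂ ≫ b) ≫ ι₂) b
  have hd : d = 0 := (Triangle.mor₃_eq_zero_iff_epi₂ _ hT).2 (inferInstanceAs (Epi b))
  haveI : Mono a := Triangle.mono₁ _ hT hd
  have hab : a ≫ b = 0 := comp_distTriang_mor_zero₁₂ _ hT
  apply isIso_of_yoneda_map_bijective
  intro W
  constructor
  · intro w w' hww'
    dsimp only at hww'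
    rw [← sub_eq_zero] at hww' ⊢
    rw [← Preadditive.sub_comp] at hww'
    generalize w - w' = w at hww'
    have h1 : (w ≫ a) ≫ π₂ ≫ (ι₂ ≫ b) = 0 := by
      have : (w ≫ a) ≫ (π₁ ≫ ι₁ + π₂ ≫ ι₂) ≫ b = 0 := by
        rw [hid, Category.id_comp, Category.assoc, hab, comp_zero]
      rw [Preadditive.add_comp, Preadditive.comp_add] at this
      have h0 : (w ≫ a) ≫ (π₁ ≫ ι₁) ≫ b = 0 := by
        rw [← Category.assoc, ← Category.assoc, Category.assoc w, hww', zero_comp, zero_comp]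
      rw [h0, zero_add] at this
      simpa only [Category.assoc] using this
    have h2 : (w ≫ a) ≫ π₂ = 0 := by
      have := congrArg (fun z => z ≫ inv (ι₂ ≫ b)) h1
      simpa only [Category.assoc, IsIso.hom_inv_id, Category.comp_id, zero_comp] using this
    have h3 : w ≫ a = 0 := by
      calc w ≫ a = (w ≫ a) ≫ (π₁ ≫ ι₁ + π₂ ≫ ι₂) := by rw [hid, Category.comp_id]
        _ = 0 := by
          rw [Preadditive.comp_add, ← Category.assoc, ← Category.assoc (w ≫ a), h2,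
            Category.assoc w, hww', zero_comp, zero_comp, add_zero]
    exact (cancel_mono a).1 (h3.trans zero_comp.symm)
  · intro x
    obtain ⟨z, hz⟩ : ∃ z : W ⟶ Y, z = x ≫ ι₁ - (x ≫ ι₁ ≫ b ≫ inv (ι₂ ≫ b)) ≫ ι₂ := ⟨_, rfl⟩
    have hzb : z ≫ b = 0 := by
      rw [hz, Preadditive.sub_comp]
      simp only [Category.assoc]
      rw [IsIso.inv_hom_id, Category.comp_id, sub_self]
    obtain ⟨w, hw⟩ : ∃ w : W ⟶ X, z = w ≫ a := Triangle.coyoneda_exact₂ _ hT z hzb
    refine ⟨w, ?_⟩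
    dsimp only
    rw [← Category.assoc, ← hw, hz, Preadditive.sub_comp]
    simp only [Category.assoc]
    rw [h11, h21, Category.comp_id, comp_zero, comp_zero, comp_zero, comp_zero, sub_zero]

/-- a criterion for a map to be an isomorphism in terms of its cone. -/
lemma isIso_of_cone_test {X Y Cn : C} (w : Cn ⟶ X) (m : X ⟶ Y)
    (p : Y ⟶ (shiftFunctor C (1 : ℤ)).obj Cn) (hT : Triangle.mk w m p ∈ distTriang C)
    (hinj : ∀ x : Cn ⟶ X, x ≫ m = 0 → x = 0)
    (hsurj : ∀ y : (shiftFunctor C (1 : ℤ)).obj Cn ⟶ Y,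
      ∃ x : (shiftFunctor C (1 : ℤ)).obj Cn ⟶ X, x ≫ m = y) : IsIso m := by
  have hw : w = 0 := hinj w (comp_distTriang_mor_zero₁₂ _ hT)
  have hT' := rot_of_distTriang _ hT
  obtain ⟨σ, hσ⟩ : ∃ σ : (shiftFunctor C (1 : ℤ)).obj Cn ⟶ Y,
      𝟙 ((shiftFunctor C (1 : ℤ)).obj Cn) = σ ≫ p := by
    apply Triangle.coyoneda_exact₃ _ hT' (𝟙 ((shiftFunctor C (1 : ℤ)).obj Cn))
    show 𝟙 _ ≫ (-(shiftFunctor C (1 : ℤ)).map w) = 0
    rw [hw, Functor.map_zero, neg_zero, comp_zero]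
  obtain ⟨σ', hσ'⟩ := hsurj σ
  have hmp : m ≫ p = 0 := comp_distTriang_mor_zero₂₃ _ hT
  have hid : 𝟙 ((shiftFunctor C (1 : ℤ)).obj Cn) = 0 := by
    rw [hσ, ← hσ', Category.assoc, hmp, comp_zero]
  have hz1 : IsZero ((shiftFunctor C (1 : ℤ)).obj Cn) := (IsZero.iff_id_eq_zero _).2 hid
  have hz : IsZero Cn := by
    rw [IsZero.iff_id_eq_zero]
    apply (shiftFunctor C (1 : ℤ)).map_injective
    rw [Functor.map_zero]
    exact hz1.eq_of_src _ _
  exact (Triangle.isZero₁_iff_isIso₂ _ hT).1 hz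

end Gen

section MV

variable {S S' R R' : Type u} [Category.{v} S] [Category.{v} S'] [Category.{v} R] [Category.{v} R']
  [Preadditive S] [Preadditive S'] [Preadditive R] [Preadditive R']
  [HasZeroObject S] [HasZeroObject S'] [HasZeroObject R] [HasZeroObject R']
  [HasShift S ℤ] [HasShift S' ℤ] [HasShift R ℤ] [HasShift R' ℤ]
  [∀ n : ℤ, (shiftFunctor S n).Additive] [∀ n : ℤ, (shiftFunctor S' n).Additive]
  [∀ n : ℤ, (shiftFunctor R n).Additive] [∀ n : ℤ, (shiftFunctor R' n).Additive]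
  [Pretriangulated S] [Pretriangulated S'] [Pretriangulated R] [Pretriangulated R']
  (q : W4c3perfectstacks.MVSq S S' R R')
  [q.jst.CommShift ℤ] [q.fst.CommShift ℤ] [q.jpst.CommShift ℤ] [q.gst.CommShift ℤ]
  [q.jst.IsTriangulated] [q.fst.IsTriangulated] [q.jpst.IsTriangulated] [q.gst.IsTriangulated]

lemma hom_fls_jpls_ext {K : S} (hK : IsZero (q.jst.obj K)) {Q : R'}
    (f g : K ⟶ q.fls.obj (q.jpls.obj Q)) : f = g :=
  (q.adjF.homEquiv K _).symm.injective (hom_jpls_ext q (kerJp_fst q hK) _ _)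

variable (hq : q.IsMV)
  (NU : R) (N' : S') (δ : q.jpst.obj N' ≅ q.gst.obj NU) (N : S)
  (a : N ⟶ q.jls.obj NU ⊞ q.fls.obj N')
  (d : q.fls.obj (q.jpls.obj (q.gst.obj NU)) ⟶ (shiftFunctor S (1 : ℤ)).obj N)
  (hT : Triangle.mk a
      (biprod.desc (q.adjF.unit.app (q.jls.obj NU) ≫ q.fls.map (q.bc2App NU))
        (-(q.fls.map (q.adjJp.unit.app N' ≫ q.jpls.map δ.hom)))) d ∈ distTriang S)

include hq hT

/-- first half of the glueing statement -/
theorem glue_isIso₁ : IsIso ((q.adjJ.homEquiv N NU).symm (a ≫ biprod.fst)) := by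
  haveI := hq.isIso_counitJ
  haveI : IsIso (q.jpst.map (q.adjJp.unit.app N' ≫ q.jpls.map δ.hom)) := by
    haveI := isIso_jpst_map_unit q hq N'
    rw [Functor.map_comp]
    infer_instance
  haveI h2 : IsIso (q.jst.map (q.fls.map (q.adjJp.unit.app N' ≫ q.jpls.map δ.hom))) :=
    isIso_jst_map_fls_map q hq _
  have hT' := q.jst.map_distinguished _ hT
  haveI : IsIso (q.jst.map (biprod.inr : q.fls.obj N' ⟶ q.jls.obj NU ⊞ q.fls.obj N') ≫
      q.jst.map (biprod.desc (q.adjF.unit.app (q.jls.obj NU) ≫ q.fls.map (q.bc2App NU))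
        (-(q.fls.map (q.adjJp.unit.app N' ≫ q.jpls.map δ.hom))))) := by
    rw [← q.jst.map_comp, biprod.inr_desc, Functor.map_neg]
    exact ⟨⟨-inv (q.jst.map (q.fls.map (q.adjJp.unit.app N' ≫ q.jpls.map δ.hom))),
      by simp, by simp⟩⟩
  haveI h3 : IsIso (q.jst.map a ≫ q.jst.map biprod.fst) :=
    isIso_comp_proj_of_isIso (q.jst.map a)
      (q.jst.map (biprod.desc (q.adjF.unit.app (q.jls.obj NU) ≫ q.fls.map (q.bc2App NU))
        (-(q.fls.map (q.adjJp.unit.app N' ≫ q.jpls.map δ.hom))))) _ hT'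
      (q.jst.map biprod.inl) (q.jst.map biprod.inr) (q.jst.map biprod.fst) (q.jst.map biprod.snd)
      (by rw [← q.jst.map_comp, biprod.inl_fst, CategoryTheory.Functor.map_id])
      (by rw [← q.jst.map_comp, biprod.inr_fst, Functor.map_zero])
      (by rw [← q.jst.map_comp, ← q.jst.map_comp, ← q.jst.map_add, biprod.total,
        CategoryTheory.Functor.map_id])
  rw [Adjunction.homEquiv_counit, Functor.map_comp]
  infer_instance

/-- maps out of objects killed by `j'^*` into `f^* N` and `N'` correspond. -/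
lemma glue_bijective {M₀ : S'} (hM₀ : IsZero (q.jpst.obj M₀)) :
    Function.Bijective (fun ψ : M₀ ⟶ q.fst.obj N =>
      ψ ≫ (q.adjF.homEquiv N N').symm (a ≫ biprod.snd)) := by
  haveI := q.adjF.right_adjoint_additive
  have hK₀ := kerJ_fls q hq hM₀
  haveI := hq.isIso_counitF M₀ hM₀
  have hbij := bijective_comp_mor₁ _ hT (q.fls.obj M₀)
    (fun g => hom_fls_jpls_ext q hK₀ g 0)
    (fun g => hom_fls_jpls_ext q (kerJ_shift q hK₀ 1) g 0)
  have key : ∀ φ : q.fls.obj M₀ ⟶ N,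
      q.fst.map φ ≫ (q.adjF.homEquiv N N').symm (a ≫ biprod.snd) =
        (q.adjF.homEquiv _ N').symm (φ ≫ a ≫ biprod.snd) := fun φ =>
    (Adjunction.homEquiv_naturality_left_symm q.adjF φ (a ≫ biprod.snd)).symm
  constructor
  · intro ψ ψ' hψ
    dsimp only at hψ
    rw [← sub_eq_zero] at hψ ⊢
    rw [← Preadditive.sub_comp] at hψ
    generalize ψ - ψ' = ψ at hψ
    obtain ⟨φ, hφ⟩ := (bijective_fst_map q hq hK₀ N).2 (q.adjF.counit.app M₀ ≫ ψ)
    dsimp only at hφ
    have h1 : (q.adjF.homEquiv _ N').symm (φ ≫ a ≫ biprod.snd) = 0 := by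
      rw [← key, hφ, Category.assoc, hψ, comp_zero]
    have h2 : φ ≫ a ≫ biprod.snd = 0 := by
      have := congrArg (q.adjF.homEquiv _ N') h1
      rw [Equiv.apply_symm_apply, Adjunction.homEquiv_unit, Functor.map_zero, comp_zero] at this
      exact this
    have h3 : φ ≫ a = 0 := by
      apply biprod.hom_ext
      · exact hom_jls_ext q hK₀ _ _
      · rw [Category.assoc, h2, zero_comp]
    have h4 : φ = 0 := hbij.1 (by
      show φ ≫ a = 0 ≫ a
      rw [h3, zero_comp])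
    rw [h4, Functor.map_zero] at hφ
    exact (cancel_epi (q.adjF.counit.app M₀)).1 (hφ.symm.trans comp_zero.symm)
  · intro χ
    obtain ⟨φ, hφ⟩ : ∃ φ : q.fls.obj M₀ ⟶ N,
        φ ≫ a = (q.adjF.homEquiv _ N') (q.adjF.counit.app M₀ ≫ χ) ≫ biprod.inr := hbij.2
      ((q.adjF.homEquiv _ N') (q.adjF.counit.app M₀ ≫ χ) ≫ biprod.inr)
    refine ⟨inv (q.adjF.counit.app M₀) ≫ q.fst.map φ, ?_⟩
    have hφ' : φ ≫ a = (q.adjF.homEquiv _ N') (q.adjF.counit.app M₀ ≫ χ) ≫ biprod.inr := hφ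
    have e1 : φ ≫ a ≫ biprod.snd = (q.adjF.homEquiv _ N') (q.adjF.counit.app M₀ ≫ χ) := by
      rw [← Category.assoc, hφ', Category.assoc, biprod.inr_snd, Category.comp_id]
    show (inv (q.adjF.counit.app M₀) ≫ q.fst.map φ) ≫
      (q.adjF.homEquiv N N').symm (a ≫ biprod.snd) = χ
    rw [Category.assoc, key φ, e1, Equiv.symm_apply_apply, IsIso.inv_hom_id_assoc]

omit hq in
/-- compatibility of the two comparison maps on `U'`. -/
lemma glue_compat :
    q.jpst.map ((q.adjF.homEquiv N N').symm (a ≫ biprod.snd)) ≫ δ.hom =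
      q.e.inv.app N ≫ q.gst.map ((q.adjJ.homEquiv N NU).symm (a ≫ biprod.fst)) := by
  haveI := q.adjF.right_adjoint_additive
  have hab : a ≫ biprod.desc (q.adjF.unit.app (q.jls.obj NU) ≫ q.fls.map (q.bc2App NU))
      (-(q.fls.map (q.adjJp.unit.app N' ≫ q.jpls.map δ.hom))) = 0 :=
    comp_distTriang_mor_zero₁₂ _ hT
  have E0 : (a ≫ biprod.fst) ≫ q.adjF.unit.app (q.jls.obj NU) ≫ q.fls.map (q.bc2App NU) =
      (a ≫ biprod.snd) ≫ q.fls.map (q.adjJp.unit.app N' ≫ q.jpls.map δ.hom) := by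
    rw [biprod.desc_eq, Preadditive.comp_add, Preadditive.comp_neg, Preadditive.comp_neg,
      add_neg_eq_zero] at hab
    simpa only [Category.assoc] using hab
  apply (q.adjJp.homEquiv (q.fst.obj N) (q.gst.obj NU)).injective
  rw [Adjunction.homEquiv_naturality_left, Adjunction.homEquiv_unit (adj := q.adjJp)
    (f := q.e.inv.app N ≫ _)]
  rw [Adjunction.homEquiv_unit]
  apply (q.adjF.homEquiv N _).injective
  rw [Adjunction.homEquiv_naturality_right, Equiv.apply_symm_apply, ← E0,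
    Adjunction.homEquiv_unit]
  -- now a computation in `S`
  have n1 := q.adjF.unit.naturality (a ≫ biprod.fst)
  have n2 := q.adjJp.unit.naturality (q.fst.map (a ≫ biprod.fst))
  have n3 := q.e.inv.naturality (a ≫ biprod.fst)
  dsimp only [Functor.id_obj, Functor.id_map, Functor.comp_obj, Functor.comp_map] at n1 n2 n3
  rw [← Category.assoc, n1, Category.assoc, ← q.fls.map_comp]
  congr 2
  dsimp only [MVSq.bc2App]
  rw [← Category.assoc, n2, Category.assoc, ← q.jpls.map_comp_assoc, n3, Adjunction.homEquiv_counit]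
  simp only [Functor.map_comp, Category.assoc]

/-- second half of the glueing statement -/
theorem glue_isIso₂ : IsIso ((q.adjF.homEquiv N N').symm (a ≫ biprod.snd)) := by
  haveI := glue_isIso₁ q hq NU N' δ N a d hT
  obtain ⟨C₂, w, p, hC⟩ :=
    distinguished_cocone_triangle₁ ((q.adjF.homEquiv N N').symm (a ≫ biprod.snd))
  haveI : IsIso (q.jpst.map ((q.adjF.homEquiv N N').symm (a ≫ biprod.snd))) := by
    have h := glue_compat q NU N' δ N a d hT
    have h' : q.jpst.map ((q.adjF.homEquiv N N').symm (a ≫ biprod.snd)) =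
        (q.e.inv.app N ≫ q.gst.map ((q.adjJ.homEquiv N NU).symm (a ≫ biprod.fst))) ≫ δ.inv := by
      rw [← h, Category.assoc, Iso.hom_inv_id, Category.comp_id]
    rw [h']
    infer_instance
  have hCker : IsZero (q.jpst.obj C₂) :=
    (Triangle.isZero₁_iff_isIso₂ _ (q.jpst.map_distinguished _ hC)).2
      (show IsIso (q.jpst.map ((q.adjF.homEquiv N N').symm (a ≫ biprod.snd))) from inferInstance)
  refine isIso_of_cone_test w _ p hC ?_ ?_
  · intro x hx
    exact (glue_bijective q hq NU N' δ N a d hT hCker).1 (by dsimp only; rw [hx, zero_comp])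
  · intro y
    exact (glue_bijective q hq NU N' δ N a d hT (kerJp_shift q hCker 1)).2 y

end MV

end Groth.Agent.Lib27.MVSq
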