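import Groth.Agent.Lib.Helper18.CMRing
import Groth.Agent.Lib.Helper18.QGor6

/-!
# Maximal regular sequences in an ideal have length the depth
-/

set_option autoImplicit false
set_option linter.unusedSectionVars false
universe u

namespace Groth.Agent.Lib27.MaxReg

open RingTheory.Sequence Groth.Agent.Lib.Helper16.Depth Groth.Agent.Lib.Helper18.CM
  Groth.Agent.Lib.Helper18.QGor

variable {A : Type u} [CommRing A] [IsNoetherianRing A] (I : Ideal A)
  (M : Type u) [AddCommGroup M] [Module A M] [Module.Finite A M]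

/-- the `I`-depth is finite when `IM ≠ M`. -/
theorem idealDepth_ne_top' (hIM : I • (⊤ : Submodule A M) ≠ ⊤) : LocCoh.idealDepth I M ≠ ⊤ := by
  -- a prime in the support of `M/IM`
  have hnt : Nontrivial (M ⧸ (I • (⊤ : Submodule A M))) :=
    Submodule.Quotient.nontrivial_iff.2 hIM
  obtain ⟨p, hp⟩ := (Module.nonempty_support_iff (R := A)).2 hnt
  rw [Module.support_quotient] at hp
  have hIp : I ≤ p.asIdeal := by
    have := hp.2
    rwa [PrimeSpectrum.mem_zeroLocus] at this
  haveI : Nontrivial (LocalizedModule p.asIdeal.primeCompl M) :=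
    Module.mem_support_iff.1 hp.1
  intro htop
  have h1 := idealDepth_le_depth_localizedModule_of_le I M p.asIdeal hIp
  rw [htop, top_le_iff] at h1
  exact depth_ne_top (R := Localization.AtPrime p.asIdeal)
    (LocalizedModule p.asIdeal.primeCompl M) h1

/-- `I(M/JM) ≠ M/JM` when `J ≤ I` and `IM ≠ M`. -/
theorem smul_top_quot_ne_top (hIM : I • (⊤ : Submodule A M) ≠ ⊤) (J : Ideal A) (hJ : J ≤ I) :
    I • (⊤ : Submodule A (M ⧸ (J • ⊤ : Submodule A M))) ≠ ⊤ := by
  intro h
  apply hIM
  rw [eq_top_iff]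
  intro m _
  have hm : (J • ⊤ : Submodule A M).mkQ m ∈ I • (⊤ : Submodule A (M ⧸ (J • ⊤ : Submodule A M))) := by
    rw [h]; trivial
  have hmap : I • (⊤ : Submodule A (M ⧸ (J • ⊤ : Submodule A M))) =
      (I • (⊤ : Submodule A M)).map (J • ⊤ : Submodule A M).mkQ := by
    rw [Submodule.map_smul'', Submodule.map_top, Submodule.range_mkQ]
  rw [hmap] at hm
  obtain ⟨m', hm', hmm'⟩ := hm
  have hsub : m' - m ∈ (J • ⊤ : Submodule A M) := by
    rw [← Submodule.ker_mkQ (J • ⊤ : Submodule A M), LinearMap.mem_ker, map_sub, hmm', sub_self]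
  have hle : (J • ⊤ : Submodule A M) ≤ I • ⊤ := Submodule.smul_mono_left hJ
  have : m = m' - (m' - m) := by abel
  rw [this]
  exact sub_mem hm' (hle hsub)

lemma ofList_le {rs : List A} (h : ∀ r ∈ rs, r ∈ I) : Ideal.ofList rs ≤ I := by
  unfold Ideal.ofList
  rw [Ideal.span_le]
  intro r hr
  exact h r hr

/-- a weakly regular sequence in `I` has length at most the `I`-depth. -/
theorem length_le (hIM : I • (⊤ : Submodule A M) ≠ ⊤) (rs : List A) (hreg : IsWeaklyRegular M rs)
    (hmem : ∀ r ∈ rs, r ∈ I) : (rs.length : ℕ∞) ≤ LocCoh.idealDepth I M := by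
  rw [← idealDepth_quot_ofList I rs hmem M hIM hreg]
  exact le_add_self

/-- a maximal weakly regular sequence in `I` has length the `I`-depth. -/
theorem length_eq_of_maximal (hIM : I • (⊤ : Submodule A M) ≠ ⊤) (rs : List A)
    (hreg : IsWeaklyRegular M rs) (hmem : ∀ r ∈ rs, r ∈ I)
    (hmax : ∀ r ∈ I, ¬ IsWeaklyRegular M (rs ++ [r])) :
    (rs.length : ℕ∞) = LocCoh.idealDepth I M := by
  have hIM' := smul_top_quot_ne_top I M hIM (Ideal.ofList rs) (ofList_le I hmem)
  have h0 : LocCoh.idealDepth I (M ⧸ (Ideal.ofList rs • ⊤ : Submodule A M)) = 0 := by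
    by_contra hne
    have h1 : 1 ≤ LocCoh.idealDepth I (M ⧸ (Ideal.ofList rs • ⊤ : Submodule A M)) :=
      ENat.one_le_iff_ne_zero.2 hne
    rw [one_le_idealDepth_iff I _ hIM'] at h1
    obtain ⟨x, hxI, hx⟩ := h1
    apply hmax x hxI
    rw [isWeaklyRegular_append_iff]
    exact ⟨hreg, (isWeaklyRegular_singleton_iff _ x).2 hx⟩
  rw [← idealDepth_quot_ofList I rs hmem M hIM hreg, h0, zero_add]

/-- every weakly regular sequence in `I` extends to a maximal one. -/
theorem exists_maximal (hIM : I • (⊤ : Submodule A M) ≠ ⊤) (n : ℕ)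
    (hn : LocCoh.idealDepth I M = n) :
    ∀ (k : ℕ) (rs : List A), IsWeaklyRegular M rs → (∀ r ∈ rs, r ∈ I) → n ≤ rs.length + k →
      ∃ rs' : List A, rs <+: rs' ∧ IsWeaklyRegular M rs' ∧ (∀ r ∈ rs', r ∈ I) ∧
        ∀ r ∈ I, ¬ IsWeaklyRegular M (rs' ++ [r]) := by
  intro k
  induction k with
  | zero =>
    intro rs hreg hmem hle
    refine ⟨rs, List.prefix_refl rs, hreg, hmem, fun r hr hreg' => ?_⟩
    have hmem' : ∀ x ∈ rs ++ [r], x ∈ I := by
      intro x hx
      rcases List.mem_append.1 hx with h | h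
      · exact hmem x h
      · rw [List.mem_singleton] at h; rw [h]; exact hr
    have := length_le I M hIM (rs ++ [r]) hreg' hmem'
    rw [hn, Nat.cast_le, List.length_append, List.length_singleton] at this
    omega
  | succ k ih =>
    intro rs hreg hmem hle
    by_cases hmax : ∀ r ∈ I, ¬ IsWeaklyRegular M (rs ++ [r])
    · exact ⟨rs, List.prefix_refl rs, hreg, hmem, hmax⟩
    · push Not at hmax
      obtain ⟨r, hr, hreg'⟩ := hmax
      have hmem' : ∀ x ∈ rs ++ [r], x ∈ I := by
        intro x hx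
        rcases List.mem_append.1 hx with h | h
        · exact hmem x h
        · rw [List.mem_singleton] at h; rw [h]; exact hr
      obtain ⟨rs', hpre, h1, h2, h3⟩ := ih (rs ++ [r]) hreg' hmem' (by
        rw [List.length_append, List.length_singleton]; omega)
      exact ⟨rs', (List.prefix_append rs [r]).trans hpre, h1, h2, h3⟩

end Groth.Agent.Lib27.MaxReg
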