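import Groth.Prelude.Def_Formal2
import Mathlib.CategoryTheory.Abelian.Refinements

/-!
# `F/f^{n+1}F` for an `F`-regular `f`

`0 → F/fF → F/f^{n+1}F → F/f^nF → 0`, abstractly and for `Formal.modPow`.
-/

set_option autoImplicit false
universe u
open CategoryTheory CategoryTheory.Limits AlgebraicGeometry Opposite

namespace Groth.Agent.Lib27.ModPowPrincipal

section abstract

variable {C : Type*} [Category C] [Abelian C]

/-- The abstract statement: `φ`, `ψ`, `χ = φ ≫ ψ` endomorphisms of `F` with `ψ`, `χ` mono, and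
cokernels `C₁`, `Cn`, `Cn1`; then `ψ` induces a mono `C₁ ⟶ Cn1` and `C₁ ⟶ Cn1 ⟶ Cn` is short
exact. -/
theorem abstract_main {F C₁ Cn Cn1 : C} (φ ψ χ : F ⟶ F) [Mono ψ] [Mono χ] (hχ : χ = φ ≫ ψ)
    (π₁ : F ⟶ C₁) (πn : F ⟶ Cn) (πn1 : F ⟶ Cn1)
    (h₁ : φ ≫ π₁ = 0) (hn : ψ ≫ πn = 0) (hn1 : χ ≫ πn1 = 0)
    (H₁ : IsColimit (CokernelCofork.ofπ π₁ h₁)) (Hn : IsColimit (CokernelCofork.ofπ πn hn))
    (Hn1 : IsColimit (CokernelCofork.ofπ πn1 hn1))
    (tr : Cn1 ⟶ Cn) (htr : πn1 ≫ tr = πn) :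
    ∃ i : C₁ ⟶ Cn1, π₁ ≫ i = ψ ≫ πn1 ∧ Mono i ∧
      ∃ w : i ≫ tr = 0, (ShortComplex.mk i tr w).ShortExact := by
  have e₁ : Epi π₁ := Cofork.IsColimit.epi H₁
  have en : Epi πn := Cofork.IsColimit.epi Hn
  have en1 : Epi πn1 := Cofork.IsColimit.epi Hn1
  -- kernels
  have Kn := Abelian.monoIsKernelOfCokernel _ Hn
  have Kn1 := Abelian.monoIsKernelOfCokernel _ Hn1
  have hi0 : φ ≫ ψ ≫ πn1 = 0 := by rw [← Category.assoc, ← hχ, hn1]
  let i : C₁ ⟶ Cn1 := H₁.desc (CokernelCofork.ofπ (ψ ≫ πn1) hi0)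
  have hi : π₁ ≫ i = ψ ≫ πn1 := H₁.fac (CokernelCofork.ofπ (ψ ≫ πn1) hi0) WalkingParallelPair.one
  have hmono : Mono i := by
    rw [Preadditive.mono_iff_cancel_zero]
    intro T x hx
    obtain ⟨T', p, hp, y, hy⟩ := surjective_up_to_refinements_of_epi π₁ x
    have h0 : (y ≫ ψ) ≫ πn1 = 0 := by
      rw [Category.assoc, ← hi, ← Category.assoc, ← hy, Category.assoc, hx, comp_zero]
    obtain ⟨z, hz⟩ := KernelFork.IsLimit.lift' Kn1 (y ≫ ψ) h0
    have hz' : z ≫ χ = y ≫ ψ := hz
    have hyz : y = z ≫ φ := by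
      rw [← cancel_mono ψ, Category.assoc, ← hχ, hz']
    rw [← cancel_epi p, comp_zero, hy, hyz, Category.assoc, h₁, comp_zero]
  have w : i ≫ tr = 0 := by
    rw [← cancel_epi π₁, comp_zero, ← Category.assoc, hi, Category.assoc, htr, hn]
  have hepi : Epi tr := by
    have : Epi (πn1 ≫ tr) := by rw [htr]; exact en
    exact epi_of_epi πn1 tr
  refine ⟨i, hi, hmono, w, ?_⟩
  have hex : (ShortComplex.mk i tr w).Exact := by
    rw [ShortComplex.exact_iff_exact_up_to_refinements]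
    intro T x hx
    dsimp at x hx
    obtain ⟨T', p, hp, y, hy⟩ := surjective_up_to_refinements_of_epi πn1 x
    have h0 : y ≫ πn = 0 := by
      rw [← htr, ← Category.assoc, ← hy, Category.assoc, hx, comp_zero]
    obtain ⟨z, hz⟩ := KernelFork.IsLimit.lift' Kn y h0
    have hz' : z ≫ ψ = y := hz
    refine ⟨T', p, hp, z ≫ π₁, ?_⟩
    dsimp
    rw [hy, ← hz', Category.assoc, Category.assoc, hi]
  exact { exact := hex, mono_f := hmono, epi_g := hepi }

end abstract

section modPow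

variable {A : Type u} [CommRing A] {X : Scheme.{u}} [X.Over (Spec (CommRingCat.of A))]

theorem smulModΓ_naturality {M N : X.Modules} (f : M ⟶ N) (r : Coh.Γtop X) :
    Formal.smulModΓ M r ≫ f = f ≫ Formal.smulModΓ N r := by
  ext U m
  rw [Scheme.Modules.Hom.comp_app, Scheme.Modules.Hom.comp_app]
  exact (f.val.app (op U)).hom.map_smul (Coh.resTop X (op U) r) m

theorem smulMod_naturality {M N : X.Modules} (f : M ⟶ N) (a : A) :
    Formal.smulMod A M a ≫ f = f ≫ Formal.smulMod A N a :=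
  smulModΓ_naturality f _

theorem smulModΓ_mul (M : X.Modules) (r s : Coh.Γtop X) :
    Formal.smulModΓ M (r * s) = Formal.smulModΓ M s ≫ Formal.smulModΓ M r := by
  ext U m
  rw [Scheme.Modules.Hom.comp_app]
  change @HSMul.hSMul (X.ringCatSheaf.obj.obj (op U)) (M.val.obj (op U)) (M.val.obj (op U)) _
      (Coh.resTop X (op U) (r * s)) m =
    @HSMul.hSMul (X.ringCatSheaf.obj.obj (op U)) (M.val.obj (op U)) (M.val.obj (op U)) _
      (Coh.resTop X (op U) r)
      (@HSMul.hSMul (X.ringCatSheaf.obj.obj (op U)) (M.val.obj (op U)) (M.val.obj (op U)) _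
        (Coh.resTop X (op U) s) m)
  rw [map_mul, mul_smul]

theorem smulModΓ_one (M : X.Modules) : Formal.smulModΓ M 1 = 𝟙 M := by
  ext U m
  change @HSMul.hSMul (X.ringCatSheaf.obj.obj (op U)) (M.val.obj (op U)) (M.val.obj (op U)) _
      (Coh.resTop X (op U) 1) m = m
  rw [map_one, one_smul]

theorem smulMod_mul (M : X.Modules) (a b : A) :
    Formal.smulMod A M (a * b) = Formal.smulMod A M a ≫ Formal.smulMod A M b := by
  rw [mul_comm]
  unfold Formal.smulMod
  rw [map_mul, smulModΓ_mul]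

theorem smulMod_one (M : X.Modules) : Formal.smulMod A M (1 : A) = 𝟙 M := by
  unfold Formal.smulMod
  rw [map_one, smulModΓ_one]

theorem mono_smulMod_pow (M : X.Modules) (f : A) (hf : Mono (Formal.smulMod A M f)) (n : ℕ) :
    Mono (Formal.smulMod A M (f ^ n)) := by
  induction n with
  | zero => rw [pow_zero, smulMod_one]; infer_instance
  | succ k ih =>
    rw [pow_succ, smulMod_mul]
    exact mono_comp _ _

theorem ι_smulFamily (J : Ideal A) (M : X.Modules) (a : J) :
    Sigma.ι (fun _ : J => M) a ≫ Formal.smulFamily J M = Formal.smulMod A M (a : A) := by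
  simp [Formal.smulFamily]

/-- A map kills `(f)^n M` iff it kills `f^n M`. -/
theorem smulFamily_comp_eq_zero_iff (f : A) (n : ℕ) (M : X.Modules) {T : X.Modules} (g : M ⟶ T) :
    Formal.smulFamily (Ideal.span ({f} : Set A) ^ n) M ≫ g = 0 ↔
      Formal.smulMod A M (f ^ n) ≫ g = 0 := by
  constructor
  · intro h
    have hmem : f ^ n ∈ Ideal.span ({f} : Set A) ^ n :=
      Ideal.pow_mem_pow (Ideal.subset_span (Set.mem_singleton f)) n
    have h2 := ι_smulFamily (Ideal.span ({f} : Set A) ^ n) M ⟨f ^ n, hmem⟩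
    change _ = Formal.smulMod A M (f ^ n) at h2
    rw [← h2, Category.assoc, h, comp_zero]
  · intro h
    apply Sigma.hom_ext
    intro a
    rw [comp_zero, ← Category.assoc, ι_smulFamily]
    have ha : (a : A) ∈ Ideal.span ({f ^ n} : Set A) := by
      rw [← Ideal.span_singleton_pow]; exact a.2
    rw [Ideal.mem_span_singleton'] at ha
    obtain ⟨b, hb⟩ := ha
    rw [← hb, smulMod_mul, Category.assoc, h, comp_zero]

theorem smulMod_pow_modPowπ (f : A) (n : ℕ) (M : X.Modules) :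
    Formal.smulMod A M (f ^ n) ≫ Formal.modPowπ (Ideal.span ({f} : Set A)) n M = 0 :=
  (smulFamily_comp_eq_zero_iff f n M _).mp (cokernel.condition _)

/-- `M ⟶ M/(f)^n M` is a cokernel of multiplication by `f^n`. -/
noncomputable def isColimitModPow (f : A) (n : ℕ) (M : X.Modules) :
    IsColimit (CokernelCofork.ofπ (Formal.modPowπ (Ideal.span ({f} : Set A)) n M)
      (smulMod_pow_modPowπ f n M)) :=
  CokernelCofork.isColimitOfIsColimitOfIff'
    (cokernelIsCokernel (Formal.smulFamily (Ideal.span ({f} : Set A) ^ n) M))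
    (Formal.smulMod A M (f ^ n)) (fun _ g => smulFamily_comp_eq_zero_iff f n M g)

theorem main (f : A) (F : X.Modules) (hF : Mono (Formal.smulMod A F f)) (n : ℕ) :
    ∃ i : Formal.modPow (Ideal.span ({f} : Set A)) 1 F ⟶
        Formal.modPow (Ideal.span ({f} : Set A)) (n + 1) F,
      Mono i ∧ Formal2.modPowLE (Ideal.span ({f} : Set A)) (Nat.le_add_left 1 n) F ≫ i =
        Formal.smulMod A (Formal.modPow (Ideal.span ({f} : Set A)) (n + 1) F) (f ^ n) ∧
      ∃ w : i ≫ Formal.modPowTrans (Ideal.span ({f} : Set A)) n F = 0,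
        (ShortComplex.mk i (Formal.modPowTrans (Ideal.span ({f} : Set A)) n F) w).ShortExact := by
  have m1 : Mono (Formal.smulMod A F (f ^ n)) := mono_smulMod_pow F f hF n
  have m2 : Mono (Formal.smulMod A F (f ^ (n + 1))) := mono_smulMod_pow F f hF (n + 1)
  have hχ : Formal.smulMod A F (f ^ (n + 1)) =
      Formal.smulMod A F (f ^ 1) ≫ Formal.smulMod A F (f ^ n) := by
    rw [← smulMod_mul, ← pow_add, add_comm]
  obtain ⟨i, hi, hmono, w, hex⟩ := abstract_main
    (Formal.smulMod A F (f ^ 1)) (Formal.smulMod A F (f ^ n)) (Formal.smulMod A F (f ^ (n + 1))) hχ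
    (Formal.modPowπ (Ideal.span ({f} : Set A)) 1 F)
    (Formal.modPowπ (Ideal.span ({f} : Set A)) n F)
    (Formal.modPowπ (Ideal.span ({f} : Set A)) (n + 1) F)
    (smulMod_pow_modPowπ f 1 F) (smulMod_pow_modPowπ f n F) (smulMod_pow_modPowπ f (n + 1) F)
    (isColimitModPow f 1 F) (isColimitModPow f n F) (isColimitModPow f (n + 1) F)
    (Formal.modPowTrans (Ideal.span ({f} : Set A)) n F) (Formal.modPowπ_trans _ n F)
  refine ⟨i, hmono, ?_, w, hex⟩
  have : Epi (Formal.modPowπ (Ideal.span ({f} : Set A)) (n + 1) F) := by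
    have h := Cofork.IsColimit.epi (isColimitModPow f (n + 1) F)
    exact h
  rw [← cancel_epi (Formal.modPowπ (Ideal.span ({f} : Set A)) (n + 1) F), ← Category.assoc,
    Formal2.modPowπ_modPowLE, hi, smulMod_naturality]

end modPow

end Groth.Agent.Lib27.ModPowPrincipal
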