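import Groth.Prelude.Def_DRing2
import Mathlib

/-! Finiteness of the top cohomology of pseudo-coherent complexes (helper27). -/

set_option autoImplicit false
universe u
open CategoryTheory CategoryTheory.Limits

namespace Groth.Agent.Lib27.PCohHom

variable {A : Type u} [CommRing A]

/-- finite projective objects of the category of modules -/
def FP (M : ModuleCat.{u} A) : Prop := Module.Finite A M ∧ Module.Projective A M

lemma fp_of_retract {M N : ModuleCat.{u} A} (i : M ⟶ N) (r : N ⟶ M) (h : i ≫ r = 𝟙 M)
    (hN : FP N) : FP M := by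
  obtain ⟨h1, h2⟩ := hN
  have hcomp : r.hom.comp i.hom = LinearMap.id := by
    have := congrArg ModuleCat.Hom.hom h
    simpa using this
  have hsurj : Function.Surjective r.hom := fun x => ⟨i.hom x, by
    have := LinearMap.congr_fun hcomp x
    simpa using this⟩
  exact ⟨Module.Finite.of_surjective r.hom hsurj, Module.Projective.of_split i.hom r.hom hcomp⟩

lemma fp_of_isZero {M : ModuleCat.{u} A} (h : IsZero M) : FP M := by
  have : Subsingleton M := ModuleCat.subsingleton_of_isZero h
  exact ⟨inferInstance, inferInstance⟩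

lemma finite_of_epi {M N : ModuleCat.{u} A} (p : M ⟶ N) [Epi p] (h : Module.Finite A M) :
    Module.Finite A N :=
  Module.Finite.of_surjective p.hom ((ModuleCat.epi_iff_surjective p).1 inferInstance)

lemma finite_of_iso {M N : ModuleCat.{u} A} (e : M ≅ N) (h : Module.Finite A M) :
    Module.Finite A N := finite_of_epi e.hom h

variable (E : CochainComplex (ModuleCat.{u} A) ℤ)

/-- if the cohomology in degree `i + 1` vanishes and the cycles in degree `i + 1` are projective,
then the cycles in degree `i` are a retract of the term in degree `i` -/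
lemma exists_retraction (i : ℤ) (h0 : IsZero (E.homology (i + 1)))
    (hP : Module.Projective A (E.cycles (i + 1))) :
    ∃ r : E.X i ⟶ E.cycles i, E.iCycles i ≫ r = 𝟙 _ := by
  have hprev : (ComplexShape.up ℤ).prev (i + 1) = i := by simp
  have hnext : (ComplexShape.up ℤ).next i = i + 1 := by simp
  have hepi : Epi (E.toCycles i (i + 1)) :=
    Preadditive.epi_of_isZero_cokernel' _ (E.homologyIsCokernel i (i + 1) hprev) h0
  have : Projective (E.cycles (i + 1)) := inferInstance
  let s : E.cycles (i + 1) ⟶ E.X i := Projective.factorThru (𝟙 _) (E.toCycles i (i + 1))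
  have hs : s ≫ E.toCycles i (i + 1) = 𝟙 _ := Projective.factorThru_comp _ _
  have hk : (𝟙 (E.X i) - E.toCycles i (i + 1) ≫ s) ≫ E.d i (i + 1) = 0 := by
    rw [← E.toCycles_i i (i + 1), ← Category.assoc, Preadditive.sub_comp, Category.id_comp,
      Category.assoc, hs, Category.comp_id, sub_self, zero_comp]
  refine ⟨E.liftCycles _ (i + 1) hnext hk, ?_⟩
  rw [← cancel_mono (E.iCycles i), Category.assoc, HomologicalComplex.liftCycles_i,
    Preadditive.comp_sub, Category.comp_id, Category.id_comp]
  have : E.iCycles i ≫ E.toCycles i (i + 1) = 0 := by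
    rw [← cancel_mono (E.iCycles (i + 1)), Category.assoc, HomologicalComplex.toCycles_i,
      HomologicalComplex.iCycles_d, zero_comp]
  rw [← Category.assoc, this, zero_comp, sub_zero]

/-- descending induction: above the top cohomological degree, cycles of a bounded above
complex of finite projective modules are finite projective direct summands -/
lemma cycles_fp (b n : ℤ) (hb : ∀ i : ℤ, b < i → IsZero (E.X i)) (hE : ∀ i, FP (E.X i))
    (hH : ∀ i : ℤ, n < i → IsZero (E.homology i)) :
    ∀ (k : ℕ) (i : ℤ), n ≤ i → b + 1 ≤ i + k →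
      FP (E.cycles i) ∧ ∃ r : E.X i ⟶ E.cycles i, E.iCycles i ≫ r = 𝟙 _ := by
  intro k
  induction k with
  | zero =>
    intro i _ hi
    have hz : IsZero (E.X i) := hb i (by omega)
    have hzc : IsZero (E.cycles i) := IsZero.of_mono (E.iCycles i) hz
    exact ⟨fp_of_isZero hzc, 0, hzc.eq_of_src _ _⟩
  | succ k ih =>
    intro i hni hi
    obtain ⟨h1, -⟩ := ih (i + 1) (by omega) (by omega)
    obtain ⟨r, hr⟩ := exists_retraction E i (hH (i + 1) (by omega)) h1.2
    exact ⟨fp_of_retract (E.iCycles i) r hr (hE i), r, hr⟩

lemma cycles_fp' (b n : ℤ) (hb : ∀ i : ℤ, b < i → IsZero (E.X i)) (hE : ∀ i, FP (E.X i))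
    (hH : ∀ i : ℤ, n < i → IsZero (E.homology i)) (i : ℤ) (hi : n ≤ i) :
    FP (E.cycles i) ∧ ∃ r : E.X i ⟶ E.cycles i, E.iCycles i ≫ r = 𝟙 _ :=
  cycles_fp E b n hb hE hH (b + 1 - i).toNat i hi (by omega)

/-- the top cohomology is finitely generated -/
lemma finite_homology (b n : ℤ) (hb : ∀ i : ℤ, b < i → IsZero (E.X i)) (hE : ∀ i, FP (E.X i))
    (hH : ∀ i : ℤ, n < i → IsZero (E.homology i)) : Module.Finite A (E.homology n) := by
  obtain ⟨h1, -⟩ := cycles_fp' E b n hb hE hH n le_rfl
  exact finite_of_epi (E.homologyπ n) h1.1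

/-- the top cohomology is finitely presented when the term below is finite as well -/
lemma finitePresentation_homology (b n : ℤ) (hb : ∀ i : ℤ, b < i → IsZero (E.X i))
    (hE : ∀ i, FP (E.X i)) (hH : ∀ i : ℤ, n + 1 < i → IsZero (E.homology i)) :
    Module.FinitePresentation A (E.homology (n + 1)) := by
  obtain ⟨⟨h1, h2⟩, -⟩ := cycles_fp' E b (n + 1) hb hE hH (n + 1) le_rfl
  have hprev : (ComplexShape.up ℤ).prev (n + 1) = n := by simp
  have hfp : Module.FinitePresentation A (E.cycles (n + 1)) :=
    Module.finitePresentation_of_projective A _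
  have hsurj : Function.Surjective (E.homologyπ (n + 1)).hom :=
    (ModuleCat.epi_iff_surjective _).1 inferInstance
  refine Module.finitePresentation_of_surjective (E.homologyπ (n + 1)).hom hsurj ?_
  -- the kernel is the image of the finitely generated module `E.X n`
  have hex : (ShortComplex.mk (E.toCycles n (n + 1)) (E.homologyπ (n + 1))
      (E.toCycles_comp_homologyπ n (n + 1))).Exact :=
    ShortComplex.exact_of_g_is_cokernel _ (E.homologyIsCokernel n (n + 1) hprev)
  have hker : LinearMap.ker (E.homologyπ (n + 1)).hom = LinearMap.range (E.toCycles n (n + 1)).hom := by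
    have := (ShortComplex.ShortExact.moduleCat_exact_iff_function_exact _).1 hex
    exact (LinearMap.exact_iff.1 this)
  rw [hker]
  have : Module.Finite A (E.X n) := (hE n).1
  rw [LinearMap.range_eq_map]
  exact Submodule.FG.map _ Module.Finite.fg_top

end Groth.Agent.Lib27.PCohHom
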