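import Mathlib
import Groth.Prelude.Def_GrSyz
import Groth.Agent.Lib27.GrUniq3

/-!
# Length of a minimal resolution versus projective dimension
-/

set_option autoImplicit false

universe u

namespace Groth.Agent.Lib27.PDim

open CategoryTheory Groth.Agent.Lib27.GrMin

section Cat

variable {R : Type u} [CommRing R]

lemma pd_zero_iff (N : Type u) [AddCommGroup N] [Module R N] :
    HasProjectiveDimensionLE (ModuleCat.of R N) 0 ↔ Module.Projective R N := by
  rw [← projective_iff_hasProjectiveDimensionLE_zero, IsProjective.iff_projective]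

lemma pd_shift {P N : Type u} [AddCommGroup P] [Module R P] [AddCommGroup N] [Module R N]
    [Module.Projective R P] (p : P →ₗ[R] N) (hp : Function.Surjective p) (n : ℕ) :
    HasProjectiveDimensionLE (ModuleCat.of R N) (n + 1) ↔
      HasProjectiveDimensionLE (ModuleCat.of R ↥(LinearMap.ker p)) n := by
  have hS := LinearMap.shortExact_shortComplexKer hp
  have hproj : Projective (p.shortComplexKer).X₂ :=
    (IsProjective.iff_projective P).1 inferInstance
  exact hS.hasProjectiveDimensionLT_X₃_iff n hproj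

lemma pd_congr {N N' : Type u} [AddCommGroup N] [Module R N] [AddCommGroup N'] [Module R N']
    (e : N ≃ₗ[R] N') (n : ℕ) :
    HasProjectiveDimensionLE (ModuleCat.of R N) n ↔
      HasProjectiveDimensionLE (ModuleCat.of R N') n :=
  ⟨fun _ => ModuleCat.hasProjectiveDimensionLE_of_linearEquiv
      (M := ModuleCat.of R N) (N := ModuleCat.of R N') e n,
    fun _ => ModuleCat.hasProjectiveDimensionLE_of_linearEquiv
      (M := ModuleCat.of R N') (N := ModuleCat.of R N) e.symm n⟩

end Cat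

section Alg

variable {A : Type u} [CommRing A] [IsNoetherianRing A] [IsDomain A]

lemma ker_eq_bot_of_projective (𝔪 : Ideal A) (h𝔪 : 𝔪 ≠ ⊤)
    {Q : Type*} [AddCommGroup Q] [Module A Q] [Module.Projective A Q] {n : ℕ}
    (p : (Fin n → A) →ₗ[A] Q) (hp : Function.Surjective p)
    (hmin : ∀ w, p w = 0 → ∀ b, w b ∈ 𝔪) : LinearMap.ker p = ⊥ := by
  classical
  obtain ⟨s, hs⟩ := Module.projective_lifting_property p LinearMap.id hp
  have hps : ∀ q, p (s q) = q := fun q => LinearMap.congr_fun hs q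
  let e : (Fin n → A) →ₗ[A] (Fin n → A) := LinearMap.id - s ∘ₗ p
  have he_apply : ∀ w, e w = w - s (p w) := fun w => rfl
  have he_ker : ∀ w, p (e w) = 0 := fun w => by
    rw [he_apply, map_sub, hps, sub_self]
  have he_id : ∀ w, p w = 0 → e w = w := fun w hw => by
    rw [he_apply, hw, map_zero, sub_zero]
  have hee : e ∘ₗ e = e := LinearMap.ext fun w => he_id _ (he_ker w)
  set E := LinearMap.toMatrix' e with hEdef
  have hE : ∀ a b, E a b ∈ 𝔪 := fun a b => by
    rw [hEdef, LinearMap.toMatrix'_apply]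
    exact hmin _ (he_ker _) a
  have hEE : E * E = E := by
    rw [hEdef, ← LinearMap.toMatrix'_comp, hee]
  have hpow : ∀ j : ℕ, ∀ a b, E a b ∈ 𝔪 ^ (j + 1) := by
    intro j
    induction j with
    | zero =>
      intro a b
      rw [zero_add, pow_one]
      exact hE a b
    | succ j ih =>
      intro a b
      rw [← hEE, Matrix.mul_apply, pow_succ]
      exact Ideal.sum_mem _ fun c _ => Ideal.mul_mem_mul (ih a c) (hE c b)
  have hzero : E = 0 := by
    ext a b
    have : E a b ∈ ⨅ i : ℕ, 𝔪 ^ i := by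
      rw [Ideal.mem_iInf]
      intro i
      cases i with
      | zero =>
        rw [pow_zero, Ideal.one_eq_top]
        exact Submodule.mem_top
      | succ j => exact hpow j a b
    rw [Ideal.iInf_pow_eq_bot_of_isDomain 𝔪 h𝔪] at this
    exact this
  have he0 : e = 0 := by
    rw [← Matrix.toLin'_toMatrix' e, ← hEdef, hzero, map_zero]
  rw [eq_bot_iff]
  intro w hw
  rw [LinearMap.mem_ker] at hw
  rw [Submodule.mem_bot, ← he_id w hw, he0]
  rfl

end Alg

section Res

variable {k : Type u} [CommRing k] {A : Type u} [CommRing A] [Algebra k A]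
  {𝒜 : ℤ → Submodule k A} [GradedAlgebra 𝒜]
  {M : Type u} [AddCommGroup M] [Module k M] [Module A M]
  {ℳ : ℤ → Submodule k M} [DirectSum.Decomposition ℳ] [SetLike.GradedSMul 𝒜 ℳ]

lemma rk_succ_eq_zero (𝔪 : Ideal A) (h1 : (1 : A) ∉ 𝔪) (F : GrSyz.FreeRes 𝒜 ℳ)
    (hF : F.IsMinimal 𝔪) (i : ℕ) (h : ∀ w, F.dLin i w = 0) : F.rk (i + 1) = 0 := by
  classical
  by_contra hne
  have hpos : 0 < F.rk (i + 1) := Nat.pos_of_ne_zero hne
  have hmem : (Pi.single ⟨0, hpos⟩ 1 : Fin (F.rk (i + 1)) → A) ∈ Zsub F (i + 1) := h _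
  have := Zsub_mem F 𝔪 hF (i + 1) _ hmem ⟨0, hpos⟩
  rw [Pi.single_eq_same] at this
  exact h1 this

lemma hasLengthLE_of_rk_eq_zero (𝔪 : Ideal A) (h1 : (1 : A) ∉ 𝔪) (F : GrSyz.FreeRes 𝒜 ℳ)
    (hF : F.IsMinimal 𝔪) (n : ℕ) (h : F.rk (n + 1) = 0) : F.HasLengthLE n := by
  have key : ∀ j, F.rk (n + 1 + j) = 0 := by
    intro j
    induction j with
    | zero => exact h
    | succ j ih =>
      refine rk_succ_eq_zero 𝔪 h1 F hF (n + 1 + j) fun w => ?_
      have : IsEmpty (Fin (F.rk (n + 1 + j))) := by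
        rw [ih]
        infer_instance
      exact Subsingleton.elim _ _
  intro i hi
  obtain ⟨j, rfl⟩ : ∃ j, i = n + 1 + j := ⟨i - (n + 1), by omega⟩
  exact key j

lemma Zsub_eq_bot_of_rk (F : GrSyz.FreeRes 𝒜 ℳ) (i : ℕ) (h : F.rk (i + 1) = 0) :
    Zsub F i = ⊥ := by
  rw [Zsub_eq_range, eq_bot_iff]
  rintro _ ⟨w, rfl⟩
  have : IsEmpty (Fin (F.rk (i + 1))) := by
    rw [h]
    infer_instance
  rw [Submodule.mem_bot, show w = 0 from Subsingleton.elim _ _, map_zero]

end Res

end Groth.Agent.Lib27.PDim
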