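import Mathlib
import Groth.Prelude.Def_GrSyz
import Groth.Agent.Lib27.PDim1
import Groth.Agent.Lib27.GrMin4

/-!
# Length of a minimal resolution equals the projective dimension
-/

set_option autoImplicit false

universe u

namespace Groth.Agent.Lib27.PDim

open CategoryTheory Groth.Agent.Lib27.GrMin

section Res

variable {k : Type u} [CommRing k] {A : Type u} [CommRing A] [Algebra k A]
  {𝒜 : ℤ → Submodule k A} [GradedAlgebra 𝒜]
  {M : Type u} [AddCommGroup M] [Module k M] [Module A M]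
  {ℳ : ℤ → Submodule k M} [DirectSum.Decomposition ℳ] [SetLike.GradedSMul 𝒜 ℳ]

lemma dLin_mem_Zsub (F : GrSyz.FreeRes 𝒜 ℳ) (i : ℕ) (w : Fin (F.rk (i + 1)) → A) :
    F.dLin i w ∈ Zsub F i := by
  rw [Zsub_eq_range]
  exact ⟨w, rfl⟩

/-- the cover of the `i`-th syzygy module by the `(i+1)`-st free module. -/
noncomputable def cover (F : GrSyz.FreeRes 𝒜 ℳ) (i : ℕ) :
    (Fin (F.rk (i + 1)) → A) →ₗ[A] ↥(Zsub F i) :=
  (F.dLin i).codRestrict (Zsub F i) (dLin_mem_Zsub F i)

lemma cover_surjective (F : GrSyz.FreeRes 𝒜 ℳ) (i : ℕ) : Function.Surjective (cover F i) := by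
  intro z
  have hz : z.1 ∈ LinearMap.range (F.dLin i) := (Zsub_eq_range F i) ▸ z.2
  obtain ⟨w, hw⟩ := hz
  exact ⟨w, Subtype.ext hw⟩

lemma ker_cover (F : GrSyz.FreeRes 𝒜 ℳ) (i : ℕ) : LinearMap.ker (cover F i) = Zsub F (i + 1) :=
  LinearMap.ker_codRestrict _ _ _

lemma pd_Zsub_shift (F : GrSyz.FreeRes 𝒜 ℳ) (i m : ℕ) :
    HasProjectiveDimensionLE (ModuleCat.of A ↥(Zsub F i)) (m + 1) ↔
      HasProjectiveDimensionLE (ModuleCat.of A ↥(Zsub F (i + 1))) m := by
  rw [pd_shift (cover F i) (cover_surjective F i) m]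
  exact pd_congr (LinearEquiv.ofEq _ _ (ker_cover F i)) m

lemma pd_M_shift (F : GrSyz.FreeRes 𝒜 ℳ) (m : ℕ) :
    HasProjectiveDimensionLE (ModuleCat.of A M) (m + 1) ↔
      HasProjectiveDimensionLE (ModuleCat.of A ↥(Zsub F 0)) m :=
  pd_shift F.augLin F.aug_surjective m

lemma pd_Zsub_iff (F : GrSyz.FreeRes 𝒜 ℳ) (m : ℕ) :
    ∀ i j : ℕ, j = i + m → (HasProjectiveDimensionLE (ModuleCat.of A ↥(Zsub F i)) m ↔
      Module.Projective A ↥(Zsub F j)) := by
  induction m with
  | zero =>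
    intro i j hj
    obtain rfl : j = i := by omega
    exact pd_zero_iff _
  | succ m ih =>
    intro i j hj
    rw [pd_Zsub_shift]
    exact ih (i + 1) j (by omega)

variable [IsNoetherianRing A] [IsDomain A]

theorem hasLengthLE_iff_pd (𝔪 : Ideal A) (h1 : (1 : A) ∉ 𝔪) (F : GrSyz.FreeRes 𝒜 ℳ)
    (hF : F.IsMinimal 𝔪) (n : ℕ) :
    F.HasLengthLE n ↔ HasProjectiveDimensionLE (ModuleCat.of A M) n := by
  have h𝔪 : 𝔪 ≠ ⊤ := by
    rintro rfl
    exact h1 trivial
  cases n with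
  | zero =>
    rw [pd_zero_iff]
    constructor
    · intro hlen
      have hk : LinearMap.ker F.augLin = ⊥ := Zsub_eq_bot_of_rk F 0 (hlen 1 (by omega))
      exact Module.Projective.of_equiv
        (LinearEquiv.ofBijective F.augLin ⟨LinearMap.ker_eq_bot.1 hk, F.aug_surjective⟩)
    · intro hproj
      have hk : LinearMap.ker F.augLin = ⊥ :=
        ker_eq_bot_of_projective 𝔪 h𝔪 F.augLin F.aug_surjective
          (fun w hw => Zsub_mem F 𝔪 hF 0 w hw)
      refine hasLengthLE_of_rk_eq_zero 𝔪 h1 F hF 0 (rk_succ_eq_zero 𝔪 h1 F hF 0 fun w => ?_)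
      have : F.dLin 0 w ∈ LinearMap.ker F.augLin := dLin_mem_Zsub F 0 w
      rw [hk] at this
      exact this
  | succ m =>
    rw [pd_M_shift F m, pd_Zsub_iff F m 0 m (by omega)]
    constructor
    · intro hlen
      have hk : LinearMap.ker (F.dLin m) = ⊥ :=
        Zsub_eq_bot_of_rk F (m + 1) (hlen (m + 2) (by omega))
      have hinj : Function.Injective (F.dLin m) := LinearMap.ker_eq_bot.1 hk
      exact Module.Projective.of_equiv
        ((LinearEquiv.ofInjective (F.dLin m) hinj).trans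
          (LinearEquiv.ofEq _ _ (Zsub_eq_range F m).symm))
    · intro hproj
      have hk : LinearMap.ker (cover F m) = ⊥ :=
        ker_eq_bot_of_projective 𝔪 h𝔪 (cover F m) (cover_surjective F m)
          (fun w hw => Zsub_mem F 𝔪 hF (m + 1) w (by
            rw [← ker_cover]
            exact hw))
      rw [ker_cover] at hk
      refine hasLengthLE_of_rk_eq_zero 𝔪 h1 F hF (m + 1)
        (rk_succ_eq_zero 𝔪 h1 F hF (m + 1) fun w => ?_)
      have : F.dLin (m + 1) w ∈ Zsub F (m + 1) := dLin_mem_Zsub F (m + 1) w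
      rw [hk] at this
      exact this

end Res

theorem poly_hasLengthLE_iff_pd (k : Type u) [Field k] (r : ℕ)
    {M : Type u} [AddCommGroup M] [Module k M] [Module (MvPolynomial (Fin (r + 1)) k) M]
    (ℳ : ℤ → Submodule k M) [DirectSum.Decomposition ℳ]
    [SetLike.GradedSMul (GrSyz.stdGr k (Fin (r + 1))) ℳ]
    (F : GrSyz.FreeRes (GrSyz.stdGr k (Fin (r + 1))) ℳ)
    (hF : F.IsMinimal (GrSyz.irrel (GrSyz.stdGr k (Fin (r + 1)))).toIdeal) (n : ℕ) :
    F.HasLengthLE n ↔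
      HasProjectiveDimensionLE (ModuleCat.of (MvPolynomial (Fin (r + 1)) k) M) n :=
  hasLengthLE_iff_pd _ (one_notMem_irrel k r) F hF n

end Groth.Agent.Lib27.PDim
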