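import Groth.Prelude.Def_Pi1
import Mathlib.RingTheory.Finiteness.Descent
import Mathlib.RingTheory.Flat.Tensor
import Mathlib.Algebra.Module.CharacterModule
import Mathlib.RingTheory.Smooth.Fiber
import Mathlib.RingTheory.Etale.Descent

/-!
# Descent along universally injective (pure) ring maps
-/

namespace Groth.Agent.Lib27.Pure

open TensorProduct

universe u

variable {R S : Type u} [CommRing R] [CommRing S] [Algebra R S]

theorem one_tmul_injective (h : Pi1.UnivInjective R S) (P : Type u) [AddCommGroup P] [Module R P] :
    Function.Injective (fun p : P => (1 : S) ⊗ₜ[R] p) := by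
  intro p q hpq
  have h1 := h P
  have h2 : (LinearMap.lTensor P (Algebra.linearMap R S)) (p ⊗ₜ 1)
      = (LinearMap.lTensor P (Algebra.linearMap R S)) (q ⊗ₜ 1) := by
    simp only [LinearMap.lTensor_tmul, Algebra.linearMap_apply, map_one]
    have := congrArg (TensorProduct.comm R S P) hpq
    simpa using this
  have h3 := h1 h2
  simpa using congrArg (TensorProduct.rid R P) h3

theorem injective_of_lTensor_injective (h : Pi1.UnivInjective R S) {M N : Type u}
    [AddCommGroup M] [Module R M] [AddCommGroup N] [Module R N] (f : M →ₗ[R] N)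
    (hf : Function.Injective (f.lTensor S)) : Function.Injective f := by
  intro a b hab
  apply one_tmul_injective h M
  apply hf
  simp [hab]

theorem surjective_of_lTensor_surjective (h : Pi1.UnivInjective R S) {M N : Type u}
    [AddCommGroup M] [Module R M] [AddCommGroup N] [Module R N] (f : M →ₗ[R] N)
    (hf : Function.Surjective (f.lTensor S)) : Function.Surjective f := by
  intro n
  have hQ : (1 : S) ⊗ₜ[R] ((LinearMap.range f).mkQ n) = 0 := by
    obtain ⟨y, hy⟩ := hf (1 ⊗ₜ n)
    have h1 : (LinearMap.lTensor S (LinearMap.range f).mkQ) (f.lTensor S y) = 0 := by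
      rw [← LinearMap.comp_apply, ← LinearMap.lTensor_comp]
      have : (LinearMap.range f).mkQ ∘ₗ f = 0 := LinearMap.range_mkQ_comp f
      rw [this, LinearMap.lTensor_zero]; rfl
    rw [hy] at h1
    simpa using h1
  have h2 := one_tmul_injective h (N ⧸ LinearMap.range f) (hQ.trans (tmul_zero _ _).symm)
  have h3 : n ∈ LinearMap.range f := (Submodule.Quotient.mk_eq_zero _).mp h2
  exact h3

theorem subsingleton_of_tensor (h : Pi1.UnivInjective R S) (P : Type u) [AddCommGroup P]
    [Module R P] [Subsingleton (S ⊗[R] P)] : Subsingleton P :=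
  ⟨fun _ _ => one_tmul_injective h P (Subsingleton.elim _ _)⟩

theorem finite_of_tensor (h : Pi1.UnivInjective R S) (M : Type u) [AddCommGroup M] [Module R M]
    [Module.Finite S (S ⊗[R] M)] : Module.Finite R M := by
  obtain ⟨n, s, hs⟩ := Module.Finite.exists_fin (R := S) (M := S ⊗[R] M)
  choose k t m hm using fun i : Fin n ↦ TensorProduct.exists_sum_tmul_eq (s i)
  let f₀ : ((Σ i, Fin (k i)) → R) →ₗ[R] M := (Pi.basisFun R _).constr R fun ⟨i, j⟩ ↦ m i j
  apply Module.Finite.of_surjective f₀
  apply surjective_of_lTensor_surjective h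
  have : Function.Surjective (AlgebraTensorModule.lTensor S S f₀) := by
    rw [← LinearMap.range_eq_top, eq_top_iff, ← hs, Submodule.span_le, Set.range_subset_iff]
    intro i
    use ∑ (j : Fin (k i)), t i j ⊗ₜ Pi.basisFun R _ ⟨i, j⟩
    simp [f₀, -Pi.basisFun_equivFun, -Pi.basisFun_apply, hm i]
  exact this

theorem finiteType_of_tensor (h : Pi1.UnivInjective R S) (A : Type u) [CommRing A] [Algebra R A]
    [Algebra.FiniteType S (S ⊗[R] A)] : Algebra.FiniteType R A := by
  obtain ⟨s, hs⟩ := Algebra.FiniteType.out (R := S) (A := S ⊗[R] A)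
  have (x : s) := TensorProduct.exists_sum_tmul_eq x.1
  choose k t m hm using this
  let f : MvPolynomial (Σ x : s, Fin (k x)) R →ₐ[R] A := MvPolynomial.aeval (fun ⟨x, i⟩ ↦ m x i)
  apply Algebra.FiniteType.of_surjective f
  have hf : Function.Surjective (Algebra.TensorProduct.map (.id S S) f) := by
    rw [← AlgHom.range_eq_top, _root_.eq_top_iff, ← hs, Algebra.adjoin_le_iff]
    intro x hx
    let i : s := ⟨x, hx⟩
    use ∑ (j : Fin (k i)), t i j ⊗ₜ MvPolynomial.X ⟨i, j⟩
    simp [f, ← hm, i]
  apply surjective_of_lTensor_surjective h f.toLinearMap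
  exact hf

theorem finitePresentation_of_tensor (h : Pi1.UnivInjective R S) (M : Type u) [AddCommGroup M]
    [Module R M] [Module.FinitePresentation S (S ⊗[R] M)] : Module.FinitePresentation R M := by
  classical
  have : Module.Finite R M := finite_of_tensor h M
  obtain ⟨n, f₀, hf₀⟩ := Module.Finite.exists_fin' R M
  set K := LinearMap.ker f₀ with hK
  have hfS : Function.Surjective (f₀.baseChange S) := LinearMap.lTensor_surjective S hf₀
  have hker : (LinearMap.ker (f₀.baseChange S)).FG :=
    Module.FinitePresentation.fg_ker (f₀.baseChange S) hfS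
  have hspan : LinearMap.ker (f₀.baseChange S)
      = Submodule.span S ((fun k => (1 : S) ⊗ₜ[R] k) '' (K : Set (Fin n → R))) := by
    apply le_antisymm
    · intro x hx
      have hex : Function.Exact (LinearMap.lTensor S K.subtype) (LinearMap.lTensor S f₀) :=
        lTensor_exact S (LinearMap.exact_subtype_ker_map f₀) hf₀
      have hx' : LinearMap.lTensor S f₀ x = 0 := hx
      obtain ⟨y, rfl⟩ := (hex x).mp hx'
      induction y using TensorProduct.induction_on with
      | zero => simp
      | tmul s k =>
        have : (LinearMap.lTensor S K.subtype) (s ⊗ₜ[R] k) = s • ((1 : S) ⊗ₜ[R] (k : Fin n → R)) := by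
          simp [TensorProduct.smul_tmul']
        rw [this]
        exact Submodule.smul_mem _ _ (Submodule.subset_span ⟨k.1, k.2, rfl⟩)
      | add a b ha hb =>
        rw [map_add]
        exact add_mem (ha (by
          have := (hex ((LinearMap.lTensor S K.subtype) a)).mpr ⟨a, rfl⟩; exact this) (by
          have := (hex ((LinearMap.lTensor S K.subtype) a)).mpr ⟨a, rfl⟩; exact this))
          (hb (by
          have := (hex ((LinearMap.lTensor S K.subtype) b)).mpr ⟨b, rfl⟩; exact this) (by
          have := (hex ((LinearMap.lTensor S K.subtype) b)).mpr ⟨b, rfl⟩; exact this))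
    · rw [Submodule.span_le]
      rintro _ ⟨k, hk, rfl⟩
      have hk' : f₀ k = 0 := hk
      simp [LinearMap.baseChange_tmul, hk']
  rw [hspan] at hker
  obtain ⟨T, hT1, hT2⟩ := (Submodule.fg_span_iff_fg_span_finset_subset _).mp hker
  obtain ⟨T', hT'K, rfl⟩ := Finset.subset_set_image_iff.mp hT1
  set K' : Submodule R (Fin n → R) := Submodule.span R (T' : Set (Fin n → R)) with hK'
  have hK'K : K' ≤ K := Submodule.span_le.mpr hT'K
  let g : ((Fin n → R) ⧸ K') →ₗ[R] M := K'.liftQ f₀ hK'K
  have hginj : Function.Injective g := by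
    apply injective_of_lTensor_injective h
    rw [injective_iff_map_eq_zero]
    intro x hx
    obtain ⟨y, rfl⟩ := LinearMap.lTensor_surjective S (Submodule.mkQ_surjective K') x
    have hy : y ∈ LinearMap.ker (f₀.baseChange S) := by
      rw [LinearMap.mem_ker]
      have : (LinearMap.lTensor S g) ((LinearMap.lTensor S K'.mkQ) y) = (LinearMap.lTensor S f₀) y := by
        rw [← LinearMap.comp_apply, ← LinearMap.lTensor_comp]
        congr 2
      rw [this] at hx
      exact hx
    rw [hspan, hT2] at hy
    have hle : Submodule.span S ((T'.image fun k => (1 : S) ⊗ₜ[R] k : Finset _) : Set (S ⊗[R] (Fin n → R)))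
        ≤ LinearMap.ker (K'.mkQ.baseChange S) := by
      rw [Submodule.span_le]
      intro z hz
      rw [Finset.coe_image] at hz
      obtain ⟨k, hk, rfl⟩ := hz
      have : K'.mkQ k = 0 := by
        rw [Submodule.mkQ_apply, Submodule.Quotient.mk_eq_zero]
        exact Submodule.subset_span hk
      simp [LinearMap.baseChange_tmul, this]
    exact hle hy
  have hKK' : K = K' := by
    apply le_antisymm _ hK'K
    intro k hk
    have h1 : g (K'.mkQ k) = 0 := by
      simp only [g, Submodule.mkQ_apply, Submodule.liftQ_apply]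
      exact hk
    have h2 : K'.mkQ k = 0 := hginj (h1.trans (map_zero g).symm)
    rwa [Submodule.mkQ_apply, Submodule.Quotient.mk_eq_zero] at h2
  apply Module.finitePresentation_of_surjective f₀ hf₀
  rw [← hK, hKK']
  exact Submodule.fg_span (Finset.finite_toSet T')

theorem algFinitePresentation_of_tensor (h : Pi1.UnivInjective R S) (A : Type u) [CommRing A]
    [Algebra R A] [Algebra.FinitePresentation S (S ⊗[R] A)] : Algebra.FinitePresentation R A := by
  classical
  have hft : Algebra.FiniteType R A := finiteType_of_tensor h A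
  obtain ⟨n, f, hf⟩ := Algebra.FiniteType.iff_quotient_mvPolynomial''.mp hft
  let fS : S ⊗[R] MvPolynomial (Fin n) R →ₐ[S] S ⊗[R] A := Algebra.TensorProduct.map (.id S S) f
  have hfS : Function.Surjective fS := LinearMap.lTensor_surjective S hf
  have hker : (RingHom.ker fS.toRingHom).FG :=
    Algebra.FinitePresentation.ker_fG_of_surjective fS hfS
  set I := RingHom.ker f.toRingHom with hI
  have hspan : RingHom.ker fS.toRingHom
      = Ideal.span ((fun k => (1 : S) ⊗ₜ[R] k) '' (I : Set (MvPolynomial (Fin n) R))) := by
    have h1 := Algebra.TensorProduct.lTensor_ker (A := S) f hf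
    have h2 : RingHom.ker fS.toRingHom = RingHom.ker (Algebra.TensorProduct.map (AlgHom.id R S) f) := by
      ext x
      simp only [RingHom.mem_ker]
      rfl
    rw [h2, h1, Ideal.map]
    rfl
  rw [hspan] at hker
  obtain ⟨T, hT1, hT2⟩ := (Submodule.fg_span_iff_fg_span_finset_subset _).mp hker
  obtain ⟨T', hT'I, rfl⟩ := Finset.subset_set_image_iff.mp hT1
  set I' : Ideal (MvPolynomial (Fin n) R) := Ideal.span (T' : Set (MvPolynomial (Fin n) R)) with hI'
  have hI'I : I' ≤ I := Ideal.span_le.mpr hT'I
  let g : (MvPolynomial (Fin n) R ⧸ I') →ₐ[R] A := Ideal.Quotient.liftₐ I' f (fun a ha => hI'I ha)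
  let mkS : S ⊗[R] MvPolynomial (Fin n) R →ₐ[S] S ⊗[R] (MvPolynomial (Fin n) R ⧸ I') :=
    Algebra.TensorProduct.map (.id S S) (Ideal.Quotient.mkₐ R I')
  have hginj : Function.Injective g := by
    apply injective_of_lTensor_injective h g.toLinearMap
    rw [injective_iff_map_eq_zero]
    intro x hx
    obtain ⟨y, rfl⟩ := LinearMap.lTensor_surjective S
      (show Function.Surjective (Ideal.Quotient.mkₐ R I').toLinearMap from
        Ideal.Quotient.mkₐ_surjective R I') x
    have hy : y ∈ RingHom.ker fS.toRingHom := by
      rw [RingHom.mem_ker]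
      have : (LinearMap.lTensor S g.toLinearMap)
          ((LinearMap.lTensor S (Ideal.Quotient.mkₐ R I').toLinearMap) y)
          = (LinearMap.lTensor S f.toLinearMap) y := by
        rw [← LinearMap.comp_apply, ← LinearMap.lTensor_comp]
        congr 2
      rw [this] at hx
      exact hx
    rw [hspan] at hy
    have hy' : y ∈ Ideal.span ((T'.image fun k => (1 : S) ⊗ₜ[R] k : Finset _) :
        Set (S ⊗[R] MvPolynomial (Fin n) R)) := by
      have := hT2
      change Ideal.span _ = Ideal.span _ at this
      rw [← this]; exact hy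
    have hle : Ideal.span ((T'.image fun k => (1 : S) ⊗ₜ[R] k : Finset _) :
        Set (S ⊗[R] MvPolynomial (Fin n) R)) ≤ RingHom.ker mkS.toRingHom := by
      rw [Ideal.span_le]
      intro z hz
      rw [Finset.coe_image] at hz
      obtain ⟨k, hk, rfl⟩ := hz
      have : Ideal.Quotient.mk I' k = 0 := by
        rw [Ideal.Quotient.eq_zero_iff_mem]
        exact Ideal.subset_span hk
      simp [mkS, this]
    exact hle hy'
  have hII' : I = I' := by
    apply le_antisymm _ hI'I
    intro k hk
    have h1 : g (Ideal.Quotient.mk I' k) = 0 := by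
      simp only [g, Ideal.Quotient.liftₐ_apply, Ideal.Quotient.lift_mk]
      exact hk
    have h2 : Ideal.Quotient.mk I' k = 0 := hginj (h1.trans (map_zero g).symm)
    rwa [Ideal.Quotient.eq_zero_iff_mem] at h2
  apply Algebra.FinitePresentation.of_surjective hf
  rw [← hI, hII']
  exact ⟨T', rfl⟩

section Flat

theorem exists_section (h : Pi1.UnivInjective R S) :
    ∃ τ : CharacterModule R →ₗ[R] CharacterModule S,
      ∀ (χ : CharacterModule R) (r : R), τ χ (algebraMap R S r) = χ r := by
  have hinj := h (CharacterModule R)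
  have hsurj := CharacterModule.dual_surjective_of_injective _ hinj
  let c₀ : CharacterModule (CharacterModule R ⊗[R] R) :=
    CharacterModule.uncurry (LinearMap.id : CharacterModule R →ₗ[R] CharacterModule R)
  obtain ⟨c, hc⟩ := hsurj c₀
  refine ⟨CharacterModule.curry c, ?_⟩
  intro χ r
  have := congrArg (fun d => d (χ ⊗ₜ[R] r)) hc
  exact this

/-- the natural map `C(X) → C(S ⊗ X)` induced by a section `τ`. -/
noncomputable def sigma (τ : CharacterModule R →ₗ[R] CharacterModule S)
    (X : Type u) [AddCommGroup X] [Module R X] :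
    CharacterModule X →ₗ[R] CharacterModule (S ⊗[R] X) :=
  CharacterModule.dual (TensorProduct.comm R S X).toLinearMap ∘ₗ CharacterModule.uncurry ∘ₗ
    LinearMap.compRight R τ ∘ₗ CharacterModule.curry ∘ₗ
    CharacterModule.dual (TensorProduct.rid R X).toLinearMap

theorem sigma_tmul (τ : CharacterModule R →ₗ[R] CharacterModule S)
    (X : Type u) [AddCommGroup X] [Module R X] (χ : CharacterModule X) (s : S) (x : X) :
    sigma τ X χ (s ⊗ₜ[R] x) =
      τ (CharacterModule.curry (CharacterModule.dual (TensorProduct.rid R X).toLinearMap χ) x) s := by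
  rfl

theorem theta_apply (X : Type u) [AddCommGroup X] [Module R X] (χ : CharacterModule X) (x : X)
    (r : R) :
    (CharacterModule.curry (CharacterModule.dual (TensorProduct.rid R X).toLinearMap χ) x) r
      = χ (r • x) := by
  show χ ((TensorProduct.rid R X) (x ⊗ₜ[R] r)) = _
  rw [TensorProduct.rid_tmul]

theorem sigma_one_tmul (τ : CharacterModule R →ₗ[R] CharacterModule S)
    (hτ : ∀ (χ : CharacterModule R) (r : R), τ χ (algebraMap R S r) = χ r)
    (X : Type u) [AddCommGroup X] [Module R X] (χ : CharacterModule X) (x : X) :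
    sigma τ X χ ((1 : S) ⊗ₜ[R] x) = χ x := by
  rw [sigma_tmul, ← map_one (algebraMap R S), hτ, theta_apply, one_smul]

theorem sigma_natural (τ : CharacterModule R →ₗ[R] CharacterModule S)
    {X Y : Type u} [AddCommGroup X] [Module R X] [AddCommGroup Y] [Module R Y] (q : X →ₗ[R] Y)
    (χ : CharacterModule Y) (z : S ⊗[R] X) :
    sigma τ X (CharacterModule.dual q χ) z = sigma τ Y χ (q.lTensor S z) := by
  induction z using TensorProduct.induction_on with
  | zero => simp
  | tmul s x =>
    rw [LinearMap.lTensor_tmul, sigma_tmul, sigma_tmul]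
    congr 2
    ext r
    rw [theta_apply, theta_apply]
    show χ (q (r • x)) = _
    rw [map_smul]
  | add a b ha hb => rw [map_add, map_add, map_add, ha, hb]

theorem flat_of_tensor (h : Pi1.UnivInjective R S) (M : Type u) [AddCommGroup M] [Module R M]
    [Module.Flat S (S ⊗[R] M)] : Module.Flat R M := by
  obtain ⟨τ, hτ⟩ := exists_section h
  rw [Module.Flat.iff_characterModule_baer]
  -- free cover
  let F := M →₀ R
  let q : F →ₗ[R] M := Finsupp.linearCombination R id
  have hq : Function.Surjective q := Finsupp.linearCombination_id_surjective R M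
  have hBaerF : Module.Baer R (CharacterModule F) :=
    Module.Flat.iff_characterModule_baer.mp inferInstance
  -- S-linear retraction
  have hinjS : Module.Injective S (CharacterModule (S ⊗[R] M)) :=
    Module.Flat.iff_characterModule_injective.mp inferInstance
  let qS : S ⊗[R] F →ₗ[S] S ⊗[R] M := q.baseChange S
  have hqS : Function.Surjective qS := LinearMap.lTensor_surjective S hq
  obtain ⟨ρ, hρ⟩ := hinjS.out (CharacterModule.dual qS)
    (CharacterModule.dual_injective_of_surjective qS hqS) LinearMap.id
  -- R-linear retraction r : C(F) → C(M)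
  let ev : CharacterModule (S ⊗[R] M) →ₗ[R] CharacterModule M :=
    CharacterModule.dual (TensorProduct.mk R S M 1)
  have hsmul : ∀ (a : R) (c : CharacterModule (S ⊗[R] F)), a • c = (algebraMap R S a) • c := by
    intro a c
    ext z
    simp only [CharacterModule.smul_apply]
    rw [algebraMap_smul]
  have hsmul' : ∀ (a : R) (c : CharacterModule (S ⊗[R] M)), a • c = (algebraMap R S a) • c := by
    intro a c
    ext z
    simp only [CharacterModule.smul_apply]
    rw [algebraMap_smul]
  let r : CharacterModule F →ₗ[R] CharacterModule M :=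
    { toFun := fun χ => ev (ρ (sigma τ F χ))
      map_add' := fun χ χ' => by simp only [map_add]
      map_smul' := fun a χ => by
        simp only [map_smul, RingHom.id_apply]
        rw [hsmul, map_smul, ← hsmul', map_smul] }
  have hri : ∀ χ : CharacterModule M, r (CharacterModule.dual q χ) = χ := by
    intro χ
    have h1 : sigma τ F (CharacterModule.dual q χ) = CharacterModule.dual qS (sigma τ M χ) := by
      ext z
      rw [sigma_natural]
      rfl
    show ev (ρ (sigma τ F (CharacterModule.dual q χ))) = χ
    rw [h1, hρ]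
    ext x
    simp only [LinearMap.id_apply]
    show sigma τ M χ ((1 : S) ⊗ₜ[R] x) = χ x
    exact sigma_one_tmul τ hτ M χ x
  intro I g
  obtain ⟨g'', hg''⟩ := hBaerF I (CharacterModule.dual q ∘ₗ g)
  refine ⟨r ∘ₗ g'', fun x mem => ?_⟩
  rw [LinearMap.comp_apply, hg'' x mem, LinearMap.comp_apply, hri]

end Flat

open KaehlerDifferential in
theorem etale_of_tensor (h : Pi1.UnivInjective R S) (A : Type u) [CommRing A] [Algebra R A]
    [Algebra.Etale S (S ⊗[R] A)] : Algebra.Etale R A := by
  have hfp : Algebra.FinitePresentation R A := algFinitePresentation_of_tensor h A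
  have hflatS : Module.Flat S (S ⊗[R] A) := inferInstance
  have hflat : Module.Flat R A := flat_of_tensor h A
  have hunr : Algebra.FormallyUnramified R A := by
    constructor
    let _ : Algebra A (S ⊗[R] A) := Algebra.TensorProduct.rightAlgebra
    have : Subsingleton (S ⊗[R] Ω[A⁄R]) :=
      (KaehlerDifferential.tensorKaehlerEquivBase R S A (S ⊗[R] A)).subsingleton
    exact subsingleton_of_tensor h _
  exact Algebra.Etale.of_formallyUnramified_of_flat

end Groth.Agent.Lib27.Pure
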