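import Mathlib.Algebra.Category.Ring.Constructions
import Mathlib.CategoryTheory.Limits.Shapes.Pullback.IsPullback.Basic

/-!
# A pushout of commutative rings is generated by the images of the two legs
-/

set_option autoImplicit false
universe u

open CategoryTheory Limits

namespace Groth.Agent.Lib27.PushoutGen

theorem eq_top_of_isPushout {R A B P : CommRingCat.{u}} {f : R ⟶ A} {g : R ⟶ B}
    {inl : A ⟶ P} {inr : B ⟶ P} (h : IsPushout f g inl inr) (S : Subring P)
    (hA : ∀ a, inl.hom a ∈ S) (hB : ∀ b, inr.hom b ∈ S) : S = ⊤ := by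
  let inl' : A ⟶ CommRingCat.of S := CommRingCat.ofHom (inl.hom.codRestrict S hA)
  let inr' : B ⟶ CommRingCat.of S := CommRingCat.ofHom (inr.hom.codRestrict S hB)
  have compat : f ≫ inl' = g ≫ inr' := by
    ext r
    exact congrArg (fun k => k.hom r) h.w
  let d : P ⟶ CommRingCat.of S := h.desc inl' inr' compat
  have hd : d ≫ CommRingCat.ofHom S.subtype = 𝟙 P := by
    apply h.hom_ext
    · rw [← Category.assoc, h.inl_desc]
      ext a
      rfl
    · rw [← Category.assoc, h.inr_desc]
      ext b
      rfl
  rw [eq_top_iff]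
  intro x _
  have hx : (d ≫ CommRingCat.ofHom S.subtype).hom x = x := by rw [hd]; rfl
  rw [← hx]
  exact (d.hom x).2

end Groth.Agent.Lib27.PushoutGen
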