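import Mathlib
import Groth.Prelude.Def_GrSyz

/-!
# Mapping cone of multiplication by an element on a matrix complex (block matrices)
-/

set_option autoImplicit false

namespace Groth.Agent.Lib27.RegC

open scoped Pointwise

section Blk

variable {R : Type*} [CommRing R]

/-- the matrix `[A | y·1]`. -/
def rowM {n b : ℕ} (A : Matrix (Fin n) (Fin b) R) (y : R) : Matrix (Fin n) (Fin (b + n)) R :=
  fun i => Fin.append (A i) (fun j => if i = j then y else 0)

/-- the matrix `[[A, y·1], [0, -B]]`. -/
def blkM {a b c : ℕ} (A : Matrix (Fin a) (Fin b) R) (B : Matrix (Fin c) (Fin a) R) (y : R) :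
    Matrix (Fin (a + c)) (Fin (b + a)) R :=
  Fin.append (fun i => Fin.append (A i) (fun j => if i = j then y else 0))
    (fun i => Fin.append (fun _ => 0) (fun j => -(B i j)))

lemma rowM_mulVec {n b : ℕ} (A : Matrix (Fin n) (Fin b) R) (y : R) (w : Fin (b + n) → R) :
    (rowM A y).mulVec w =
      A.mulVec (fun j => w (Fin.castAdd n j)) + y • (fun j => w (Fin.natAdd b j)) := by
  funext i
  simp only [Matrix.mulVec, dotProduct, rowM, Fin.sum_univ_add, Fin.append_left, Fin.append_right,
    Pi.add_apply, Pi.smul_apply, smul_eq_mul]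
  congr 1
  simp [ite_mul]

lemma blkM_mulVec {a b c : ℕ} (A : Matrix (Fin a) (Fin b) R) (B : Matrix (Fin c) (Fin a) R)
    (y : R) (w : Fin (b + a) → R) :
    (blkM A B y).mulVec w =
      Fin.append (A.mulVec (fun j => w (Fin.castAdd a j)) + y • (fun j => w (Fin.natAdd b j)))
        (-(B.mulVec (fun j => w (Fin.natAdd b j)))) := by
  funext i
  refine Fin.addCases (fun i' => ?_) (fun i' => ?_) i
  · simp only [Matrix.mulVec, dotProduct, blkM, Fin.sum_univ_add, Fin.append_left,
      Fin.append_right, Pi.add_apply, Pi.smul_apply, smul_eq_mul]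
    congr 1
    simp [ite_mul]
  · simp only [Matrix.mulVec, dotProduct, blkM, Fin.sum_univ_add, Fin.append_left,
      Fin.append_right, Pi.neg_apply]
    simp

lemma append_split {m n : ℕ} (w : Fin (m + n) → R) :
    Fin.append (fun j => w (Fin.castAdd n j)) (fun j => w (Fin.natAdd m j)) = w :=
  Fin.append_castAdd_natAdd

theorem mem_range_blk {a b b' : ℕ} (A : Matrix (Fin a) (Fin b) R)
    (A' : Matrix (Fin b) (Fin b') R) (y : R)
    (hA : LinearMap.ker A.mulVecLin = LinearMap.range A'.mulVecLin)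
    (w : Fin (b + a) → R)
    (h1 : A.mulVec (fun j => w (Fin.castAdd a j)) + y • (fun j => w (Fin.natAdd b j)) = 0)
    (h2 : (fun j => w (Fin.natAdd b j)) ∈ LinearMap.range A.mulVecLin) :
    w ∈ LinearMap.range (blkM A' A y).mulVecLin := by
  obtain ⟨v, hv⟩ := h2
  rw [Matrix.mulVecLin_apply] at hv
  have hker : (fun j => w (Fin.castAdd a j)) + y • v ∈ LinearMap.ker A.mulVecLin := by
    rw [LinearMap.mem_ker, Matrix.mulVecLin_apply, Matrix.mulVec_add, Matrix.mulVec_smul, hv]
    exact h1
  rw [hA] at hker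
  obtain ⟨u, hu⟩ := hker
  rw [Matrix.mulVecLin_apply] at hu
  refine ⟨Fin.append u (-v), ?_⟩
  rw [Matrix.mulVecLin_apply, blkM_mulVec]
  have e1 : (fun j => Fin.append u (-v) (Fin.castAdd b j)) = u := by
    funext j; exact Fin.append_left _ _ j
  have e2 : (fun j => Fin.append u (-v) (Fin.natAdd b' j)) = -v := by
    funext j; exact Fin.append_right _ _ j
  rw [e1, e2, hu, Matrix.mulVec_neg, neg_neg, hv, smul_neg, add_neg_cancel_right]
  exact append_split w

lemma blk_comp_zero {a b b' : ℕ} (A : Matrix (Fin a) (Fin b) R)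
    (A' : Matrix (Fin b) (Fin b') R) (y : R)
    (hA : LinearMap.ker A.mulVecLin = LinearMap.range A'.mulVecLin)
    (U : Fin (b' + b) → R) :
    A.mulVec (fun j => (blkM A' A y).mulVec U (Fin.castAdd a j)) +
      y • (fun j => (blkM A' A y).mulVec U (Fin.natAdd b j)) = 0 := by
  rw [blkM_mulVec]
  have e1 : (fun j => Fin.append
      (A'.mulVec (fun j => U (Fin.castAdd b j)) + y • (fun j => U (Fin.natAdd b' j)))
      (-(A.mulVec (fun j => U (Fin.natAdd b' j)))) (Fin.castAdd a j)) =
      A'.mulVec (fun j => U (Fin.castAdd b j)) + y • (fun j => U (Fin.natAdd b' j)) := by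
    funext j; exact Fin.append_left _ _ j
  have e2 : (fun j => Fin.append
      (A'.mulVec (fun j => U (Fin.castAdd b j)) + y • (fun j => U (Fin.natAdd b' j)))
      (-(A.mulVec (fun j => U (Fin.natAdd b' j)))) (Fin.natAdd b j)) =
      -(A.mulVec (fun j => U (Fin.natAdd b' j))) := by
    funext j; exact Fin.append_right _ _ j
  rw [e1, e2]
  have h0 : A.mulVec (A'.mulVec (fun j => U (Fin.castAdd b j))) = 0 := by
    have : A'.mulVecLin (fun j => U (Fin.castAdd b j)) ∈ LinearMap.ker A.mulVecLin := by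
      rw [hA]; exact ⟨_, rfl⟩
    rw [LinearMap.mem_ker, Matrix.mulVecLin_apply, Matrix.mulVecLin_apply] at this
    exact this
  rw [Matrix.mulVec_add, h0, zero_add, Matrix.mulVec_smul, smul_neg, add_neg_cancel]

/-- exactness at the first spot of the cone. -/
theorem ker_rowM {n b b' : ℕ} (A : Matrix (Fin n) (Fin b) R)
    (A' : Matrix (Fin b) (Fin b') R) (y : R)
    (hA : LinearMap.ker A.mulVecLin = LinearMap.range A'.mulVecLin)
    (hreg : ∀ v : Fin n → R, y • v ∈ LinearMap.range A.mulVecLin →
      v ∈ LinearMap.range A.mulVecLin) :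
    LinearMap.ker (rowM A y).mulVecLin = LinearMap.range (blkM A' A y).mulVecLin := by
  apply le_antisymm
  · intro w hw
    rw [LinearMap.mem_ker, Matrix.mulVecLin_apply, rowM_mulVec] at hw
    refine mem_range_blk A A' y hA w hw (hreg _ ?_)
    refine ⟨-(fun j => w (Fin.castAdd n j)), ?_⟩
    rw [Matrix.mulVecLin_apply, Matrix.mulVec_neg]
    exact (eq_neg_of_add_eq_zero_right hw).symm
  · rintro _ ⟨U, rfl⟩
    rw [LinearMap.mem_ker, Matrix.mulVecLin_apply, Matrix.mulVecLin_apply, rowM_mulVec]
    exact blk_comp_zero A A' y hA U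

/-- exactness at the later spots of the cone. -/
theorem ker_blkM {a b c b' : ℕ} (A : Matrix (Fin a) (Fin b) R) (B : Matrix (Fin c) (Fin a) R)
    (A' : Matrix (Fin b) (Fin b') R) (y : R)
    (hA : LinearMap.ker A.mulVecLin = LinearMap.range A'.mulVecLin)
    (hB : LinearMap.ker B.mulVecLin = LinearMap.range A.mulVecLin) :
    LinearMap.ker (blkM A B y).mulVecLin = LinearMap.range (blkM A' A y).mulVecLin := by
  apply le_antisymm
  · intro w hw
    rw [LinearMap.mem_ker, Matrix.mulVecLin_apply, blkM_mulVec] at hw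
    have h1 : A.mulVec (fun j => w (Fin.castAdd a j)) + y • (fun j => w (Fin.natAdd b j)) = 0 := by
      funext i
      have := congrFun hw (Fin.castAdd c i)
      rw [Fin.append_left] at this
      exact this
    have h2 : B.mulVec (fun j => w (Fin.natAdd b j)) = 0 := by
      funext i
      have := congrFun hw (Fin.natAdd a i)
      rw [Fin.append_right] at this
      simpa using this
    refine mem_range_blk A A' y hA w h1 ?_
    rw [← hB, LinearMap.mem_ker, Matrix.mulVecLin_apply]
    exact h2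
  · rintro _ ⟨U, rfl⟩
    rw [LinearMap.mem_ker, Matrix.mulVecLin_apply, Matrix.mulVecLin_apply, blkM_mulVec]
    rw [blk_comp_zero A A' y hA U]
    have h0 : B.mulVec (fun j => (blkM A' A y).mulVec U (Fin.natAdd b j)) = 0 := by
      rw [blkM_mulVec]
      have e2 : (fun j => Fin.append
          (A'.mulVec (fun j => U (Fin.castAdd b j)) + y • (fun j => U (Fin.natAdd b' j)))
          (-(A.mulVec (fun j => U (Fin.natAdd b' j)))) (Fin.natAdd b j)) =
          -(A.mulVec (fun j => U (Fin.natAdd b' j))) := by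
        funext j; exact Fin.append_right _ _ j
      rw [e2, Matrix.mulVec_neg]
      have : A.mulVecLin (fun j => U (Fin.natAdd b' j)) ∈ LinearMap.ker B.mulVecLin := by
        rw [hB]; exact ⟨_, rfl⟩
      rw [LinearMap.mem_ker, Matrix.mulVecLin_apply, Matrix.mulVecLin_apply] at this
      rw [this, neg_zero]
    rw [h0, neg_zero]
    funext i
    refine Fin.addCases (fun i' => ?_) (fun i' => ?_) i
    · rw [Fin.append_left]; rfl
    · rw [Fin.append_right]; rfl

/-- the image of the first map of the cone. -/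
theorem range_rowM {n b : ℕ} (A : Matrix (Fin n) (Fin b) R) (y : R) :
    LinearMap.range (rowM A y).mulVecLin =
      LinearMap.range A.mulVecLin ⊔ y • (⊤ : Submodule R (Fin n → R)) := by
  apply le_antisymm
  · rintro _ ⟨w, rfl⟩
    rw [Matrix.mulVecLin_apply, rowM_mulVec]
    refine Submodule.add_mem_sup ⟨_, rfl⟩ ?_
    exact Submodule.smul_mem_pointwise_smul _ y ⊤ Submodule.mem_top
  · refine sup_le ?_ ?_
    · rintro _ ⟨v, rfl⟩
      refine ⟨Fin.append v 0, ?_⟩
      rw [Matrix.mulVecLin_apply, Matrix.mulVecLin_apply, rowM_mulVec]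
      have e1 : (fun j => Fin.append v (0 : Fin n → R) (Fin.castAdd n j)) = v := by
        funext j; exact Fin.append_left _ _ j
      have e2 : (fun j => Fin.append v (0 : Fin n → R) (Fin.natAdd b j)) = 0 := by
        funext j; exact Fin.append_right _ _ j
      rw [e1, e2, smul_zero, add_zero]
    · intro x hx
      obtain ⟨v, -, rfl⟩ := (Submodule.mem_smul_pointwise_iff_exists _ _ _).1 hx
      refine ⟨Fin.append 0 v, ?_⟩
      rw [Matrix.mulVecLin_apply, rowM_mulVec]
      have e1 : (fun j => Fin.append (0 : Fin b → R) v (Fin.castAdd n j)) = 0 := by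
        funext j; exact Fin.append_left _ _ j
      have e2 : (fun j => Fin.append (0 : Fin b → R) v (Fin.natAdd b j)) = v := by
        funext j; exact Fin.append_right _ _ j
      rw [e1, e2, Matrix.mulVec_zero, zero_add]

lemma blkM_mem_ideal {a b c : ℕ} (A : Matrix (Fin a) (Fin b) R) (B : Matrix (Fin c) (Fin a) R)
    (y : R) (𝔪 : Ideal R) (hy : y ∈ 𝔪) (hA : ∀ i j, A i j ∈ 𝔪) (hB : ∀ i j, B i j ∈ 𝔪)
    (i : Fin (a + c)) (j : Fin (b + a)) : blkM A B y i j ∈ 𝔪 := by
  refine Fin.addCases (fun i' => ?_) (fun i' => ?_) i <;>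
    refine Fin.addCases (fun j' => ?_) (fun j' => ?_) j <;>
    simp only [blkM, Fin.append_left, Fin.append_right]
  · exact hA _ _
  · split_ifs
    · exact hy
    · exact zero_mem _
  · exact zero_mem _
  · exact neg_mem (hB _ _)

lemma rowM_mem_ideal {n b : ℕ} (A : Matrix (Fin n) (Fin b) R)
    (y : R) (𝔪 : Ideal R) (hy : y ∈ 𝔪) (hA : ∀ i j, A i j ∈ 𝔪)
    (i : Fin n) (j : Fin (b + n)) : rowM A y i j ∈ 𝔪 := by
  refine Fin.addCases (fun j' => ?_) (fun j' => ?_) j <;>
    simp only [rowM, Fin.append_left, Fin.append_right]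
  · exact hA _ _
  · split_ifs
    · exact hy
    · exact zero_mem _

end Blk

section Graded

variable {k : Type*} [CommRing k] {S : Type*} [CommRing S] [Algebra k S]
  (𝒜 : ℤ → Submodule k S)

lemma blkM_mem {a b c : ℕ} (A : Matrix (Fin a) (Fin b) S) (B : Matrix (Fin c) (Fin a) S)
    (y : S) (e : ℤ) (hy : y ∈ 𝒜 e) (dr : Fin a → ℤ) (dc : Fin b → ℤ) (dB : Fin c → ℤ)
    (hA : ∀ i j, A i j ∈ 𝒜 (dc j - dr i)) (hB : ∀ i j, B i j ∈ 𝒜 (dr j - dB i))
    (i : Fin (a + c)) (j : Fin (b + a)) :
    blkM A B y i j ∈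
      𝒜 (Fin.append dc (fun t => dr t + e) j - Fin.append dr (fun t => dB t + e) i) := by
  refine Fin.addCases (fun i' => ?_) (fun i' => ?_) i <;>
    refine Fin.addCases (fun j' => ?_) (fun j' => ?_) j <;>
    simp only [blkM, Fin.append_left, Fin.append_right]
  · exact hA _ _
  · split_ifs with h
    · subst h
      have : dr i' + e - dr i' = e := by ring
      rw [this]; exact hy
    · exact zero_mem _
  · exact zero_mem _
  · have : dr j' + e - (dB i' + e) = dr j' - dB i' := by ring
    rw [this]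
    exact neg_mem (hB _ _)

lemma rowM_mem {n b : ℕ} (A : Matrix (Fin n) (Fin b) S)
    (y : S) (e : ℤ) (hy : y ∈ 𝒜 e) (dr : Fin n → ℤ) (dc : Fin b → ℤ)
    (hA : ∀ i j, A i j ∈ 𝒜 (dc j - dr i))
    (i : Fin n) (j : Fin (b + n)) :
    rowM A y i j ∈ 𝒜 (Fin.append dc (fun t => dr t + e) j - dr i) := by
  refine Fin.addCases (fun j' => ?_) (fun j' => ?_) j <;>
    simp only [rowM, Fin.append_left, Fin.append_right]
  · exact hA _ _
  · split_ifs with h
    · subst h
      have : dr i + e - dr i = e := by ring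
      rw [this]; exact hy
    · exact zero_mem _

end Graded

end Groth.Agent.Lib27.RegC
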