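import Mathlib
import Groth.Prelude.Def_GrSyz
import Groth.Agent.Lib27.RegC1

/-!
# Iterated mapping cones along a weakly regular sequence
-/

set_option autoImplicit false

namespace Groth.Agent.Lib27.RegC

open scoped Pointwise

variable {k : Type*} [CommRing k] {S : Type*} [CommRing S] [Algebra k S]
  (𝒜 : ℤ → Submodule k S)

/-- an exact matrix complex ending at a fixed free module `Fin n0 → S` with degrees `deg0`. -/
structure ECx (n0 : ℕ) (deg0 : Fin n0 → ℤ) where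
  rk : ℕ → ℕ
  deg : (i : ℕ) → Fin (rk i) → ℤ
  d0 : Matrix (Fin n0) (Fin (rk 0)) S
  d : (i : ℕ) → Matrix (Fin (rk i)) (Fin (rk (i + 1))) S
  d0_mem : ∀ a b, d0 a b ∈ 𝒜 (deg 0 b - deg0 a)
  d_mem : ∀ i a b, d i a b ∈ 𝒜 (deg (i + 1) b - deg i a)
  exact0 : LinearMap.ker (Matrix.mulVecLin d0) = LinearMap.range (Matrix.mulVecLin (d 0))
  exact : ∀ i, LinearMap.ker (Matrix.mulVecLin (d i)) =
    LinearMap.range (Matrix.mulVecLin (d (i + 1)))

variable {𝒜} {n0 : ℕ} {deg0 : Fin n0 → ℤ}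

namespace ECx

def IsMin (C : ECx 𝒜 n0 deg0) (𝔪 : Ideal S) : Prop :=
  (∀ a b, C.d0 a b ∈ 𝔪) ∧ ∀ i a b, C.d i a b ∈ 𝔪

def GenLE (C : ECx 𝒜 n0 deg0) (d : ℤ) : Prop :=
  ∀ (i : ℕ) (b : Fin (C.rk i)), C.deg i b ≤ d + ((i : ℤ) + 1)

def coneRk (C : ECx 𝒜 n0 deg0) : ℕ → ℕ
  | 0 => C.rk 0 + n0
  | (i + 1) => C.rk (i + 1) + C.rk i

def coneDeg (C : ECx 𝒜 n0 deg0) (e : ℤ) : (i : ℕ) → Fin (C.coneRk i) → ℤ
  | 0 => Fin.append (C.deg 0) (fun b => deg0 b + e)
  | (i + 1) => Fin.append (C.deg (i + 1)) (fun b => C.deg i b + e)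

def coneD (C : ECx 𝒜 n0 deg0) (y : S) :
    (i : ℕ) → Matrix (Fin (C.coneRk i)) (Fin (C.coneRk (i + 1))) S
  | 0 => blkM (C.d 0) C.d0 y
  | (i + 1) => blkM (C.d (i + 1)) (C.d i) y

/-- the mapping cone of multiplication by `y` (homogeneous of degree `e`, a nonzerodivisor on
the cokernel of `d0`). -/
def cone (C : ECx 𝒜 n0 deg0) (y : S) (e : ℤ) (hy : y ∈ 𝒜 e)
    (hreg : ∀ v : Fin n0 → S, y • v ∈ LinearMap.range C.d0.mulVecLin →
      v ∈ LinearMap.range C.d0.mulVecLin) : ECx 𝒜 n0 deg0 where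
  rk := C.coneRk
  deg := C.coneDeg e
  d0 := rowM C.d0 y
  d := C.coneD y
  d0_mem a b := rowM_mem 𝒜 C.d0 y e hy deg0 (C.deg 0) C.d0_mem a b
  d_mem i a b := by
    cases i with
    | zero => exact blkM_mem 𝒜 (C.d 0) C.d0 y e hy (C.deg 0) (C.deg 1) deg0 (C.d_mem 0) C.d0_mem a b
    | succ i =>
      exact blkM_mem 𝒜 (C.d (i + 1)) (C.d i) y e hy (C.deg (i + 1)) (C.deg (i + 1 + 1)) (C.deg i)
        (C.d_mem (i + 1)) (C.d_mem i) a b
  exact0 := ker_rowM C.d0 (C.d 0) y C.exact0 hreg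
  exact i := by
    cases i with
    | zero => exact ker_blkM (C.d 0) C.d0 (C.d 1) y (C.exact 0) C.exact0
    | succ i => exact ker_blkM (C.d (i + 1)) (C.d i) (C.d (i + 1 + 1)) y (C.exact (i + 1)) (C.exact i)

lemma cone_isMin (C : ECx 𝒜 n0 deg0) (y : S) (e : ℤ) (hy : y ∈ 𝒜 e)
    (hreg : ∀ v : Fin n0 → S, y • v ∈ LinearMap.range C.d0.mulVecLin →
      v ∈ LinearMap.range C.d0.mulVecLin) (𝔪 : Ideal S) (hC : C.IsMin 𝔪) (hym : y ∈ 𝔪) :
    (C.cone y e hy hreg).IsMin 𝔪 := by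
  refine ⟨fun a b => rowM_mem_ideal C.d0 y 𝔪 hym hC.1 a b, fun i a b => ?_⟩
  cases i with
  | zero => exact blkM_mem_ideal (C.d 0) C.d0 y 𝔪 hym (hC.2 0) hC.1 a b
  | succ i => exact blkM_mem_ideal (C.d (i + 1)) (C.d i) y 𝔪 hym (hC.2 (i + 1)) (hC.2 i) a b

lemma cone_range (C : ECx 𝒜 n0 deg0) (y : S) (e : ℤ) (hy : y ∈ 𝒜 e)
    (hreg : ∀ v : Fin n0 → S, y • v ∈ LinearMap.range C.d0.mulVecLin →
      v ∈ LinearMap.range C.d0.mulVecLin) :
    LinearMap.range (C.cone y e hy hreg).d0.mulVecLin =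
      LinearMap.range C.d0.mulVecLin ⊔ y • (⊤ : Submodule S (Fin n0 → S)) :=
  range_rowM C.d0 y

lemma cone_genLE (C : ECx 𝒜 n0 deg0) (y : S) (hy : y ∈ 𝒜 1)
    (hreg : ∀ v : Fin n0 → S, y • v ∈ LinearMap.range C.d0.mulVecLin →
      v ∈ LinearMap.range C.d0.mulVecLin) (d : ℤ) (h0 : ∀ b, deg0 b ≤ d) :
    (C.cone y 1 hy hreg).GenLE d ↔ C.GenLE d := by
  constructor
  · intro h i b
    cases i with
    | zero =>
      have := h 0 (Fin.castAdd n0 b)
      simpa [cone, coneDeg] using this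
    | succ i =>
      have := h (i + 1) (Fin.castAdd (C.rk i) b)
      simpa [cone, coneDeg] using this
  · intro h i b
    cases i with
    | zero =>
      refine Fin.addCases (fun b' => ?_) (fun b' => ?_) b
      · have := h 0 b'
        simpa [cone, coneDeg] using this
      · have := h0 b'
        simp only [cone, coneDeg, Fin.append_right]
        push_cast
        omega
    | succ i =>
      refine Fin.addCases (fun b' => ?_) (fun b' => ?_) b
      · have := h (i + 1) b'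
        simpa [cone, coneDeg] using this
      · have := h i b'
        simp only [cone, coneDeg, Fin.append_right]
        push_cast
        omega

end ECx

open RingTheory.Sequence in
theorem exists_cone (𝔪 : Ideal S) (ys : List S) (hys : ∀ y ∈ ys, y ∈ 𝒜 1)
    (hm : ∀ y ∈ ys, y ∈ 𝔪) :
    ∀ (C : ECx 𝒜 n0 deg0), C.IsMin 𝔪 →
      IsWeaklyRegular ((Fin n0 → S) ⧸ LinearMap.range C.d0.mulVecLin) ys →
      ∃ C' : ECx 𝒜 n0 deg0, C'.IsMin 𝔪 ∧
        LinearMap.range C'.d0.mulVecLin =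
          LinearMap.range C.d0.mulVecLin ⊔ Ideal.ofList ys • (⊤ : Submodule S (Fin n0 → S)) ∧
        ∀ d : ℤ, (∀ b, deg0 b ≤ d) → (C'.GenLE d ↔ C.GenLE d) := by
  induction ys with
  | nil =>
    intro C hC _
    refine ⟨C, hC, ?_, fun d _ => Iff.rfl⟩
    rw [Ideal.ofList_nil, Submodule.bot_smul, sup_bot_eq]
  | cons y ys ih =>
    intro C hC hreg
    rw [isWeaklyRegular_cons_iff] at hreg
    obtain ⟨hy1, hrest⟩ := hreg
    have hy : y ∈ 𝒜 1 := hys y List.mem_cons_self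
    have hym : y ∈ 𝔪 := hm y List.mem_cons_self
    have hreg' : ∀ v : Fin n0 → S, y • v ∈ LinearMap.range C.d0.mulVecLin →
        v ∈ LinearMap.range C.d0.mulVecLin := by
      intro v hv
      rw [← Submodule.Quotient.mk_eq_zero] at hv ⊢
      rw [Submodule.Quotient.mk_smul] at hv
      exact hy1 (by show y • _ = y • _; rw [hv, smul_zero])
    set C₁ := C.cone y 1 hy hreg' with hC₁
    have hC₁min : C₁.IsMin 𝔪 := ECx.cone_isMin C y 1 hy hreg' 𝔪 hC hym
    have hrange : LinearMap.range C₁.d0.mulVecLin =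
        LinearMap.range C.d0.mulVecLin ⊔ y • (⊤ : Submodule S (Fin n0 → S)) :=
      ECx.cone_range C y 1 hy hreg'
    -- transfer weak regularity
    let K := LinearMap.range C.d0.mulVecLin
    let e : QuotSMulTop y ((Fin n0 → S) ⧸ K) ≃ₗ[S]
        ((Fin n0 → S) ⧸ LinearMap.range C₁.d0.mulVecLin) :=
      Submodule.quotEquivOfEq _ _ (by
          rw [Submodule.map_pointwise_smul, Submodule.map_top, Submodule.range_mkQ]) ≪≫ₗ
        Submodule.quotientQuotientEquivQuotientSup K (y • (⊤ : Submodule S (Fin n0 → S))) ≪≫ₗ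
        Submodule.quotEquivOfEq _ _ hrange.symm
    have hrest' : IsWeaklyRegular ((Fin n0 → S) ⧸ LinearMap.range C₁.d0.mulVecLin) ys :=
      (LinearEquiv.isWeaklyRegular_congr e ys).1 hrest
    obtain ⟨C', hC'min, hC'range, hC'gen⟩ :=
      ih (fun z hz => hys z (List.mem_cons_of_mem _ hz))
        (fun z hz => hm z (List.mem_cons_of_mem _ hz)) C₁ hC₁min hrest'
    refine ⟨C', hC'min, ?_, fun d hd => ?_⟩
    · rw [hC'range, hrange, Ideal.ofList_cons_smul, sup_assoc]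
    · rw [hC'gen d hd, hC₁]
      exact ECx.cone_genLE C y hy hreg' d hd

end Groth.Agent.Lib27.RegC
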