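import Mathlib
import Groth.Prelude.Def_GrSyz
import Groth.Prelude.Def_GrLC
import Groth.Agent.Lib27.RegC2
import Groth.Agent.Lib27.RegB
import Groth.Agent.Lib27.GrUniq4

/-!
# Regularity is unchanged modulo a weakly regular sequence of linear forms
-/

set_option autoImplicit false

universe u

namespace Groth.Agent.Lib27.RegC

open scoped Pointwise
open Groth.Agent.Lib27.GrMin Groth.Agent.Lib27.GrHilb

section General

variable {k : Type u} [CommRing k] {S : Type u} [CommRing S] [Algebra k S]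
  (𝒜 : ℤ → Submodule k S)
variable {M : Type u} [AddCommGroup M] [Module k M] [Module S M]
  (ℳ : ℤ → Submodule k M) [DirectSum.Decomposition ℳ] [SetLike.GradedSMul 𝒜 ℳ]

/-- the tail of a resolution as an `ECx`. -/
def ofRes (F : GrSyz.FreeRes 𝒜 ℳ) : ECx 𝒜 (F.rk 0) (F.deg 0) where
  rk i := F.rk (i + 1)
  deg i := F.deg (i + 1)
  d0 := F.d 0
  d i := F.d (i + 1)
  d0_mem := F.d_mem 0
  d_mem i := F.d_mem (i + 1)
  exact0 := F.exact_succ 0
  exact i := F.exact_succ (i + 1)

lemma ofRes_isMin (F : GrSyz.FreeRes 𝒜 ℳ) (𝔪 : Ideal S) (hF : F.IsMinimal 𝔪) :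
    (ofRes 𝒜 ℳ F).IsMin 𝔪 :=
  ⟨fun a b => hF 0 a b, fun i a b => hF (i + 1) a b⟩

lemma ofRes_genLE (F : GrSyz.FreeRes 𝒜 ℳ) (d : ℤ) :
    F.IsGenLE d ↔ (∀ b, F.deg 0 b ≤ d) ∧ (ofRes 𝒜 ℳ F).GenLE d := by
  constructor
  · intro h
    refine ⟨fun b => by simpa using h 0 b, fun i b => ?_⟩
    have := h (i + 1) b
    push_cast at this
    exact this
  · rintro ⟨h0, h⟩ i b
    cases i with
    | zero => simpa using h0 b
    | succ i =>
      have := h i b
      push_cast
      exact this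

variable {n0 : ℕ} {deg0 : Fin n0 → ℤ}

def toResRk (C : ECx 𝒜 n0 deg0) : ℕ → ℕ
  | 0 => n0
  | (i + 1) => C.rk i

def toResDeg (C : ECx 𝒜 n0 deg0) : (i : ℕ) → Fin (toResRk 𝒜 C i) → ℤ
  | 0 => deg0
  | (i + 1) => C.deg i

def toResD (C : ECx 𝒜 n0 deg0) :
    (i : ℕ) → Matrix (Fin (toResRk 𝒜 C i)) (Fin (toResRk 𝒜 C (i + 1))) S
  | 0 => C.d0
  | (i + 1) => C.d i

/-- a resolution from an `ECx` and an augmentation. -/
def toRes (C : ECx 𝒜 n0 deg0) (aug : Fin n0 → M) (haug : ∀ b, aug b ∈ ℳ (deg0 b))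
    (hsurj : Function.Surjective (Fintype.linearCombination S aug))
    (hker : LinearMap.ker (Fintype.linearCombination S aug) = LinearMap.range C.d0.mulVecLin) :
    GrSyz.FreeRes 𝒜 ℳ where
  rk := toResRk 𝒜 C
  deg := toResDeg 𝒜 C
  d := toResD 𝒜 C
  aug := aug
  d_mem i a b := by
    cases i with
    | zero => exact C.d0_mem a b
    | succ i => exact C.d_mem i a b
  aug_mem := haug
  aug_surjective := hsurj
  exact_zero := hker
  exact_succ i := by
    cases i with
    | zero => exact C.exact0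
    | succ i => exact C.exact i

lemma toRes_isMinimal (C : ECx 𝒜 n0 deg0) (aug : Fin n0 → M) (haug : ∀ b, aug b ∈ ℳ (deg0 b))
    (hsurj : Function.Surjective (Fintype.linearCombination S aug))
    (hker : LinearMap.ker (Fintype.linearCombination S aug) = LinearMap.range C.d0.mulVecLin)
    (𝔪 : Ideal S) (hC : C.IsMin 𝔪) :
    (toRes 𝒜 ℳ C aug haug hsurj hker).IsMinimal 𝔪 := by
  intro i a b
  cases i with
  | zero => exact hC.1 a b
  | succ i => exact hC.2 i a b

lemma toRes_genLE (C : ECx 𝒜 n0 deg0) (aug : Fin n0 → M) (haug : ∀ b, aug b ∈ ℳ (deg0 b))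
    (hsurj : Function.Surjective (Fintype.linearCombination S aug))
    (hker : LinearMap.ker (Fintype.linearCombination S aug) = LinearMap.range C.d0.mulVecLin)
    (d : ℤ) :
    (toRes 𝒜 ℳ C aug haug hsurj hker).IsGenLE d ↔ (∀ b, deg0 b ≤ d) ∧ C.GenLE d := by
  constructor
  · intro h
    refine ⟨fun b => ?_, fun i b => ?_⟩
    · have := h 0 b
      rw [Nat.cast_zero, add_zero] at this
      exact this
    · have := h (i + 1) b
      push_cast at this
      exact this
  · rintro ⟨h0, h⟩ i b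
    cases i with
    | zero =>
      rw [Nat.cast_zero, add_zero]
      exact h0 b
    | succ i =>
      have := h i b
      push_cast
      exact this

end General

section Poly

variable (k : Type u) [Field k] (r : ℕ)
  {M : Type u} [AddCommGroup M] [Module k M] [Module (MvPolynomial (Fin (r + 1)) k) M]
  [Module.Finite (MvPolynomial (Fin (r + 1)) k) M]
  (ℳ : ℤ → Submodule k M) [DirectSum.Decomposition ℳ]
  [SetLike.GradedSMul (GrSyz.stdGr k (Fin (r + 1))) ℳ]
  {N : Type u} [AddCommGroup N] [Module k N] [Module (MvPolynomial (Fin (r + 1)) k) N]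
  (𝒩 : ℤ → Submodule k N) [DirectSum.Decomposition 𝒩]
  [SetLike.GradedSMul (GrSyz.stdGr k (Fin (r + 1))) 𝒩]

open RingTheory.Sequence in
theorem isRegLE_iff_quot (ys : List (MvPolynomial (Fin (r + 1)) k))
    (hys : ∀ y ∈ ys, y ∈ GrSyz.stdGr k (Fin (r + 1)) 1)
    (hreg : IsWeaklyRegular M ys)
    (π : M →ₗ[MvPolynomial (Fin (r + 1)) k] N) (hπ : Function.Surjective π)
    (hπg : GrLC.IsGrHom ℳ 𝒩 π)
    (hker : LinearMap.ker π =
      Ideal.ofList ys • (⊤ : Submodule (MvPolynomial (Fin (r + 1)) k) M)) (d : ℤ) :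
    GrSyz.IsRegLE (GrSyz.stdGr k (Fin (r + 1))) ℳ
        (GrSyz.irrel (GrSyz.stdGr k (Fin (r + 1)))).toIdeal d ↔
      GrSyz.IsRegLE (GrSyz.stdGr k (Fin (r + 1))) 𝒩
        (GrSyz.irrel (GrSyz.stdGr k (Fin (r + 1)))).toIdeal d := by
  obtain ⟨F, hF⟩ := exists_freeRes_isMinimal_gen (GrSyz.stdGr k (Fin (r + 1)))
    (GrSyz.irrel (GrSyz.stdGr k (Fin (r + 1)))).toIdeal (isUnit_cmp_zero k r) ℳ
  set C := ofRes (GrSyz.stdGr k (Fin (r + 1))) ℳ F with hCdef
  have hCmin := ofRes_isMin (GrSyz.stdGr k (Fin (r + 1))) ℳ F _ hF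
  -- weak regularity on the cokernel
  let e₁ : M ≃ₗ[MvPolynomial (Fin (r + 1)) k]
      ((Fin (F.rk 0) → MvPolynomial (Fin (r + 1)) k) ⧸ LinearMap.range C.d0.mulVecLin) :=
    (F.augLin.quotKerEquivOfSurjective F.aug_surjective).symm ≪≫ₗ
      Submodule.quotEquivOfEq _ _ F.exact_zero
  have hreg' : IsWeaklyRegular
      ((Fin (F.rk 0) → MvPolynomial (Fin (r + 1)) k) ⧸ LinearMap.range C.d0.mulVecLin) ys :=
    (LinearEquiv.isWeaklyRegular_congr e₁ ys).1 hreg
  obtain ⟨C', hC'min, hC'range, hC'gen⟩ :=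
    exists_cone (GrSyz.irrel (GrSyz.stdGr k (Fin (r + 1)))).toIdeal ys hys
      (fun y hy => mem_irrel_of_hom_ne k r (hys y hy) one_ne_zero) C hCmin hreg'
  -- the new augmentation
  have hlc : Fintype.linearCombination (MvPolynomial (Fin (r + 1)) k) (fun b => π (F.aug b)) =
      π ∘ₗ F.augLin := by
    ext v
    simp [Fintype.linearCombination_apply, map_sum]
  have hsurj : Function.Surjective
      (Fintype.linearCombination (MvPolynomial (Fin (r + 1)) k) (fun b => π (F.aug b))) := by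
    rw [hlc]
    exact hπ.comp F.aug_surjective
  have hker' : LinearMap.ker
      (Fintype.linearCombination (MvPolynomial (Fin (r + 1)) k) (fun b => π (F.aug b))) =
      LinearMap.range C'.d0.mulVecLin := by
    rw [hC'range, hlc, LinearMap.ker_comp, hker]
    apply le_antisymm
    · intro v hv
      rw [Submodule.mem_comap] at hv
      have htop : (⊤ : Submodule (MvPolynomial (Fin (r + 1)) k) M) =
          Submodule.map F.augLin ⊤ := by
        rw [Submodule.map_top, LinearMap.range_eq_top.2 F.aug_surjective]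
      rw [htop, ← Submodule.map_smul''] at hv
      obtain ⟨u, hu, huv⟩ := hv
      have hvu : v - u ∈ LinearMap.range C.d0.mulVecLin := by
        have : v - u ∈ LinearMap.ker F.augLin := by
          rw [LinearMap.mem_ker, map_sub, huv, sub_self]
        rw [F.exact_zero] at this
        exact this
      have : v = (v - u) + u := by abel
      rw [this]
      exact Submodule.add_mem_sup hvu hu
    · refine sup_le ?_ ?_
      · intro v hv
        have : v ∈ LinearMap.ker F.augLin := by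
          rw [F.exact_zero]; exact hv
        rw [Submodule.mem_comap, LinearMap.mem_ker.1 this]
        exact zero_mem _
      · exact Submodule.smul_top_le_comap_smul_top _ _
  set G := toRes (GrSyz.stdGr k (Fin (r + 1))) 𝒩 C' (fun b => π (F.aug b))
    (fun b => hπg _ _ (F.aug_mem b)) hsurj hker' with hGdef
  have hGmin : G.IsMinimal (GrSyz.irrel (GrSyz.stdGr k (Fin (r + 1)))).toIdeal :=
    toRes_isMinimal _ _ _ _ _ _ _ _ hC'min
  have hGgen : G.IsGenLE d ↔ (∀ b, F.deg 0 b ≤ d) ∧ C'.GenLE d := toRes_genLE _ _ _ _ _ _ _ d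
  have hFgen : F.IsGenLE d ↔ (∀ b, F.deg 0 b ≤ d) ∧ C.GenLE d := ofRes_genLE _ _ F d
  constructor
  · rintro ⟨F', hF', hgen⟩
    have h1 := poly_isGenLE k r ℳ F F' hF hF' d hgen
    rw [hFgen] at h1
    refine ⟨G, hGmin, hGgen.2 ⟨h1.1, (hC'gen d h1.1).2 h1.2⟩⟩
  · rintro ⟨G', hG', hgen⟩
    have h1 := poly_isGenLE k r 𝒩 G G' hGmin hG' d hgen
    rw [hGgen] at h1
    refine ⟨F, hF, hFgen.2 ⟨h1.1, (hC'gen d h1.1).1 h1.2⟩⟩

theorem reg_eq_endDeg_quot [IsScalarTower k (MvPolynomial (Fin (r + 1)) k) N]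
    [Module.Finite (MvPolynomial (Fin (r + 1)) k) N]
    (ys : List (MvPolynomial (Fin (r + 1)) k))
    (hys : ∀ y ∈ ys, y ∈ GrSyz.stdGr k (Fin (r + 1)) 1)
    (hreg : RingTheory.Sequence.IsWeaklyRegular M ys)
    (π : M →ₗ[MvPolynomial (Fin (r + 1)) k] N) (hπ : Function.Surjective π)
    (hπg : GrLC.IsGrHom ℳ 𝒩 π)
    (hker : LinearMap.ker π =
      Ideal.ofList ys • (⊤ : Submodule (MvPolynomial (Fin (r + 1)) k) M))
    (hN : IsFiniteLength (MvPolynomial (Fin (r + 1)) k) N) :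
    GrSyz.reg (GrSyz.stdGr k (Fin (r + 1))) ℳ
        (GrSyz.irrel (GrSyz.stdGr k (Fin (r + 1)))).toIdeal =
      GrLC.endDeg (fun n => (𝒩 n).toAddSubgroup) := by
  rw [← Groth.Agent.Lib27.RegA.reg_eq_endDeg k r 𝒩 hN]
  unfold GrSyz.reg
  simp only [isRegLE_iff_quot k r ℳ 𝒩 ys hys hreg π hπ hπg hker]

end Poly

end Groth.Agent.Lib27.RegC
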