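import Mathlib
import Groth.Prelude.Def_GrSyz
import Groth.Prelude.Def_GrLC
import Groth.Agent.Lib27.RegB

/-!
# A lower bound for the length of a graded module over a polynomial ring
-/

set_option autoImplicit false

universe u

namespace Groth.Agent.Lib27.RegD

open MvPolynomial Groth.Agent.Lib27.GrMin Groth.Agent.Lib27.GrHilb Groth.Agent.Lib27.RegA

variable (k : Type u) [Field k] (r : ℕ)
  {N : Type u} [AddCommGroup N] [Module k N] [Module (MvPolynomial (Fin (r + 1)) k) N]
  [IsScalarTower k (MvPolynomial (Fin (r + 1)) k) N]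
  (𝒩 : ℤ → Submodule k N) [DirectSum.Decomposition 𝒩]
  [SetLike.GradedSMul (GrSyz.stdGr k (Fin (r + 1))) 𝒩]

/-- elements supported in degrees `≥ j` whose degree `j` part lies in `V`. -/
def geSubV (j : ℤ) (V : Submodule k N) : Submodule (MvPolynomial (Fin (r + 1)) k) N where
  carrier := {y | (∀ j', j' < j → (projToM 𝒩 j' y : N) = 0) ∧ (projToM 𝒩 j y : N) ∈ V}
  zero_mem' := ⟨fun j' _ => by simp, by simp⟩
  add_mem' := fun {x y} hx hy => ⟨fun j' hj' => by
    rw [map_add, Submodule.coe_add, hx.1 j' hj', hy.1 j' hj', add_zero], by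
    rw [map_add, Submodule.coe_add]
    exact V.add_mem hx.2 hy.2⟩
  smul_mem' := by
    intro s y hy
    classical
    have key : ∀ j' : ℤ, (projToM 𝒩 j' (s • y) : N) =
        ∑ e ∈ (DirectSum.decompose (GrSyz.stdGr k (Fin (r + 1))) s).support,
          ((DirectSum.decompose (GrSyz.stdGr k (Fin (r + 1))) s e :
            MvPolynomial (Fin (r + 1)) k)) • (projToM 𝒩 (j' - e) y : N) := by
      intro j'
      conv_lhs => rw [← DirectSum.sum_support_decompose (GrSyz.stdGr k (Fin (r + 1))) s,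
        Finset.sum_smul, map_sum, AddSubmonoidClass.coe_finset_sum]
      refine Finset.sum_congr rfl fun e _ => ?_
      exact (modGrStr (GrSyz.stdGr k (Fin (r + 1))) 𝒩).π_smul e j' _ y (SetLike.coe_mem _)
    refine ⟨fun j' hj' => ?_, ?_⟩
    · rw [key]
      refine Finset.sum_eq_zero fun e _ => ?_
      by_cases he : e < 0
      · rw [stdGr_neg k r e he _ (SetLike.coe_mem _), zero_smul]
      · rw [hy.1 (j' - e) (by omega), smul_zero]
    · rw [key]
      refine Submodule.sum_mem _ fun e _ => ?_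
      by_cases he : e < 0
      · rw [stdGr_neg k r e he _ (SetLike.coe_mem _), zero_smul]
        exact zero_mem _
      · by_cases he0 : e = 0
        · subst he0
          have h0 : ((DirectSum.decompose (GrSyz.stdGr k (Fin (r + 1))) s 0 :
              MvPolynomial (Fin (r + 1)) k)) = C (coeff 0 ((DirectSum.decompose
                (GrSyz.stdGr k (Fin (r + 1))) s 0 : MvPolynomial (Fin (r + 1)) k))) := by
            have h1 := cmp_zero_eq k r ((DirectSum.decompose
                (GrSyz.stdGr k (Fin (r + 1))) s 0 : MvPolynomial (Fin (r + 1)) k))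
            rw [cmp_of_mem _ (SetLike.coe_mem _)] at h1
            exact h1
          rw [h0, sub_zero, ← MvPolynomial.algebraMap_eq, algebraMap_smul]
          exact V.smul_mem _ hy.2
        · rw [hy.1 (j - e) (by omega), smul_zero]
          exact zero_mem _

lemma geSubV_mono (j : ℤ) {V V' : Submodule k N} (h : V ≤ V') :
    geSubV k r 𝒩 j V ≤ geSubV k r 𝒩 j V' :=
  fun _ hy => ⟨hy.1, h hy.2⟩

lemma geSubV_succ_le (j : ℤ) (V : Submodule k N) :
    geSubV k r 𝒩 (j + 1) ⊤ ≤ geSubV k r 𝒩 j V := by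
  intro y hy
  refine ⟨fun j' hj' => hy.1 j' (by omega), ?_⟩
  rw [hy.1 j (by omega)]
  exact zero_mem _

lemma mem_geSubV_of_mem {j : ℤ} {V : Submodule k N} {y : N} (hy : y ∈ 𝒩 j) (hV : y ∈ V) :
    y ∈ geSubV k r 𝒩 j V := by
  refine ⟨fun j' hj' => projToM_of_mem_ne 𝒩 hy (by omega), ?_⟩
  rw [projToM_of_mem 𝒩 hy]
  exact hV

/-- the height jumps by at least the dimension of the piece. -/
theorem height_piece (j : ℤ) [Module.Finite k ↥(𝒩 j)] :
    Order.height (geSubV k r 𝒩 j ⊥) + (Module.finrank k ↥(𝒩 j) : ℕ∞) ≤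
      Order.height (geSubV k r 𝒩 j ⊤) := by
  classical
  set m := Module.finrank k ↥(𝒩 j) with hm
  let b := Module.finBasis k ↥(𝒩 j)
  let v : Fin m → N := fun q => (b q : N)
  have hv : LinearIndependent k v :=
    b.linearIndependent.map' (𝒩 j).subtype (Submodule.ker_subtype _)
  let V : ℕ → Submodule k N := fun p => Submodule.span k (v '' {q | q.val < p})
  have hstep : ∀ p : ℕ, p ≤ m →
      Order.height (geSubV k r 𝒩 j ⊥) + (p : ℕ∞) ≤ Order.height (geSubV k r 𝒩 j (V p)) := by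
    intro p
    induction p with
    | zero =>
      intro _
      rw [Nat.cast_zero, add_zero]
      exact Order.height_mono (geSubV_mono k r 𝒩 j bot_le)
    | succ p ih =>
      intro hp
      have hlt : geSubV k r 𝒩 j (V p) < geSubV k r 𝒩 j (V (p + 1)) := by
        refine lt_of_le_of_ne (geSubV_mono k r 𝒩 j (Submodule.span_mono
          (Set.image_mono fun q (hq : q.val < p) => show q.val < p + 1 by omega))) ?_
        intro heq
        have h1 : v ⟨p, hp⟩ ∈ geSubV k r 𝒩 j (V (p + 1)) :=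
          mem_geSubV_of_mem k r 𝒩 (b ⟨p, hp⟩).2
            (Submodule.subset_span ⟨⟨p, hp⟩, show p < p + 1 by omega, rfl⟩)
        rw [← heq] at h1
        have h2 := h1.2
        rw [projToM_of_mem 𝒩 (b ⟨p, hp⟩).2] at h2
        exact hv.notMem_span_image (s := {q | q.val < p}) (x := ⟨p, hp⟩)
          (by simp) h2
      calc Order.height (geSubV k r 𝒩 j ⊥) + ((p + 1 : ℕ) : ℕ∞)
          = Order.height (geSubV k r 𝒩 j ⊥) + (p : ℕ∞) + 1 := by
            rw [Nat.cast_add, Nat.cast_one, add_assoc]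
        _ ≤ Order.height (geSubV k r 𝒩 j (V p)) + 1 := by
            gcongr
            exact ih (by omega)
        _ ≤ Order.height (geSubV k r 𝒩 j (V (p + 1))) := Order.height_add_one_le hlt
  exact le_trans (hstep m le_rfl) (Order.height_mono (geSubV_mono k r 𝒩 j le_top))

/-- a run of `n` nonzero pieces starting at `a` forces height at least `n`. -/
theorem height_run [∀ j, Module.Finite k ↥(𝒩 j)] (n : ℕ) :
    ∀ a : ℤ, (∀ i, a ≤ i → i < a + n → 𝒩 i ≠ ⊥) →
      (n : ℕ∞) ≤ Order.height (geSubV k r 𝒩 a ⊤) := by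
  induction n with
  | zero => intro a _; simp
  | succ n ih =>
    intro a ha
    have h1 := ih (a + 1) (fun i hi hi' => ha i (by omega) (by push_cast; omega))
    have h2 := height_piece k r 𝒩 a
    have h3 : (1 : ℕ∞) ≤ (Module.finrank k ↥(𝒩 a) : ℕ∞) := by
      have : 0 < Module.finrank k ↥(𝒩 a) := by
        rw [Nat.pos_iff_ne_zero]
        intro h0
        exact ha a le_rfl (by push_cast; omega) (Submodule.finrank_eq_zero.1 h0)
      exact_mod_cast this
    calc ((n + 1 : ℕ) : ℕ∞) = (n : ℕ∞) + 1 := by push_cast; rfl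
      _ ≤ Order.height (geSubV k r 𝒩 (a + 1) ⊤) + (Module.finrank k ↥(𝒩 a) : ℕ∞) := by
          gcongr
      _ ≤ Order.height (geSubV k r 𝒩 a ⊥) + (Module.finrank k ↥(𝒩 a) : ℕ∞) := by
          gcongr
          exact geSubV_succ_le k r 𝒩 a ⊥
      _ ≤ _ := h2

theorem length_ge [∀ j, Module.Finite k ↥(𝒩 j)] (n : ℕ)
    (hne : ∀ i : ℤ, 2 ≤ i → i < 2 + n → 𝒩 i ≠ ⊥) :
    (n : ℕ∞) + (Module.finrank k ↥(𝒩 1) : ℕ∞) + (Module.finrank k ↥(𝒩 0) : ℕ∞) ≤
      Module.length (MvPolynomial (Fin (r + 1)) k) N := by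
  have h2 := height_run k r 𝒩 n 2 hne
  have h1 := height_piece k r 𝒩 1
  have h0 := height_piece k r 𝒩 0
  rw [Module.length_eq_height]
  calc (n : ℕ∞) + (Module.finrank k ↥(𝒩 1) : ℕ∞) + (Module.finrank k ↥(𝒩 0) : ℕ∞)
      ≤ Order.height (geSubV k r 𝒩 (1 + 1) ⊤) + (Module.finrank k ↥(𝒩 1) : ℕ∞) +
          (Module.finrank k ↥(𝒩 0) : ℕ∞) := by
        gcongr
        exact h2
    _ ≤ Order.height (geSubV k r 𝒩 1 ⊥) + (Module.finrank k ↥(𝒩 1) : ℕ∞) +
          (Module.finrank k ↥(𝒩 0) : ℕ∞) := by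
        gcongr
        exact geSubV_succ_le k r 𝒩 1 ⊥
    _ ≤ Order.height (geSubV k r 𝒩 (0 + 1) ⊤) + (Module.finrank k ↥(𝒩 0) : ℕ∞) := by
        gcongr
        exact h1
    _ ≤ Order.height (geSubV k r 𝒩 0 ⊥) + (Module.finrank k ↥(𝒩 0) : ℕ∞) := by
        gcongr
        exact geSubV_succ_le k r 𝒩 0 ⊥
    _ ≤ Order.height (geSubV k r 𝒩 0 ⊤) := h0
    _ ≤ Order.height (⊤ : Submodule (MvPolynomial (Fin (r + 1)) k) N) :=
        Order.height_mono le_top

end Groth.Agent.Lib27.RegD
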