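import Mathlib
import Groth.Prelude.Def_GrSyz
import Groth.Prelude.Def_GrLC
import Groth.Agent.Lib27.RegD1
import Groth.Agent.Lib27.RegC3

/-!
# Cyclic graded modules and the bound `reg + codim ≤ length`
-/

set_option autoImplicit false

universe u

namespace Groth.Agent.Lib27.RegD

open MvPolynomial Groth.Agent.Lib27.GrMin Groth.Agent.Lib27.GrHilb Groth.Agent.Lib27.RegA

section Comm

variable {k : Type*} [CommRing k] {S : Type*} [CommRing S] [Algebra k S]
variable {A : Type*} [AddCommGroup A] [Module k A] [Module S A]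
  (𝒜' : ℤ → Submodule k A) [DirectSum.Decomposition 𝒜']
variable {B : Type*} [AddCommGroup B] [Module k B] [Module S B]
  (ℬ : ℤ → Submodule k B) [DirectSum.Decomposition ℬ]

lemma proj_comm (f : A →ₗ[S] B) (hf : ∀ (g : ℤ) (m : A), m ∈ 𝒜' g → f m ∈ ℬ g) (j : ℤ) (x : A) :
    (projToM ℬ j (f x) : B) = f (projToM 𝒜' j x : A) := by
  classical
  conv_lhs => rw [← DirectSum.sum_support_decompose 𝒜' x, map_sum, map_sum,
    AddSubmonoidClass.coe_finset_sum]
  have : ∀ i ∈ (DirectSum.decompose 𝒜' x).support,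
      (projToM ℬ j (f (DirectSum.decompose 𝒜' x i : A)) : B) =
        if i = j then f (DirectSum.decompose 𝒜' x i : A) else 0 := by
    intro i _
    have hmem : f (DirectSum.decompose 𝒜' x i : A) ∈ ℬ i := hf i _ (SetLike.coe_mem _)
    split_ifs with h
    · subst h; exact projToM_of_mem ℬ hmem
    · exact projToM_of_mem_ne ℬ hmem h
  rw [Finset.sum_congr rfl this, Finset.sum_ite_eq']
  split_ifs with h
  · rfl
  · rw [DFinsupp.notMem_support_iff] at h
    rw [projToM_coe, h]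
    simp

end Comm

section Cyclic

variable (k : Type u) [Field k] (r : ℕ)
  {N : Type u} [AddCommGroup N] [Module k N] [Module (MvPolynomial (Fin (r + 1)) k) N]
  [IsScalarTower k (MvPolynomial (Fin (r + 1)) k) N]
  (𝒩 : ℤ → Submodule k N) [DirectSum.Decomposition 𝒩]
  [SetLike.GradedSMul (GrSyz.stdGr k (Fin (r + 1))) 𝒩]
  (τ : MvPolynomial (Fin (r + 1)) k →ₗ[MvPolynomial (Fin (r + 1)) k] N)
  (hτ : Function.Surjective τ)
  (hτg : ∀ (g : ℤ) (s : MvPolynomial (Fin (r + 1)) k), s ∈ GrSyz.stdGr k (Fin (r + 1)) g →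
    τ s ∈ 𝒩 g)

include hτ hτg

lemma exists_hom_preimage (j : ℤ) (n : N) (hn : n ∈ 𝒩 j) :
    ∃ s ∈ GrSyz.stdGr k (Fin (r + 1)) j, τ s = n := by
  obtain ⟨s', rfl⟩ := hτ n
  refine ⟨(projToM (GrSyz.stdGr k (Fin (r + 1))) j s' : MvPolynomial (Fin (r + 1)) k),
    SetLike.coe_mem _, ?_⟩
  rw [← proj_comm (GrSyz.stdGr k (Fin (r + 1))) 𝒩 τ hτg j s', projToM_of_mem 𝒩 hn]

lemma piece_neg (j : ℤ) (hj : j < 0) : 𝒩 j = ⊥ := by
  rw [eq_bot_iff]
  intro n hn
  obtain ⟨s, hs, rfl⟩ := exists_hom_preimage k r 𝒩 τ hτ hτg j n hn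
  rw [stdGr_neg k r j hj s hs, map_zero]
  exact zero_mem _

lemma piece_succ (j : ℤ) (hj : 0 ≤ j) (h0 : 𝒩 j = ⊥) : 𝒩 (j + 1) = ⊥ := by
  classical
  rw [eq_bot_iff]
  intro n hn
  obtain ⟨s, hs, rfl⟩ := exists_hom_preimage k r 𝒩 τ hτ hτg (j + 1) n hn
  rw [Submodule.mem_bot, ← MvPolynomial.support_sum_monomial_coeff s, map_sum]
  refine Finset.sum_eq_zero fun μ hμ => ?_
  have hc : coeff μ s ≠ 0 := MvPolynomial.mem_support_iff.1 hμ
  have hw : Finsupp.weight (fun _ : Fin (r + 1) => (1 : ℤ)) μ = j + 1 := hs hc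
  have hμ0 : μ ≠ 0 := by
    rintro rfl
    rw [map_zero] at hw
    omega
  obtain ⟨i, hi⟩ : ∃ i, μ i ≠ 0 := by
    by_contra hcon
    push Not at hcon
    exact hμ0 (Finsupp.ext hcon)
  have hle : Finsupp.single i 1 ≤ μ := by
    intro i'
    by_cases hii : i' = i
    · subst hii
      rw [Finsupp.single_eq_same]
      omega
    · rw [Finsupp.single_eq_of_ne hii]
      exact Nat.zero_le _
  have hμeq : μ = Finsupp.single i 1 + (μ - Finsupp.single i 1) := (add_tsub_cancel_of_le hle).symm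
  have hw' : Finsupp.weight (fun _ : Fin (r + 1) => (1 : ℤ)) (μ - Finsupp.single i 1) = j := by
    have := hw
    rw [hμeq, map_add, Finsupp.weight_single, one_smul] at this
    omega
  have hq : monomial (μ - Finsupp.single i 1) (coeff μ s) ∈ GrSyz.stdGr k (Fin (r + 1)) j :=
    MvPolynomial.isWeightedHomogeneous_monomial _ _ _ hw'
  have hq0 : τ (monomial (μ - Finsupp.single i 1) (coeff μ s)) = 0 := by
    have := hτg j _ hq
    rw [h0] at this
    exact (Submodule.mem_bot k).1 this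
  have hmon : monomial μ (coeff μ s) =
      X i * monomial (μ - Finsupp.single i 1) (coeff μ s) := by
    have := monomial_single_add (n := i) (e := 1) (s := μ - Finsupp.single i 1) (a := coeff μ s)
    rw [add_tsub_cancel_of_le hle, pow_one] at this
    exact this
  rw [hmon, ← smul_eq_mul, map_smul, hq0, smul_zero]

lemma piece_eq_bot_add (j : ℤ) (hj : 0 ≤ j) (h0 : 𝒩 j = ⊥) (n : ℕ) : 𝒩 (j + n) = ⊥ := by
  induction n with
  | zero => simpa using h0
  | succ n ih =>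
    have := piece_succ k r 𝒩 τ hτ hτg (j + n) (by omega) ih
    rw [show j + ((n + 1 : ℕ) : ℤ) = j + n + 1 by push_cast; ring]
    exact this

lemma piece_ne_bot_of_le (j : ℤ) (hne : 𝒩 j ≠ ⊥) (i : ℤ) (hi : 0 ≤ i) (hij : i ≤ j) :
    𝒩 i ≠ ⊥ := by
  intro h0
  apply hne
  have := piece_eq_bot_add k r 𝒩 τ hτ hτg i hi h0 (j - i).toNat
  rw [show i + ((j - i).toNat : ℤ) = j by omega] at this
  exact this

lemma nonneg_of_piece_ne_bot (j : ℤ) (hne : 𝒩 j ≠ ⊥) : 0 ≤ j := by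
  by_contra h
  exact hne (piece_neg k r 𝒩 τ hτ hτg j (by omega))

lemma piece_finite (j : ℤ) : Module.Finite k ↥(𝒩 j) := by
  let ψ : ↥(GrSyz.stdGr k (Fin (r + 1)) j) →ₗ[k] ↥(𝒩 j) :=
    LinearMap.codRestrict (𝒩 j)
      ((τ.restrictScalars k).comp (GrSyz.stdGr k (Fin (r + 1)) j).subtype)
      (fun s => hτg j _ s.2)
  refine Module.Finite.of_surjective ψ ?_
  rintro ⟨n, hn⟩
  obtain ⟨s, hs, rfl⟩ := exists_hom_preimage k r 𝒩 τ hτ hτg j n hn
  exact ⟨⟨s, hs⟩, rfl⟩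

end Cyclic

section Lin

variable (k : Type u) [Field k] (r : ℕ)
  {M : Type u} [AddCommGroup M] [Module k M] [Module (MvPolynomial (Fin (r + 1)) k) M]
  [IsScalarTower k (MvPolynomial (Fin (r + 1)) k) M]
  (ℳ : ℤ → Submodule k M) [DirectSum.Decomposition ℳ]
  [SetLike.GradedSMul (GrSyz.stdGr k (Fin (r + 1))) ℳ]
  (π : MvPolynomial (Fin (r + 1)) k →ₗ[MvPolynomial (Fin (r + 1)) k] M)
  (hπ : Function.Surjective π)
  (hπg : ∀ (g : ℤ) (s : MvPolynomial (Fin (r + 1)) k), s ∈ GrSyz.stdGr k (Fin (r + 1)) g →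
    π s ∈ ℳ g)

include hπ hπg

lemma piece_zero (m : M) (hm : m ∈ ℳ 0) : ∃ c : k, m = c • π 1 := by
  obtain ⟨s, hs, rfl⟩ := exists_hom_preimage k r ℳ π hπ hπg 0 m hm
  have h1 := cmp_zero_eq k r s
  rw [cmp_of_mem _ hs] at h1
  refine ⟨coeff 0 s, ?_⟩
  conv_lhs => rw [h1, ← mul_one (C (coeff 0 s)), ← smul_eq_mul, map_smul,
    ← MvPolynomial.algebraMap_eq, algebraMap_smul]

lemma lin_ker (hlin : ∀ x : MvPolynomial (Fin (r + 1)) k, x ∈ GrSyz.stdGr k (Fin (r + 1)) 1 →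
      π x = 0 → x = 0)
    (ys : List (MvPolynomial (Fin (r + 1)) k))
    (hys : ∀ y ∈ ys, y ∈ GrSyz.stdGr k (Fin (r + 1)) 1)
    (s : MvPolynomial (Fin (r + 1)) k) (hs : s ∈ GrSyz.stdGr k (Fin (r + 1)) 1)
    (hmem : π s ∈ Ideal.ofList ys • (⊤ : Submodule (MvPolynomial (Fin (r + 1)) k) M)) :
    s ∈ Submodule.span k {y | y ∈ ys} := by
  set Y : Submodule k (MvPolynomial (Fin (r + 1)) k) := Submodule.span k {y | y ∈ ys} with hY
  have step1 : ∀ a ∈ Ideal.ofList ys, ∀ m : M,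
      (projToM ℳ 1 (a • m) : M) ∈ Submodule.map (π.restrictScalars k) Y := by
    intro a ha
    unfold Ideal.ofList at ha
    induction ha using Submodule.span_induction with
    | mem y hy =>
      intro m
      have h1 : (projToM ℳ 1 (y • m) : M) = y • (projToM ℳ (1 - 1) m : M) :=
        (modGrStr (GrSyz.stdGr k (Fin (r + 1))) ℳ).π_smul 1 1 y m (hys y hy)
      obtain ⟨c, hc⟩ := piece_zero k r ℳ π hπ hπg (projToM ℳ (1 - 1) m : M)
        (by rw [sub_self]; exact SetLike.coe_mem _)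
      refine ⟨c • y, Y.smul_mem c (Submodule.subset_span hy), ?_⟩
      rw [h1, hc, LinearMap.restrictScalars_apply]
      have e1 : π (c • y) = c • π y := LinearMap.map_smul_of_tower π c y
      have e2 : y • π 1 = π y := by rw [← LinearMap.map_smul, smul_eq_mul, mul_one]
      rw [e1, smul_comm y c, e2]
    | zero =>
      intro m
      rw [zero_smul, map_zero]
      exact zero_mem _
    | add a b _ _ iha ihb =>
      intro m
      rw [add_smul, map_add, Submodule.coe_add]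
      exact add_mem (iha m) (ihb m)
    | smul s' a _ iha =>
      intro m
      rw [smul_eq_mul, mul_comm, mul_smul]
      exact iha (s' • m)
  have step2 : ∀ x ∈ Ideal.ofList ys • (⊤ : Submodule (MvPolynomial (Fin (r + 1)) k) M),
      (projToM ℳ 1 x : M) ∈ Submodule.map (π.restrictScalars k) Y := by
    intro x hx
    refine Submodule.smul_induction_on
      (p := fun x => (projToM ℳ 1 x : M) ∈ Submodule.map (π.restrictScalars k) Y) hx ?_ ?_
    · intro a ha m _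
      exact step1 a ha m
    · intro x y hx hy
      rw [map_add, Submodule.coe_add]
      exact add_mem hx hy
  have h3 := step2 _ hmem
  rw [projToM_of_mem ℳ (hπg 1 s hs)] at h3
  obtain ⟨y', hy', hyeq⟩ := h3
  rw [LinearMap.restrictScalars_apply] at hyeq
  have hYle : Y ≤ GrSyz.stdGr k (Fin (r + 1)) 1 := Submodule.span_le.2 fun y hy => hys y hy
  have h0 : s - y' = 0 := by
    apply hlin _ (sub_mem hs (hYle hy'))
    rw [map_sub, hyeq, sub_self]
  rw [sub_eq_zero.1 h0]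
  exact hy'

end Lin

section Main

variable (k : Type u) [Field k] (r : ℕ)
  {M : Type u} [AddCommGroup M] [Module k M] [Module (MvPolynomial (Fin (r + 1)) k) M]
  [IsScalarTower k (MvPolynomial (Fin (r + 1)) k) M]
  (ℳ : ℤ → Submodule k M) [DirectSum.Decomposition ℳ]
  [SetLike.GradedSMul (GrSyz.stdGr k (Fin (r + 1))) ℳ]
  (π : MvPolynomial (Fin (r + 1)) k →ₗ[MvPolynomial (Fin (r + 1)) k] M)
  (hπ : Function.Surjective π)
  (hπg : ∀ (g : ℤ) (s : MvPolynomial (Fin (r + 1)) k), s ∈ GrSyz.stdGr k (Fin (r + 1)) g →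
    π s ∈ ℳ g)
  (hlin : ∀ x : MvPolynomial (Fin (r + 1)) k, x ∈ GrSyz.stdGr k (Fin (r + 1)) 1 →
      π x = 0 → x = 0)
  (ys : List (MvPolynomial (Fin (r + 1)) k))
  (hys : ∀ y ∈ ys, y ∈ GrSyz.stdGr k (Fin (r + 1)) 1)
  {N : Type u} [AddCommGroup N] [Module k N] [Module (MvPolynomial (Fin (r + 1)) k) N]
  [IsScalarTower k (MvPolynomial (Fin (r + 1)) k) N]
  (𝒩 : ℤ → Submodule k N) [DirectSum.Decomposition 𝒩]
  [SetLike.GradedSMul (GrSyz.stdGr k (Fin (r + 1))) 𝒩]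
  (σ : M →ₗ[MvPolynomial (Fin (r + 1)) k] N) (hσ : Function.Surjective σ)
  (hσg : ∀ (g : ℤ) (m : M), m ∈ ℳ g → σ m ∈ 𝒩 g)
  (hker : LinearMap.ker σ =
    Ideal.ofList ys • (⊤ : Submodule (MvPolynomial (Fin (r + 1)) k) M))

include hπ hπg hlin hys hσ hσg hker

lemma finrank_piece_one_ge :
    (r : ℤ) + 1 - (ys.length : ℤ) ≤ (Module.finrank k ↥(𝒩 1) : ℤ) := by
  have hτ : Function.Surjective (σ ∘ₗ π) := hσ.comp hπ
  have hτg : ∀ (g : ℤ) (s : MvPolynomial (Fin (r + 1)) k),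
      s ∈ GrSyz.stdGr k (Fin (r + 1)) g → (σ ∘ₗ π) s ∈ 𝒩 g :=
    fun g s hs => hσg g _ (hπg g s hs)
  let ψ : ↥(GrSyz.stdGr k (Fin (r + 1)) 1) →ₗ[k] N :=
    ((σ ∘ₗ π).restrictScalars k).comp (GrSyz.stdGr k (Fin (r + 1)) 1).subtype
  have hrange : LinearMap.range ψ = 𝒩 1 := by
    apply le_antisymm
    · rintro _ ⟨s, rfl⟩
      exact hτg 1 _ s.2
    · intro n hn
      obtain ⟨s, hs, rfl⟩ := exists_hom_preimage k r 𝒩 (σ ∘ₗ π) hτ hτg 1 n hn
      exact ⟨⟨s, hs⟩, rfl⟩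
  set Y : Submodule k (MvPolynomial (Fin (r + 1)) k) := Submodule.span k {y | y ∈ ys} with hY
  have hkerψ : Submodule.map (GrSyz.stdGr k (Fin (r + 1)) 1).subtype (LinearMap.ker ψ) ≤ Y := by
    rintro _ ⟨s, hs, rfl⟩
    have h1 : σ (π (s : MvPolynomial (Fin (r + 1)) k)) = 0 := LinearMap.mem_ker.1 hs
    have h2 : π (s : MvPolynomial (Fin (r + 1)) k) ∈ LinearMap.ker σ := LinearMap.mem_ker.2 h1
    rw [hker] at h2
    exact lin_ker k r ℳ π hπ hπg hlin ys hys _ s.2 h2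
  have hYfin : Module.Finite k ↥Y := by
    rw [hY, ← Set.range_list_get]
    exact FiniteDimensional.span_of_finite k (Set.finite_range _)
  have hYrank : Module.finrank k ↥Y ≤ ys.length := by
    have := finrank_range_le_card (R := k) (fun i : Fin ys.length => ys.get i)
    rw [Set.finrank, Set.range_list_get, Fintype.card_fin] at this
    exact this
  have h1 := LinearMap.finrank_range_add_finrank_ker ψ
  have hS1 := finrank_stdGr_natCast k r 1
  rw [Nat.cast_one, Nat.choose_succ_self_right] at hS1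
  rw [hrange, hS1] at h1
  have h2 : Module.finrank k ↥(LinearMap.ker ψ) ≤ ys.length := by
    rw [← Submodule.finrank_map_subtype_eq]
    exact le_trans (Submodule.finrank_mono hkerψ) hYrank
  omega

theorem bound (j : ℤ) (hj : 𝒩 j ≠ ⊥) :
    ((((j + ((r : ℤ) + 1 - (ys.length : ℤ)) : ℤ)).toNat : ℕ) : ℕ∞) ≤
      Module.length (MvPolynomial (Fin (r + 1)) k) N := by
  have hτ : Function.Surjective (σ ∘ₗ π) := hσ.comp hπ
  have hτg : ∀ (g : ℤ) (s : MvPolynomial (Fin (r + 1)) k),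
      s ∈ GrSyz.stdGr k (Fin (r + 1)) g → (σ ∘ₗ π) s ∈ 𝒩 g :=
    fun g s hs => hσg g _ (hπg g s hs)
  haveI : ∀ j, Module.Finite k ↥(𝒩 j) := piece_finite k r 𝒩 (σ ∘ₗ π) hτ hτg
  have hj0 : 0 ≤ j := nonneg_of_piece_ne_bot k r 𝒩 (σ ∘ₗ π) hτ hτg j hj
  have hlen := length_ge k r 𝒩 (j - 1).toNat (fun i hi hi' =>
    piece_ne_bot_of_le k r 𝒩 (σ ∘ₗ π) hτ hτg j hj i (by omega) (by omega))
  have hm := finrank_piece_one_ge k r ℳ π hπ hπg hlin ys hys 𝒩 σ hσ hσg hker
  have h0 : 0 < Module.finrank k ↥(𝒩 0) := by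
    rw [Nat.pos_iff_ne_zero]
    intro h
    exact piece_ne_bot_of_le k r 𝒩 (σ ∘ₗ π) hτ hτg j hj 0 le_rfl hj0
      (Submodule.finrank_eq_zero.1 h)
  refine le_trans ?_ hlen
  have : (j + ((r : ℤ) + 1 - (ys.length : ℤ))).toNat ≤
      (j - 1).toNat + Module.finrank k ↥(𝒩 1) + Module.finrank k ↥(𝒩 0) := by
    omega
  exact_mod_cast this

end Main

end Groth.Agent.Lib27.RegD
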