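import Groth.Agent.Lib27.CMReg4
import Groth.Agent.Lib27.Kos1

/-!
# Castelnuovo–Mumford regularity along short exact sequences
-/

set_option autoImplicit false
set_option linter.unusedSectionVars false
set_option linter.unusedVariables false
set_option linter.style.haveILetI false
universe u

namespace Groth.Agent.Lib27.RegSES

open GrLC Groth.Agent.Lib.Helper11.GrLes Groth.Agent.Lib.Helper11.GrCan Groth.Agent.Lib27.GrMin
  Groth.Agent.Lib.Helper11.GrConv Groth.Agent.Lib27.LD Groth.Agent.Lib.Helper11.GrLCLib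
  Groth.Agent.Lib27.CMReg Groth.Agent.Lib27.Kos

section Zero

variable {R : Type u} [CommRing R] {𝒜 : ℤ → AddSubgroup R} [GradedRing 𝒜]
variable {M : Type u} [AddCommGroup M] [Module R M] {ℳ : ℤ → AddSubgroup M}
  [DirectSum.Decomposition ℳ] [SetLike.GradedSMul 𝒜 ℳ]
variable {M' : Type u} [AddCommGroup M'] [Module R M'] {ℳ' : ℤ → AddSubgroup M'}
  [DirectSum.Decomposition ℳ'] [SetLike.GradedSMul 𝒜 ℳ']
variable {M'' : Type u} [AddCommGroup M''] [Module R M''] {ℳ'' : ℤ → AddSubgroup M''}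
  [DirectSum.Decomposition ℳ''] [SetLike.GradedSMul 𝒜 ℳ'']

lemma van_left_zero {a : HomogeneousIdeal 𝒜} {n : ℤ} (u : M' →ₗ[R] M) (v : M →ₗ[R] M'')
    (hu : IsGrHomDeg ℳ' ℳ u 0) (hv : IsGrHomDeg ℳ ℳ'' v 0) (hui : Function.Injective u)
    (hvs : Function.Surjective v) (hex : LinearMap.ker v = LinearMap.range u)
    (h : Van (𝒜 := 𝒜) ℳ a 0 n) : Van (𝒜 := 𝒜) ℳ' a 0 n := by
  intro E' z hz
  obtain ⟨E''⟩ := nonempty_starInjRes 𝒜 ℳ''
  obtain ⟨E⟩ := nonempty_starInjRes 𝒜 ℳ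
  obtain ⟨γ, hγ, e1, e2, e3, hinj⟩ := les E' E E'' u v hu hv hui hvs hex a
  apply hinj
  have := Hm_mem (E := E') (E' := E) hu hz
  rw [add_zero] at this
  rw [h E _ this, map_zero]

end Zero

variable (k : Type u) [Field k] (r : ℕ)

section One

variable {M : Type u} [AddCommGroup M] [Module k M] [Module (MvPolynomial (Fin (r + 1)) k) M]
  (ℳ : ℤ → Submodule k M) [DirectSum.Decomposition ℳ]
  [SetLike.GradedSMul (GrSyz.stdGr k (Fin (r + 1))) ℳ]

/-- vanishing of a piece of local cohomology, for the converted grading. -/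
def V (i : ℕ) (j : ℤ) : Prop :=
  letI := convDecomposition ℳ
  letI := convGradedSMul (GrSyz.stdGr k (Fin (r + 1))) ℳ
  Van (𝒜 := stdC k r) (conv ℳ) (irrC k r) i j

variable [Module.Finite (MvPolynomial (Fin (r + 1)) k) M]

theorem isRegLE_iff_V (d : ℤ) :
    GrSyz.IsRegLE (GrSyz.stdGr k (Fin (r + 1))) ℳ
      (GrSyz.irrel (GrSyz.stdGr k (Fin (r + 1)))).toIdeal d ↔
    ∀ (i : ℕ) (j : ℤ), d < j + i → V k r ℳ i j := by
  obtain ⟨E⟩ := nonempty_starInjRes_std k r ℳ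
  rw [isRegLE_iff_lcReg E d]
  letI := convDecomposition ℳ
  letI := convGradedSMul (GrSyz.stdGr k (Fin (r + 1))) ℳ
  constructor
  · intro h i j hij
    have hv := lcVan_of_lcReg E d h
    apply van_of_res (resConv (GrSyz.stdGr k (Fin (r + 1))) ℳ E)
    intro z hz
    exact hv i j hij z hz
  · intro hV
    refine ⟨?_, ?_⟩
    · rw [endDeg_le_iff]
      intro j hj
      rw [AddSubgroup.eq_bot_iff_forall]
      intro z hz
      exact hV 0 j (by push_cast; omega) (resConv (GrSyz.stdGr k (Fin (r + 1))) ℳ E) z hz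
    · intro i hi
      rw [Submodule.eq_bot_iff]
      intro z hz
      exact hV i _ (by omega) (resConv (GrSyz.stdGr k (Fin (r + 1))) ℳ E) z hz

end One

section SES

variable {M₁ : Type u} [AddCommGroup M₁] [Module k M₁] [Module (MvPolynomial (Fin (r + 1)) k) M₁]
  [Module.Finite (MvPolynomial (Fin (r + 1)) k) M₁]
  (ℳ₁ : ℤ → Submodule k M₁) [DirectSum.Decomposition ℳ₁]
  [SetLike.GradedSMul (GrSyz.stdGr k (Fin (r + 1))) ℳ₁]
variable {M₂ : Type u} [AddCommGroup M₂] [Module k M₂] [Module (MvPolynomial (Fin (r + 1)) k) M₂]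
  [Module.Finite (MvPolynomial (Fin (r + 1)) k) M₂]
  (ℳ₂ : ℤ → Submodule k M₂) [DirectSum.Decomposition ℳ₂]
  [SetLike.GradedSMul (GrSyz.stdGr k (Fin (r + 1))) ℳ₂]
variable {M₃ : Type u} [AddCommGroup M₃] [Module k M₃] [Module (MvPolynomial (Fin (r + 1)) k) M₃]
  [Module.Finite (MvPolynomial (Fin (r + 1)) k) M₃]
  (ℳ₃ : ℤ → Submodule k M₃) [DirectSum.Decomposition ℳ₃]
  [SetLike.GradedSMul (GrSyz.stdGr k (Fin (r + 1))) ℳ₃]

theorem reg_ses (f : M₁ →ₗ[MvPolynomial (Fin (r + 1)) k] M₂)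
    (g : M₂ →ₗ[MvPolynomial (Fin (r + 1)) k] M₃)
    (hf : Function.Injective f) (hg : Function.Surjective g)
    (hfg : LinearMap.range f = LinearMap.ker g)
    (hfgr : GrLC.IsGrHom ℳ₁ ℳ₂ f) (hggr : GrLC.IsGrHom ℳ₂ ℳ₃ g) (d : ℤ) :
    (GrSyz.IsRegLE (GrSyz.stdGr k (Fin (r + 1))) ℳ₂
        (GrSyz.irrel (GrSyz.stdGr k (Fin (r + 1)))).toIdeal d →
      GrSyz.IsRegLE (GrSyz.stdGr k (Fin (r + 1))) ℳ₃
        (GrSyz.irrel (GrSyz.stdGr k (Fin (r + 1)))).toIdeal (d - 1) →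
      GrSyz.IsRegLE (GrSyz.stdGr k (Fin (r + 1))) ℳ₁
        (GrSyz.irrel (GrSyz.stdGr k (Fin (r + 1)))).toIdeal d) ∧
    (GrSyz.IsRegLE (GrSyz.stdGr k (Fin (r + 1))) ℳ₁
        (GrSyz.irrel (GrSyz.stdGr k (Fin (r + 1)))).toIdeal d →
      GrSyz.IsRegLE (GrSyz.stdGr k (Fin (r + 1))) ℳ₃
        (GrSyz.irrel (GrSyz.stdGr k (Fin (r + 1)))).toIdeal d →
      GrSyz.IsRegLE (GrSyz.stdGr k (Fin (r + 1))) ℳ₂
        (GrSyz.irrel (GrSyz.stdGr k (Fin (r + 1)))).toIdeal d) ∧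
    (GrSyz.IsRegLE (GrSyz.stdGr k (Fin (r + 1))) ℳ₁
        (GrSyz.irrel (GrSyz.stdGr k (Fin (r + 1)))).toIdeal (d + 1) →
      GrSyz.IsRegLE (GrSyz.stdGr k (Fin (r + 1))) ℳ₂
        (GrSyz.irrel (GrSyz.stdGr k (Fin (r + 1)))).toIdeal d →
      GrSyz.IsRegLE (GrSyz.stdGr k (Fin (r + 1))) ℳ₃
        (GrSyz.irrel (GrSyz.stdGr k (Fin (r + 1)))).toIdeal d) := by
  letI := convDecomposition ℳ₁
  letI := convGradedSMul (GrSyz.stdGr k (Fin (r + 1))) ℳ₁
  letI := convDecomposition ℳ₂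
  letI := convGradedSMul (GrSyz.stdGr k (Fin (r + 1))) ℳ₂
  letI := convDecomposition ℳ₃
  letI := convGradedSMul (GrSyz.stdGr k (Fin (r + 1))) ℳ₃
  have hu : IsGrHomDeg (conv ℳ₁) (conv ℳ₂) f 0 := by
    intro j y hy
    rw [add_zero]
    exact hfgr j y hy
  have hv : IsGrHomDeg (conv ℳ₂) (conv ℳ₃) g 0 := by
    intro j y hy
    rw [add_zero]
    exact hggr j y hy
  have hex : LinearMap.ker g = LinearMap.range f := hfg.symm
  rw [isRegLE_iff_V k r ℳ₁ d, isRegLE_iff_V k r ℳ₂ d, isRegLE_iff_V k r ℳ₃ d,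
    isRegLE_iff_V k r ℳ₃ (d - 1), isRegLE_iff_V k r ℳ₁ (d + 1)]
  refine ⟨?_, ?_, ?_⟩
  · intro h2 h3 i j hij
    rcases i with _ | i
    · exact van_left_zero (𝒜 := stdC k r) f g hu hv hf hg hex (h2 0 j hij)
    · exact van_left (𝒜 := stdC k r) f g hu hv hf hg hex (h3 i j (by push_cast at hij ⊢; omega))
        (h2 (i + 1) j hij)
  · intro h1 h3 i j hij
    exact van_mid (𝒜 := stdC k r) f g hu hv hf hg hex (h1 i j hij) (h3 i j hij)
  · intro h1 h2 i j hij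
    exact van_right (𝒜 := stdC k r) f g hu hv hf hg hex (h2 i j hij)
      (h1 (i + 1) j (by push_cast; omega))

end SES

end Groth.Agent.Lib27.RegSES
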