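import Mathlib
import Groth.Prelude.Def_CurvBase

/-!
# Residue fields of schemes over a field, as algebras (helper27)

Compatibility of `Curv2.resMap` with `Scheme.fromSpecResidueField`, and the map from a residue
field induced by a field-valued point.
-/

universe u

open CategoryTheory AlgebraicGeometry

noncomputable section

namespace Groth.Agent.Lib27.ResFieldK

variable (k : Type u) [Field k] (X : Scheme.{u}) [X.Over (Spec (CommRingCat.of k))]

/-- A morphism to an affine scheme is determined by its global sections. -/
lemma eq_toSpecΓ_comp {R : CommRingCat.{u}} (f : X ⟶ Spec R) :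
    f = X.toSpecΓ ≫ Spec.map f.appTop ≫ Spec.map (Scheme.ΓSpecIso R).inv := by
  rw [← Category.assoc, ← Scheme.toSpecΓ_naturality, Category.assoc, toSpecΓ_SpecMap_ΓSpecIso_inv,
    Category.comp_id]

lemma fromSpecResidueField_comp (x : X) :
    X.fromSpecResidueField x ≫ (X ↘ Spec (CommRingCat.of k)) =
      Spec.map (CommRingCat.ofHom (Curv2.resMap k X x)) := by
  have h1 : CommRingCat.ofHom (Curv2.resMap k X x) =
      (Scheme.ΓSpecIso (CommRingCat.of k)).inv ≫ (X ↘ Spec (CommRingCat.of k)).appTop ≫
        X.presheaf.germ ⊤ x trivial ≫ X.residue x := rfl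
  rw [h1, Spec.map_comp, Spec.map_comp, Spec.map_comp]
  conv_lhs => rw [eq_toSpecΓ_comp X (X ↘ Spec (CommRingCat.of k))]
  rw [Scheme.fromSpecResidueField, Category.assoc, Scheme.fromSpecStalk_toSpecΓ_assoc]
  simp only [Category.assoc]

/-- A field-valued point of a `k`-scheme gives a `k`-embedding of the residue field of its image. -/
lemma exists_resMap_comp {L : Type u} [Field L] [Algebra k L] (g : Spec (CommRingCat.of L) ⟶ X)
    (hg : g ≫ (X ↘ Spec (CommRingCat.of k)) = Spec.map (CommRingCat.ofHom (algebraMap k L))) :
    ∃ ι : X.residueField (g (IsLocalRing.closedPoint L)) →+* L,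
      ι.comp (Curv2.resMap k X (g (IsLocalRing.closedPoint L))) = algebraMap k L := by
  refine ⟨(Scheme.descResidueField (Scheme.stalkClosedPointTo g)).hom, ?_⟩
  have h1 := Scheme.descResidueField_stalkClosedPointTo_fromSpecResidueField L X g
  have h2 : Spec.map (CommRingCat.ofHom (Curv2.resMap k X (g (IsLocalRing.closedPoint L))) ≫
      Scheme.descResidueField (Scheme.stalkClosedPointTo g)) =
      Spec.map (CommRingCat.ofHom (algebraMap k L)) := by
    rw [Spec.map_comp, ← fromSpecResidueField_comp, ← Category.assoc, h1, hg]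
  have h3 := Spec.map_injective h2
  exact congrArg CommRingCat.Hom.hom h3

end Groth.Agent.Lib27.ResFieldK
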