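import Mathlib.Geometry.RingedSpace.SheafedSpace
import Mathlib.Algebra.Category.Ring.Basic
import Mathlib.Topology.Maps.Basic
import Mathlib.Topology.ContinuousMap.Basic

/-!
# The quotient of a ringed space by a group action is a categorical quotient
-/

set_option autoImplicit false
universe u v

open CategoryTheory TopologicalSpace Opposite TopCat AlgebraicGeometry

namespace Groth.Agent.Lib27.RingedQuot

variable {X Y Z : PresheafedSpace CommRingCat.{u}}

/-- The ring homomorphism obtained by factoring through an injective ring hom. -/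
noncomputable def factor {A B C : Type u} [CommRing A] [CommRing B] [CommRing C] (p : B →+* C)
    (hp : Function.Injective p) (q : A →+* C) (hq : ∀ a, ∃ b, p b = q a) : A →+* B where
  toFun a := Classical.choose (hq a)
  map_one' := hp (by rw [Classical.choose_spec (hq 1), map_one, map_one])
  map_mul' a b := hp (by
    rw [Classical.choose_spec (hq (a * b)), map_mul, map_mul, Classical.choose_spec (hq a),
      Classical.choose_spec (hq b)])
  map_zero' := hp (by rw [Classical.choose_spec (hq 0), map_zero, map_zero])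
  map_add' a b := hp (by
    rw [Classical.choose_spec (hq (a + b)), map_add, map_add, Classical.choose_spec (hq a),
      Classical.choose_spec (hq b)])

lemma factor_spec {A B C : Type u} [CommRing A] [CommRing B] [CommRing C] (p : B →+* C)
    (hp : Function.Injective p) (q : A →+* C) (hq : ∀ a, ∃ b, p b = q a) (a : A) :
    p (factor p hp q hq a) = q a := Classical.choose_spec (hq a)

theorem core (π : X ⟶ Y) (fb : (Y : TopCat) ⟶ (Z : TopCat))
    (fc : Z.presheaf ⟶ (π.base ≫ fb) _* X.presheaf)
    (hsurj : Function.Surjective π.base)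
    (hinj : ∀ V : Opens Y, Function.Injective (π.c.app (op V)))
    (hR : ∀ (W : Opens Z) (s : Z.presheaf.obj (op W)),
      ∃ t : Y.presheaf.obj (op ((Opens.map fb).obj W)),
        (π.c.app (op ((Opens.map fb).obj W))).hom t = (fc.app (op W)).hom s) :
    ∃! G : Y ⟶ Z, π ≫ G = (⟨π.base ≫ fb, fc⟩ : X ⟶ Z) := by
  classical
  let β : ∀ W : Opens Z, Z.presheaf.obj (op W) →+* Y.presheaf.obj (op ((Opens.map fb).obj W)) :=
    fun W => factor (π.c.app (op ((Opens.map fb).obj W))).hom (hinj _) (fc.app (op W)).hom (hR W)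
  have hβ : ∀ (W : Opens Z) (s : Z.presheaf.obj (op W)),
      (π.c.app (op ((Opens.map fb).obj W))).hom (β W s) = (fc.app (op W)).hom s :=
    fun W s => factor_spec _ _ _ _ s
  let c' : Z.presheaf ⟶ fb _* Y.presheaf :=
    { app := fun W => CommRingCat.ofHom (β W.unop)
      naturality := by
        rintro ⟨W₁⟩ ⟨W₂⟩ i
        ext s
        apply hinj
        have n1 := congrArg (fun k => k.hom s) (fc.naturality i)
        have n2 := congrArg (fun k => k.hom (β W₁ s)) (π.c.naturality ((Opens.map fb).op.map i))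
        simp only [CommRingCat.hom_comp, RingHom.coe_comp, Function.comp_apply] at n1 n2
        simp only [CommRingCat.hom_comp, RingHom.coe_comp, Function.comp_apply,
          CommRingCat.hom_ofHom]
        erw [hβ W₂, n1, n2, hβ W₁]
        rfl }
  have hepi : Epi π.base := (TopCat.epi_iff_surjective π.base).mpr hsurj
  refine ⟨⟨fb, c'⟩, ?_, ?_⟩
  · refine PresheafedSpace.ext _ _ rfl ?_
    erw [CategoryTheory.Functor.whiskerRight_id', Category.comp_id]
    ext W s
    exact hβ W s
  · rintro ⟨gb, gc⟩ hG
    have hb : gb = fb := by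
      have := congrArg PresheafedSpace.Hom.base hG
      exact (cancel_epi π.base).mp this
    subst hb
    refine PresheafedSpace.ext _ _ rfl ?_
    erw [CategoryTheory.Functor.whiskerRight_id', Category.comp_id]
    ext W s
    apply hinj
    have hG' : (⟨π.base ≫ gb, gc ≫ (Presheaf.pushforward _ gb).map π.c⟩ :
        PresheafedSpace.Hom X Z) = ⟨π.base ≫ gb, fc⟩ := hG
    have hc := eq_of_heq (PresheafedSpace.Hom.mk.inj hG').2
    have h2 := congrArg (fun k => (k.app (op W)).hom s) hc
    erw [hβ W s]
    exact h2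

theorem main (X Y : SheafedSpace CommRingCat.{u}) (Γ : Type v) [Group Γ] (τ : Γ →* Aut X)
    (π : X ⟶ Y) (hτ : ∀ g : Γ, (τ g).hom ≫ π = π) (h1 : Topology.IsQuotientMap π.hom.base)
    (h2 : ∀ x x' : X, π.hom.base x = π.hom.base x' ↔ ∃ g : Γ, (τ g).hom.hom.base x = x')
    (h3 : ∀ V : Opens Y, Function.Injective (π.hom.c.app (op V)) ∧
      Set.range (π.hom.c.app (op V)) = {s | ∀ g : Γ,
        (τ g).hom.hom.c.app (op ((Opens.map π.hom.base).obj V)) s =
          X.presheaf.map (eqToHom (congrArg (fun f : X ⟶ Y => op ((Opens.map f.hom.base).obj V))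
            (hτ g).symm)) s})
    (Z : SheafedSpace CommRingCat.{u}) (f : X ⟶ Z) (hf : ∀ g : Γ, (τ g).hom ≫ f = f) :
    ∃! fbar : Y ⟶ Z, π ≫ fbar = f := by
  have hfact : Function.FactorsThrough f.hom.base.hom π.hom.base.hom := by
    intro a b hab
    obtain ⟨g, rfl⟩ := (h2 a b).mp hab
    have := congrArg (fun k => k.hom.base a) (hf g)
    exact this.symm
  have h1' : Topology.IsQuotientMap π.hom.base.hom := h1
  obtain ⟨fb, hfb⟩ : ∃ fb : (Y : TopCat) ⟶ (Z : TopCat), π.hom.base ≫ fb = f.hom.base :=
    ⟨TopCat.ofHom (h1'.lift f.hom.base.hom hfact), TopCat.hom_ext (h1'.lift_comp _ _)⟩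
  obtain ⟨⟨fbase, fc⟩⟩ := f
  dsimp only at hfb
  subst hfb
  have hR : ∀ (W : Opens Z) (s : Z.presheaf.obj (op W)),
      ∃ t : Y.presheaf.obj (op ((Opens.map fb).obj W)),
        (π.hom.c.app (op ((Opens.map fb).obj W))).hom t = (fc.app (op W)).hom s := by
    intro W s
    have hmem : (fc.app (op W)).hom s ∈ Set.range (π.hom.c.app (op ((Opens.map fb).obj W))) := by
      rw [(h3 ((Opens.map fb).obj W)).2]
      intro g
      have e1 := congrArg (fun k => k.hom) (hf g)
      have e2 := PresheafedSpace.congr_app e1 (op W)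
      have e3 := congrArg (fun k => k.hom s) e2
      exact e3
    obtain ⟨t, ht⟩ := hmem
    exact ⟨t, ht⟩
  obtain ⟨G, hG, hGu⟩ := core π.hom fb fc h1.surjective (fun V => (h3 V).1) hR
  refine ⟨⟨G⟩, InducedCategory.hom_ext hG, ?_⟩
  intro G' hG'
  apply InducedCategory.hom_ext
  exact hGu G'.hom (congrArg (fun k => k.hom) hG')

end Groth.Agent.Lib27.RingedQuot
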