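import Mathlib

/-!
# Kan fibrations in terms of compatible families of simplices
-/

set_option autoImplicit false
open CategoryTheory Simplicial SSet Opposite

universe u

namespace Groth.Agent.Lib27.SKan

open SSet.modelCategoryQuillen

/-- horn lifting in terms of compatible families of maps. -/
theorem rlp_J_of_lift {X Y : SSet.{u}} (p : X ⟶ Y)
    (h : ∀ (n : ℕ) (i : Fin (n + 2)) (f : ∀ (j : Fin (n + 2)) (_ : j ≠ i), Δ[n] ⟶ X)
      (_ : horn.IsCompatible f) (b : Δ[n + 1] ⟶ Y)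
      (_ : ∀ (j : Fin (n + 2)) (hj : j ≠ i), f j hj ≫ p = stdSimplex.δ j ≫ b),
      ∃ φ : Δ[n + 1] ⟶ X,
        (∀ (j : Fin (n + 2)) (hj : j ≠ i), stdSimplex.δ j ≫ φ = f j hj) ∧ φ ≫ p = b) :
    J.rlp p := by
  intro _ _ _ hf
  simp only [J, MorphismProperty.iSup_iff] at hf
  obtain ⟨n, ⟨i⟩⟩ := hf
  refine ⟨fun {t b} sq => ?_⟩
  obtain ⟨φ, hφ, hφb⟩ := h n i (fun j hj => horn.ι i j hj ≫ t) (horn.IsCompatible.of_hom t) b (by
    intro j hj
    rw [Category.assoc, sq.w, ← Category.assoc, horn.ι_ι])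
  exact ⟨⟨{ l := φ
            fac_left := horn.hom_ext' (by
              intro j hj
              rw [← Category.assoc, horn.ι_ι]
              exact hφ j hj)
            fac_right := hφb }⟩⟩

/-- horn lifting in terms of elements. -/
theorem rlp_J_of_elem {X Y : SSet.{u}} (p : X ⟶ Y)
    (h0 : ∀ (i : Fin 2) (x : ∀ (j : Fin 2), j ≠ i → X _⦋0⦌) (y : Y _⦋1⦌),
      (∀ j hj, p.app _ (x j hj) = Y.δ j y) →
        ∃ z : X _⦋1⦌, (∀ j hj, X.δ j z = x j hj) ∧ p.app _ z = y)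
    (h : ∀ (n : ℕ) (i : Fin (n + 3)) (x : ∀ (j : Fin (n + 3)), j ≠ i → X _⦋n + 1⦌)
      (y : Y _⦋n + 2⦌),
      (∀ (j k : Fin (n + 3)) (hj : j ≠ i) (hk : k ≠ i) (hjk : j < k),
        X.δ (k.pred (Fin.ne_zero_of_lt hjk)) (x j hj) =
          X.δ (j.castPred (Fin.ne_last_of_lt hjk)) (x k hk)) →
      (∀ j hj, p.app _ (x j hj) = Y.δ j y) →
        ∃ z : X _⦋n + 2⦌, (∀ j hj, X.δ j z = x j hj) ∧ p.app _ z = y) :
    J.rlp p := by
  apply rlp_J_of_lift
  intro n i f hf b comm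
  have hcomm : ∀ j hj, p.app _ (yonedaEquiv (f j hj)) = Y.δ j (yonedaEquiv b) := by
    intro j hj
    rw [← yonedaEquiv_comp, comm j hj, stdSimplex.yonedaEquiv_δ_comp]
  have key : ∃ z : X _⦋n + 1⦌, (∀ j hj, X.δ j z = yonedaEquiv (f j hj)) ∧
      p.app _ z = yonedaEquiv b := by
    rcases n with _ | n
    · exact h0 i (fun j hj => yonedaEquiv (f j hj)) (yonedaEquiv b) hcomm
    · refine h n i (fun j hj => yonedaEquiv (f j hj)) (yonedaEquiv b) ?_ hcomm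
      intro j k hj hk hjk
      rw [← stdSimplex.yonedaEquiv_δ_comp, ← stdSimplex.yonedaEquiv_δ_comp]
      exact congrArg _ (hf j k hj hk hjk)
  obtain ⟨z, hz, hzy⟩ := key
  refine ⟨yonedaEquiv.symm z, ?_, ?_⟩
  · intro j hj
    rw [stdSimplex.δ_comp_yonedaEquiv_symm, hz j hj, Equiv.symm_apply_apply]
  · rw [yonedaEquiv_symm_comp, hzy, Equiv.symm_apply_apply]

end Groth.Agent.Lib27.SKan
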