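import Mathlib

/-!
# Moore's horn filling algorithm for simplicial groups, in an index-free form
-/

set_option autoImplicit false

universe u

namespace Groth.Agent.Lib27.SMoore

/-- the data of a simplicial group with faces and degeneracies indexed by natural numbers
(only the indices in range matter). -/
structure SGrp where
  /-- the groups -/
  G : ℕ → Type u
  [grp : ∀ n, Group (G n)]
  /-- faces -/
  d : ∀ n, ℕ → G (n + 1) →* G n
  /-- degeneracies -/
  s : ∀ n, ℕ → G n →* G (n + 1)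
  dd : ∀ n i j, i ≤ j → j ≤ n + 1 → ∀ x, d n i (d (n + 1) (j + 1) x) = d n j (d (n + 1) i x)
  ds_lt : ∀ n i j, i ≤ j → j ≤ n → ∀ x, d (n + 1) i (s (n + 1) (j + 1) x) = s n j (d n i x)
  ds_self : ∀ n i, i ≤ n → ∀ x, d n i (s n i x) = x
  ds_succ : ∀ n i, i ≤ n → ∀ x, d n (i + 1) (s n i x) = x
  ds_gt : ∀ n i j, j < i → i ≤ n + 1 → ∀ x, d (n + 1) (i + 1) (s (n + 1) j x) = s n j (d n i x)

attribute [instance] SGrp.grp

variable (S : SGrp.{u}) (H : ∀ n, Subgroup (S.G n))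
  (hd : ∀ n j x, x ∈ H (n + 1) → S.d n j x ∈ H n)
  (hs : ∀ n j x, x ∈ H n → S.s n j x ∈ H (n + 1))

include hs in
/-- horns in dimension one. -/
theorem fill0 (k : ℕ) (hk : k ≤ 1) (x : ℕ → S.G 0) (hx : ∀ j, x j ∈ H 0) :
    ∃ z ∈ H 1, ∀ j, j ≤ 1 → j ≠ k → S.d 0 j z = x j := by
  refine ⟨S.s 0 0 (x (1 - k)), hs _ _ _ (hx _), ?_⟩
  intro j hj hjk
  have hj' : 1 - k = j := by omega
  have hcase : j = 0 ∨ j = 1 := by omega
  rcases hcase with h0 | h1
  · rw [h0] at hj' ⊢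
    rw [S.ds_self 0 0 le_rfl]
    exact congrArg x hj'
  · rw [h1] at hj' ⊢
    rw [S.ds_succ 0 0 le_rfl]
    exact congrArg x hj'

include hd hs in
/-- **Moore's theorem**: horns in a simplicial group can be filled (in dimension `≥ 2`). -/
theorem fill (m k : ℕ) (hk : k ≤ m + 2) (x : ℕ → S.G (m + 1)) (hx : ∀ j, x j ∈ H (m + 1))
    (compat : ∀ i j, i < j → j ≤ m + 2 → i ≠ k → j ≠ k → S.d m i (x j) = S.d m (j - 1) (x i)) :
    ∃ z ∈ H (m + 2), ∀ j, j ≤ m + 2 → j ≠ k → S.d (m + 1) j z = x j := by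
  -- upward pass
  have up : ∀ r, r ≤ k → ∃ w ∈ H (m + 2), ∀ j, j < r → S.d (m + 1) j w = x j := by
    intro r
    induction r with
    | zero => intro _; exact ⟨1, one_mem _, fun j hj => absurd hj (Nat.not_lt_zero _)⟩
    | succ r ih =>
      intro hr
      obtain ⟨w, hwH, hw⟩ := ih (by omega)
      set u := x r * (S.d (m + 1) r w)⁻¹ with hu
      have huH : u ∈ H (m + 1) := mul_mem (hx r) (inv_mem (hd _ _ _ hwH))
      have hdu : ∀ j, j < r → S.d m j u = 1 := by
        intro j hj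
        rw [hu, map_mul, map_inv, compat j r hj (by omega) (by omega) (by omega)]
        have e : S.d m j (S.d (m + 1) r w) = S.d m (r - 1) (S.d (m + 1) j w) := by
          have := S.dd m j (r - 1) (by omega) (by omega) w
          rwa [show r - 1 + 1 = r by omega] at this
        rw [e, hw j hj, mul_inv_cancel]
      refine ⟨S.s (m + 1) r u * w, mul_mem (hs _ _ _ huH) hwH, ?_⟩
      intro j hj
      rw [map_mul]
      rcases Nat.lt_or_eq_of_le (Nat.lt_succ_iff.1 hj) with hjr | hjr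
      · have e : S.d (m + 1) j (S.s (m + 1) r u) = S.s m (r - 1) (S.d m j u) := by
          have := S.ds_lt m j (r - 1) (by omega) (by omega) u
          rwa [show r - 1 + 1 = r by omega] at this
        rw [e, hdu j hjr, map_one, one_mul, hw j hjr]
      · subst hjr
        rw [S.ds_self (m + 1) j (by omega) u, hu, inv_mul_cancel_right]
  obtain ⟨w0, hw0H, hw0⟩ := up k le_rfl
  -- downward pass
  have down : ∀ t, t ≤ m + 2 - k → ∃ v ∈ H (m + 2),
      ∀ j, j ≤ m + 2 → (j < k ∨ m + 3 - t ≤ j) → S.d (m + 1) j v = x j := by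
    intro t
    induction t with
    | zero =>
      intro _
      refine ⟨w0, hw0H, fun j hj h => ?_⟩
      rcases h with h | h
      · exact hw0 j h
      · omega
    | succ t ih =>
      intro ht
      obtain ⟨v, hvH, hv⟩ := ih (by omega)
      obtain ⟨r, hr⟩ : ∃ r, r = m + 2 - t := ⟨_, rfl⟩
      have hrk : k < r := by omega
      have hrm : r ≤ m + 2 := by omega
      set u := x r * (S.d (m + 1) r v)⁻¹ with hu
      have huH : u ∈ H (m + 1) := mul_mem (hx r) (inv_mem (hd _ _ _ hvH))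
      have hdu : ∀ j, j ≤ m + 1 → (j < k ∨ r ≤ j) → S.d m j u = 1 := by
        intro j hjm hj
        rw [hu, map_mul, map_inv]
        rcases hj with hj | hj
        · rw [compat j r (by omega) hrm (by omega) (by omega)]
          have e : S.d m j (S.d (m + 1) r v) = S.d m (r - 1) (S.d (m + 1) j v) := by
            have := S.dd m j (r - 1) (by omega) (by omega) v
            rwa [show r - 1 + 1 = r by omega] at this
          rw [e, hv j (by omega) (Or.inl hj), mul_inv_cancel]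
        · have c := compat r (j + 1) (by omega) (by omega) (by omega) (by omega)
          rw [show j + 1 - 1 = j by omega] at c
          have e := S.dd m r j hj hjm v
          rw [← c, ← e, hv (j + 1) (by omega) (Or.inr (by omega)), mul_inv_cancel]
      refine ⟨S.s (m + 1) (r - 1) u * v, mul_mem (hs _ _ _ huH) hvH, ?_⟩
      intro j hjm hj
      rw [map_mul]
      have hcases : j < k ∨ j = r ∨ r < j := by omega
      rcases hcases with h | h | h
      · have e : S.d (m + 1) j (S.s (m + 1) (r - 1) u) = S.s m (r - 2) (S.d m j u) := by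
          have := S.ds_lt m j (r - 2) (by omega) (by omega) u
          rwa [show r - 2 + 1 = r - 1 by omega] at this
        rw [e, hdu j (by omega) (Or.inl h), map_one, one_mul, hv j hjm (Or.inl h)]
      · subst h
        have e : S.d (m + 1) j (S.s (m + 1) (j - 1) u) = u := by
          have := S.ds_succ (m + 1) (j - 1) (by omega) u
          rwa [show j - 1 + 1 = j by omega] at this
        rw [e, hu, inv_mul_cancel_right]
      · have e : S.d (m + 1) j (S.s (m + 1) (r - 1) u) = S.s m (r - 1) (S.d m (j - 1) u) := by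
          have := S.ds_gt m (j - 1) (r - 1) (by omega) (by omega) u
          rwa [show j - 1 + 1 = j by omega] at this
        rw [e, hdu (j - 1) (by omega) (Or.inr (by omega)), map_one, one_mul,
          hv j hjm (Or.inr (by omega))]
  obtain ⟨v, hvH, hv⟩ := down (m + 2 - k) le_rfl
  refine ⟨v, hvH, fun j hj hjk => hv j hj ?_⟩
  omega

include hd hs in
/-- spheres can be filled when the normalized complex is acyclic. -/
theorem fillSphere
    (acyc : ∀ n, ∀ c ∈ H (n + 1), (∀ j, j ≤ n + 1 → S.d n j c = 1) →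
      ∃ e ∈ H (n + 2), S.d (n + 1) 0 e = c ∧ ∀ j, 1 ≤ j → j ≤ n + 2 → S.d (n + 1) j e = 1)
    (m : ℕ) (x : ℕ → S.G (m + 1)) (hx : ∀ j, x j ∈ H (m + 1))
    (compat : ∀ i j, i < j → j ≤ m + 2 → S.d m i (x j) = S.d m (j - 1) (x i)) :
    ∃ z ∈ H (m + 2), ∀ j, j ≤ m + 2 → S.d (m + 1) j z = x j := by
  obtain ⟨z, hzH, hz⟩ := fill S H hd hs m 0 (by omega) x hx
    (fun i j hij hj _ _ => compat i j hij hj)
  set c := x 0 * (S.d (m + 1) 0 z)⁻¹ with hc
  have hcH : c ∈ H (m + 1) := mul_mem (hx 0) (inv_mem (hd _ _ _ hzH))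
  have hdc : ∀ j, j ≤ m + 1 → S.d m j c = 1 := by
    intro j hj
    rw [hc, map_mul, map_inv]
    have c1 := compat 0 (j + 1) (by omega) (by omega)
    rw [show j + 1 - 1 = j by omega] at c1
    have e := S.dd m 0 j (by omega) hj z
    rw [← c1, ← e, hz (j + 1) (by omega) (by omega), mul_inv_cancel]
  obtain ⟨e, heH, he0, hej⟩ := acyc m c hcH hdc
  refine ⟨e * z, mul_mem heH hzH, ?_⟩
  intro j hj
  rw [map_mul]
  rcases Nat.eq_zero_or_pos j with h0 | h0
  · subst h0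
    rw [he0, hc, inv_mul_cancel_right]
  · rw [hej j h0 hj, one_mul, hz j hj (by omega)]

include hs in
/-- spheres in dimension one. -/
theorem fillSphere0
    (acyc0 : ∀ c ∈ H 0, ∃ e ∈ H 1, S.d 0 0 e = c ∧ S.d 0 1 e = 1)
    (x : ℕ → S.G 0) (hx : ∀ j, x j ∈ H 0) :
    ∃ z ∈ H 1, ∀ j, j ≤ 1 → S.d 0 j z = x j := by
  obtain ⟨e, heH, he0, he1⟩ := acyc0 (x 0 * (x 1)⁻¹) (mul_mem (hx 0) (inv_mem (hx 1)))
  refine ⟨e * S.s 0 0 (x 1), mul_mem heH (hs _ _ _ (hx 1)), ?_⟩
  intro j hj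
  rw [map_mul]
  rcases Nat.eq_zero_or_pos j with h0 | h0
  · subst h0
    rw [he0, S.ds_self 0 0 le_rfl, inv_mul_cancel_right]
  · have h1 : j = 1 := by omega
    subst h1
    rw [he1, one_mul, S.ds_succ 0 0 le_rfl]

/-! ### Fibrations -/

section Fib

variable (S T : SGrp.{u}) (φ : ∀ n, S.G n →* T.G n)
  (hφd : ∀ n j x, φ n (S.d n j x) = T.d n j (φ (n + 1) x))
  (hφs : ∀ n j x, φ (n + 1) (S.s n j x) = T.s n j (φ n x))
  (hsurj : ∀ n, Function.Surjective (φ n))

include hφd in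
lemma ker_d (n j : ℕ) (x : S.G (n + 1)) (hx : x ∈ (φ (n + 1)).ker) : S.d n j x ∈ (φ n).ker := by
  rw [MonoidHom.mem_ker] at hx ⊢
  rw [hφd, hx, map_one]

include hφs in
lemma ker_s (n j : ℕ) (x : S.G n) (hx : x ∈ (φ n).ker) : S.s n j x ∈ (φ (n + 1)).ker := by
  rw [MonoidHom.mem_ker] at hx ⊢
  rw [hφs, hx, map_one]

include hφd hφs hsurj in
/-- a degreewise surjective homomorphism of simplicial groups is a Kan fibration (dimension one). -/
theorem fillFib0 (k : ℕ) (hk : k ≤ 1) (x : ℕ → S.G 0) (y : T.G 1)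
    (hxy : ∀ j, j ≤ 1 → j ≠ k → φ 0 (x j) = T.d 0 j y) :
    ∃ z, (∀ j, j ≤ 1 → j ≠ k → S.d 0 j z = x j) ∧ φ 1 z = y := by
  obtain ⟨z₀, hz₀⟩ := hsurj 1 y
  set x' : ℕ → S.G 0 := fun j => if j ≤ 1 ∧ j ≠ k then x j * (S.d 0 j z₀)⁻¹ else 1 with hx'
  have hx'H : ∀ j, x' j ∈ (φ 0).ker := by
    intro j
    simp only [hx']
    split_ifs with h
    · rw [MonoidHom.mem_ker, map_mul, map_inv, hφd, hz₀, hxy j h.1 h.2, mul_inv_cancel]
    · exact one_mem _
  obtain ⟨z', hz'H, hz'⟩ := fill0 S (fun n => (φ n).ker) (ker_s S T φ hφs) k hk x' hx'H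
  refine ⟨z' * z₀, ?_, ?_⟩
  · intro j hj hjk
    rw [map_mul, hz' j hj hjk]
    simp only [hx']
    rw [if_pos ⟨hj, hjk⟩, inv_mul_cancel_right]
  · rw [map_mul, MonoidHom.mem_ker.1 hz'H, one_mul, hz₀]

include hφd hφs hsurj in
/-- a degreewise surjective homomorphism of simplicial groups is a Kan fibration. -/
theorem fillFib (m k : ℕ) (hk : k ≤ m + 2) (x : ℕ → S.G (m + 1)) (y : T.G (m + 2))
    (compat : ∀ i j, i < j → j ≤ m + 2 → i ≠ k → j ≠ k → S.d m i (x j) = S.d m (j - 1) (x i))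
    (hxy : ∀ j, j ≤ m + 2 → j ≠ k → φ (m + 1) (x j) = T.d (m + 1) j y) :
    ∃ z, (∀ j, j ≤ m + 2 → j ≠ k → S.d (m + 1) j z = x j) ∧ φ (m + 2) z = y := by
  obtain ⟨z₀, hz₀⟩ := hsurj (m + 2) y
  set x' : ℕ → S.G (m + 1) :=
    fun j => if j ≤ m + 2 ∧ j ≠ k then x j * (S.d (m + 1) j z₀)⁻¹ else 1 with hx'
  have hx'H : ∀ j, x' j ∈ (φ (m + 1)).ker := by
    intro j
    simp only [hx']
    split_ifs with h
    · rw [MonoidHom.mem_ker, map_mul, map_inv, hφd, hz₀, hxy j h.1 h.2, mul_inv_cancel]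
    · exact one_mem _
  have compat' : ∀ i j, i < j → j ≤ m + 2 → i ≠ k → j ≠ k →
      S.d m i (x' j) = S.d m (j - 1) (x' i) := by
    intro i j hij hj hik hjk
    simp only [hx']
    rw [if_pos ⟨hj, hjk⟩, if_pos ⟨by omega, hik⟩, map_mul, map_mul, map_inv, map_inv,
      compat i j hij hj hik hjk]
    have e := S.dd m i (j - 1) (by omega) (by omega) z₀
    rw [show j - 1 + 1 = j by omega] at e
    rw [e]
  obtain ⟨z', hz'H, hz'⟩ := fill S (fun n => (φ n).ker) (ker_d S T φ hφd) (ker_s S T φ hφs)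
    m k hk x' hx'H compat'
  refine ⟨z' * z₀, ?_, ?_⟩
  · intro j hj hjk
    rw [map_mul, hz' j hj hjk]
    simp only [hx']
    rw [if_pos ⟨hj, hjk⟩, inv_mul_cancel_right]
  · rw [map_mul, MonoidHom.mem_ker.1 hz'H, one_mul, hz₀]

include hφd hφs hsurj in
/-- trivial fibrations, dimension zero. -/
theorem fillTriv00 (y : T.G 0) : ∃ z, φ 0 z = y := hsurj 0 y

include hφd hφs hsurj in
/-- trivial fibrations, dimension one. -/
theorem fillTriv0
    (acyc0 : ∀ c ∈ (φ 0).ker, ∃ e ∈ (φ 1).ker, S.d 0 0 e = c ∧ S.d 0 1 e = 1)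
    (x : ℕ → S.G 0) (y : T.G 1) (hxy : ∀ j, j ≤ 1 → φ 0 (x j) = T.d 0 j y) :
    ∃ z, (∀ j, j ≤ 1 → S.d 0 j z = x j) ∧ φ 1 z = y := by
  obtain ⟨z₀, hz₀⟩ := hsurj 1 y
  set x' : ℕ → S.G 0 := fun j => if j ≤ 1 then x j * (S.d 0 j z₀)⁻¹ else 1 with hx'
  have hx'H : ∀ j, x' j ∈ (φ 0).ker := by
    intro j
    simp only [hx']
    split_ifs with h
    · rw [MonoidHom.mem_ker, map_mul, map_inv, hφd, hz₀, hxy j h, mul_inv_cancel]
    · exact one_mem _
  obtain ⟨z', hz'H, hz'⟩ := fillSphere0 S (fun n => (φ n).ker) (ker_s S T φ hφs) acyc0 x' hx'H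
  refine ⟨z' * z₀, ?_, ?_⟩
  · intro j hj
    rw [map_mul, hz' j hj]
    simp only [hx']
    rw [if_pos hj, inv_mul_cancel_right]
  · rw [map_mul, MonoidHom.mem_ker.1 hz'H, one_mul, hz₀]

include hφd hφs hsurj in
/-- trivial fibrations, higher dimensions. -/
theorem fillTriv
    (acyc : ∀ n, ∀ c ∈ (φ (n + 1)).ker, (∀ j, j ≤ n + 1 → S.d n j c = 1) →
      ∃ e ∈ (φ (n + 2)).ker, S.d (n + 1) 0 e = c ∧ ∀ j, 1 ≤ j → j ≤ n + 2 → S.d (n + 1) j e = 1)
    (m : ℕ) (x : ℕ → S.G (m + 1)) (y : T.G (m + 2))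
    (compat : ∀ i j, i < j → j ≤ m + 2 → S.d m i (x j) = S.d m (j - 1) (x i))
    (hxy : ∀ j, j ≤ m + 2 → φ (m + 1) (x j) = T.d (m + 1) j y) :
    ∃ z, (∀ j, j ≤ m + 2 → S.d (m + 1) j z = x j) ∧ φ (m + 2) z = y := by
  obtain ⟨z₀, hz₀⟩ := hsurj (m + 2) y
  set x' : ℕ → S.G (m + 1) :=
    fun j => if j ≤ m + 2 then x j * (S.d (m + 1) j z₀)⁻¹ else 1 with hx'
  have hx'H : ∀ j, x' j ∈ (φ (m + 1)).ker := by
    intro j
    simp only [hx']
    split_ifs with h
    · rw [MonoidHom.mem_ker, map_mul, map_inv, hφd, hz₀, hxy j h, mul_inv_cancel]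
    · exact one_mem _
  have compat' : ∀ i j, i < j → j ≤ m + 2 → S.d m i (x' j) = S.d m (j - 1) (x' i) := by
    intro i j hij hj
    simp only [hx']
    rw [if_pos hj, if_pos (by omega), map_mul, map_mul, map_inv, map_inv, compat i j hij hj]
    have e := S.dd m i (j - 1) (by omega) (by omega) z₀
    rw [show j - 1 + 1 = j by omega] at e
    rw [e]
  obtain ⟨z', hz'H, hz'⟩ := fillSphere S (fun n => (φ n).ker) (ker_d S T φ hφd) (ker_s S T φ hφs)
    acyc m x' hx'H compat'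
  refine ⟨z' * z₀, ?_, ?_⟩
  · intro j hj
    rw [map_mul, hz' j hj]
    simp only [hx']
    rw [if_pos hj, inv_mul_cancel_right]
  · rw [map_mul, MonoidHom.mem_ker.1 hz'H, one_mul, hz₀]

end Fib

end Groth.Agent.Lib27.SMoore
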