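import Mathlib
import Groth.Agent.Lib27.SKan
import Groth.Agent.Lib27.SMoore

/-!
# Trivial Kan fibrations in terms of elements, and simplicial sets underlying simplicial groups
-/

set_option autoImplicit false
open CategoryTheory Simplicial SSet Opposite

universe u

namespace Groth.Agent.Lib27.SKan

open SSet.modelCategoryQuillen Groth.Agent.Lib27.SMoore

lemma boundary_compat {n : ℕ} (j k : Fin (n + 3)) (hjk : j < k) :
    stdSimplex.δ (k.pred (Fin.ne_zero_of_lt hjk)) ≫ boundary.ι.{u} j =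
      stdSimplex.δ (j.castPred (Fin.ne_last_of_lt hjk)) ≫ boundary.ι k := by
  obtain ⟨j, rfl⟩ := j.eq_castSucc_of_ne_last (Fin.ne_last_of_lt hjk)
  obtain ⟨k, rfl⟩ := k.eq_succ_of_ne_zero (Fin.ne_zero_of_lt hjk)
  rw [← cancel_mono (Subcomplex.ι _), Category.assoc, Category.assoc, boundary.ι_ι, boundary.ι_ι,
    Fin.pred_succ, Fin.castPred_castSucc, stdSimplex.δ_comp_δ (by
      rw [Fin.lt_def] at hjk
      rw [Fin.le_def]
      simp only [Fin.val_castSucc, Fin.val_succ] at hjk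
      omega)]

/-- boundary lifting in terms of elements. -/
theorem rlp_I_of_elem {X Y : SSet.{u}} (p : X ⟶ Y)
    (h00 : ∀ y : Y _⦋0⦌, ∃ z : X _⦋0⦌, p.app _ z = y)
    (h0 : ∀ (x : Fin 2 → X _⦋0⦌) (y : Y _⦋1⦌), (∀ j, p.app _ (x j) = Y.δ j y) →
      ∃ z : X _⦋1⦌, (∀ j, X.δ j z = x j) ∧ p.app _ z = y)
    (h : ∀ (n : ℕ) (x : Fin (n + 3) → X _⦋n + 1⦌) (y : Y _⦋n + 2⦌),
      (∀ (j k : Fin (n + 3)) (hjk : j < k),
        X.δ (k.pred (Fin.ne_zero_of_lt hjk)) (x j) =
          X.δ (j.castPred (Fin.ne_last_of_lt hjk)) (x k)) →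
      (∀ j, p.app _ (x j) = Y.δ j y) →
        ∃ z : X _⦋n + 2⦌, (∀ j, X.δ j z = x j) ∧ p.app _ z = y) :
    I.rlp p := by
  have main : ∀ (n : ℕ) (t : (∂Δ[n] : SSet.{u}) ⟶ X) (b : Δ[n] ⟶ Y)
      (sq : CommSq t (∂Δ[n] : SSet.Subcomplex _).ι p b), sq.HasLift := ?_
  · intro A B i hf
    obtain ⟨n⟩ := hf
    exact ⟨fun {t b} sq => main n t b sq⟩
  intro n t b sq
  rcases n with _ | n
  · obtain ⟨z, hz⟩ := h00 (yonedaEquiv b)
    exact ⟨⟨{ l := yonedaEquiv.symm z
              fac_left := boundary.hom_ext₀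
              fac_right := by rw [yonedaEquiv_symm_comp, hz, Equiv.symm_apply_apply] }⟩⟩
  · have hcomm : ∀ j, p.app _ (yonedaEquiv (boundary.ι j ≫ t)) = Y.δ j (yonedaEquiv b) := by
      intro j
      rw [← yonedaEquiv_comp, Category.assoc, sq.w, ← Category.assoc, boundary.ι_ι,
        stdSimplex.yonedaEquiv_δ_comp]
    have key : ∃ z : X _⦋n + 1⦌, (∀ j, X.δ j z = yonedaEquiv (boundary.ι j ≫ t)) ∧
        p.app _ z = yonedaEquiv b := by
      rcases n with _ | n
      · exact h0 _ _ hcomm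
      · refine h n _ _ ?_ hcomm
        intro j k hjk
        rw [← stdSimplex.yonedaEquiv_δ_comp, ← stdSimplex.yonedaEquiv_δ_comp, ← Category.assoc,
          ← Category.assoc, boundary_compat j k hjk]
    obtain ⟨z, hz, hzy⟩ := key
    exact ⟨⟨{ l := yonedaEquiv.symm z
              fac_left := boundary.hom_ext (fun j => by
                rw [← Category.assoc, boundary.ι_ι, stdSimplex.δ_comp_yonedaEquiv_symm, hz j,
                  Equiv.symm_apply_apply])
              fac_right := by rw [yonedaEquiv_symm_comp, hzy, Equiv.symm_apply_apply] }⟩⟩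

/-- extend a family indexed by `j ≠ i` to all natural numbers. -/
noncomputable def extFam {α : Type*} {N : ℕ} (i : Fin N) (x : ∀ j : Fin N, j ≠ i → α) (dflt : α) :
    ℕ → α := fun j =>
  if h : j < N then (if h' : (⟨j, h⟩ : Fin N) = i then dflt else x ⟨j, h⟩ h') else dflt

lemma extFam_apply {α : Type*} {N : ℕ} (i : Fin N) (x : ∀ j : Fin N, j ≠ i → α) (dflt : α)
    (j : Fin N) (hj : j ≠ i) : extFam i x dflt j.val = x j hj := by
  unfold extFam
  rw [dif_pos j.isLt, dif_neg hj]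

/-- extend a family indexed by `Fin N` to all natural numbers. -/
noncomputable def extFam' {α : Type*} {N : ℕ} (x : Fin N → α) (dflt : α) : ℕ → α := fun j =>
  if h : j < N then x ⟨j, h⟩ else dflt

lemma extFam'_apply {α : Type*} {N : ℕ} (x : Fin N → α) (dflt : α) (j : Fin N) :
    extFam' x dflt j.val = x j := by
  unfold extFam'
  rw [dif_pos j.isLt]

section Bridge

variable {X Y : SSet.{u}} (p : X ⟶ Y) (S T : SGrp.{u}) (φ : ∀ n, S.G n →* T.G n)
  (hφd : ∀ n j x, φ n (S.d n j x) = T.d n j (φ (n + 1) x))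
  (hφs : ∀ n j x, φ (n + 1) (S.s n j x) = T.s n j (φ n x))
  (hsurj : ∀ n, Function.Surjective (φ n))
  (eX : ∀ n, X _⦋n⦌ ≃ S.G n) (eY : ∀ n, Y _⦋n⦌ ≃ T.G n)
  (hX : ∀ n (j : Fin (n + 2)) z, eX n (X.δ j z) = S.d n j (eX (n + 1) z))
  (hY : ∀ n (j : Fin (n + 2)) z, eY n (Y.δ j z) = T.d n j (eY (n + 1) z))
  (hp : ∀ n z, eY n (p.app _ z) = φ n (eX n z))

include hφd hφs hsurj hX hY hp in
/-- a degreewise surjective homomorphism of simplicial groups is a Kan fibration. -/
theorem rlp_J_of_SGrp : J.rlp p := by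
  apply rlp_J_of_elem
  · intro i x y hxy
    obtain ⟨z, hz, hzy⟩ := fillFib0 S T φ hφd hφs hsurj i.val (by omega)
      (extFam i (fun j hj => eX 0 (x j hj)) 1) (eY 1 y) (by
        intro j hj hji
        have hj2 : j < 2 := by omega
        have hne : (⟨j, hj2⟩ : Fin 2) ≠ i := fun h => hji (congrArg Fin.val h)
        have := extFam_apply i (fun j hj => eX 0 (x j hj)) 1 ⟨j, hj2⟩ hne
        simp only at this
        rw [this, ← hp, hxy, hY])
    refine ⟨(eX 1).symm z, ?_, ?_⟩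
    · intro j hj
      apply (eX 0).injective
      rw [hX, Equiv.apply_symm_apply, hz j.val (by omega) (fun h => hj (Fin.ext h)),
        extFam_apply i _ 1 j hj]
    · apply (eY 1).injective
      rw [hp, Equiv.apply_symm_apply, hzy]
  · intro n i x y compat hxy
    have hx' : ∀ (j : ℕ) (hj : j < n + 3) (hne : (⟨j, hj⟩ : Fin (n + 3)) ≠ i),
        extFam i (fun j hj => eX (n + 1) (x j hj)) 1 j = eX (n + 1) (x ⟨j, hj⟩ hne) :=
      fun j hj hne => extFam_apply i (fun j hj => eX (n + 1) (x j hj)) 1 ⟨j, hj⟩ hne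
    obtain ⟨z, hz, hzy⟩ := fillFib S T φ hφd hφs hsurj n i.val (by omega)
      (extFam i (fun j hj => eX (n + 1) (x j hj)) 1) (eY (n + 2) y) (by
        intro a b hab hb hai hbi
        have ha3 : a < n + 3 := by omega
        have hb3 : b < n + 3 := by omega
        have hane : (⟨a, ha3⟩ : Fin (n + 3)) ≠ i := fun h => hai (congrArg Fin.val h)
        have hbne : (⟨b, hb3⟩ : Fin (n + 3)) ≠ i := fun h => hbi (congrArg Fin.val h)
        rw [hx' a ha3 hane, hx' b hb3 hbne]
        have hlt : (⟨a, ha3⟩ : Fin (n + 3)) < ⟨b, hb3⟩ := by rw [Fin.lt_def]; exact hab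
        have c := compat ⟨a, ha3⟩ ⟨b, hb3⟩ hane hbne hlt
        have e1 := hX n ((⟨b, hb3⟩ : Fin (n + 3)).pred (Fin.ne_zero_of_lt hlt)) (x ⟨a, ha3⟩ hane)
        have e2 := hX n ((⟨a, ha3⟩ : Fin (n + 3)).castPred (Fin.ne_last_of_lt hlt))
          (x ⟨b, hb3⟩ hbne)
        simp only [Fin.val_pred, Fin.coe_castPred] at e1 e2
        rw [← e1, ← e2, c])
      (by
        intro j hj hji
        have hj3 : j < n + 3 := by omega
        have hne : (⟨j, hj3⟩ : Fin (n + 3)) ≠ i := fun h => hji (congrArg Fin.val h)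
        rw [hx' j hj3 hne, ← hp, hxy, hY])
    refine ⟨(eX (n + 2)).symm z, ?_, ?_⟩
    · intro j hj
      apply (eX (n + 1)).injective
      rw [hX, Equiv.apply_symm_apply, hz j.val (by omega) (fun h => hj (Fin.ext h)),
        hx' j.val j.isLt hj]
    · apply (eY (n + 2)).injective
      rw [hp, Equiv.apply_symm_apply, hzy]

include hφd hφs hsurj hX hY hp in
/-- a degreewise surjective homomorphism of simplicial groups whose kernel has acyclic
normalized complex is a trivial Kan fibration. -/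
theorem rlp_I_of_SGrp
    (acyc0 : ∀ c ∈ (φ 0).ker, ∃ e ∈ (φ 1).ker, S.d 0 0 e = c ∧ S.d 0 1 e = 1)
    (acyc : ∀ n, ∀ c ∈ (φ (n + 1)).ker, (∀ j, j ≤ n + 1 → S.d n j c = 1) →
      ∃ e ∈ (φ (n + 2)).ker, S.d (n + 1) 0 e = c ∧ ∀ j, 1 ≤ j → j ≤ n + 2 → S.d (n + 1) j e = 1) :
    I.rlp p := by
  apply rlp_I_of_elem
  · intro y
    obtain ⟨z, hz⟩ := hsurj 0 (eY 0 y)
    refine ⟨(eX 0).symm z, ?_⟩
    apply (eY 0).injective
    rw [hp, Equiv.apply_symm_apply, hz]
  · intro x y hxy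
    obtain ⟨z, hz, hzy⟩ := fillTriv0 S T φ hφd hφs hsurj acyc0
      (extFam' (fun j => eX 0 (x j)) 1) (eY 1 y) (by
        intro j hj
        have hj2 : j < 2 := by omega
        have := extFam'_apply (fun j => eX 0 (x j)) 1 ⟨j, hj2⟩
        simp only at this
        rw [this, ← hp, hxy, hY])
    refine ⟨(eX 1).symm z, ?_, ?_⟩
    · intro j
      apply (eX 0).injective
      rw [hX, Equiv.apply_symm_apply, hz j.val (by omega), extFam'_apply _ 1 j]
    · apply (eY 1).injective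
      rw [hp, Equiv.apply_symm_apply, hzy]
  · intro n x y compat hxy
    have hx' : ∀ (j : ℕ) (hj : j < n + 3),
        extFam' (fun j => eX (n + 1) (x j)) 1 j = eX (n + 1) (x ⟨j, hj⟩) :=
      fun j hj => extFam'_apply (fun j => eX (n + 1) (x j)) 1 ⟨j, hj⟩
    obtain ⟨z, hz, hzy⟩ := fillTriv S T φ hφd hφs hsurj acyc n
      (extFam' (fun j => eX (n + 1) (x j)) 1) (eY (n + 2) y) (by
        intro a b hab hb
        have ha3 : a < n + 3 := by omega
        have hb3 : b < n + 3 := by omega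
        rw [hx' a ha3, hx' b hb3]
        have hlt : (⟨a, ha3⟩ : Fin (n + 3)) < ⟨b, hb3⟩ := by rw [Fin.lt_def]; exact hab
        have c := compat ⟨a, ha3⟩ ⟨b, hb3⟩ hlt
        have e1 := hX n ((⟨b, hb3⟩ : Fin (n + 3)).pred (Fin.ne_zero_of_lt hlt)) (x ⟨a, ha3⟩)
        have e2 := hX n ((⟨a, ha3⟩ : Fin (n + 3)).castPred (Fin.ne_last_of_lt hlt)) (x ⟨b, hb3⟩)
        simp only [Fin.val_pred, Fin.coe_castPred] at e1 e2
        rw [← e1, ← e2, c])
      (by
        intro j hj
        have hj3 : j < n + 3 := by omega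
        rw [hx' j hj3, ← hp, hxy, hY])
    refine ⟨(eX (n + 2)).symm z, ?_, ?_⟩
    · intro j
      apply (eX (n + 1)).injective
      rw [hX, Equiv.apply_symm_apply, hz j.val (by omega), hx' j.val j.isLt]
    · apply (eY (n + 2)).injective
      rw [hp, Equiv.apply_symm_apply, hzy]

end Bridge

end Groth.Agent.Lib27.SKan
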