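import Mathlib
import Groth.Agent.Lib27.SKan2

/-!
# The index-free simplicial group attached to a simplicial object in groups
-/

set_option autoImplicit false
open CategoryTheory Simplicial Opposite

universe u

namespace Groth.Agent.Lib27.SMoore

/-- the simplicial group data of a simplicial object in `GrpCat`. -/
noncomputable def ofGrp (X : SimplicialObject GrpCat.{u}) : SGrp.{u} where
  G n := X _⦋n⦌
  d n j := if h : j < n + 2 then (X.δ ⟨j, h⟩).hom else 1
  s n j := if h : j < n + 1 then (X.σ ⟨j, h⟩).hom else 1
  dd := by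
    intro n i j hij hj x
    rw [dif_pos (show i < n + 2 by omega), dif_pos (show j + 1 < n + 1 + 2 by omega),
      dif_pos (show j < n + 2 by omega), dif_pos (show i < n + 1 + 2 by omega)]
    have h := X.δ_comp_δ (i := (⟨i, by omega⟩ : Fin (n + 2))) (j := ⟨j, by omega⟩)
      (by rw [Fin.le_def]; exact hij)
    exact congrArg (fun f => f.hom x) h
  ds_lt := by
    intro n i j hij hj x
    rw [dif_pos (show i < n + 1 + 2 by omega), dif_pos (show j + 1 < n + 1 + 1 by omega),
      dif_pos (show j < n + 1 by omega), dif_pos (show i < n + 2 by omega)]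
    have h := X.δ_comp_σ_of_le (i := (⟨i, by omega⟩ : Fin (n + 2))) (j := ⟨j, by omega⟩)
      (by rw [Fin.le_def]; exact hij)
    exact congrArg (fun f => f.hom x) h
  ds_self := by
    intro n i hi x
    rw [dif_pos (show i < n + 2 by omega), dif_pos (show i < n + 1 by omega)]
    have h := X.δ_comp_σ_self (i := (⟨i, by omega⟩ : Fin (n + 1)))
    exact congrArg (fun f => f.hom x) h
  ds_succ := by
    intro n i hi x
    rw [dif_pos (show i + 1 < n + 2 by omega), dif_pos (show i < n + 1 by omega)]
    have h := X.δ_comp_σ_succ (i := (⟨i, by omega⟩ : Fin (n + 1)))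
    exact congrArg (fun f => f.hom x) h
  ds_gt := by
    intro n i j hji hi x
    rw [dif_pos (show i + 1 < n + 1 + 2 by omega), dif_pos (show j < n + 1 + 1 by omega),
      dif_pos (show j < n + 1 by omega), dif_pos (show i < n + 2 by omega)]
    have h := X.δ_comp_σ_of_gt (i := (⟨i, by omega⟩ : Fin (n + 2))) (j := ⟨j, by omega⟩)
      (by rw [Fin.lt_def]; exact hji)
    exact congrArg (fun f => f.hom x) h

end Groth.Agent.Lib27.SMoore
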