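import Mathlib
import Groth.Agent.Lib27.SGrpOf

/-!
# Kan complexes from simplicial groups; simplicial abelian groups
-/

set_option autoImplicit false
open CategoryTheory Simplicial SSet Opposite

universe u

namespace Groth.Agent.Lib27.SMoore

/-- the simplicial group data of a simplicial object in `AddCommGrpCat`. -/
noncomputable def ofAddGrp (X : SimplicialObject AddCommGrpCat.{u}) : SGrp.{u} where
  G n := Multiplicative (X _⦋n⦌)
  d n j := if h : j < n + 2 then AddMonoidHom.toMultiplicative (X.δ ⟨j, h⟩).hom else 1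
  s n j := if h : j < n + 1 then AddMonoidHom.toMultiplicative (X.σ ⟨j, h⟩).hom else 1
  dd := by
    intro n i j hij hj x
    rw [dif_pos (show i < n + 2 by omega), dif_pos (show j + 1 < n + 1 + 2 by omega),
      dif_pos (show j < n + 2 by omega), dif_pos (show i < n + 1 + 2 by omega)]
    have h := X.δ_comp_δ (i := (⟨i, by omega⟩ : Fin (n + 2))) (j := ⟨j, by omega⟩)
      (by rw [Fin.le_def]; exact hij)
    exact congrArg (fun f => Multiplicative.ofAdd (f.hom (Multiplicative.toAdd x))) h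
  ds_lt := by
    intro n i j hij hj x
    rw [dif_pos (show i < n + 1 + 2 by omega), dif_pos (show j + 1 < n + 1 + 1 by omega),
      dif_pos (show j < n + 1 by omega), dif_pos (show i < n + 2 by omega)]
    have h := X.δ_comp_σ_of_le (i := (⟨i, by omega⟩ : Fin (n + 2))) (j := ⟨j, by omega⟩)
      (by rw [Fin.le_def]; exact hij)
    exact congrArg (fun f => Multiplicative.ofAdd (f.hom (Multiplicative.toAdd x))) h
  ds_self := by
    intro n i hi x
    rw [dif_pos (show i < n + 2 by omega), dif_pos (show i < n + 1 by omega)]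
    have h := X.δ_comp_σ_self (i := (⟨i, by omega⟩ : Fin (n + 1)))
    exact congrArg (fun f => Multiplicative.ofAdd (f.hom (Multiplicative.toAdd x))) h
  ds_succ := by
    intro n i hi x
    rw [dif_pos (show i + 1 < n + 2 by omega), dif_pos (show i < n + 1 by omega)]
    have h := X.δ_comp_σ_succ (i := (⟨i, by omega⟩ : Fin (n + 1)))
    exact congrArg (fun f => Multiplicative.ofAdd (f.hom (Multiplicative.toAdd x))) h
  ds_gt := by
    intro n i j hji hi x
    rw [dif_pos (show i + 1 < n + 1 + 2 by omega), dif_pos (show j < n + 1 + 1 by omega),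
      dif_pos (show j < n + 1 by omega), dif_pos (show i < n + 2 by omega)]
    have h := X.δ_comp_σ_of_gt (i := (⟨i, by omega⟩ : Fin (n + 2))) (j := ⟨j, by omega⟩)
      (by rw [Fin.lt_def]; exact hji)
    exact congrArg (fun f => Multiplicative.ofAdd (f.hom (Multiplicative.toAdd x))) h

lemma ofAddGrp_d (X : SimplicialObject AddCommGrpCat.{u}) (n : ℕ) (j : Fin (n + 2))
    (x : X _⦋n + 1⦌) :
    (ofAddGrp X).d n j.val (Multiplicative.ofAdd x) = Multiplicative.ofAdd ((X.δ j).hom x) := by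
  show (if h : j.val < n + 2 then AddMonoidHom.toMultiplicative (X.δ ⟨j.val, h⟩).hom else 1)
    (Multiplicative.ofAdd x) = _
  rw [dif_pos j.isLt]
  rfl

lemma ofGrp_d (X : SimplicialObject GrpCat.{u}) (n : ℕ) (j : Fin (n + 2))
    (x : X _⦋n + 1⦌) :
    (ofGrp X).d n j.val x = (X.δ j).hom x := by
  show (if h : j.val < n + 2 then (X.δ ⟨j.val, h⟩).hom else 1) x = _
  rw [dif_pos j.isLt]

end Groth.Agent.Lib27.SMoore

namespace Groth.Agent.Lib27.SKan

open SSet.modelCategoryQuillen Groth.Agent.Lib27.SMoore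

/-- Kan complexes in terms of elements. -/
theorem kan_of_elem {Z : SSet.{u}}
    (h0 : ∀ (i : Fin 2) (x : ∀ (j : Fin 2), j ≠ i → Z _⦋0⦌),
        ∃ z : Z _⦋1⦌, (∀ j hj, Z.δ j z = x j hj))
    (h : ∀ (n : ℕ) (i : Fin (n + 3)) (x : ∀ (j : Fin (n + 3)), j ≠ i → Z _⦋n + 1⦌),
      (∀ (j k : Fin (n + 3)) (hj : j ≠ i) (hk : k ≠ i) (hjk : j < k),
        Z.δ (k.pred (Fin.ne_zero_of_lt hjk)) (x j hj) =
          Z.δ (j.castPred (Fin.ne_last_of_lt hjk)) (x k hk)) →
        ∃ z : Z _⦋n + 2⦌, (∀ j hj, Z.δ j z = x j hj)) :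
    KanComplex Z := by
  rw [KanComplex.iff]
  intro n i f hf
  have key : ∃ z : Z _⦋n + 1⦌, (∀ j hj, Z.δ j z = yonedaEquiv (f j hj)) := by
    rcases n with _ | n
    · exact h0 i (fun j hj => yonedaEquiv (f j hj))
    · refine h n i (fun j hj => yonedaEquiv (f j hj)) ?_
      intro j k hj hk hjk
      rw [← stdSimplex.yonedaEquiv_δ_comp, ← stdSimplex.yonedaEquiv_δ_comp]
      exact congrArg _ (hf j k hj hk hjk)
  obtain ⟨z, hz⟩ := key
  refine ⟨yonedaEquiv.symm z, ?_⟩
  intro j hj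
  rw [stdSimplex.δ_comp_yonedaEquiv_symm, hz j hj, Equiv.symm_apply_apply]

/-- the simplicial set underlying a simplicial group is a Kan complex. -/
theorem kan_of_SGrp {Z : SSet.{u}} (S : SGrp.{u}) (eZ : ∀ n, Z _⦋n⦌ ≃ S.G n)
    (hZ : ∀ n (j : Fin (n + 2)) z, eZ n (Z.δ j z) = S.d n j (eZ (n + 1) z)) : KanComplex Z := by
  apply kan_of_elem
  · intro i x
    obtain ⟨z, -, hz⟩ := fill0 S (fun _ => ⊤) (fun _ _ _ _ => Subgroup.mem_top _) i.val (by omega)
      (extFam i (fun j hj => eZ 0 (x j hj)) 1) (fun _ => Subgroup.mem_top _)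
    refine ⟨(eZ 1).symm z, ?_⟩
    intro j hj
    apply (eZ 0).injective
    rw [hZ, Equiv.apply_symm_apply, hz j.val (by omega) (fun h => hj (Fin.ext h)),
      extFam_apply i _ 1 j hj]
  · intro n i x compat
    have hx' : ∀ (j : ℕ) (hj : j < n + 3) (hne : (⟨j, hj⟩ : Fin (n + 3)) ≠ i),
        extFam i (fun j hj => eZ (n + 1) (x j hj)) 1 j = eZ (n + 1) (x ⟨j, hj⟩ hne) :=
      fun j hj hne => extFam_apply i (fun j hj => eZ (n + 1) (x j hj)) 1 ⟨j, hj⟩ hne
    obtain ⟨z, -, hz⟩ := fill S (fun _ => ⊤) (fun _ _ _ _ => Subgroup.mem_top _)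
      (fun _ _ _ _ => Subgroup.mem_top _) n i.val (by omega)
      (extFam i (fun j hj => eZ (n + 1) (x j hj)) 1) (fun _ => Subgroup.mem_top _) (by
        intro a b hab hb hai hbi
        have ha3 : a < n + 3 := by omega
        have hb3 : b < n + 3 := by omega
        have hane : (⟨a, ha3⟩ : Fin (n + 3)) ≠ i := fun h => hai (congrArg Fin.val h)
        have hbne : (⟨b, hb3⟩ : Fin (n + 3)) ≠ i := fun h => hbi (congrArg Fin.val h)
        rw [hx' a ha3 hane, hx' b hb3 hbne]
        have hlt : (⟨a, ha3⟩ : Fin (n + 3)) < ⟨b, hb3⟩ := by rw [Fin.lt_def]; exact hab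
        have c := compat ⟨a, ha3⟩ ⟨b, hb3⟩ hane hbne hlt
        have e1 := hZ n ((⟨b, hb3⟩ : Fin (n + 3)).pred (Fin.ne_zero_of_lt hlt)) (x ⟨a, ha3⟩ hane)
        have e2 := hZ n ((⟨a, ha3⟩ : Fin (n + 3)).castPred (Fin.ne_last_of_lt hlt))
          (x ⟨b, hb3⟩ hbne)
        simp only [Fin.val_pred, Fin.coe_castPred] at e1 e2
        rw [← e1, ← e2, c])
    refine ⟨(eZ (n + 2)).symm z, ?_⟩
    intro j hj
    apply (eZ (n + 1)).injective
    rw [hZ, Equiv.apply_symm_apply, hz j.val (by omega) (fun h => hj (Fin.ext h)),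
      hx' j.val j.isLt hj]

end Groth.Agent.Lib27.SKan
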