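import Mathlib
import Groth.Agent.Lib27.SKan3

/-!
# Simplicial abelian groups: fibrations and trivial fibrations
-/

set_option autoImplicit false
open CategoryTheory Simplicial SSet Opposite

universe u

namespace Groth.Agent.Lib27.SMoore

variable {X Y : SimplicialObject AddCommGrpCat.{u}} (f : X ⟶ Y)

/-- the morphism of simplicial group data attached to a morphism of simplicial abelian groups. -/
noncomputable def ofAddGrpHom (n : ℕ) : (ofAddGrp X).G n →* (ofAddGrp Y).G n :=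
  (AddMonoidHom.toMultiplicative (f.app (op ⦋n⦌)).hom :
    Multiplicative (X _⦋n⦌) →* Multiplicative (Y _⦋n⦌))

lemma ofAddGrpHom_apply (n : ℕ) (x : X _⦋n⦌) :
    ofAddGrpHom f n (Multiplicative.ofAdd x) = Multiplicative.ofAdd ((f.app (op ⦋n⦌)).hom x) := rfl

lemma ofAddGrp_d_of_not_lt (X : SimplicialObject AddCommGrpCat.{u}) (n j : ℕ) (h : ¬ j < n + 2)
    (x : (ofAddGrp X).G (n + 1)) : (ofAddGrp X).d n j x = 1 := by
  show (if h : j < n + 2 then AddMonoidHom.toMultiplicative (X.δ ⟨j, h⟩).hom else 1) x = _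
  rw [dif_neg h]
  rfl

lemma ofAddGrp_d' (X : SimplicialObject AddCommGrpCat.{u}) (n j : ℕ) (h : j < n + 2)
    (x : (ofAddGrp X).G (n + 1)) : (ofAddGrp X).d n j x =
      Multiplicative.ofAdd ((X.δ ⟨j, h⟩).hom (Multiplicative.toAdd x)) := by
  show (if h : j < n + 2 then AddMonoidHom.toMultiplicative (X.δ ⟨j, h⟩).hom else 1) x = _
  rw [dif_pos h]
  rfl

lemma ofAddGrp_s_of_not_lt (X : SimplicialObject AddCommGrpCat.{u}) (n j : ℕ) (h : ¬ j < n + 1)
    (x : (ofAddGrp X).G n) : (ofAddGrp X).s n j x = 1 := by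
  show (if h : j < n + 1 then AddMonoidHom.toMultiplicative (X.σ ⟨j, h⟩).hom else 1) x = _
  rw [dif_neg h]
  rfl

lemma ofAddGrp_s' (X : SimplicialObject AddCommGrpCat.{u}) (n j : ℕ) (h : j < n + 1)
    (x : (ofAddGrp X).G n) : (ofAddGrp X).s n j x =
      Multiplicative.ofAdd ((X.σ ⟨j, h⟩).hom (Multiplicative.toAdd x)) := by
  show (if h : j < n + 1 then AddMonoidHom.toMultiplicative (X.σ ⟨j, h⟩).hom else 1) x = _
  rw [dif_pos h]
  rfl

lemma ofAddGrpHom_d (n j : ℕ) (x : (ofAddGrp X).G (n + 1)) :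
    ofAddGrpHom f n ((ofAddGrp X).d n j x) = (ofAddGrp Y).d n j (ofAddGrpHom f (n + 1) x) := by
  by_cases h : j < n + 2
  · rw [ofAddGrp_d' X n j h, ofAddGrp_d' Y n j h]
    have := f.naturality (SimplexCategory.δ (⟨j, h⟩ : Fin (n + 2))).op
    exact congrArg (fun g => Multiplicative.ofAdd (g.hom (Multiplicative.toAdd x))) this
  · rw [ofAddGrp_d_of_not_lt X n j h, ofAddGrp_d_of_not_lt Y n j h, map_one]

lemma ofAddGrpHom_s (n j : ℕ) (x : (ofAddGrp X).G n) :
    ofAddGrpHom f (n + 1) ((ofAddGrp X).s n j x) = (ofAddGrp Y).s n j (ofAddGrpHom f n x) := by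
  by_cases h : j < n + 1
  · rw [ofAddGrp_s' X n j h, ofAddGrp_s' Y n j h]
    have := f.naturality (SimplexCategory.σ (⟨j, h⟩ : Fin (n + 1))).op
    exact congrArg (fun g => Multiplicative.ofAdd (g.hom (Multiplicative.toAdd x))) this
  · rw [ofAddGrp_s_of_not_lt X n j h, ofAddGrp_s_of_not_lt Y n j h, map_one]

end Groth.Agent.Lib27.SMoore

namespace Groth.Agent.Lib27.SKan

open SSet.modelCategoryQuillen Groth.Agent.Lib27.SMoore

variable {X Y : SimplicialObject AddCommGrpCat.{u}} (f : X ⟶ Y)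

/-- a degreewise surjective morphism of simplicial abelian groups is a Kan fibration. -/
theorem rlp_J_ab (hf : ∀ n : ℕ, Function.Surjective (f.app (op ⦋n⦌)).hom) :
    J.rlp (X := X ⋙ forget AddCommGrpCat.{u}) (Y := Y ⋙ forget AddCommGrpCat.{u})
      (Functor.whiskerRight f (forget AddCommGrpCat.{u})) := by
  refine rlp_J_of_SGrp _ (ofAddGrp X) (ofAddGrp Y) (ofAddGrpHom f) (ofAddGrpHom_d f)
    (ofAddGrpHom_s f) ?_ (fun n => Multiplicative.ofAdd) (fun n => Multiplicative.ofAdd) ?_ ?_ ?_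
  · intro n y
    obtain ⟨x, hx⟩ := hf n (Multiplicative.toAdd y)
    exact ⟨Multiplicative.ofAdd x, congrArg Multiplicative.ofAdd hx⟩
  · intro n j z
    exact (ofAddGrp_d X n j z).symm
  · intro n j z
    exact (ofAddGrp_d Y n j z).symm
  · intro n z
    rfl

/-- a degreewise surjective morphism of simplicial abelian groups whose kernel has
acyclic normalized complex is a trivial Kan fibration. -/
theorem rlp_I_ab (hf : ∀ n : ℕ, Function.Surjective (f.app (op ⦋n⦌)).hom)
    (acyc0 : ∀ c : X _⦋0⦌, (f.app (op ⦋0⦌)).hom c = 0 →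
      ∃ e : X _⦋1⦌, (f.app (op ⦋1⦌)).hom e = 0 ∧ (X.δ 0).hom e = c ∧ (X.δ 1).hom e = 0)
    (acyc : ∀ (n : ℕ) (c : X _⦋n + 1⦌), (f.app (op ⦋n + 1⦌)).hom c = 0 →
      (∀ j : Fin (n + 2), (X.δ j).hom c = 0) →
      ∃ e : X _⦋n + 2⦌, (f.app (op ⦋n + 2⦌)).hom e = 0 ∧ (X.δ 0).hom e = c ∧
        ∀ j : Fin (n + 3), j ≠ 0 → (X.δ j).hom e = 0) :
    I.rlp (X := X ⋙ forget AddCommGrpCat.{u}) (Y := Y ⋙ forget AddCommGrpCat.{u})
      (Functor.whiskerRight f (forget AddCommGrpCat.{u})) := by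
  refine rlp_I_of_SGrp _ (ofAddGrp X) (ofAddGrp Y) (ofAddGrpHom f) (ofAddGrpHom_d f)
    (ofAddGrpHom_s f) ?_ (fun n => Multiplicative.ofAdd) (fun n => Multiplicative.ofAdd) ?_ ?_ ?_
    ?_ ?_
  · intro n y
    obtain ⟨x, hx⟩ := hf n (Multiplicative.toAdd y)
    exact ⟨Multiplicative.ofAdd x, congrArg Multiplicative.ofAdd hx⟩
  · intro n j z
    exact (ofAddGrp_d X n j z).symm
  · intro n j z
    exact (ofAddGrp_d Y n j z).symm
  · intro n z
    rfl
  · intro c hc
    rw [MonoidHom.mem_ker] at hc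
    obtain ⟨e, he, he0, he1⟩ := acyc0 (Multiplicative.toAdd c)
      (congrArg Multiplicative.toAdd hc)
    refine ⟨Multiplicative.ofAdd e, ?_, ?_, ?_⟩
    · rw [MonoidHom.mem_ker]
      exact congrArg Multiplicative.ofAdd he
    · rw [ofAddGrp_d' X 0 0 (by omega)]
      exact congrArg Multiplicative.ofAdd he0
    · rw [ofAddGrp_d' X 0 1 (by omega)]
      exact congrArg Multiplicative.ofAdd he1
  · intro n c hc hcd
    rw [MonoidHom.mem_ker] at hc
    obtain ⟨e, he, he0, he1⟩ := acyc n (Multiplicative.toAdd c)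
      (congrArg Multiplicative.toAdd hc) (by
        intro j
        have := hcd j.val (by omega)
        rw [ofAddGrp_d' X n j.val j.isLt] at this
        exact congrArg Multiplicative.toAdd this)
    refine ⟨Multiplicative.ofAdd e, ?_, ?_, ?_⟩
    · rw [MonoidHom.mem_ker]
      exact congrArg Multiplicative.ofAdd he
    · rw [ofAddGrp_d' X (n + 1) 0 (by omega)]
      exact congrArg Multiplicative.ofAdd he0
    · intro j hj1 hj2
      rw [ofAddGrp_d' X (n + 1) j (by omega)]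
      exact congrArg Multiplicative.ofAdd (he1 ⟨j, by omega⟩ (by
        intro h
        have := congrArg Fin.val h
        simp at this
        omega))

end Groth.Agent.Lib27.SKan
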