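import Mathlib
import Groth.Agent.Lib27.SKan4

/-!
# Acyclicity of the normalized kernel of a surjective quasi-isomorphism of simplicial abelian groups
-/

set_option autoImplicit false
open CategoryTheory Simplicial Opposite AlgebraicTopology AlgebraicTopology.DoldKan DoldKan

universe u

namespace Groth.Agent.Lib27.SAcyc

section PInf

variable (X : SimplicialObject AddCommGrpCat.{u})

lemma PInfty_faces (n : ℕ) (j : Fin (n + 2)) (x : X _⦋n + 2⦌) :
    (X.δ j.succ).hom ((PInfty.f (n + 2) : X _⦋n + 2⦌ ⟶ X _⦋n + 2⦌).hom x) = 0 := by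
  have h := HigherFacesVanish.of_P (X := X) (n + 2) (n + 1) j (by omega)
  rw [← PInfty_f] at h
  exact congrArg (fun g => g.hom x) h

lemma PInfty_faces_one (j : Fin 1) (x : X _⦋1⦌) :
    (X.δ j.succ).hom ((PInfty.f 1 : X _⦋1⦌ ⟶ X _⦋1⦌).hom x) = 0 := by
  have h := HigherFacesVanish.of_P (X := X) 1 0 j (by omega)
  rw [← PInfty_f] at h
  exact congrArg (fun g => g.hom x) h

lemma PInfty_fix (n : ℕ) (c : X _⦋n + 1⦌) (hc : ∀ j : Fin (n + 1), (X.δ j.succ).hom c = 0) :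
    (PInfty.f (n + 1) : X _⦋n + 1⦌ ⟶ X _⦋n + 1⦌).hom c = c := by
  let N : AddSubgroup (X _⦋n + 1⦌) := ⨅ j : Fin (n + 1), (X.δ j.succ).hom.ker
  let φ : AddCommGrpCat.of N ⟶ X _⦋n + 1⦌ := AddCommGrpCat.ofHom N.subtype
  have v : HigherFacesVanish (n + 1) φ := by
    intro j _
    ext x
    exact AddSubgroup.mem_iInf.1 x.2 j
  have h := v.comp_P_eq_self
  rw [← PInfty_f] at h
  have hcN : c ∈ N := AddSubgroup.mem_iInf.2 (fun j => hc j)
  exact congrArg (fun g => g.hom ⟨c, hcN⟩) h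

lemma d_apply (n : ℕ) (x : X _⦋n + 1⦌) :
    (K[X].d (n + 1) n).hom x = ∑ i : Fin (n + 2), (-1 : ℤ) ^ (i : ℕ) • (X.δ i).hom x := by
  rw [AlternatingFaceMapComplex.obj_d_eq]
  have : (∑ i : Fin (n + 2), (-1 : ℤ) ^ (i : ℕ) • X.δ i : X _⦋n + 1⦌ ⟶ X _⦋n⦌).hom =
      ∑ i : Fin (n + 2), (-1 : ℤ) ^ (i : ℕ) • (X.δ i).hom :=
    map_sum AddCommGrpCat.homAddEquiv _ _
  rw [this, AddMonoidHom.finset_sum_apply]
  rfl

lemma d_apply_of_faces (n : ℕ) (x : X _⦋n + 1⦌) (hx : ∀ j : Fin (n + 1), (X.δ j.succ).hom x = 0) :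
    (K[X].d (n + 1) n).hom x = (X.δ 0).hom x := by
  rw [d_apply, Fin.sum_univ_succ]
  simp [hx]

lemma PInfty_d (n : ℕ) (x : X _⦋n + 1⦌) :
    (K[X].d (n + 1) n).hom ((PInfty.f (n + 1) : X _⦋n + 1⦌ ⟶ X _⦋n + 1⦌).hom x) =
      (PInfty.f n : X _⦋n⦌ ⟶ X _⦋n⦌).hom ((K[X].d (n + 1) n).hom x) := by
  have h := (PInfty : K[X] ⟶ K[X]).comm (n + 1) n
  exact congrArg (fun g => g.hom x) h

end PInf

section Ker

variable {X Y : SimplicialObject AddCommGrpCat.{u}} (f : X ⟶ Y)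

lemma nat_apply {m n : SimplexCategoryᵒᵖ} (g : m ⟶ n) (x : X.obj m) :
    (f.app n).hom ((X.map g).hom x) = (Y.map g).hom ((f.app m).hom x) :=
  congrArg (fun h => h.hom x) (f.naturality g)

/-- the kernel of a morphism of simplicial abelian groups. -/
noncomputable def kerS : SimplicialObject AddCommGrpCat.{u} where
  obj n := AddCommGrpCat.of (f.app n).hom.ker
  map {m n} g := AddCommGrpCat.ofHom
    (((X.map g).hom.comp (f.app m).hom.ker.subtype).codRestrict (f.app n).hom.ker (by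
      intro x
      rw [AddMonoidHom.mem_ker]
      show (f.app n).hom ((X.map g).hom x.1) = 0
      rw [nat_apply, (AddMonoidHom.mem_ker.1 x.2), map_zero]))
  map_id := by
    intro n
    ext x
    show (X.map (𝟙 n)).hom x.1 = x.1
    rw [X.map_id]
    rfl
  map_comp := by
    intro a b c g h
    ext x
    show (X.map (g ≫ h)).hom x.1 = (X.map h).hom ((X.map g).hom x.1)
    rw [X.map_comp]
    rfl

/-- the inclusion of the kernel. -/
noncomputable def kerι : kerS f ⟶ X where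
  app n := AddCommGrpCat.ofHom (f.app n).hom.ker.subtype
  naturality := by
    intro m n g
    ext x
    rfl

lemma kerι_comp : kerι f ≫ f = 0 := by
  ext n x
  exact x.2

/-- the short complex of alternating face map complexes. -/
noncomputable def shortCx : ShortComplex (ChainComplex AddCommGrpCat.{u} ℕ) :=
  ShortComplex.mk ((alternatingFaceMapComplex AddCommGrpCat.{u}).map (kerι f))
    ((alternatingFaceMapComplex AddCommGrpCat.{u}).map f) (by
      rw [← Functor.map_comp, kerι_comp]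
      ext n x
      rfl)

lemma shortCx_shortExact (hf : ∀ n : ℕ, Function.Surjective (f.app (op ⦋n⦌)).hom) :
    (shortCx f).ShortExact := by
  apply HomologicalComplex.shortExact_of_degreewise_shortExact
  intro i
  refine ShortComplex.ShortExact.mk' ?_ ?_ ?_
  · rw [ShortComplex.ab_exact_iff]
    intro x hx
    exact ⟨⟨x, hx⟩, rfl⟩
  · rw [AddCommGrpCat.mono_iff_injective]
    intro a b hab
    exact Subtype.ext hab
  · rw [AddCommGrpCat.epi_iff_surjective]
    exact hf i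

end Ker

section Main

variable {X Y : SimplicialObject AddCommGrpCat.{u}} (f : X ⟶ Y)
  (hf : ∀ n : ℕ, Function.Surjective (f.app (op ⦋n⦌)).hom)
  (hq : QuasiIso ((alternatingFaceMapComplex AddCommGrpCat.{u}).map f))

include hf hq in
/-- cycles in the kernel are boundaries in the kernel. -/
lemma ker_boundary (n : ℕ) (c : X _⦋n + 1⦌) (hc : (f.app (op ⦋n + 1⦌)).hom c = 0)
    (hdc : (K[X].d (n + 1) n).hom c = 0) :
    ∃ e : X _⦋n + 2⦌, (f.app (op ⦋n + 2⦌)).hom e = 0 ∧ (K[X].d (n + 2) (n + 1)).hom e = c := by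
  have hS := shortCx_shortExact f hf
  have hac : (shortCx f).X₁.Acyclic := hS.acyclic_X₁ hq
  have hex := hac (n + 1)
  rw [HomologicalComplex.exactAt_iff' _ (n + 2) (n + 1) n (by simp) (by simp),
    ShortComplex.ab_exact_iff] at hex
  let c' : (f.app (op ⦋n + 1⦌)).hom.ker := ⟨c, hc⟩
  obtain ⟨x₁, hx₁⟩ := hex c' (by
    apply Subtype.ext
    have h := ((alternatingFaceMapComplex AddCommGrpCat.{u}).map (kerι f)).comm (n + 1) n
    have h2 := congrArg (fun g => g.hom c') h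
    exact h2.symm.trans hdc)
  refine ⟨x₁.1, x₁.2, ?_⟩
  have h := ((alternatingFaceMapComplex AddCommGrpCat.{u}).map (kerι f)).comm (n + 2) (n + 1)
  have h2 := congrArg (fun g => g.hom x₁) h
  exact h2.trans (congrArg Subtype.val hx₁)

include hf hq in
/-- degree zero elements of the kernel are boundaries in the kernel. -/
lemma ker_boundary0 (c : X _⦋0⦌) (hc : (f.app (op ⦋0⦌)).hom c = 0) :
    ∃ e : X _⦋1⦌, (f.app (op ⦋1⦌)).hom e = 0 ∧ (K[X].d 1 0).hom e = c := by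
  have hS := shortCx_shortExact f hf
  have hac : (shortCx f).X₁.Acyclic := hS.acyclic_X₁ hq
  have hex := hac 0
  rw [HomologicalComplex.exactAt_iff' _ 1 0 0 (by simp) (by simp),
    ShortComplex.ab_exact_iff] at hex
  let c' : (f.app (op ⦋0⦌)).hom.ker := ⟨c, hc⟩
  obtain ⟨x₁, hx₁⟩ := hex c' (by
    have h0 : (shortCx f).X₁.d 0 0 = 0 := HomologicalComplex.shape _ _ _ (by simp)
    show ((shortCx f).X₁.d 0 0).hom c' = 0
    rw [h0]
    rfl)
  refine ⟨x₁.1, x₁.2, ?_⟩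
  have h := ((alternatingFaceMapComplex AddCommGrpCat.{u}).map (kerι f)).comm 1 0
  have h2 := congrArg (fun g => g.hom x₁) h
  exact h2.trans (congrArg Subtype.val hx₁)

include hf hq in
theorem acyc0 (c : X _⦋0⦌) (hc : (f.app (op ⦋0⦌)).hom c = 0) :
    ∃ e : X _⦋1⦌, (f.app (op ⦋1⦌)).hom e = 0 ∧ (X.δ 0).hom e = c ∧ (X.δ 1).hom e = 0 := by
  obtain ⟨e₂, he₂, hde₂⟩ := ker_boundary0 f hf hq c hc
  refine ⟨(PInfty.f 1 : X _⦋1⦌ ⟶ X _⦋1⦌).hom e₂, ?_, ?_, ?_⟩
  · have h := PInfty_f_naturality 1 f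
    have h2 := congrArg (fun g => g.hom e₂) h
    refine h2.symm.trans ?_
    show (PInfty.f 1 : Y _⦋1⦌ ⟶ Y _⦋1⦌).hom ((f.app (op ⦋1⦌)).hom e₂) = 0
    rw [he₂, map_zero]
  · have := PInfty_d X 0 e₂
    rw [d_apply_of_faces X 0 _ (fun j => PInfty_faces_one X j e₂), hde₂] at this
    exact this
  · exact PInfty_faces_one X 0 e₂

include hf hq in
theorem acyc (n : ℕ) (c : X _⦋n + 1⦌) (hc : (f.app (op ⦋n + 1⦌)).hom c = 0)
    (hcd : ∀ j : Fin (n + 2), (X.δ j).hom c = 0) :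
    ∃ e : X _⦋n + 2⦌, (f.app (op ⦋n + 2⦌)).hom e = 0 ∧ (X.δ 0).hom e = c ∧
      ∀ j : Fin (n + 3), j ≠ 0 → (X.δ j).hom e = 0 := by
  have hdc : (K[X].d (n + 1) n).hom c = 0 := by
    rw [d_apply]
    simp [hcd]
  obtain ⟨e₂, he₂, hde₂⟩ := ker_boundary f hf hq n c hc hdc
  refine ⟨(PInfty.f (n + 2) : X _⦋n + 2⦌ ⟶ X _⦋n + 2⦌).hom e₂, ?_, ?_, ?_⟩
  · have h := PInfty_f_naturality (n + 2) f
    have h2 := congrArg (fun g => g.hom e₂) h
    refine h2.symm.trans ?_
    show (PInfty.f (n + 2) : Y _⦋n + 2⦌ ⟶ Y _⦋n + 2⦌).hom ((f.app (op ⦋n + 2⦌)).hom e₂) = 0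
    rw [he₂, map_zero]
  · have := PInfty_d X (n + 1) e₂
    rw [d_apply_of_faces X (n + 1) _ (fun j => PInfty_faces X n j e₂), hde₂,
      PInfty_fix X n c (fun j => hcd j.succ)] at this
    exact this
  · intro j hj
    obtain ⟨i, rfl⟩ := Fin.eq_succ_of_ne_zero hj
    exact PInfty_faces X n i e₂

end Main

end Groth.Agent.Lib27.SAcyc
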