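import Mathlib
import Groth.Agent.Lib27.SKan2

/-!
# Trivial Kan fibrations between coskeletal simplicial sets
-/

set_option autoImplicit false
open CategoryTheory Simplicial SSet Opposite

universe u

namespace Groth.Agent.Lib27.SCosk

open SSet.modelCategoryQuillen

lemma hasLift_zero {X Y : SSet.{u}} (p : X ⟶ Y) (t : (∂Δ[0] : SSet.{u}) ⟶ X) (b : Δ[0] ⟶ Y)
    (sq : CommSq t (∂Δ[0] : SSet.Subcomplex _).ι p b) (z : X _⦋0⦌)
    (hz : p.app _ z = yonedaEquiv b) : sq.HasLift :=
  ⟨⟨{ l := yonedaEquiv.symm z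
      fac_left := boundary.hom_ext₀
      fac_right := by rw [yonedaEquiv_symm_comp, hz, Equiv.symm_apply_apply] }⟩⟩

lemma hcomm {X Y : SSet.{u}} (p : X ⟶ Y) (k : ℕ) (t : (∂Δ[k + 1] : SSet.{u}) ⟶ X)
    (b : Δ[k + 1] ⟶ Y) (sq : CommSq t (∂Δ[k + 1] : SSet.Subcomplex _).ι p b) (j : Fin (k + 2)) :
    p.app _ (yonedaEquiv (boundary.ι j ≫ t)) = Y.δ j (yonedaEquiv b) := by
  rw [← yonedaEquiv_comp, Category.assoc, sq.w, ← Category.assoc, boundary.ι_ι,
    stdSimplex.yonedaEquiv_δ_comp]

lemma hasLift_succ {X Y : SSet.{u}} (p : X ⟶ Y) (k : ℕ) (t : (∂Δ[k + 1] : SSet.{u}) ⟶ X)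
    (b : Δ[k + 1] ⟶ Y) (sq : CommSq t (∂Δ[k + 1] : SSet.Subcomplex _).ι p b) (z : X _⦋k + 1⦌)
    (hz : ∀ j, X.δ j z = yonedaEquiv (boundary.ι j ≫ t))
    (hzy : p.app _ z = yonedaEquiv b) : sq.HasLift :=
  ⟨⟨{ l := yonedaEquiv.symm z
      fac_left := boundary.hom_ext (fun j => by
        rw [← Category.assoc, boundary.ι_ι, stdSimplex.δ_comp_yonedaEquiv_symm, hz j,
          Equiv.symm_apply_apply])
      fac_right := by rw [yonedaEquiv_symm_comp, hzy, Equiv.symm_apply_apply] }⟩⟩

lemma mem_boundary_of_lt (m : ℕ) (s : SimplexCategoryᵒᵖ) (h : s.unop.len < m)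
    (x : (Δ[m] : SSet.{u}).obj s) : x ∈ (∂Δ[m] : SSet.Subcomplex _).obj s := by
  have := boundary_obj_eq_univ.{u} s.unop.len m h
  have e : op ⦋s.unop.len⦌ = s := rfl
  rw [e] at this
  rw [this]
  trivial

section

variable {U V : SSet.{u}} (f : V ⟶ U) (n m : ℕ)

/-- the truncation of a map from the boundary, as a map from the truncation of the simplex. -/
noncomputable def αt (hm : n < m)
    (t : (∂Δ[m] : SSet.{u}) ⟶ V) : (SimplexCategory.Truncated.inclusion n).op ⋙ (Δ[m] : SSet.{u}) ⟶
    (SimplexCategory.Truncated.inclusion n).op ⋙ V where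
  app a := ↾(fun x => t.app ((SimplexCategory.Truncated.inclusion n).op.obj a)
    ⟨x, mem_boundary_of_lt m _ (lt_of_le_of_lt a.unop.property hm) x⟩)
  naturality a b g := by
    ext x
    exact NatTrans.naturality_apply t ((SimplexCategory.Truncated.inclusion n).op.map g)
      ⟨x, mem_boundary_of_lt m _ (lt_of_le_of_lt a.unop.property hm) x⟩

theorem hasLift_of_coskeletal (hm : n < m)
    (t : (∂Δ[m] : SSet.{u}) ⟶ V) [SimplicialObject.IsCoskeletal U n]
    [SimplicialObject.IsCoskeletal V n] (b : Δ[m] ⟶ U)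
    (sq : CommSq t (∂Δ[m] : SSet.Subcomplex _).ι f b) : sq.HasLift := by
  have hH : ∀ (a : (SimplexCategory.Truncated n)ᵒᵖ)
      (x : (Δ[m] : SSet.{u}).obj ((SimplexCategory.Truncated.inclusion n).op.obj a)),
      (Functor.liftOfIsRightKanExtension V (𝟙 ((SimplexCategory.Truncated.inclusion n).op ⋙ V))
        (Δ[m] : SSet.{u}) (αt n m hm t)).app ((SimplexCategory.Truncated.inclusion n).op.obj a) x =
      t.app ((SimplexCategory.Truncated.inclusion n).op.obj a)
        ⟨x, mem_boundary_of_lt m _ (lt_of_le_of_lt a.unop.property hm) x⟩ := by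
    intro a x
    have := Functor.liftOfIsRightKanExtension_fac_app V
      (𝟙 ((SimplexCategory.Truncated.inclusion n).op ⋙ V)) (Δ[m] : SSet.{u}) (αt n m hm t) a
    have e : (Functor.liftOfIsRightKanExtension V
        (𝟙 ((SimplexCategory.Truncated.inclusion n).op ⋙ V)) (Δ[m] : SSet.{u})
        (αt n m hm t)).app
        ((SimplexCategory.Truncated.inclusion n).op.obj a) = (αt n m hm t).app a :=
      (Category.comp_id _).symm.trans this
    exact ConcreteCategory.congr_hom e x
  refine ⟨⟨{ l := Functor.liftOfIsRightKanExtension V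
                (𝟙 ((SimplexCategory.Truncated.inclusion n).op ⋙ V)) (Δ[m] : SSet.{u})
                (αt n m hm t)
             fac_left := ?_
             fac_right := ?_ }⟩⟩
  · apply Functor.hom_ext_of_isRightKanExtension V
      (𝟙 ((SimplexCategory.Truncated.inclusion n).op ⋙ V))
    ext a x
    change (Functor.liftOfIsRightKanExtension V
      (𝟙 ((SimplexCategory.Truncated.inclusion n).op ⋙ V)) (Δ[m] : SSet.{u})
        (αt n m hm t)).app ((SimplexCategory.Truncated.inclusion n).op.obj a) x.1 =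
      t.app ((SimplexCategory.Truncated.inclusion n).op.obj a) x
    rw [hH]
    rfl
  · apply Functor.hom_ext_of_isRightKanExtension U
      (𝟙 ((SimplexCategory.Truncated.inclusion n).op ⋙ U))
    ext a x
    change f.app _ ((Functor.liftOfIsRightKanExtension V
      (𝟙 ((SimplexCategory.Truncated.inclusion n).op ⋙ V)) (Δ[m] : SSet.{u})
        (αt n m hm t)).app ((SimplexCategory.Truncated.inclusion n).op.obj a) x) =
      b.app ((SimplexCategory.Truncated.inclusion n).op.obj a) x
    rw [hH]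
    exact ConcreteCategory.congr_hom (NatTrans.congr_app sq.w
      ((SimplexCategory.Truncated.inclusion n).op.obj a))
      ⟨x, mem_boundary_of_lt m _ (lt_of_le_of_lt a.unop.property hm) x⟩

end

theorem rlp_I_of_coskeletal {U V : SSet.{u}} (f : V ⟶ U) (n : ℕ)
    (h1 : ∀ i : ℕ, i < n → Function.Bijective (f.app (op (SimplexCategory.mk i))))
    (h2 : Function.Surjective (f.app (op (SimplexCategory.mk n))))
    [SimplicialObject.IsCoskeletal U n] [SimplicialObject.IsCoskeletal V n] : I.rlp f := by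
  have main : ∀ (m : ℕ) (t : (∂Δ[m] : SSet.{u}) ⟶ V) (b : Δ[m] ⟶ U)
      (sq : CommSq t (∂Δ[m] : SSet.Subcomplex _).ι f b), sq.HasLift := ?_
  · intro A B i hf
    obtain ⟨m⟩ := hf
    exact ⟨fun {t b} sq => main m t b sq⟩
  intro m t b sq
  by_cases hm : n < m
  · exact hasLift_of_coskeletal f n m hm t b sq
  · have hsurj : Function.Surjective (f.app (op (SimplexCategory.mk m))) := by
      rcases Nat.lt_or_ge m n with h | h
      · exact (h1 m h).2
      · have : m = n := by omega
        subst this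
        exact h2
    obtain ⟨z, hz⟩ := hsurj (yonedaEquiv b)
    rcases m with _ | k
    · exact hasLift_zero f t b sq z hz
    · refine hasLift_succ f k t b sq z ?_ hz
      intro j
      apply (h1 k (by omega)).1
      rw [hcomm f k t b sq j, ← hz]
      exact NatTrans.naturality_apply f (SimplexCategory.δ j).op z

end Groth.Agent.Lib27.SCosk
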