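import Mathlib

/-!
# Lengths along long exact sequences: the Euler characteristic lemma
-/

set_option autoImplicit false
set_option linter.unusedSectionVars false
set_option linter.unusedVariables false

universe u v

namespace Groth.Agent.Lib27.SG

open Finset

section Len

variable {R₀ : Type v} [Ring R₀] {X Y : Type u} [AddCommGroup X] [Module R₀ X] [AddCommGroup Y]
  [Module R₀ Y]

/-- rank–nullity for lengths, on a submodule. -/
lemma length_eq_inf_ker_add_map (φ : X →ₗ[R₀] Y) (P : Submodule R₀ X) :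
    Module.length R₀ ↥P =
      Module.length R₀ ↥(P ⊓ LinearMap.ker φ) + Module.length R₀ ↥(P.map φ) := by
  let ψ : ↥P →ₗ[R₀] Y := φ.domRestrict P
  have h1 := Module.length_eq_add_of_exact (LinearMap.ker ψ).subtype ψ.rangeRestrict
    (Submodule.subtype_injective _) ψ.surjective_rangeRestrict
    (LinearMap.exact_iff.2 (by rw [LinearMap.ker_rangeRestrict, Submodule.range_subtype]))
  have h2 : LinearMap.range ψ = P.map φ := LinearMap.range_domRestrict P φ
  have h3 : LinearMap.ker ψ = (P ⊓ LinearMap.ker φ).comap P.subtype := by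
    rw [LinearMap.ker_domRestrict, Submodule.comap_inf, Submodule.comap_subtype_self, top_inf_eq]
  have e1 : ↥(LinearMap.ker ψ) ≃ₗ[R₀] ↥(P ⊓ LinearMap.ker φ) :=
    (LinearEquiv.ofEq _ _ h3).trans (Submodule.comapSubtypeEquivOfLe inf_le_left)
  have e2 : ↥(LinearMap.range ψ) ≃ₗ[R₀] ↥(P.map φ) := LinearEquiv.ofEq _ _ h2
  rw [h1, e1.length_eq, e2.length_eq]

/-- lengths of submodules corresponding under an injective map. -/
lemma length_eq_of_map_eq (φ : X →ₗ[R₀] Y) (hφ : Function.Injective φ) (P : Submodule R₀ X)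
    (Q : Submodule R₀ Y) (h : P.map φ = Q) : Module.length R₀ ↥P = Module.length R₀ ↥Q := by
  subst h
  exact (Submodule.equivMapOfInjective φ hφ P).length_eq

lemma length_eq_zero_of_eq_bot (P : Submodule R₀ X) (h : P = ⊥) : Module.length R₀ ↥P = 0 := by
  subst h
  exact Module.length_eq_zero

end Len

section Tele

/-- telescoping. -/
lemma sum_tele (k : ℕ → ℚ) (n : ℕ) :
    ∑ q ∈ range n, (-1 : ℚ) ^ q * (k q + k (q + 1)) = k 0 - (-1 : ℚ) ^ n * k n := by
  induction n with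
  | zero => simp
  | succ n ih =>
    rw [sum_range_succ, ih, pow_succ]
    ring

end Tele

section Euler

variable {R₀ : Type v} [Ring R₀] (A B C : ℕ → Type u)
  [∀ q, AddCommGroup (A q)] [∀ q, Module R₀ (A q)]
  [∀ q, AddCommGroup (B q)] [∀ q, Module R₀ (B q)]
  [∀ q, AddCommGroup (C q)] [∀ q, Module R₀ (C q)]

/-- the Euler characteristic of a long exact sequence of modules of finite length vanishes. -/
theorem euler_char (α : ∀ q, A q →ₗ[R₀] B q) (β : ∀ q, B q →ₗ[R₀] C q)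
    (γ : ∀ q, C q →ₗ[R₀] A (q + 1))
    (PA : ∀ q, Submodule R₀ (A q)) (PB : ∀ q, Submodule R₀ (B q)) (PC : ∀ q, Submodule R₀ (C q))
    (hα : ∀ q, (PA q).map (α q) = PB q ⊓ LinearMap.ker (β q))
    (hβ : ∀ q, (PB q).map (β q) = PC q ⊓ LinearMap.ker (γ q))
    (hγ : ∀ q, (PC q).map (γ q) = PA (q + 1) ⊓ LinearMap.ker (α (q + 1)))
    (h0 : PA 0 ⊓ LinearMap.ker (α 0) = ⊥) (d : ℕ)
    (hd : PA (d + 1) ⊓ LinearMap.ker (α (d + 1)) = ⊥)
    (finA : ∀ q, Module.length R₀ ↥(PA q) ≠ ⊤) (finB : ∀ q, Module.length R₀ ↥(PB q) ≠ ⊤)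
    (finC : ∀ q, Module.length R₀ ↥(PC q) ≠ ⊤) :
    ∑ q ∈ range (d + 1), (-1 : ℚ) ^ q * ((Module.length R₀ ↥(PB q)).toNat : ℚ) =
      ∑ q ∈ range (d + 1), (-1 : ℚ) ^ q * ((Module.length R₀ ↥(PA q)).toNat : ℚ) +
        ∑ q ∈ range (d + 1), (-1 : ℚ) ^ q * ((Module.length R₀ ↥(PC q)).toNat : ℚ) := by
  obtain ⟨k, hk⟩ : ∃ k : ℕ → ℚ, ∀ q, k q =
      ((Module.length R₀ ↥(PA q ⊓ LinearMap.ker (α q))).toNat : ℚ) := ⟨_, fun q => rfl⟩
  have key : ∀ q, ((Module.length R₀ ↥(PA q)).toNat : ℚ) - (Module.length R₀ ↥(PB q)).toNat +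
      (Module.length R₀ ↥(PC q)).toNat = k q + k (q + 1) := by
    intro q
    have eA := length_eq_inf_ker_add_map (α q) (PA q)
    have eB := length_eq_inf_ker_add_map (β q) (PB q)
    have eC := length_eq_inf_ker_add_map (γ q) (PC q)
    rw [hα q] at eA
    rw [hβ q] at eB
    rw [hγ q] at eC
    have fA := finA q
    have fB := finB q
    have fC := finC q
    rw [eA] at fA
    rw [eB] at fB
    rw [eC] at fC
    have fA1 := (WithTop.add_ne_top.1 fA).1
    have fA2 := (WithTop.add_ne_top.1 fA).2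
    have fB2 := (WithTop.add_ne_top.1 fB).2
    have fC2 := (WithTop.add_ne_top.1 fC).2
    rw [hk q, hk (q + 1), eA, eB, eC, ENat.toNat_add fA1 fA2, ENat.toNat_add fA2 fB2,
      ENat.toNat_add fB2 fC2]
    push_cast
    ring
  have hsum := sum_tele k (d + 1)
  have hk0 : k 0 = 0 := by
    rw [hk, length_eq_zero_of_eq_bot _ h0]
    simp
  have hkd : k (d + 1) = 0 := by
    rw [hk, length_eq_zero_of_eq_bot _ hd]
    simp
  rw [hk0, hkd, mul_zero, sub_zero] at hsum
  have h2 : ∑ q ∈ range (d + 1), (-1 : ℚ) ^ q * (k q + k (q + 1)) =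
      ∑ q ∈ range (d + 1), (-1 : ℚ) ^ q * ((Module.length R₀ ↥(PA q)).toNat : ℚ) -
      ∑ q ∈ range (d + 1), (-1 : ℚ) ^ q * ((Module.length R₀ ↥(PB q)).toNat : ℚ) +
      ∑ q ∈ range (d + 1), (-1 : ℚ) ^ q * ((Module.length R₀ ↥(PC q)).toNat : ℚ) := by
    rw [← sum_sub_distrib, ← sum_add_distrib]
    refine sum_congr rfl fun q _ => ?_
    rw [← key q]
    ring
  rw [h2] at hsum
  linarith

end Euler

end Groth.Agent.Lib27.SG
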