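import Groth.Agent.Lib27.SG1
import Groth.Agent.Lib27.LD7
import Groth.Agent.Lib27.GrFin3

/-!
# Additivity of the Euler characteristic of graded local cohomology and of the Hilbert function
-/

set_option autoImplicit false
set_option linter.unusedSectionVars false
set_option linter.unusedVariables false
set_option linter.style.haveILetI false
universe u

namespace Groth.Agent.Lib27.SG

open DirectSum GrLC Groth.Agent.Lib.Helper11.GrLCLib Groth.Agent.Lib.Helper11.GrLes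
  Groth.Agent.Lib27.LD Finset

variable {R : Type u} [CommRing R] {𝒜 : ℤ → AddSubgroup R} [GradedRing 𝒜]
variable {M : Type u} [AddCommGroup M] [Module R M] {ℳ : ℤ → AddSubgroup M}
  [DirectSum.Decomposition ℳ] [SetLike.GradedSMul 𝒜 ℳ]
variable {M' : Type u} [AddCommGroup M'] [Module R M'] {ℳ' : ℤ → AddSubgroup M'}
  [DirectSum.Decomposition ℳ'] [SetLike.GradedSMul 𝒜 ℳ']
variable {M'' : Type u} [AddCommGroup M''] [Module R M''] {ℳ'' : ℤ → AddSubgroup M''}
  [DirectSum.Decomposition ℳ''] [SetLike.GradedSMul 𝒜 ℳ'']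

/-- the long exact sequence for an injection of degree `δ`, with injectivity at the start. -/
theorem les_deg' (E' : StarInjRes 𝒜 ℳ') (E : StarInjRes 𝒜 ℳ) (E'' : StarInjRes 𝒜 ℳ'')
    (u : M' →ₗ[R] M) (v : M →ₗ[R] M'') (δ : ℤ)
    (hu : IsGrHomDeg ℳ' ℳ u δ) (hv : IsGrHomDeg ℳ ℳ'' v 0)
    (hui : Function.Injective u) (hvs : Function.Surjective v)
    (hex : LinearMap.ker v = LinearMap.range u) (a : HomogeneousIdeal 𝒜) :
    ∃ γ : ∀ q, E''.H a q →ₗ[R] E'.H a (q + 1),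
      (∀ q g x, x ∈ E''.Hgr a q g → γ q x ∈ E'.Hgr a (q + 1) (g + -δ)) ∧
      (∀ q, Function.Exact (Hm E' E a q u δ hu) (Hm E E'' a q v 0 hv)) ∧
      (∀ q, Function.Exact (Hm E E'' a q v 0 hv) (γ q)) ∧
      (∀ q, Function.Exact (γ q) (Hm E' E a (q + 1) u δ hu)) ∧
      Function.Injective (Hm E' E a 0 u δ hu) := by
  obtain ⟨γ, h1, h2, h3, h4⟩ := les_deg E' E E'' u v δ hu hv hui hvs hex a
  refine ⟨γ, h1, h2, h3, h4, ?_⟩
  letI := shiftDecomposition ℳ' (-δ)
  have hu0 : IsGrHomDeg (shiftGr ℳ' (-δ)) ℳ u 0 := by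
    intro g x hx
    have hx' : x ∈ ℳ' (g + -δ) := hx
    have := hu _ x hx'
    rw [neg_add_cancel_right] at this
    rw [add_zero]
    exact this
  obtain ⟨γ', -, -, -, -, hinj⟩ := les (shiftRes E' (-δ)) E E'' u v hu0 hv hui hvs hex a
  rw [injective_iff_map_eq_zero]
  intro y hy
  have h5 := Hm_shift E' E u δ hu hu0 a 0 ((shiftResH E' (-δ) a 0).symm y)
  rw [LinearEquiv.apply_symm_apply, hy] at h5
  have h6 := hinj (h5.trans (map_zero _).symm)
  have h7 := congrArg (shiftResH E' (-δ) a 0) h6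
  rwa [LinearEquiv.apply_symm_apply, map_zero] at h7

section Add

variable (E' : StarInjRes 𝒜 ℳ') (E : StarInjRes 𝒜 ℳ) (E'' : StarInjRes 𝒜 ℳ'')
  (u : M' →ₗ[R] M) (v : M →ₗ[R] M'') (δ : ℤ)
  (hu : IsGrHomDeg ℳ' ℳ u δ) (hv : IsGrHomDeg ℳ ℳ'' v 0)
  (hui : Function.Injective u) (hvs : Function.Surjective v)
  (hex : LinearMap.ker v = LinearMap.range u) (a : HomogeneousIdeal 𝒜)

include hu hv hui hvs hex in
/-- additivity of the Euler characteristic of the pieces of graded local cohomology. -/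
theorem chi_add (d : ℕ) (hvan : Subsingleton (E'.H a (d + 1)))
    (fin' : ∀ q n, Module.length (GrLC.deg0 𝒜) ↥(E'.Hcomp a q n) ≠ ⊤)
    (fin : ∀ q n, Module.length (GrLC.deg0 𝒜) ↥(E.Hcomp a q n) ≠ ⊤)
    (fin'' : ∀ q n, Module.length (GrLC.deg0 𝒜) ↥(E''.Hcomp a q n) ≠ ⊤) (n : ℤ) :
    ∑ q ∈ range (d + 1), (-1 : ℚ) ^ q *
        ((Module.length (GrLC.deg0 𝒜) ↥(E.Hcomp a q n)).toNat : ℚ) =
      ∑ q ∈ range (d + 1), (-1 : ℚ) ^ q *
        ((Module.length (GrLC.deg0 𝒜) ↥(E'.Hcomp a q (n + -δ))).toNat : ℚ) +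
      ∑ q ∈ range (d + 1), (-1 : ℚ) ^ q *
        ((Module.length (GrLC.deg0 𝒜) ↥(E''.Hcomp a q n)).toNat : ℚ) := by
  obtain ⟨γ, hγ, e1, e2, e3, hinj⟩ := les_deg' E' E E'' u v δ hu hv hui hvs hex a
  refine euler_char (fun q => E'.H a q) (fun q => E.H a q) (fun q => E''.H a q)
    (fun q => (Hm E' E a q u δ hu).restrictScalars (GrLC.deg0 𝒜))
    (fun q => (Hm E E'' a q v 0 hv).restrictScalars (GrLC.deg0 𝒜))
    (fun q => (γ q).restrictScalars (GrLC.deg0 𝒜))
    (fun q => E'.Hcomp a q (n + -δ)) (fun q => E.Hcomp a q n) (fun q => E''.Hcomp a q n)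
    ?_ ?_ ?_ ?_ d ?_ (fun q => fin' q _) (fun q => fin q _) (fun q => fin'' q _)
  · intro q
    ext b
    constructor
    · rintro ⟨x, hx, rfl⟩
      refine ⟨?_, ?_⟩
      · have := Hm_mem (E := E') (E' := E) hu (show x ∈ E'.Hgr a q (n + -δ) from hx)
        rw [neg_add_cancel_right] at this
        exact this
      · exact (e1 q _).2 ⟨x, rfl⟩
    · rintro ⟨hb, hgb⟩
      obtain ⟨w, hw⟩ := (e1 q b).1 hgb
      have hb' : b ∈ E.Hgr a q ((n + -δ) + δ) := by
        rw [neg_add_cancel_right]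
        exact hb
      obtain ⟨x', hx', hxb⟩ := Hm_exists_hom_preimage hu hb' w hw
      exact ⟨x', hx', hxb⟩
  · intro q
    ext c
    constructor
    · rintro ⟨b, hb, rfl⟩
      refine ⟨?_, ?_⟩
      · have := Hm_mem (E := E) (E' := E'') hv (show b ∈ E.Hgr a q n from hb)
        rw [add_zero] at this
        exact this
      · exact (e2 q _).2 ⟨b, rfl⟩
    · rintro ⟨hc, hgc⟩
      obtain ⟨w, hw⟩ := (e2 q c).1 hgc
      have hc' : c ∈ E''.Hgr a q (n + 0) := by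
        rw [add_zero]
        exact hc
      obtain ⟨x', hx', hxb⟩ := Hm_exists_hom_preimage hv hc' w hw
      exact ⟨x', hx', hxb⟩
  · intro q
    ext y
    constructor
    · rintro ⟨c, hc, rfl⟩
      exact ⟨hγ q n c hc, (e3 q _).2 ⟨c, rfl⟩⟩
    · rintro ⟨hy, hgy⟩
      obtain ⟨w, hw⟩ := (e3 q y).1 hgy
      have hγdeg : IsGrHomDeg (E''.Hgr a q) (E'.Hgr a (q + 1)) (γ q) (-δ) :=
        fun g x hx => hγ q g x hx
      obtain ⟨w', hw', hwy⟩ := exists_homogeneous_preimage (E''.Hgr a q) (E'.Hgr a (q + 1))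
        (Hgr_isInternal 𝒜 ℳ'' E'' a q) (Hgr_isInternal 𝒜 ℳ' E' a (q + 1)) _ (-δ) hγdeg n y
        hy w hw
      exact ⟨w', hw', hwy⟩
  · rw [eq_bot_iff]
    rintro x ⟨-, hx⟩
    rw [Submodule.mem_bot]
    exact hinj (hx.trans (map_zero _).symm)
  · rw [eq_bot_iff]
    intro x _
    rw [Submodule.mem_bot]
    exact Subsingleton.elim _ _

include hu hv hui hvs hex in
/-- additivity of the Hilbert function. -/
theorem hilb_add (n : ℤ) :
    Module.length (GrLC.deg0 𝒜) ↥(GrLC.comp 𝒜 ℳ n) =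
      Module.length (GrLC.deg0 𝒜) ↥(GrLC.comp 𝒜 ℳ' (n + -δ)) +
        Module.length (GrLC.deg0 𝒜) ↥(GrLC.comp 𝒜 ℳ'' n) := by
  have h1 := length_eq_inf_ker_add_map (v.restrictScalars (GrLC.deg0 𝒜)) (GrLC.comp 𝒜 ℳ n)
  have h2 : (GrLC.comp 𝒜 ℳ n).map (v.restrictScalars (GrLC.deg0 𝒜)) = GrLC.comp 𝒜 ℳ'' n := by
    ext c
    constructor
    · rintro ⟨b, hb, rfl⟩
      have := hv n b hb
      rw [add_zero] at this
      exact this
    · intro hc
      obtain ⟨w, hw⟩ := hvs c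
      have hc' : c ∈ ℳ'' (n + 0) := by
        rw [add_zero]
        exact hc
      obtain ⟨w', hw', hwc⟩ := exists_homogeneous_preimage ℳ ℳ''
        (DirectSum.Decomposition.isInternal ℳ) (DirectSum.Decomposition.isInternal ℳ'') v 0 hv n c
        hc' w hw
      exact ⟨w', hw', hwc⟩
  have h3 : (GrLC.comp 𝒜 ℳ' (n + -δ)).map (u.restrictScalars (GrLC.deg0 𝒜)) =
      GrLC.comp 𝒜 ℳ n ⊓ LinearMap.ker (v.restrictScalars (GrLC.deg0 𝒜)) := by
    ext b
    constructor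
    · rintro ⟨x, hx, rfl⟩
      refine ⟨?_, ?_⟩
      · have := hu _ x hx
        rw [neg_add_cancel_right] at this
        exact this
      · have : u x ∈ LinearMap.ker v := by
          rw [hex]
          exact ⟨x, rfl⟩
        exact this
    · rintro ⟨hb, hvb⟩
      have hb2 : b ∈ LinearMap.range u := by
        rw [← hex]
        exact hvb
      obtain ⟨w, hw⟩ := hb2
      have hb' : b ∈ ℳ ((n + -δ) + δ) := by
        rw [neg_add_cancel_right]
        exact hb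
      obtain ⟨w', hw', hwb⟩ := exists_homogeneous_preimage ℳ' ℳ
        (DirectSum.Decomposition.isInternal ℳ') (DirectSum.Decomposition.isInternal ℳ) u δ hu
        (n + -δ) b hb' w hw
      exact ⟨w', hw', hwb⟩
  have h4 := length_eq_of_map_eq (u.restrictScalars (GrLC.deg0 𝒜)) hui
    (GrLC.comp 𝒜 ℳ' (n + -δ)) _ h3
  rw [h1, h2, h4]

end Add

end Groth.Agent.Lib27.SG
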