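import Groth.Agent.Lib27.SG2
import Groth.Agent.Lib27.GrFin5
import Groth.Agent.Lib27.Kos7

/-!
# Finiteness and vanishing of the pieces of `*H^i_m(M)` for a *local ring with Artinian base
-/

set_option autoImplicit false
set_option linter.unusedSectionVars false
set_option linter.unusedVariables false
set_option linter.style.haveILetI false
universe u

namespace Groth.Agent.Lib27.SG

open DirectSum GrLC Groth.Agent.Lib.Helper11.GrLCLib Groth.Agent.Lib.Helper11.GrLes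
  Groth.Agent.Lib27.LD Finset Groth.Agent.Lib27.Kos Groth.Agent.Lib27.RS Groth.Agent.Lib27.GrFin

variable {R : Type u} [CommRing R] [IsNoetherianRing R] {𝒜 : ℤ → AddSubgroup R} [GradedRing 𝒜]
variable {M : Type u} [AddCommGroup M] [Module R M] (ℳ : ℤ → AddSubgroup M)
  [DirectSum.Decomposition ℳ] [SetLike.GradedSMul 𝒜 ℳ]

/-- finitely generated modules over an Artinian ring have finite length. -/
lemma length_ne_top_of_fg {R₀ : Type u} [CommRing R₀] [IsArtinianRing R₀] {X : Type u}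
    [AddCommGroup X] [Module R₀ X] (P : Submodule R₀ X) (hP : P.FG) :
    Module.length R₀ ↥P ≠ ⊤ := by
  haveI : Module.Finite R₀ ↥P := Module.Finite.iff_fg.2 hP
  haveI : IsNoetherian R₀ ↥P := isNoetherian_of_isNoetherianRing_of_finite R₀ ↥P
  exact Module.length_ne_top

section Local

variable (hpos : ∀ n : ℤ, n < 0 → 𝒜 n = ⊥) [IsArtinianRing (GrLC.deg0 𝒜)]
  (m : HomogeneousIdeal 𝒜) (hm : GrLC.IsStarLocal 𝒜 m)

include hpos hm in
/-- comparison of the supports `R_+` and `m`. -/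
theorem exists_cmp (E : StarInjRes 𝒜 ℳ) (p : ℕ) :
    ∃ Φ : E.H (irr 𝒜) p →ₗ[R] E.H m p, Function.Injective Φ ∧
      (∀ j x, x ∈ E.Hcomp (irr 𝒜) p j → Φ x ∈ E.Hcomp m p j) ∧
      (∀ j y, y ∈ E.Hcomp m p j → ∃ x ∈ E.Hcomp (irr 𝒜) p j, Φ x = y) := by
  obtain ⟨h1, h2⟩ := irr_le_and_pow_le hpos m hm
  have hφ : IsGrRingHom 𝒜 𝒜 (RingHom.id R) := fun j y hy => hy
  have hV : IsRS (RingHom.id R) ℳ ℳ (LinearMap.id : M →ₗ[R] M) :=
    ⟨Function.bijective_id, fun j y => Iff.rfl⟩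
  exact claim_all hφ m (irr 𝒜) (by rw [Ideal.map_id]; exact h1) (by rw [Ideal.map_id]; exact h2)
    p M ℳ M ℳ LinearMap.id hV E E

include hpos hm in
theorem length_Hcomp_eq (E : StarInjRes 𝒜 ℳ) (p : ℕ) (j : ℤ) :
    Module.length (GrLC.deg0 𝒜) ↥(E.Hcomp m p j) =
      Module.length (GrLC.deg0 𝒜) ↥(E.Hcomp (irr 𝒜) p j) := by
  obtain ⟨Φ, hinj, hd, hd'⟩ := exists_cmp ℳ hpos m hm E p
  refine (length_eq_of_map_eq (Φ.restrictScalars (GrLC.deg0 𝒜)) hinj _ _ ?_).symm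
  ext y
  constructor
  · rintro ⟨x, hx, rfl⟩
    exact hd j x hx
  · intro hy
    obtain ⟨x, hx, hxy⟩ := hd' j y hy
    exact ⟨x, hx, hxy⟩

variable [Module.Finite R M]

include hpos hm in
theorem length_Hcomp_ne_top (E : StarInjRes 𝒜 ℳ) (p : ℕ) (j : ℤ) :
    Module.length (GrLC.deg0 𝒜) ↥(E.Hcomp m p j) ≠ ⊤ := by
  rw [length_Hcomp_eq ℳ hpos m hm E p j]
  apply length_ne_top_of_fg
  exact Module.Finite.iff_fg.1 (finite_Hcomp ℳ hpos (irr 𝒜) (irr_toIdeal 𝒜) E p j)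

include hpos hm in
theorem exists_Hcomp_m_eq_bot (E : StarInjRes 𝒜 ℳ) :
    ∃ r : ℤ, ∀ (p : ℕ) (n : ℤ), r ≤ n → E.Hcomp m p n = ⊥ := by
  obtain ⟨r, hr⟩ := exists_Hcomp_eq_bot ℳ hpos (irr 𝒜) (irr_toIdeal 𝒜) E
  refine ⟨r, fun p n hn => ?_⟩
  obtain ⟨Φ, hinj, hd, hd'⟩ := exists_cmp ℳ hpos m hm E p
  rw [eq_bot_iff]
  intro y hy
  obtain ⟨x, hx, rfl⟩ := hd' n y hy
  rw [hr p n hn] at hx
  rw [(Submodule.mem_bot _).1 hx, map_zero]
  exact zero_mem _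

theorem length_comp_ne_top (n : ℤ) :
    Module.length (GrLC.deg0 𝒜) ↥(GrLC.comp 𝒜 ℳ n) ≠ ⊤ :=
  length_ne_top_of_fg _ (fg_comp (𝒜 := 𝒜) ℳ n)

omit [IsArtinianRing (GrLC.deg0 𝒜)] in
theorem subsingleton_H_of_dim_lt (a : HomogeneousIdeal 𝒜) (d : ℕ) (hd : ringKrullDim R = d)
    (E : StarInjRes 𝒜 ℳ) (q : ℕ) (hq : d < q) : Subsingleton (E.H a q) := by
  obtain ⟨e⟩ := Groth.Agent.Lib.Helper11.GrLCOrd.nonempty_H_equiv E a q
  have hdim : Module.supportDim R M < ((d + 1 : ℕ) : WithBot ℕ∞) := by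
    refine lt_of_le_of_lt (Module.supportDim_le_ringKrullDim R M) ?_
    rw [hd]
    exact_mod_cast Nat.lt_succ_self d
  have := Groth.Agent.Lib.Helper16.LC.subsingleton_H_of_supportDim_lt a.toIdeal M (d + 1) hdim q
    (by omega)
  exact e.injective.subsingleton

end Local

end Groth.Agent.Lib27.SG
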