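import Mathlib

/-!
# Functions on the integers with polynomial first difference are polynomial
-/

set_option autoImplicit false
set_option linter.unusedSectionVars false
set_option linter.unusedVariables false

namespace Groth.Agent.Lib27.SG

open Polynomial

lemma exists_antidiff (Q : Polynomial ℚ) :
    ∃ A : Polynomial ℚ, ∀ x : ℚ, A.eval (1 + x) - A.eval x = Q.eval x := by
  refine ⟨Q.sum fun n c => Polynomial.C (c / ((n : ℚ) + 1)) * Polynomial.bernoulli (n + 1),
    fun x => ?_⟩
  rw [Polynomial.sum_def, Polynomial.eval_finset_sum, Polynomial.eval_finset_sum,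
    ← Finset.sum_sub_distrib]
  conv_rhs => rw [Polynomial.eval_eq_sum, Polynomial.sum_def]
  refine Finset.sum_congr rfl fun n _ => ?_
  simp only [Polynomial.eval_mul, Polynomial.eval_C, Polynomial.bernoulli_eval_one_add,
    Nat.add_sub_cancel]
  have h1 : ((n : ℚ) + 1) ≠ 0 := by positivity
  push_cast
  field_simp
  ring

/-- a function on the integers whose first difference is a polynomial is a polynomial. -/
theorem isPoly_of_diff (g : ℤ → ℚ) (Q : Polynomial ℚ)
    (h : ∀ n : ℤ, g n - g (n - 1) = Q.eval (n : ℚ)) :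
    ∃ P : Polynomial ℚ, ∀ n : ℤ, g n = P.eval (n : ℚ) := by
  obtain ⟨A, hA⟩ := exists_antidiff (Q.comp (1 + X))
  have hstep : ∀ n : ℤ, g n - A.eval (n : ℚ) = g (n - 1) - A.eval ((n - 1 : ℤ) : ℚ) := by
    intro n
    have h1 := hA ((n - 1 : ℤ) : ℚ)
    rw [Polynomial.eval_comp, Polynomial.eval_add, Polynomial.eval_one, Polynomial.eval_X] at h1
    have h2 : (1 : ℚ) + ((n - 1 : ℤ) : ℚ) = (n : ℚ) := by push_cast; ring
    rw [h2] at h1
    have h3 := h n
    linarith
  have hconst : ∀ n : ℤ, g n - A.eval (n : ℚ) = g 0 - A.eval ((0 : ℤ) : ℚ) := by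
    intro n
    induction n using Int.induction_on with
    | zero => rfl
    | succ i ih =>
      have := hstep ((i : ℤ) + 1)
      rw [add_sub_cancel_right] at this
      rw [this, ih]
    | pred i ih =>
      have := hstep (-(i : ℤ))
      rw [← this, ih]
  refine ⟨A + Polynomial.C (g 0 - A.eval ((0 : ℤ) : ℚ)), fun n => ?_⟩
  rw [Polynomial.eval_add, Polynomial.eval_C, ← hconst n]
  ring

end Groth.Agent.Lib27.SG
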