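import Groth.Agent.Lib27.SG3
import Groth.Agent.Lib27.SG4
import Groth.Agent.Lib.Helper11.GrShiftA

/-!
# The Serre–Grothendieck formula: the difference of Hilbert function and Euler characteristic of
graded local cohomology is a polynomial
-/

set_option autoImplicit false
set_option linter.unusedSectionVars false
set_option linter.unusedVariables false
set_option linter.style.haveILetI false
universe u

namespace Groth.Agent.Lib27.SG

open DirectSum GrLC Groth.Agent.Lib.Helper11.GrLCLib Groth.Agent.Lib.Helper11.GrLes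
  Groth.Agent.Lib27.LD Finset Groth.Agent.Lib27.Kos Groth.Agent.Lib27.RS Groth.Agent.Lib27.GrFin
  Groth.Agent.Lib.Helper11.GrShift

variable {R : Type u} [CommRing R] [IsNoetherianRing R] {𝒜 : ℤ → AddSubgroup R} [GradedRing 𝒜]

section Def

variable {M : Type u} [AddCommGroup M] [Module R M] {ℳ : ℤ → AddSubgroup M}
  [DirectSum.Decomposition ℳ] [SetLike.GradedSMul 𝒜 ℳ]

/-- Hilbert function minus Euler characteristic of the pieces of local cohomology. -/
noncomputable def FF (m : HomogeneousIdeal 𝒜) (d : ℕ) (E : StarInjRes 𝒜 ℳ) (n : ℤ) : ℚ :=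
  ((Module.length (GrLC.deg0 𝒜) ↥(GrLC.comp 𝒜 ℳ n)).toNat : ℚ) -
    ∑ q ∈ range (d + 1), (-1 : ℚ) ^ q *
      ((Module.length (GrLC.deg0 𝒜) ↥(E.Hcomp m q n)).toNat : ℚ)

end Def

/-- `FF` is given by one polynomial, for all resolutions. -/
def IsPoly {M : Type u} [AddCommGroup M] [Module R M] (ℳ : ℤ → AddSubgroup M)
    [DirectSum.Decomposition ℳ] [SetLike.GradedSMul 𝒜 ℳ] (m : HomogeneousIdeal 𝒜) (d : ℕ) : Prop :=
  ∃ P : Polynomial ℚ, ∀ (E : StarInjRes 𝒜 ℳ) (n : ℤ), FF m d E n = P.eval (n : ℚ)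

variable (hpos : ∀ n : ℤ, n < 0 → 𝒜 n = ⊥) [IsArtinianRing (GrLC.deg0 𝒜)]
  (m : HomogeneousIdeal 𝒜) (hm : GrLC.IsStarLocal 𝒜 m) (d : ℕ) (hd : ringKrullDim R = d)

section Add

variable {M : Type u} [AddCommGroup M] [Module R M] [Module.Finite R M] {ℳ : ℤ → AddSubgroup M}
  [DirectSum.Decomposition ℳ] [SetLike.GradedSMul 𝒜 ℳ]
variable {M' : Type u} [AddCommGroup M'] [Module R M'] [Module.Finite R M']
  {ℳ' : ℤ → AddSubgroup M'} [DirectSum.Decomposition ℳ'] [SetLike.GradedSMul 𝒜 ℳ']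
variable {M'' : Type u} [AddCommGroup M''] [Module R M''] [Module.Finite R M'']
  {ℳ'' : ℤ → AddSubgroup M''} [DirectSum.Decomposition ℳ''] [SetLike.GradedSMul 𝒜 ℳ'']

include hpos hm hd in
theorem FF_add (E' : StarInjRes 𝒜 ℳ') (E : StarInjRes 𝒜 ℳ) (E'' : StarInjRes 𝒜 ℳ'')
    (u : M' →ₗ[R] M) (v : M →ₗ[R] M'') (δ : ℤ)
    (hu : IsGrHomDeg ℳ' ℳ u δ) (hv : IsGrHomDeg ℳ ℳ'' v 0)
    (hui : Function.Injective u) (hvs : Function.Surjective v)
    (hex : LinearMap.ker v = LinearMap.range u) (n : ℤ) :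
    FF m d E n = FF m d E' (n + -δ) + FF m d E'' n := by
  have h1 := chi_add E' E E'' u v δ hu hv hui hvs hex m d
    (subsingleton_H_of_dim_lt ℳ' m d hd E' (d + 1) (Nat.lt_succ_self d))
    (fun q n => length_Hcomp_ne_top ℳ' hpos m hm E' q n)
    (fun q n => length_Hcomp_ne_top ℳ hpos m hm E q n)
    (fun q n => length_Hcomp_ne_top ℳ'' hpos m hm E'' q n) n
  have h2 := hilb_add (𝒜 := 𝒜) u v δ hu hv hui hvs hex n
  unfold FF
  rw [h1, h2, ENat.toNat_add (length_comp_ne_top ℳ' _) (length_comp_ne_top ℳ'' _)]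
  push_cast
  ring

end Add

section Base

variable {M : Type u} [AddCommGroup M] [Module R M] [Module.Finite R M] (ℳ : ℤ → AddSubgroup M)
  [DirectSum.Decomposition ℳ] [SetLike.GradedSMul 𝒜 ℳ]

include hpos hm in
/-- modules killed by the irrelevant ideal. -/
theorem FF_eq_zero_of_killed (hk : ∀ r ∈ (irr 𝒜).toIdeal, ∀ y : M, r • y = 0)
    (E : StarInjRes 𝒜 ℳ) (n : ℤ) : FF m d E n = 0 := by
  obtain ⟨h1, K, hK⟩ := irr_le_and_pow_le hpos m hm
  have ht : ∀ y : M, ∃ k : ℕ, ∀ r ∈ m.toIdeal ^ k, r • y = 0 :=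
    fun y => ⟨K, fun r hr => hk r (hK hr) y⟩
  have hgam : ∀ y : M, y ∈ gam m.toIdeal M := fun y => ht y
  -- higher cohomology vanishes
  have hhigh : ∀ q, q ≠ 0 → E.Hcomp m q n = ⊥ := by
    intro q hq
    obtain ⟨q', rfl⟩ := Nat.exists_eq_succ_of_ne_zero hq
    rw [eq_bot_iff]
    intro z hz
    rw [Submodule.mem_bot]
    exact van_of_torsion (ℳ := ℳ) ht q' n E z hz
  -- degree zero
  let ψ : M →ₗ[R] E.H m 0 :=
    (h0 E m) ∘ₗ (LinearMap.codRestrict (gam m.toIdeal M) LinearMap.id hgam)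
  have hψinj : Function.Injective ψ := by
    intro y y' hyy
    have := h0_injective E m hyy
    exact congrArg Subtype.val this
  have hmap : (GrLC.comp 𝒜 ℳ n).map (ψ.restrictScalars (GrLC.deg0 𝒜)) = E.Hcomp m 0 n := by
    ext z
    constructor
    · rintro ⟨y, hy, rfl⟩
      exact h0_mem E m ⟨y, hgam y⟩ hy
    · intro hz
      obtain ⟨y, hy, hyz⟩ := exists_h0_eq E m hz
      exact ⟨(y : M), hy, hyz⟩
  have hlen := length_eq_of_map_eq (ψ.restrictScalars (GrLC.deg0 𝒜)) hψinj _ _ hmap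
  unfold FF
  rw [Finset.sum_eq_single 0]
  · rw [pow_zero, one_mul, hlen, sub_self]
  · intro q _ hq
    rw [length_eq_zero_of_eq_bot _ (hhigh q hq)]
    simp
  · intro h
    exact absurd (Finset.mem_range.2 (Nat.succ_pos d)) h

end Base

section Ind

variable (s : ℕ) (x : Fin s → R) (hx : ∀ i, x i ∈ 𝒜 1)
  (hirr : (irr 𝒜).toIdeal = Ideal.span (Set.range x))

include hpos hm hd hx hirr in
theorem isPoly_of_killed : ∀ (j : ℕ), j ≤ s → ∀ (M : Type u) [AddCommGroup M] [Module R M]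
    [Module.Finite R M] (ℳ : ℤ → AddSubgroup M) [DirectSum.Decomposition ℳ]
    [SetLike.GradedSMul 𝒜 ℳ], (∀ i : Fin s, j ≤ i.val → ∀ y : M, x i • y = 0) →
    IsPoly ℳ m d := by
  intro j
  induction j with
  | zero =>
    intro _ M _ _ _ ℳ _ _ hkill
    refine ⟨0, fun E n => ?_⟩
    rw [Polynomial.eval_zero]
    apply FF_eq_zero_of_killed hpos m hm d ℳ _ E n
    intro r hr y
    rw [hirr] at hr
    refine Submodule.span_induction (p := fun r _ => r • y = 0) ?_ ?_ ?_ ?_ hr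
    · rintro _ ⟨i, rfl⟩
      exact hkill i (Nat.zero_le _) y
    · exact zero_smul _ _
    · intro a b _ _ ha hb
      rw [add_smul, ha, hb, add_zero]
    · intro a b _ hb
      rw [smul_eq_mul, mul_smul, hb, smul_zero]
  | succ j ih =>
    intro hjs M _ _ _ ℳ _ _ hkill
    haveI : IsNoetherian R M := isNoetherian_of_isNoetherianRing_of_finite R M
    obtain ⟨xj, hxj⟩ : ∃ xj : R, xj = x ⟨j, hjs⟩ := ⟨_, rfl⟩
    have hxj1 : xj ∈ 𝒜 1 := hxj ▸ hx _
    obtain ⟨φ, hφ⟩ : ∃ φ : M →ₗ[R] M, φ = LinearMap.lsmul R M xj := ⟨_, rfl⟩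
    have hφdeg : IsGrHomDeg ℳ ℳ φ 1 := by
      rw [hφ]
      exact isGrHomDeg_lsmul ℳ 𝒜 hxj1
    have hφapp : ∀ y, φ y = xj • y := fun y => by rw [hφ]; rfl
    -- the kernel
    have hKhom : (LinearMap.ker φ).IsHomogeneous ℳ := ker_isHomogeneous_deg ℳ ℳ hφdeg
    letI := subDecomposition ℳ (LinearMap.ker φ) hKhom
    letI := quotDecomposition ℳ (LinearMap.ker φ) hKhom
    have hIhom : (LinearMap.range φ).IsHomogeneous ℳ := range_isHomogeneous_deg ℳ ℳ hφdeg
    letI := quotDecomposition ℳ (LinearMap.range φ) hIhom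
    -- killing conditions
    have hkillK : ∀ i : Fin s, j ≤ i.val → ∀ y : ↥(LinearMap.ker φ), x i • y = 0 := by
      intro i hi y
      by_cases hij : i.val = j
      · have hie : i = ⟨j, hjs⟩ := Fin.ext hij
        apply Subtype.ext
        rw [Submodule.coe_smul, hie, ← hxj, ← hφapp]
        exact y.2
      · apply Subtype.ext
        rw [Submodule.coe_smul]
        exact hkill i (by omega) y
    have hkillC : ∀ i : Fin s, j ≤ i.val → ∀ y : M ⧸ LinearMap.range φ, x i • y = 0 := by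
      intro i hi y
      obtain ⟨y, rfl⟩ := Submodule.mkQ_surjective _ y
      rw [← map_smul]
      by_cases hij : i.val = j
      · have hie : i = ⟨j, hjs⟩ := Fin.ext hij
        rw [hie, ← hxj, ← hφapp]
        exact (Submodule.Quotient.mk_eq_zero _).2 ⟨y, rfl⟩
      · rw [hkill i (by omega) y, map_zero]
    obtain ⟨PK, hPK⟩ := ih (by omega) ↥(LinearMap.ker φ) (subGr ℳ (LinearMap.ker φ)) hkillK
    obtain ⟨PC, hPC⟩ := ih (by omega) (M ⧸ LinearMap.range φ) (quotGrM ℳ (LinearMap.range φ))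
      hkillC
    -- the two exact sequences
    have huA : IsGrHomDeg (subGr ℳ (LinearMap.ker φ)) ℳ (LinearMap.ker φ).subtype 0 :=
      (isGrHomDeg_zero_iff _ _).2 (subtype_isGrHom ℳ (LinearMap.ker φ))
    have hvA : IsGrHomDeg ℳ (quotGrM ℳ (LinearMap.ker φ)) (LinearMap.ker φ).mkQ 0 :=
      (isGrHomDeg_zero_iff _ _).2 (mkQ_isGrHom ℳ (LinearMap.ker φ))
    have hexA : LinearMap.ker (LinearMap.ker φ).mkQ = LinearMap.range (LinearMap.ker φ).subtype := by
      rw [Submodule.ker_mkQ, Submodule.range_subtype]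
    obtain ⟨uB, huB⟩ : ∃ uB : (M ⧸ LinearMap.ker φ) →ₗ[R] M,
        uB = (LinearMap.ker φ).liftQ φ le_rfl := ⟨_, rfl⟩
    have huBmk : ∀ y : M, uB ((LinearMap.ker φ).mkQ y) = φ y := fun y => by
      rw [huB]
      rfl
    have huBdeg : IsGrHomDeg (quotGrM ℳ (LinearMap.ker φ)) ℳ uB 1 := by
      rintro g _ ⟨y, hy, rfl⟩
      have : uB ((LinearMap.ker φ).mkQ y) = φ y := huBmk y
      show uB ((LinearMap.ker φ).mkQ y) ∈ ℳ (g + 1)
      rw [this]
      exact hφdeg g y hy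
    have huBinj : Function.Injective uB := by
      rw [← LinearMap.ker_eq_bot, huB]
      exact Submodule.ker_liftQ_eq_bot _ _ _ le_rfl
    have hvB : IsGrHomDeg ℳ (quotGrM ℳ (LinearMap.range φ)) (LinearMap.range φ).mkQ 0 :=
      (isGrHomDeg_zero_iff _ _).2 (mkQ_isGrHom ℳ (LinearMap.range φ))
    have hexB : LinearMap.ker (LinearMap.range φ).mkQ = LinearMap.range uB := by
      rw [Submodule.ker_mkQ, huB, Submodule.range_liftQ]
    obtain ⟨EK⟩ := nonempty_starInjRes 𝒜 (subGr ℳ (LinearMap.ker φ))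
    obtain ⟨EQ⟩ := nonempty_starInjRes 𝒜 (quotGrM ℳ (LinearMap.ker φ))
    obtain ⟨EC⟩ := nonempty_starInjRes 𝒜 (quotGrM ℳ (LinearMap.range φ))
    obtain ⟨E0⟩ := nonempty_starInjRes 𝒜 ℳ
    have hA : ∀ (E : StarInjRes 𝒜 ℳ) (n : ℤ), FF m d E n = PK.eval (n : ℚ) + FF m d EQ n := by
      intro E n
      have := FF_add hpos m hm d hd EK E EQ (LinearMap.ker φ).subtype (LinearMap.ker φ).mkQ 0
        huA hvA (Submodule.subtype_injective _) (Submodule.mkQ_surjective _) hexA n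
      rw [this, neg_zero, add_zero, hPK EK n]
    have hB : ∀ (E : StarInjRes 𝒜 ℳ) (n : ℤ),
        FF m d E n = FF m d EQ (n - 1) + PC.eval (n : ℚ) := by
      intro E n
      have := FF_add hpos m hm d hd EQ E EC uB (LinearMap.range φ).mkQ 1
        huBdeg hvB huBinj (Submodule.mkQ_surjective _) hexB n
      rw [this, hPC EC n]
      rfl
    have hdiff : ∀ n : ℤ, FF m d EQ n - FF m d EQ (n - 1) = (PC - PK).eval (n : ℚ) := by
      intro n
      have h1 := hA E0 n
      have h2 := hB E0 n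
      rw [Polynomial.eval_sub]
      linarith
    obtain ⟨G, hG⟩ := isPoly_of_diff (fun n => FF m d EQ n) (PC - PK) hdiff
    refine ⟨PK + G, fun E n => ?_⟩
    rw [hA E n, Polynomial.eval_add, ← hG n]

end Ind

end Groth.Agent.Lib27.SG
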