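import Groth.Agent.Lib27.SG5

/-!
# The Serre–Grothendieck formula
-/

set_option autoImplicit false
set_option linter.unusedSectionVars false
set_option linter.unusedVariables false
set_option linter.style.haveILetI false
universe u

namespace Groth.Agent.Lib27.SG

open DirectSum GrLC Groth.Agent.Lib.Helper11.GrLCLib Groth.Agent.Lib.Helper11.GrLes
  Groth.Agent.Lib27.LD Finset Groth.Agent.Lib27.Kos Groth.Agent.Lib27.RS Groth.Agent.Lib27.GrFin
  Groth.Agent.Lib.Helper11.GrShift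

variable {R : Type u} [CommRing R] [IsNoetherianRing R] {𝒜 : ℤ → AddSubgroup R} [GradedRing 𝒜]
  (hpos : ∀ n : ℤ, n < 0 → 𝒜 n = ⊥)
  (hstd : Ideal.span (⋃ n ∈ Set.Ioi (0 : ℤ), (𝒜 n : Set R)) =
    Ideal.span ((𝒜 1 : AddSubgroup R) : Set R))
  [IsArtinianRing (GrLC.deg0 𝒜)]
  (m : HomogeneousIdeal 𝒜) (hm : GrLC.IsStarLocal 𝒜 m) (d : ℕ) (hd : ringKrullDim R = d)
  {M : Type u} [AddCommGroup M] [Module R M] [Module.Finite R M] (ℳ : ℤ → AddSubgroup M)
  [DirectSum.Decomposition ℳ] [SetLike.GradedSMul 𝒜 ℳ]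

include hpos hstd hm hd in
theorem isPoly : IsPoly ℳ m d := by
  obtain ⟨s, x, hx, hxspan⟩ := exists_fin_gens (R := R) ((𝒜 1 : AddSubgroup R) : Set R)
  have ha : (irr 𝒜).toIdeal = Ideal.span (Set.range x) := by rw [irr_toIdeal, hstd, hxspan]
  exact isPoly_of_killed hpos m hm d hd s x hx ha s le_rfl M ℳ
    (fun i hi => absurd i.2 (by omega))

include hpos hstd hm hd in
/-- **Serre–Grothendieck formula**. -/
theorem main (E : GrLC.StarInjRes 𝒜 ℳ) (P : Polynomial ℚ)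
    (hP : ∃ N : ℤ, ∀ n : ℤ, N ≤ n → P.eval (n : ℚ) =
      ((Module.length (GrLC.deg0 𝒜) (GrLC.comp 𝒜 ℳ n)).toNat : ℚ)) (n : ℤ) :
    ((Module.length (GrLC.deg0 𝒜) (GrLC.comp 𝒜 ℳ n)).toNat : ℚ) - P.eval (n : ℚ) =
      ∑ i ∈ Finset.range (d + 1), (-1 : ℚ) ^ i *
        ((Module.length (GrLC.deg0 𝒜) (E.Hcomp m i n)).toNat : ℚ) := by
  obtain ⟨P₁, hP₁⟩ := isPoly hpos hstd m hm d hd ℳ
  obtain ⟨N, hN⟩ := hP
  obtain ⟨r, hr⟩ := exists_Hcomp_m_eq_bot ℳ hpos m hm E
  have heq : P₁ = P := by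
    apply Polynomial.eq_of_infinite_eval_eq
    refine Set.infinite_of_injective_forall_mem
      (f := fun k : ℕ => (((max N r + k : ℤ)) : ℚ)) ?_ ?_
    · intro k k' hkk
      simp only at hkk
      have : (max N r + (k : ℤ) : ℤ) = max N r + (k' : ℤ) := by exact_mod_cast hkk
      omega
    · intro k
      show P₁.eval _ = P.eval _
      have h1 : N ≤ max N r + (k : ℤ) := by
        have := le_max_left N r
        omega
      have h2 : r ≤ max N r + (k : ℤ) := by
        have := le_max_right N r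
        omega
      rw [← hP₁ E, hN _ h1]
      unfold FF
      rw [Finset.sum_eq_zero, sub_zero]
      intro q _
      rw [length_eq_zero_of_eq_bot _ (hr q _ h2)]
      simp
  have h3 := hP₁ E n
  rw [heq] at h3
  unfold FF at h3
  linarith

end Groth.Agent.Lib27.SG
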