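import Groth.Agent.Lib27.SG6

/-!
# The a-invariant of a Cohen–Macaulay standard graded ring via the Hilbert function
-/

set_option autoImplicit false
set_option linter.unusedSectionVars false
set_option linter.unusedVariables false
set_option linter.style.haveILetI false
universe u

namespace Groth.Agent.Lib27.SG

open DirectSum GrLC Groth.Agent.Lib.Helper11.GrLCLib Groth.Agent.Lib.Helper11.GrLes
  Groth.Agent.Lib27.LD Finset Groth.Agent.Lib27.Kos Groth.Agent.Lib27.RS Groth.Agent.Lib27.GrFin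
  Groth.Agent.Lib.Helper11.GrShift

theorem aInv_eq (R : Type u) [CommRing R] [LocCoh.IsCohenMacaulayRing R] (𝒜 : ℤ → AddSubgroup R)
    [GradedRing 𝒜] (hpos : ∀ n : ℤ, n < 0 → 𝒜 n = ⊥)
    (hstd : Ideal.span (⋃ n ∈ Set.Ioi (0 : ℤ), (𝒜 n : Set R)) =
      Ideal.span ((𝒜 1 : AddSubgroup R) : Set R))
    [IsArtinianRing (GrLC.deg0 𝒜)] (m : HomogeneousIdeal 𝒜) (hm : GrLC.IsStarLocal 𝒜 m) (d : ℕ)
    (hd : ringKrullDim R = d) (I : GrLC.StarInjRes 𝒜 𝒜) (P : Polynomial ℚ)
    (hP : ∃ N : ℤ, ∀ n : ℤ, N ≤ n → P.eval (n : ℚ) =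
      ((Module.length (GrLC.deg0 𝒜) (GrLC.comp 𝒜 𝒜 n)).toNat : ℚ)) :
    GrLC.endDeg (I.Hgr m d) =
      ⨆ (n : ℤ) (_ : P.eval (n : ℚ) ≠
        ((Module.length (GrLC.deg0 𝒜) (GrLC.comp 𝒜 𝒜 n)).toNat : ℚ)),
        ((n : WithTop ℤ) : WithBot (WithTop ℤ)) := by
  classical
  have hmax := isMaximal_of_isCoatom 𝒜 hpos hm.1
  have hht : m.toIdeal.height = d := by
    have := ringKrullDim_eq_height 𝒜 hpos hm
    rw [hd] at this
    exact_mod_cast this.symm
  have key : ∀ n : ℤ, (I.Hgr m d n ≠ ⊥) ↔ (P.eval (n : ℚ) ≠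
      ((Module.length (GrLC.deg0 𝒜) (GrLC.comp 𝒜 𝒜 n)).toNat : ℚ)) := by
    intro n
    have h := main hpos hstd m hm d hd 𝒜 I P hP n
    have hsum : ∑ i ∈ Finset.range (d + 1), (-1 : ℚ) ^ i *
        ((Module.length (GrLC.deg0 𝒜) (I.Hcomp m i n)).toNat : ℚ) =
        (-1 : ℚ) ^ d * ((Module.length (GrLC.deg0 𝒜) (I.Hcomp m d n)).toNat : ℚ) := by
      rw [Finset.sum_eq_single d]
      · intro q hq hqd
        have hlt : q < d := by
          have := Finset.mem_range.1 hq
          omega
        haveI := subsingleton_H_of_lt_height 𝒜 m hmax I d (le_of_eq hht.symm) q hlt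
        have hbot : I.Hcomp m q n = ⊥ := by
          rw [eq_bot_iff]
          intro z _
          rw [Submodule.mem_bot]
          exact Subsingleton.elim _ _
        rw [length_eq_zero_of_eq_bot _ hbot]
        simp
      · intro h
        exact absurd (Finset.mem_range.2 (Nat.lt_succ_self d)) h
    rw [hsum] at h
    have hL : ((Module.length (GrLC.deg0 𝒜) (I.Hcomp m d n)).toNat : ℚ) = 0 ↔
        I.Hgr m d n = ⊥ := by
      constructor
      · intro h0
        have h1 : (Module.length (GrLC.deg0 𝒜) (I.Hcomp m d n)).toNat = 0 := by exact_mod_cast h0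
        rcases ENat.toNat_eq_zero.1 h1 with h2 | h2
        · have h3 : Subsingleton ↥(I.Hcomp m d n) := Module.length_eq_zero_iff.1 h2
          have h4 : I.Hcomp m d n = ⊥ := Submodule.subsingleton_iff_eq_bot.1 h3
          rw [eq_bot_iff]
          intro z hz
          have hz' : z ∈ I.Hcomp m d n := hz
          rw [h4] at hz'
          exact (AddSubgroup.mem_bot).2 ((Submodule.mem_bot _).1 hz')
        · exact absurd h2 (length_Hcomp_ne_top 𝒜 hpos m hm I d n)
      · intro hbot
        have h4 : I.Hcomp m d n = ⊥ := by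
          rw [eq_bot_iff]
          intro z hz
          have hz' : z ∈ I.Hgr m d n := hz
          rw [hbot] at hz'
          exact (Submodule.mem_bot _).2 ((AddSubgroup.mem_bot).1 hz')
        rw [length_eq_zero_of_eq_bot _ h4]
        simp
    have hpow : ((-1 : ℚ) ^ d) ≠ 0 := pow_ne_zero _ (by norm_num)
    constructor
    · intro hne heq
      apply hne
      rw [← hL]
      rw [heq, sub_self] at h
      rcases mul_eq_zero.1 h.symm with h5 | h5
      · exact absurd h5 hpow
      · exact h5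
    · intro hne hbot
      apply hne
      rw [hL.2 hbot, mul_zero] at h
      linarith
  unfold GrLC.endDeg
  refine iSup_congr fun n => ?_
  exact iSup_congr_Prop (key n) (fun _ => rfl)

end Groth.Agent.Lib27.SG
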