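import Groth.Agent.Lib27.CMReg4

/-!
# A cyclic graded module over a polynomial ring with no relations in degrees ≤ 1 and regularity 0 is free
-/

set_option autoImplicit false
set_option linter.unusedSectionVars false
set_option linter.unusedVariables false
set_option linter.style.haveILetI false
universe u

namespace Groth.Agent.Lib27.StdPoly

open GrLC Groth.Agent.Lib27.GrMin Groth.Agent.Lib27.GrHilb Groth.Agent.Lib27.CMReg MvPolynomial

variable (k : Type u) [Field k] (r : ℕ)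
  {M : Type u} [AddCommGroup M] [Module k M] [Module (MvPolynomial (Fin (r + 1)) k) M]
  (ℳ : ℤ → Submodule k M) [DirectSum.Decomposition ℳ]
  [SetLike.GradedSMul (GrSyz.stdGr k (Fin (r + 1))) ℳ]

/-- a minimal free resolution of a cyclic module starting with the given generator. -/
theorem exists_freeRes_cyclic (x₀ : M) (hx₀ : x₀ ∈ ℳ 0)
    (hspan : ∀ x : M, ∃ p : MvPolynomial (Fin (r + 1)) k, p • x₀ = x)
    (hker : ∀ p : MvPolynomial (Fin (r + 1)) k, p • x₀ = 0 →
      p ∈ (GrSyz.irrel (GrSyz.stdGr k (Fin (r + 1)))).toIdeal) :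
    ∃ F : GrSyz.FreeRes (GrSyz.stdGr k (Fin (r + 1))) ℳ,
      F.IsMinimal (GrSyz.irrel (GrSyz.stdGr k (Fin (r + 1)))).toIdeal ∧ F.rk 0 = 1 ∧
      (∀ b, F.deg 0 b = 0) ∧ (∀ b, F.aug b = x₀) := by
  classical
  obtain ⟨𝔪, h𝔪def⟩ : ∃ 𝔪 : Ideal (MvPolynomial (Fin (r + 1)) k),
      𝔪 = (GrSyz.irrel (GrSyz.stdGr k (Fin (r + 1)))).toIdeal := ⟨_, rfl⟩
  have h𝔪 : ∀ a : MvPolynomial (Fin (r + 1)) k, a ∉ 𝔪 →
      IsUnit (cmp (GrSyz.stdGr k (Fin (r + 1))) 0 a) := by
    rw [h𝔪def]; exact isUnit_cmp_zero k r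
  let g : Fin 1 → M := fun _ => x₀
  let deg : Fin 1 → ℤ := fun _ => 0
  have haug : ∀ b, g b ∈ ℳ (deg b) := fun b => hx₀
  have hlc : ∀ w : Fin 1 → MvPolynomial (Fin (r + 1)) k,
      Fintype.linearCombination (MvPolynomial (Fin (r + 1)) k) g w = w 0 • x₀ := by
    intro w
    rw [Fintype.linearCombination_apply, Fin.sum_univ_one]
  let s0 : St (GrSyz.stdGr k (Fin (r + 1))) 𝔪 :=
    { n := 1
      deg := deg
      K := LinearMap.ker (Fintype.linearCombination (MvPolynomial (Fin (r + 1)) k) g)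
      graded := by
        intro d w hw
        rw [LinearMap.mem_ker] at hw ⊢
        rw [← π_linearCombination (GrSyz.stdGr k (Fin (r + 1))) ℳ deg g haug, hw, map_zero]
        rfl
      mem := by
        intro w hw b
        rw [LinearMap.mem_ker, hlc] at hw
        have hb : b = 0 := Subsingleton.elim _ _
        rw [hb, h𝔪def]
        exact hker _ hw }
  have hsurj : Function.Surjective
      (Fintype.linearCombination (MvPolynomial (Fin (r + 1)) k) g) := by
    intro x
    obtain ⟨p, hp⟩ := hspan x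
    exact ⟨fun _ => p, by rw [hlc]; exact hp⟩
  refine ⟨{ rk := fun i => (σ (GrSyz.stdGr k (Fin (r + 1))) 𝔪 h𝔪 s0 i).n
            deg := fun i => (σ (GrSyz.stdGr k (Fin (r + 1))) 𝔪 h𝔪 s0 i).deg
            d := fun i => (step (GrSyz.stdGr k (Fin (r + 1))) 𝔪 h𝔪
              (σ (GrSyz.stdGr k (Fin (r + 1))) 𝔪 h𝔪 s0 i)).D
            aug := g
            d_mem := fun i a b => (step (GrSyz.stdGr k (Fin (r + 1))) 𝔪 h𝔪
              (σ (GrSyz.stdGr k (Fin (r + 1))) 𝔪 h𝔪 s0 i)).hom a b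
            aug_mem := haug
            aug_surjective := hsurj
            exact_zero := ((step (GrSyz.stdGr k (Fin (r + 1))) 𝔪 h𝔪 s0).range_eq).symm
            exact_succ := fun i => ((step (GrSyz.stdGr k (Fin (r + 1))) 𝔪 h𝔪
              (σ (GrSyz.stdGr k (Fin (r + 1))) 𝔪 h𝔪 s0 (i + 1))).range_eq).symm },
    ?_, rfl, fun b => rfl, fun b => rfl⟩
  intro i a b
  rw [← h𝔪def]
  exact (step (GrSyz.stdGr k (Fin (r + 1))) 𝔪 h𝔪
    (σ (GrSyz.stdGr k (Fin (r + 1))) 𝔪 h𝔪 s0 i)).mem a b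

variable {k r ℳ}

/-- if a cyclic graded module `P x₀` (generator in degree `0`) has no relations in degrees `≤ 1`
and its local cohomology vanishes above the diagonal `j + i = 0`, then it is free. -/
theorem smul_injective_of_lcVan (x₀ : M) (hx₀ : x₀ ∈ ℳ 0)
    (hspan : ∀ x : M, ∃ p : MvPolynomial (Fin (r + 1)) k, p • x₀ = x)
    (hker01 : ∀ e : ℤ, e ≤ 1 → ∀ p ∈ GrSyz.stdGr k (Fin (r + 1)) e, p • x₀ = 0 → p = 0)
    (E : StarInjRes (GrSyz.stdGr k (Fin (r + 1))) ℳ) (hvan : LCVan E 0) :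
    ∀ p : MvPolynomial (Fin (r + 1)) k, p • x₀ = 0 → p = 0 := by
  classical
  -- the kernel is homogeneous
  have hhom : ∀ p : MvPolynomial (Fin (r + 1)) k, p • x₀ = 0 →
      ∀ e, cmp (GrSyz.stdGr k (Fin (r + 1))) e p • x₀ = 0 := by
    intro p hp e
    have := projToM_smul_of_mem (GrSyz.stdGr k (Fin (r + 1))) ℳ (q := e) p hx₀
    rw [hp, map_zero, sub_zero] at this
    exact this.symm
  have hker : ∀ p : MvPolynomial (Fin (r + 1)) k, p • x₀ = 0 →
      p ∈ (GrSyz.irrel (GrSyz.stdGr k (Fin (r + 1)))).toIdeal := by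
    intro p hp
    apply mem_irrel_of_coeff_zero k r p
    have h1 := hhom p hp 0
    rw [cmp_zero_eq k r p] at h1
    have h2 := hker01 0 (by norm_num) (C (coeff 0 p)) ?_ h1
    · exact C_injective _ _ (h2.trans (map_zero C).symm)
    · rw [← cmp_zero_eq k r p]
      exact cmp_mem _ _ _
  obtain ⟨F, hF, hrk, hdeg0, haug⟩ := exists_freeRes_cyclic k r ℳ x₀ hx₀ hspan hker
  have hgen := isGenLE_of_lcVan F hF E 0 hvan
  haveI : Subsingleton (Fin (F.rk 0)) := by rw [hrk]; infer_instance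
  have hne : Nonempty (Fin (F.rk 0)) := by rw [hrk]; infer_instance
  obtain ⟨a₀⟩ := hne
  -- the first differential vanishes
  have hd0 : ∀ a b, F.d 0 a b = 0 := by
    intro a b
    have hmem := F.d_mem 0 a b
    rw [hdeg0 a, sub_zero] at hmem
    have hle : F.deg (0 + 1) b ≤ 1 := by
      have := hgen (0 + 1) b
      simpa using this
    apply hker01 _ hle _ hmem
    have h1 : (F.d 0).mulVec (Pi.single b 1) ∈ LinearMap.ker F.augLin := by
      rw [F.exact_zero]
      exact ⟨_, rfl⟩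
    rw [LinearMap.mem_ker, Fintype.linearCombination_apply, Fintype.sum_subsingleton _ a,
      haug a] at h1
    rw [Matrix.mulVec_single_one] at h1
    exact h1
  intro p hp
  have hw : (fun _ : Fin (F.rk 0) => p) ∈ LinearMap.ker F.augLin := by
    rw [LinearMap.mem_ker, Fintype.linearCombination_apply, Fintype.sum_subsingleton _ a₀, haug a₀]
    exact hp
  rw [F.exact_zero] at hw
  obtain ⟨u, hu⟩ := hw
  have hz : (F.d 0).mulVec u = 0 := by
    funext a
    rw [Matrix.mulVec, dotProduct]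
    exact Finset.sum_eq_zero fun b _ => by rw [hd0 a b, zero_mul]
  have := congrFun hu a₀
  rw [Matrix.mulVecLin_apply, hz] at this
  exact this.symm

end Groth.Agent.Lib27.StdPoly
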