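import Groth.Agent.Lib27.StdPoly1
import Groth.Agent.Lib27.RS1
import Groth.Agent.Lib.Helper11.GrFieldA
import Groth.Agent.Lib.Helper11.GrStd

/-!
# A standard graded ring as a quotient of a polynomial ring; injectivity from vanishing of local cohomology
-/

set_option autoImplicit false
set_option linter.unusedSectionVars false
set_option linter.unusedVariables false
set_option linter.style.haveILetI false
universe u

namespace Groth.Agent.Lib27.StdPoly

open GrLC Groth.Agent.Lib27.GrMin Groth.Agent.Lib27.GrHilb Groth.Agent.Lib27.CMReg MvPolynomial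
  Groth.Agent.Lib.Helper11.GrField Groth.Agent.Lib.Helper11.GrConv Groth.Agent.Lib27.LD
  Groth.Agent.Lib27.RS

variable {k : Type u} [Field k] {R : Type u} [CommRing R] [Algebra k R]
  {𝒜 : ℤ → AddSubgroup R} [GradedRing 𝒜]
variable {t : ℕ} (y : Fin (t + 1) → R)

/-- the presentation map. -/
noncomputable def phi : MvPolynomial (Fin (t + 1)) k →+* R :=
  MvPolynomial.eval₂Hom (algebraMap k R) y

lemma phi_C (c : k) : phi y (C c) = algebraMap k R c := by
  simp [phi]

lemma phi_X (i : Fin (t + 1)) : phi (k := k) y (X i) = y i := by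
  simp [phi]

lemma phi_mem (hk : IsBase 𝒜 k) (hy : ∀ b, y b ∈ 𝒜 1) (j : ℤ)
    (p : MvPolynomial (Fin (t + 1)) k) (hp : p ∈ GrSyz.stdGr k (Fin (t + 1)) j) :
    phi y p ∈ 𝒜 j := by
  classical
  change MvPolynomial.eval₂ (algebraMap k R) y p ∈ 𝒜 j
  rw [MvPolynomial.eval₂_eq']
  refine AddSubgroup.sum_mem _ fun d hd => ?_
  have hw : Finsupp.weight (fun _ : Fin (t + 1) => (1 : ℤ)) d = j :=
    hp (MvPolynomial.mem_support_iff.1 hd)
  have h1 : ∏ i, y i ^ d i ∈ 𝒜 (∑ i, d i • (1 : ℤ)) :=
    SetLike.prod_pow_mem_graded 𝒜 (fun _ : Fin (t + 1) => (1 : ℤ)) y (fun i => d i)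
      (fun i _ => hy i)
  have h2 : (∑ i : Fin (t + 1), d i • (1 : ℤ)) = j := by
    rw [← hw, Groth.Agent.Lib27.RegA.weight_one']
    push_cast
    simp
  rw [h2] at h1
  have := SetLike.GradedMul.mul_mem (A := 𝒜) (hk.algebraMap_mem (coeff d p)) h1
  rwa [zero_add] at this

lemma phi_surjective (hk : IsBase 𝒜 k) (hpos : ∀ n : ℤ, n < 0 → 𝒜 n = ⊥)
    (hstd : Ideal.span (⋃ n ∈ Set.Ioi (0 : ℤ), (𝒜 n : Set R)) =
      Ideal.span ((𝒜 1 : AddSubgroup R) : Set R))
    (hyspan : ∀ x ∈ 𝒜 1, ∃ c : Fin (t + 1) → k, x = ∑ i, algebraMap k R (c i) * y i) :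
    Function.Surjective (phi (k := k) y) := by
  classical
  let S : Subring R := (phi (k := k) y).range
  have hS0 : ∀ c ∈ 𝒜 0, c ∈ S := by
    intro c hc
    obtain ⟨a, rfl⟩ := (hk c).1 hc
    exact ⟨C a, phi_C y a⟩
  have hS1 : ∀ x ∈ 𝒜 1, x ∈ S := by
    intro x hx1
    obtain ⟨c, rfl⟩ := hyspan x hx1
    refine S.sum_mem fun i _ => S.mul_mem ⟨C (c i), phi_C y (c i)⟩ ⟨X i, phi_X y i⟩
  have hSn : ∀ n : ℕ, ∀ x ∈ 𝒜 (n : ℤ), x ∈ S := by
    intro n
    induction n with
    | zero => exact fun x hx => hS0 x hx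
    | succ n ih =>
      intro x hx
      have hx' : x ∈ 𝒜 ((n : ℤ) + 1) := by
        have e : ((n + 1 : ℕ) : ℤ) = (n : ℤ) + 1 := by push_cast; ring
        rwa [e] at hx
      have h1 := Groth.Agent.Lib.Helper11.GrStd.mem_prodGrp_one 𝒜 hstd (n : ℤ)
        (Int.natCast_nonneg n) hx'
      have key : ∀ w ∈ AddSubgroup.closure (Set.image2 (· * ·) ((𝒜 (n : ℤ) : AddSubgroup R) : Set R)
          ((𝒜 1 : AddSubgroup R) : Set R)), w ∈ S := by
        intro w hw
        induction hw using AddSubgroup.closure_induction with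
        | mem w hw =>
          obtain ⟨p, hp, q, hq, rfl⟩ := hw
          exact S.mul_mem (ih p hp) (hS1 q hq)
        | zero => exact S.zero_mem
        | add a b _ _ ha hb => exact S.add_mem ha hb
        | neg a _ ha => exact S.neg_mem ha
      exact key x h1
  intro x
  have hx : x ∈ S := by
    rw [← DirectSum.sum_support_decompose 𝒜 x]
    refine S.sum_mem fun i _ => ?_
    by_cases hi : 0 ≤ i
    · obtain ⟨n, rfl⟩ := Int.eq_ofNat_of_zero_le hi
      exact hSn n _ (SetLike.coe_mem _)
    · have hbot := hpos i (by omega)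
      have hmem : ((DirectSum.decompose 𝒜 x i : 𝒜 i) : R) ∈ (⊥ : AddSubgroup R) :=
        hbot ▸ SetLike.coe_mem _
      rw [AddSubgroup.mem_bot] at hmem
      rw [hmem]
      exact S.zero_mem
  exact hx

/-- a linear form is a combination of the variables. -/
lemma eq_sum_of_mem_one (p : MvPolynomial (Fin (t + 1)) k)
    (hp : p ∈ GrSyz.stdGr k (Fin (t + 1)) 1) :
    p = ∑ i, C (coeff (Finsupp.single i 1) p) * X i := by
  classical
  apply MvPolynomial.ext
  intro d
  rw [MvPolynomial.coeff_sum]
  simp only [MvPolynomial.coeff_C_mul, MvPolynomial.coeff_X']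
  by_cases hd : ∃ j, d = Finsupp.single j 1
  · obtain ⟨j, rfl⟩ := hd
    rw [Finset.sum_eq_single j]
    · simp
    · intro i _ hij
      have : Finsupp.single i 1 ≠ Finsupp.single j 1 := by
        intro h
        apply hij
        have := congrArg (fun f => f i) h
        simp only [Finsupp.single_eq_same] at this
        by_contra hne
        rw [Finsupp.single_eq_of_ne hne] at this
        exact one_ne_zero this
      rw [if_neg this, mul_zero]
    · intro h
      exact absurd (Finset.mem_univ j) h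
  · push Not at hd
    have hz : coeff d p = 0 := by
      by_contra hne
      have hw : Finsupp.weight (fun _ : Fin (t + 1) => (1 : ℤ)) d = 1 := hp hne
      rw [Groth.Agent.Lib27.RegA.weight_one'] at hw
      have hsum : ∑ i, d i = 1 := by exact_mod_cast hw
      obtain ⟨j, -, hj⟩ : ∃ j ∈ Finset.univ, d j ≠ 0 := by
        apply Finset.exists_ne_zero_of_sum_ne_zero
        rw [hsum]
        exact one_ne_zero
      apply hd j
      have hjle : d j ≤ 1 := by
        have := Finset.single_le_sum (f := fun i => d i) (fun _ _ => Nat.zero_le _)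
          (Finset.mem_univ j)
        exact this.trans (le_of_eq hsum)
      have hj1 : d j = 1 := by omega
      ext i
      by_cases hij : i = j
      · subst hij
        rw [Finsupp.single_eq_same, hj1]
      · rw [Finsupp.single_eq_of_ne hij]
        have h2 : ∑ i ∈ Finset.univ.erase j, d i = 0 := by
          have := Finset.add_sum_erase Finset.univ (fun i => d i) (Finset.mem_univ j)
          omega
        exact (Finset.sum_eq_zero_iff.1 h2) i (Finset.mem_erase.2 ⟨hij, Finset.mem_univ i⟩)
    rw [hz]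
    symm
    apply Finset.sum_eq_zero
    intro i _
    rw [if_neg (fun h => hd i h.symm), mul_zero]

lemma phi_ker01 (hinj0 : Function.Injective (algebraMap k R))
    (hyind : ∀ c : Fin (t + 1) → k, ∑ i, algebraMap k R (c i) * y i = 0 → c = 0)
    (e : ℤ) (he : e ≤ 1) (p : MvPolynomial (Fin (t + 1)) k)
    (hp : p ∈ GrSyz.stdGr k (Fin (t + 1)) e) (h0 : phi y p = 0) : p = 0 := by
  have hcases : e < 0 ∨ e = 0 ∨ e = 1 := by omega
  rcases hcases with h | h | h
  · exact Groth.Agent.Lib27.RegA.stdGr_neg k t e h p hp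
  · subst h
    have h1 : p = C (coeff 0 p) := by
      rw [← cmp_zero_eq k t p, cmp_of_mem _ hp]
    rw [h1, phi_C] at h0
    rw [h1, hinj0 (h0.trans (map_zero _).symm), map_zero]
  · subst h
    have h1 := eq_sum_of_mem_one p hp
    rw [h1, map_sum] at h0
    simp only [map_mul, phi_C, phi_X] at h0
    have hc := hyind _ h0
    rw [h1]
    apply Finset.sum_eq_zero
    intro i _
    rw [congrFun hc i]
    simp

end Groth.Agent.Lib27.StdPoly
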