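import Groth.Agent.Lib27.StdPoly2

/-!
# The presentation of a standard graded ring is injective when its regularity is zero
-/

set_option autoImplicit false
set_option linter.unusedSectionVars false
set_option linter.unusedVariables false
set_option linter.style.haveILetI false
universe u

namespace Groth.Agent.Lib27.StdPoly

open GrLC Groth.Agent.Lib27.GrMin Groth.Agent.Lib27.GrHilb Groth.Agent.Lib27.CMReg MvPolynomial
  Groth.Agent.Lib.Helper11.GrField Groth.Agent.Lib.Helper11.GrConv Groth.Agent.Lib27.LD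
  Groth.Agent.Lib27.RS

variable {k : Type u} [Field k] {R : Type u} [CommRing R] [Algebra k R]
  {𝒜 : ℤ → AddSubgroup R} [GradedRing 𝒜]
variable {t : ℕ} (y : Fin (t + 1) → R)

attribute [local instance] subKGradedAlgebra

lemma map_irr_le (hk : IsBase 𝒜 k) (hy : ∀ b, y b ∈ 𝒜 1) (m : HomogeneousIdeal 𝒜)
    (hmsp : m.toIdeal = Ideal.span (⋃ n ∈ Set.Ioi (0 : ℤ), (𝒜 n : Set R))) :
    (irrC k t).toIdeal.map (phi (k := k) y) ≤ m.toIdeal := by
  change (Ideal.span {r : MvPolynomial (Fin (t + 1)) k |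
    ∃ n : ℤ, 0 < n ∧ r ∈ GrSyz.stdGr k (Fin (t + 1)) n}).map (phi (k := k) y) ≤ m.toIdeal
  rw [Ideal.map_span, Ideal.span_le]
  rintro _ ⟨p, ⟨n, hn, hp⟩, rfl⟩
  rw [SetLike.mem_coe, hmsp]
  apply Ideal.subset_span
  exact Set.mem_iUnion₂.2 ⟨n, Set.mem_Ioi.2 hn, phi_mem y hk hy n p hp⟩

lemma le_map_irr (m : HomogeneousIdeal 𝒜)
    (hmsp : m.toIdeal = Ideal.span (⋃ n ∈ Set.Ioi (0 : ℤ), (𝒜 n : Set R)))
    (hstd : Ideal.span (⋃ n ∈ Set.Ioi (0 : ℤ), (𝒜 n : Set R)) =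
      Ideal.span ((𝒜 1 : AddSubgroup R) : Set R))
    (hyspan : ∀ x ∈ 𝒜 1, ∃ c : Fin (t + 1) → k, x = ∑ i, algebraMap k R (c i) * y i) :
    m.toIdeal ≤ (irrC k t).toIdeal.map (phi (k := k) y) := by
  rw [hmsp, hstd, Ideal.span_le]
  intro x hx
  obtain ⟨c, rfl⟩ := hyspan x hx
  rw [SetLike.mem_coe]
  refine Ideal.sum_mem _ fun i _ => ?_
  rw [← phi_C (k := k) y (c i), ← phi_X (k := k) y i, ← map_mul]
  apply Ideal.mem_map_of_mem
  apply Ideal.mul_mem_left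
  change X i ∈ Ideal.span {r : MvPolynomial (Fin (t + 1)) k |
    ∃ n : ℤ, 0 < n ∧ r ∈ GrSyz.stdGr k (Fin (t + 1)) n}
  apply Ideal.subset_span
  exact ⟨1, one_pos, X_mem_stdC k t i⟩

/-- comparison of local cohomology over the polynomial ring and over `R`. -/
theorem vanish_iff_poly [IsNoetherianRing R] (hk : IsBase 𝒜 k)
    (hstd : Ideal.span (⋃ n ∈ Set.Ioi (0 : ℤ), (𝒜 n : Set R)) =
      Ideal.span ((𝒜 1 : AddSubgroup R) : Set R))
    (m : HomogeneousIdeal 𝒜)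
    (hmsp : m.toIdeal = Ideal.span (⋃ n ∈ Set.Ioi (0 : ℤ), (𝒜 n : Set R)))
    (hy : ∀ b, y b ∈ 𝒜 1)
    (hyspan : ∀ x ∈ 𝒜 1, ∃ c : Fin (t + 1) → k, x = ∑ i, algebraMap k R (c i) * y i)
    (I : StarInjRes 𝒜 𝒜)
    [Module (MvPolynomial (Fin (t + 1)) k) R]
    (hsmul : ∀ (p : MvPolynomial (Fin (t + 1)) k) (x : R), p • x = phi (k := k) y p * x)
    [SetLike.GradedSMul (GrSyz.stdGr k (Fin (t + 1))) (subK hk)]
    (E' : StarInjRes (GrSyz.stdGr k (Fin (t + 1))) (subK hk)) (i : ℕ) (j : ℤ) :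
    (∀ x, x ∈ E'.Hgr (GrSyz.irrel (GrSyz.stdGr k (Fin (t + 1)))) i j → x = 0) ↔
      (∀ x, x ∈ I.Hgr m i j → x = 0) := by
  letI : DirectSum.Decomposition (conv (subK hk)) := convDecomposition (subK hk)
  letI : SetLike.GradedSMul (stdC k t) (conv (subK hk)) :=
    convGradedSMul (GrSyz.stdGr k (Fin (t + 1))) (subK hk)
  let g : R →ₛₗ[phi (k := k) y] R :=
    { toFun := id
      map_add' := fun _ _ => rfl
      map_smul' := fun p x => by
        change p • x = phi (k := k) y p • x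
        rw [hsmul, smul_eq_mul] }
  have hV : IsRS (phi (k := k) y) 𝒜 (conv (subK hk)) g :=
    ⟨Function.bijective_id, fun j x => Iff.rfl⟩
  have hφ : IsGrRingHom 𝒜 (stdC k t) (phi (k := k) y) := fun j p hp => phi_mem y hk hy j p hp
  have h1 := map_irr_le y hk hy m hmsp
  have h2 : ∃ K, m.toIdeal ^ K ≤ (irrC k t).toIdeal.map (phi (k := k) y) :=
    ⟨1, by rw [pow_one]; exact le_map_irr y m hmsp hstd hyspan⟩
  exact vanish_iff hφ m (irrC k t) h1 h2 hV I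
    (resConv (GrSyz.stdGr k (Fin (t + 1))) (subK hk) E') i j

/-- if the local cohomology of `R` vanishes above the diagonal `j + i = 0`, the presentation is
injective. -/
theorem phi_injective_of_vanish [IsNoetherianRing R] (hk : IsBase 𝒜 k)
    (hpos : ∀ n : ℤ, n < 0 → 𝒜 n = ⊥)
    (hstd : Ideal.span (⋃ n ∈ Set.Ioi (0 : ℤ), (𝒜 n : Set R)) =
      Ideal.span ((𝒜 1 : AddSubgroup R) : Set R))
    (m : HomogeneousIdeal 𝒜)
    (hmsp : m.toIdeal = Ideal.span (⋃ n ∈ Set.Ioi (0 : ℤ), (𝒜 n : Set R)))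
    (hy : ∀ b, y b ∈ 𝒜 1)
    (hyspan : ∀ x ∈ 𝒜 1, ∃ c : Fin (t + 1) → k, x = ∑ i, algebraMap k R (c i) * y i)
    (hinj0 : Function.Injective (algebraMap k R))
    (hyind : ∀ c : Fin (t + 1) → k, ∑ i, algebraMap k R (c i) * y i = 0 → c = 0)
    (I : StarInjRes 𝒜 𝒜)
    (hvanR : ∀ (i : ℕ) (j : ℤ), 0 < j + i → ∀ x, x ∈ I.Hgr m i j → x = 0) :
    Function.Injective (phi (k := k) y) := by
  classical
  letI modP : Module (MvPolynomial (Fin (t + 1)) k) R := Module.compHom R (phi (k := k) y)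
  have hsmul : ∀ (p : MvPolynomial (Fin (t + 1)) k) (x : R), p • x = phi (k := k) y p * x :=
    fun p x => rfl
  haveI gsm : SetLike.GradedSMul (GrSyz.stdGr k (Fin (t + 1))) (subK hk) :=
    ⟨fun {i j} p x hp hx => by
      change phi (k := k) y p * x ∈ 𝒜 (i + j)
      exact SetLike.GradedMul.mul_mem (phi_mem y hk hy i p hp) hx⟩
  obtain ⟨E'⟩ := nonempty_starInjRes_std k t (subK hk)
  have hvan : LCVan E' 0 := by
    intro i j hij
    exact (vanish_iff_poly y hk hstd m hmsp hy hyspan I hsmul E' i j).2 (hvanR i j hij)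
  have h1mem : (1 : R) ∈ subK hk 0 := (SetLike.GradedOne.one_mem : (1 : R) ∈ 𝒜 0)
  have hspan : ∀ x : R, ∃ p : MvPolynomial (Fin (t + 1)) k, p • (1 : R) = x := by
    intro x
    obtain ⟨p, hp⟩ := phi_surjective y hk hpos hstd hyspan x
    exact ⟨p, by rw [hsmul, mul_one, hp]⟩
  have hker01 : ∀ e : ℤ, e ≤ 1 → ∀ p ∈ GrSyz.stdGr k (Fin (t + 1)) e, p • (1 : R) = 0 → p = 0 := by
    intro e he p hp h0
    rw [hsmul, mul_one] at h0
    exact phi_ker01 y hinj0 hyind e he p hp h0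
  have key := smul_injective_of_lcVan (1 : R) h1mem hspan hker01 E' hvan
  rw [injective_iff_map_eq_zero]
  intro p hp
  apply key p
  rw [hsmul, hp, zero_mul]

end Groth.Agent.Lib27.StdPoly
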