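import Groth.Agent.Lib27.StdPoly3
import Groth.Agent.Lib27.LD11

/-!
# Linear forms of a standard graded ring: bases, and the bound by the embedding dimension
-/

set_option autoImplicit false
set_option linter.unusedSectionVars false
set_option linter.unusedVariables false
set_option linter.style.haveILetI false
universe u

namespace Groth.Agent.Lib27.StdPoly

open GrLC DirectSum Groth.Agent.Lib.Helper11.GrField

section Regular

variable {R : Type u} [CommRing R] [IsNoetherianRing R]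

/-- over a ring which is regular at the maximal ideal `m` of height `r`, `m` is generated by `r`
elements up to multiplication by elements outside `m`. -/
theorem exists_gens_of_regular (m : Ideal R) [hm : m.IsMaximal] (r : ℕ) (hht : m.height = r)
    [IsRegularLocalRing (Localization.AtPrime m)] :
    ∃ g : Fin r → R, (∀ i, g i ∈ m) ∧
      ∀ x ∈ m, ∃ s, s ∉ m ∧ s * x ∈ Ideal.span (Set.range g) := by
  classical
  let S := Localization.AtPrime m
  have h1 : ((Submodule.spanFinrank (IsLocalRing.maximalIdeal S) : ℕ) : WithBot ℕ∞) =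
      ringKrullDim S := (isRegularLocalRing_iff S).1 inferInstance
  have h2 : ringKrullDim S = (m.height : WithBot ℕ∞) :=
    IsLocalization.AtPrime.ringKrullDim_eq_height m S
  have h3 : Submodule.spanFinrank (IsLocalRing.maximalIdeal S) = r := by
    rw [h2, hht] at h1
    exact_mod_cast h1
  have hfg : (IsLocalRing.maximalIdeal S).FG := IsNoetherian.noetherian _
  obtain ⟨G, hGdef⟩ : ∃ G : Set S, G = (IsLocalRing.maximalIdeal S).generators := ⟨_, rfl⟩
  have hGfin : G.Finite := by rw [hGdef]; exact Submodule.FG.finite_generators hfg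
  have hGcard : G.ncard = r := by rw [hGdef, Submodule.FG.generators_ncard hfg, h3]
  have hGspan : Ideal.span G = IsLocalRing.maximalIdeal S := by
    rw [hGdef]; exact Submodule.span_generators _
  have hcard : hGfin.toFinset.card = r := by
    rw [← Set.ncard_eq_toFinset_card G hGfin, hGcard]
  let eq : Fin r ≃ hGfin.toFinset := (Fintype.equivFinOfCardEq (by
    rw [Fintype.card_coe]; exact hcard)).symm
  have hγmem : ∀ i, ((eq i : hGfin.toFinset) : S) ∈ G := fun i =>
    hGfin.mem_toFinset.1 (eq i).2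
  have hex : ∀ i : Fin r, ∃ p : R × m.primeCompl,
      IsLocalization.mk' S p.1 p.2 = ((eq i : hGfin.toFinset) : S) := fun i =>
    IsLocalization.mk'_surjective m.primeCompl _
  choose p hp using hex
  have hgm : ∀ i, (p i).1 ∈ m := by
    intro i
    have hmem : ((eq i : hGfin.toFinset) : S) ∈ IsLocalRing.maximalIdeal S := by
      rw [← hGspan]; exact Ideal.subset_span (hγmem i)
    rw [← hp i] at hmem
    exact (IsLocalization.AtPrime.mk'_mem_maximal_iff S m _ _).1 hmem
  refine ⟨fun i => (p i).1, hgm, ?_⟩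
  intro x hx
  have hle : IsLocalRing.maximalIdeal S ≤
      Ideal.map (algebraMap R S) (Ideal.span (Set.range fun i => (p i).1)) := by
    rw [← hGspan, Ideal.span_le]
    intro γ hγ
    obtain ⟨i, hi⟩ : ∃ i, ((eq i : hGfin.toFinset) : S) = γ := by
      refine ⟨eq.symm ⟨γ, hGfin.mem_toFinset.2 hγ⟩, ?_⟩
      rw [Equiv.apply_symm_apply]
    rw [SetLike.mem_coe, ← hi, ← hp i, IsLocalization.mk'_eq_mul_mk'_one]
    apply Ideal.mul_mem_right
    apply Ideal.mem_map_of_mem
    exact Ideal.subset_span ⟨i, rfl⟩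
  have hxm : algebraMap R S x ∈ IsLocalRing.maximalIdeal S :=
    (IsLocalization.AtPrime.to_map_mem_maximal_iff S m x).2 hx
  obtain ⟨⟨j, s⟩, hjs⟩ := (IsLocalization.mem_map_algebraMap_iff m.primeCompl S).1 (hle hxm)
  have h0 : algebraMap R S (x * (s : R) - (j : R)) = 0 := by
    rw [map_sub, map_mul, hjs, sub_self]
  obtain ⟨s', hs'⟩ := (IsLocalization.map_eq_zero_iff m.primeCompl S _).1 h0
  refine ⟨(s' : R) * (s : R), ?_, ?_⟩
  · intro hmem
    rcases hm.isPrime.mem_or_mem hmem with h | h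
    · exact s'.2 h
    · exact s.2 h
  · have : (s' : R) * (s : R) * x = (s' : R) * (j : R) := by
      have := hs'
      rw [mul_sub, sub_eq_zero] at this
      rw [← this]
      ring
    rw [this]
    exact Ideal.mul_mem_left _ _ j.2

end Regular

section Linear

variable {k : Type u} [Field k] {R : Type u} [CommRing R] [Algebra k R]
  {𝒜 : ℤ → AddSubgroup R} [GradedRing 𝒜]

/-- components. -/
local notation "cp" => fun (n : ℤ) (x : R) => ((DirectSum.decompose 𝒜 x n : 𝒜 n) : R)

lemma cp_add (n : ℤ) (x x' : R) :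
    ((decompose 𝒜 (x + x') n : 𝒜 n) : R) = (decompose 𝒜 x n : R) + (decompose 𝒜 x' n : R) := by
  rw [decompose_add, DirectSum.add_apply, AddSubgroup.coe_add]

lemma cp_sum {β : Type*} (s : Finset β) (f : β → R) (n : ℤ) :
    ((decompose 𝒜 (∑ b ∈ s, f b) n : 𝒜 n) : R) = ∑ b ∈ s, (decompose 𝒜 (f b) n : R) := by
  classical
  induction s using Finset.induction_on with
  | empty => simp
  | insert a s ha ih => rw [Finset.sum_insert ha, Finset.sum_insert ha, cp_add, ih]

lemma cp_zero_of_mem (hk : IsBase 𝒜 k) (m : HomogeneousIdeal 𝒜) (hm1 : (1 : R) ∉ m.toIdeal)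
    (g : R) (hg : g ∈ m.toIdeal) : (decompose 𝒜 g 0 : R) = 0 := by
  by_contra hne
  have h1 : (decompose 𝒜 g 0 : R) ∈ m.toIdeal := m.isHomogeneous 0 hg
  obtain ⟨c, hc⟩ := (hk _).1 (SetLike.coe_mem (decompose 𝒜 g 0))
  have hc0 : c ≠ 0 := by
    intro h
    apply hne
    rw [← hc, h, map_zero]
  apply hm1
  have : (1 : R) = algebraMap k R c⁻¹ * (decompose 𝒜 g 0 : R) := by
    rw [← hc, ← map_mul, inv_mul_cancel₀ hc0, map_one]
  rw [this]
  exact Ideal.mul_mem_left _ _ h1

lemma cp_one_mul (hk : IsBase 𝒜 k) (hpos : ∀ n : ℤ, n < 0 → 𝒜 n = ⊥) (m : HomogeneousIdeal 𝒜)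
    (hm1 : (1 : R) ∉ m.toIdeal) (a g : R) (hg : g ∈ m.toIdeal) :
    (decompose 𝒜 (a * g) 1 : R) = (decompose 𝒜 a 0 : R) * (decompose 𝒜 g 1 : R) := by
  classical
  have hneg : ∀ (q : ℤ) (x : R), q < 0 → (decompose 𝒜 x q : R) = 0 := by
    intro q x hq
    have hmem : ((decompose 𝒜 x q : 𝒜 q) : R) ∈ (⊥ : AddSubgroup R) := hpos q hq ▸ SetLike.coe_mem _
    exact (AddSubgroup.mem_bot).1 hmem
  have hterm : ∀ q : ℤ, (decompose 𝒜 (a * (decompose 𝒜 g q : R)) 1 : R) =
      if q = 1 then (decompose 𝒜 a 0 : R) * (decompose 𝒜 g 1 : R) else 0 := by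
    intro q
    have h1 : (1 : ℤ) = (1 - q) + q := by ring
    have := DirectSum.coe_decompose_mul_add_of_right_mem 𝒜 (i := 1 - q) (a := a)
      (SetLike.coe_mem (decompose 𝒜 g q))
    rw [← h1] at this
    rw [this]
    split_ifs with hq
    · subst hq
      rw [sub_self]
    · rcases lt_trichotomy q 0 with h | h | h
      · rw [hneg q g h, mul_zero]
      · subst h
        rw [cp_zero_of_mem hk m hm1 g hg, mul_zero]
      · rw [hneg (1 - q) a (by omega), zero_mul]
  conv_lhs => rw [← DirectSum.sum_support_decompose 𝒜 g, Finset.mul_sum, cp_sum]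
  rw [Finset.sum_congr rfl (fun q _ => hterm q), Finset.sum_ite_eq']
  split_ifs with h1
  · rfl
  · rw [DFinsupp.notMem_support_iff] at h1
    rw [h1]
    simp

/-- degree one part of an ideal generated up to units. -/
theorem linear_span (hk : IsBase 𝒜 k) (hpos : ∀ n : ℤ, n < 0 → 𝒜 n = ⊥) (m : HomogeneousIdeal 𝒜)
    (hm1 : (1 : R) ∉ m.toIdeal)
    (hmsp : m.toIdeal = Ideal.span (⋃ n ∈ Set.Ioi (0 : ℤ), (𝒜 n : Set R)))
    (r : ℕ) (g : Fin r → R) (hg : ∀ i, g i ∈ m.toIdeal)
    (hgen : ∀ x ∈ m.toIdeal, ∃ s, s ∉ m.toIdeal ∧ s * x ∈ Ideal.span (Set.range g))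
    (x : R) (hx : x ∈ 𝒜 1) :
    ∃ c : Fin r → k, x = ∑ i, algebraMap k R (c i) * (decompose 𝒜 (g i) 1 : R) := by
  classical
  have hxm : x ∈ m.toIdeal := by
    rw [hmsp]
    exact Ideal.subset_span (Set.mem_iUnion₂.2 ⟨1, Set.mem_Ioi.2 one_pos, hx⟩)
  obtain ⟨s, hs, hsx⟩ := hgen x hxm
  obtain ⟨a, ha⟩ := (Submodule.mem_span_range_iff_exists_fun R).1 hsx
  -- the degree zero part of `s` is nonzero
  have hs0 : (decompose 𝒜 s 0 : R) ≠ 0 := by
    intro h0
    apply hs
    rw [← DirectSum.sum_support_decompose 𝒜 s]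
    refine Ideal.sum_mem _ fun q _ => ?_
    rcases lt_trichotomy q 0 with h | h | h
    · have hmem : ((decompose 𝒜 s q : 𝒜 q) : R) ∈ (⊥ : AddSubgroup R) :=
        hpos q h ▸ SetLike.coe_mem _
      rw [(AddSubgroup.mem_bot).1 hmem]
      exact zero_mem _
    · subst h
      rw [h0]
      exact zero_mem _
    · rw [hmsp]
      exact Ideal.subset_span (Set.mem_iUnion₂.2 ⟨q, Set.mem_Ioi.2 h, SetLike.coe_mem _⟩)
  obtain ⟨c₀, hc₀⟩ := (hk _).1 (SetLike.coe_mem (decompose 𝒜 s 0))
  have hc₀ne : c₀ ≠ 0 := by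
    intro h
    apply hs0
    rw [← hc₀, h, map_zero]
  have hca : ∀ i, ∃ c : k, algebraMap k R c = (decompose 𝒜 (a i) 0 : R) := fun i =>
    (hk _).1 (SetLike.coe_mem (decompose 𝒜 (a i) 0))
  choose c hc using hca
  -- compare degree one parts
  have hL : (decompose 𝒜 (s * x) 1 : R) = (decompose 𝒜 s 0 : R) * x := by
    have := DirectSum.coe_decompose_mul_add_of_right_mem 𝒜 (i := 0) (a := s) hx
    rwa [zero_add] at this
  have hR : (decompose 𝒜 (s * x) 1 : R) =
      ∑ i, (decompose 𝒜 (a i) 0 : R) * (decompose 𝒜 (g i) 1 : R) := by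
    rw [← ha, cp_sum]
    refine Finset.sum_congr rfl fun i _ => ?_
    rw [smul_eq_mul]
    exact cp_one_mul hk hpos m hm1 (a i) (g i) (hg i)
  refine ⟨fun i => c₀⁻¹ * c i, ?_⟩
  have h1 : algebraMap k R c₀ * x = ∑ i, algebraMap k R (c i) * (decompose 𝒜 (g i) 1 : R) := by
    rw [hc₀, ← hL, hR]
    exact Finset.sum_congr rfl fun i _ => by rw [hc i]
  have h2 : x = algebraMap k R c₀⁻¹ * (algebraMap k R c₀ * x) := by
    rw [← mul_assoc, ← map_mul, inv_mul_cancel₀ hc₀ne, map_one, one_mul]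
  rw [h2, h1, Finset.mul_sum]
  refine Finset.sum_congr rfl fun i _ => ?_
  rw [map_mul, mul_assoc]

/-- a basis of the linear forms, minimal among generating sets of `m` up to units. -/
theorem exists_linear_basis [IsNoetherianRing R] (hk : IsBase 𝒜 k)
    (hpos : ∀ n : ℤ, n < 0 → 𝒜 n = ⊥) (m : HomogeneousIdeal 𝒜) (hm1 : (1 : R) ∉ m.toIdeal)
    (hmsp : m.toIdeal = Ideal.span (⋃ n ∈ Set.Ioi (0 : ℤ), (𝒜 n : Set R)))
    (hstd : Ideal.span (⋃ n ∈ Set.Ioi (0 : ℤ), (𝒜 n : Set R)) =
      Ideal.span ((𝒜 1 : AddSubgroup R) : Set R)) :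
    ∃ (t : ℕ) (y : Fin t → R), (∀ b, y b ∈ 𝒜 1) ∧
      (∀ x ∈ 𝒜 1, ∃ c : Fin t → k, x = ∑ i, algebraMap k R (c i) * y i) ∧
      (∀ c : Fin t → k, ∑ i, algebraMap k R (c i) * y i = 0 → c = 0) ∧
      (∀ (r : ℕ) (g : Fin r → R), (∀ i, g i ∈ m.toIdeal) →
        (∀ x ∈ m.toIdeal, ∃ s, s ∉ m.toIdeal ∧ s * x ∈ Ideal.span (Set.range g)) → t ≤ r) := by
  classical
  obtain ⟨V, hVdef⟩ : ∃ V : Submodule k R, V = subK hk 1 := ⟨_, rfl⟩
  have hVmem : ∀ x, x ∈ V ↔ x ∈ 𝒜 1 := fun x => by rw [hVdef]; exact Iff.rfl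
  -- bound for any generating family
  have hbound : ∀ (r : ℕ) (g : Fin r → R), (∀ i, g i ∈ m.toIdeal) →
      (∀ x ∈ m.toIdeal, ∃ s, s ∉ m.toIdeal ∧ s * x ∈ Ideal.span (Set.range g)) →
      V ≤ Submodule.span k (Set.range fun i => (decompose 𝒜 (g i) 1 : R)) := by
    intro r g hg hgen x hx
    obtain ⟨c, rfl⟩ := linear_span hk hpos m hm1 hmsp r g hg hgen x ((hVmem x).1 hx)
    refine Submodule.sum_mem _ fun i _ => ?_
    rw [← Algebra.smul_def]
    exact Submodule.smul_mem _ _ (Submodule.subset_span ⟨i, rfl⟩)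
  -- finiteness
  obtain ⟨s, x, hx, hxspan⟩ := Groth.Agent.Lib27.LD.exists_fin_gens (R := R)
    ((𝒜 1 : AddSubgroup R) : Set R)
  have hmx : m.toIdeal = Ideal.span (Set.range x) := by rw [hmsp, hstd, hxspan]
  have hxm : ∀ i, x i ∈ m.toIdeal := fun i => by
    rw [hmx]; exact Ideal.subset_span ⟨i, rfl⟩
  have hxgen : ∀ z ∈ m.toIdeal, ∃ s', s' ∉ m.toIdeal ∧ s' * z ∈ Ideal.span (Set.range x) := by
    intro z hz
    exact ⟨1, hm1, by rw [one_mul, ← hmx]; exact hz⟩
  have hVle := hbound s x hxm hxgen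
  haveI : Module.Finite k V := by
    haveI : Module.Finite k (Submodule.span k (Set.range fun i => (decompose 𝒜 (x i) 1 : R))) :=
      Module.Finite.span_of_finite k (Set.finite_range _)
    exact Module.Finite.of_injective (Submodule.inclusion hVle) (Submodule.inclusion_injective hVle)
  let b := Module.finBasis k V
  refine ⟨Module.finrank k V, fun i => (b i : R), fun i => (hVmem _).1 (b i).2, ?_, ?_, ?_⟩
  · intro z hz
    refine ⟨fun i => b.repr ⟨z, (hVmem z).2 hz⟩ i, ?_⟩
    have := b.sum_repr ⟨z, (hVmem z).2 hz⟩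
    have h2 := congrArg (Subtype.val) this
    rw [AddSubmonoidClass.coe_finsetSum] at h2
    refine h2.symm.trans ?_
    refine Finset.sum_congr rfl fun i _ => ?_
    rw [Submodule.coe_smul, Algebra.smul_def]
  · intro c hc
    have hli := b.linearIndependent
    rw [Fintype.linearIndependent_iff] at hli
    funext i
    apply hli c _ i
    apply Subtype.ext
    rw [AddSubmonoidClass.coe_finsetSum]
    refine Eq.trans ?_ hc
    refine Finset.sum_congr rfl fun i _ => ?_
    rw [Submodule.coe_smul, Algebra.smul_def]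
  · intro r g hg hgen
    have hle := hbound r g hg hgen
    haveI : Module.Finite k (Submodule.span k (Set.range fun i => (decompose 𝒜 (g i) 1 : R))) :=
      Module.Finite.span_of_finite k (Set.finite_range _)
    calc Module.finrank k V ≤ Module.finrank k
          (Submodule.span k (Set.range fun i => (decompose 𝒜 (g i) 1 : R))) :=
          Submodule.finrank_mono hle
      _ ≤ Fintype.card (Fin r) := finrank_range_le_card _
      _ = r := Fintype.card_fin r

end Linear

end Groth.Agent.Lib27.StdPoly
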