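import Groth.Agent.Lib27.StdPoly3
import Groth.Agent.Lib27.StdPoly4
import Groth.Agent.Lib.Helper11.GrShiftA
import Groth.Agent.Lib.Helper11.GrVanA
import Groth.Agent.Lib.Helper11.GrLesH
import Groth.Agent.Lib.Helper11.GrCanC
import Mathlib.RingTheory.KrullDimension.Polynomial
import Mathlib.RingTheory.RegularLocalRing.Polynomial

/-!
# `a(R) = -dim R` characterises polynomial rings among standard graded Cohen–Macaulay rings
-/

set_option autoImplicit false
set_option linter.unusedSectionVars false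
set_option linter.unusedVariables false
set_option linter.style.haveILetI false
universe u

namespace Groth.Agent.Lib27.StdPoly

open GrLC DirectSum MvPolynomial Groth.Agent.Lib.Helper11.GrField Groth.Agent.Lib.Helper11.GrCan
  Groth.Agent.Lib.Helper11.GrLes Groth.Agent.Lib.Helper11.GrLCLib Groth.Agent.Lib27.LD
  Groth.Agent.Lib27.RS Groth.Agent.Lib.Helper11.GrConv Groth.Agent.Lib.Helper11.GrShift

section Dim

lemma dim_poly (k : Type u) [Field k] (n : ℕ) :
    ringKrullDim (MvPolynomial (Fin n) k) = (n : WithBot ℕ∞) := by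
  rw [MvPolynomial.ringKrullDim_of_isNoetherianRing, ringKrullDim_eq_zero_of_field, zero_add,
    Nat.card_fin]

/-- a surjection from a domain onto a ring of the same finite dimension is injective. -/
lemma injective_of_dim_eq {P R : Type u} [CommRing P] [IsDomain P] [CommRing R] (φ : P →+* R)
    (hφ : Function.Surjective φ) (n : ℕ) (hP : ringKrullDim P = n) (hR : ringKrullDim R = n) :
    Function.Injective φ := by
  rw [injective_iff_map_eq_zero]
  intro f hf
  by_contra hne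
  have hnzd : f ∈ nonZeroDivisors P := mem_nonZeroDivisors_of_ne_zero hne
  have h1 := ringKrullDim_quotient_succ_le_of_nonZeroDivisor hnzd
  let ψ : P ⧸ Ideal.span {f} →+* R := Ideal.Quotient.lift (Ideal.span {f}) φ (by
    intro a ha
    obtain ⟨c, rfl⟩ := Ideal.mem_span_singleton'.1 ha
    rw [map_mul, hf, mul_zero])
  have hψ : Function.Surjective ψ := by
    intro x
    obtain ⟨p, rfl⟩ := hφ x
    exact ⟨Ideal.Quotient.mk _ p, Ideal.Quotient.lift_mk _ _ _⟩
  have h2 := ringKrullDim_le_of_surjective ψ hψ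
  rw [hR] at h2
  rw [hP] at h1
  have h3 : ((n : WithBot ℕ∞)) + 1 ≤ n := le_trans (by gcongr) h1
  have h4 : ((n + 1 : ℕ) : WithBot ℕ∞) ≤ ((n : ℕ) : WithBot ℕ∞) := by
    rw [Nat.cast_add, Nat.cast_one]; exact h3
  have h5 : n + 1 ≤ n := by exact_mod_cast h4
  omega

end Dim

section GrRing

variable {ι : Type} [DecidableEq ι] [AddCommGroup ι]
variable {R : Type u} [CommRing R] {𝒜 : ι → AddSubgroup R} [GradedRing 𝒜]
variable {P : Type u} [CommRing P] {ℬ : ι → AddSubgroup P} [GradedRing ℬ]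
variable {φ : P →+* R}

lemma decompose_map_ring (hφ : IsGrRingHom 𝒜 ℬ φ) (x : P) (j : ι) :
    (decompose 𝒜 (φ x) j : R) = φ (decompose ℬ x j : P) := by
  classical
  conv_lhs => rw [← DirectSum.sum_support_decompose ℬ x]
  rw [map_sum, DirectSum.decompose_sum, DFinsupp.finsetSum_apply, AddSubmonoidClass.coe_finsetSum]
  rw [Finset.sum_eq_single j]
  · rw [decompose_of_mem_same 𝒜 (hφ j _ (SetLike.coe_mem _))]
  · intro i _ hij
    rw [decompose_of_mem_ne 𝒜 (hφ i _ (SetLike.coe_mem _)) hij]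
  · intro hj
    rw [DFinsupp.notMem_support_iff.1 hj, ZeroMemClass.coe_zero, map_zero, decompose_zero,
      DirectSum.zero_apply, ZeroMemClass.coe_zero]

lemma mem_of_map_mem_ring (hφ : IsGrRingHom 𝒜 ℬ φ) (hinj : Function.Injective φ) {j : ι} {x : P}
    (hx : φ x ∈ 𝒜 j) : x ∈ ℬ j := by
  have h1 := decompose_map_ring hφ x j
  rw [decompose_of_mem_same 𝒜 hx] at h1
  have h2 : x = (decompose ℬ x j : P) := hinj h1
  rw [h2]
  exact SetLike.coe_mem _

end GrRing

section Zero

variable {R : Type u} [CommRing R] [IsNoetherianRing R] {𝒜 : ℤ → AddSubgroup R} [GradedRing 𝒜]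

theorem case_zero (hpos : ∀ n : ℤ, n < 0 → 𝒜 n = ⊥) (m : HomogeneousIdeal 𝒜)
    (hm : GrLC.IsStarLocal 𝒜 m)
    (hmsp : m.toIdeal = Ideal.span (⋃ n ∈ Set.Ioi (0 : ℤ), (𝒜 n : Set R)))
    (hstd : Ideal.span (⋃ n ∈ Set.Ioi (0 : ℤ), (𝒜 n : Set R)) =
      Ideal.span ((𝒜 1 : AddSubgroup R) : Set R))
    (hA1 : ∀ x ∈ 𝒜 1, x = 0) (I : StarInjRes 𝒜 𝒜) :
    ringKrullDim R = 0 ∧ IsTopDeg (I.Hgr m 0) 0 ∧
      Nonempty (R ≃+* MvPolynomial (Fin 0) (GrLC.deg0 𝒜)) := by
  classical
  have hmbot : m.toIdeal = ⊥ := by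
    rw [hmsp, hstd, Ideal.span_eq_bot]
    intro x hx
    exact hA1 x hx
  have hmax := isMaximal_of_isCoatom 𝒜 hpos hm.1
  haveI : Nontrivial R := by
    by_contra hn
    rw [not_nontrivial_iff_subsingleton] at hn
    exact hmax.ne_top ((Ideal.eq_top_iff_one _).2 (by
      rw [Subsingleton.elim (1 : R) 0]; exact zero_mem _))
  have hfield : IsField R := Ring.isField_iff_maximal_bot.2 (hmbot ▸ hmax)
  have hAj : ∀ j : ℤ, j ≠ 0 → ∀ x ∈ 𝒜 j, x = 0 := by
    intro j hj x hx
    rcases lt_or_gt_of_ne hj with h | h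
    · have hmem : x ∈ (⊥ : AddSubgroup R) := hpos j h ▸ hx
      exact (AddSubgroup.mem_bot).1 hmem
    · have hxm : x ∈ m.toIdeal := by
        rw [hmsp]
        apply Ideal.subset_span
        exact Set.mem_iUnion₂.2 ⟨j, Set.mem_Ioi.2 h, hx⟩
      rw [hmbot] at hxm
      exact (Ideal.mem_bot).1 hxm
  have hall : ∀ x : R, x ∈ 𝒜 0 := by
    intro x
    rw [← DirectSum.sum_support_decompose 𝒜 x]
    refine AddSubgroup.sum_mem _ fun i _ => ?_
    by_cases hi : i = 0
    · subst hi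
      exact SetLike.coe_mem _
    · rw [hAj i hi _ (SetLike.coe_mem _)]
      exact zero_mem _
  refine ⟨ringKrullDim_eq_zero_of_isField hfield, ⟨?_, ?_⟩, ?_⟩
  · have h1g : (1 : R) ∈ gam m.toIdeal R := ⟨1, fun r hr => by
      rw [pow_one, hmbot] at hr
      rw [(Ideal.mem_bot).1 hr, zero_smul]⟩
    have hmem : h0 I m ⟨1, h1g⟩ ∈ I.Hgr m 0 0 :=
      h0_mem I m ⟨1, h1g⟩ (SetLike.GradedOne.one_mem : (1 : R) ∈ 𝒜 0)
    intro hbot
    rw [hbot] at hmem
    have h2 := (AddSubgroup.mem_bot).1 hmem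
    have h3 := h0_injective I m (h2.trans (map_zero _).symm)
    have h4 : (1 : R) = 0 := congrArg Subtype.val h3
    exact one_ne_zero h4
  · intro j hj
    rw [eq_bot_iff]
    intro z hz
    obtain ⟨x, hx, rfl⟩ := exists_h0_eq I m hz
    have hx0 : x = 0 := Subtype.ext (hAj j (ne_of_gt hj) _ hx)
    rw [hx0, map_zero]
    exact zero_mem _
  · let e1 : GrLC.deg0 𝒜 ≃+* R := RingEquiv.ofBijective (GrLC.deg0 𝒜).subtype
      ⟨Subtype.val_injective, fun x => ⟨⟨x, hall x⟩, rfl⟩⟩
    exact ⟨e1.symm.trans (MvPolynomial.isEmptyRingEquiv (GrLC.deg0 𝒜) (Fin 0)).symm⟩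

end Zero

section Main

variable (R : Type u) [CommRing R] [LocCoh.IsCohenMacaulayRing R] (𝒜 : ℤ → AddSubgroup R)
  [GradedRing 𝒜]

theorem main (hpos : ∀ n : ℤ, n < 0 → 𝒜 n = ⊥) (h0 : IsField (GrLC.deg0 𝒜))
    (m : HomogeneousIdeal 𝒜) (hm : GrLC.IsStarLocal 𝒜 m)
    (hmsp : m.toIdeal = Ideal.span (⋃ n ∈ Set.Ioi (0 : ℤ), (𝒜 n : Set R)))
    (hstd : Ideal.span (⋃ n ∈ Set.Ioi (0 : ℤ), (𝒜 n : Set R)) =
      Ideal.span ((𝒜 1 : AddSubgroup R) : Set R))
    (r : ℕ) (hr : ringKrullDim R = r) (I : StarInjRes 𝒜 𝒜) :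
    GrLC.endDeg (I.Hgr m r) = cc (-(r : ℤ)) ↔
      Nonempty (R ≃+* MvPolynomial (Fin r) (GrLC.deg0 𝒜)) := by
  classical
  letI : Field (GrLC.deg0 𝒜) := h0.toField
  letI algR : Algebra (GrLC.deg0 𝒜) R := (GrLC.deg0 𝒜).subtype.toAlgebra
  have hk : IsBase 𝒜 (GrLC.deg0 𝒜) := by
    intro x
    constructor
    · intro hx
      exact ⟨⟨x, hx⟩, rfl⟩
    · rintro ⟨c, rfl⟩
      exact c.2
  have hinj0 : Function.Injective (algebraMap (GrLC.deg0 𝒜) R) := Subtype.val_injective
  have hmax := isMaximal_of_isCoatom 𝒜 hpos hm.1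
  have hm1 : (1 : R) ∉ m.toIdeal := fun h => hmax.ne_top ((Ideal.eq_top_iff_one _).2 h)
  have hht : m.toIdeal.height = r := by
    have := ringKrullDim_eq_height 𝒜 hpos hm
    rw [hr] at this
    exact_mod_cast this.symm
  obtain ⟨t, y, hy, hyspan, hyind, hmin⟩ := exists_linear_basis hk hpos m hm1 hmsp hstd
  rcases t with _ | t'
  · -- no linear forms: `R` is a field
    have hA1 : ∀ x ∈ 𝒜 1, x = 0 := by
      intro x hx
      obtain ⟨c, rfl⟩ := hyspan x hx
      exact Finset.sum_empty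
    obtain ⟨hd, htop, hne⟩ := case_zero hpos m hm hmsp hstd hA1 I
    have hr0 : r = 0 := by
      rw [hd] at hr
      exact_mod_cast hr.symm
    subst hr0
    constructor
    · intro _
      exact hne
    · intro _
      have e0 : (-((0 : ℕ) : ℤ)) = 0 := by simp
      rw [e0]
      exact endDeg_eq_of_isTopDeg htop
  · have hsurj := phi_surjective y hk hpos hstd hyspan
    have hdimP : ringKrullDim (MvPolynomial (Fin (t' + 1)) (GrLC.deg0 𝒜)) =
        ((t' + 1 : ℕ) : WithBot ℕ∞) := dim_poly _ _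
    constructor
    · intro ha
      have htop := isTopDeg_of_endDeg_eq ha
      have hvanR : ∀ (i : ℕ) (j : ℤ), 0 < j + i → ∀ x, x ∈ I.Hgr m i j → x = 0 := by
        intro i j hij x hx
        rcases lt_trichotomy i r with h | h | h
        · haveI := subsingleton_H_of_lt_height 𝒜 m hmax I r (le_of_eq hht.symm) i h
          exact Subsingleton.elim _ _
        · subst h
          have hb := htop.2 j (by omega)
          rw [hb] at hx
          exact (AddSubgroup.mem_bot).1 hx
        · haveI := Groth.Agent.Lib.Helper11.GrVan.subsingleton_H_of_height_lt hm.1 I r hht i h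
          exact Subsingleton.elim _ _
      have hinj := phi_injective_of_vanish y hk hpos hstd m hmsp hy hyspan hinj0 hyind I hvanR
      let e := RingEquiv.ofBijective (phi (k := GrLC.deg0 𝒜) y) ⟨hinj, hsurj⟩
      have hrt : r = t' + 1 := by
        have h1 := ringKrullDim_eq_of_ringEquiv e
        rw [hdimP, hr] at h1
        exact_mod_cast h1.symm
      subst hrt
      exact ⟨e.symm⟩
    · rintro ⟨e⟩
      haveI : IsRegularRing R := IsRegularRing.of_ringEquiv e.symm
      haveI := hmax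
      haveI hmp : m.toIdeal.IsPrime := hmax.isPrime
      haveI : IsRegularLocalRing (Localization.AtPrime m.toIdeal) :=
        IsRegularRing.isRegularLocalRing_localization m.toIdeal
      obtain ⟨g, hg, hgen⟩ := exists_gens_of_regular m.toIdeal r hht
      have h1 : t' + 1 ≤ r := hmin r g hg hgen
      have h2 : r ≤ t' + 1 := by
        have := ringKrullDim_le_of_surjective _ hsurj
        rw [hdimP, hr] at this
        exact_mod_cast this
      obtain rfl : r = t' + 1 := le_antisymm h2 h1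
      have hinj : Function.Injective (phi (k := GrLC.deg0 𝒜) y) :=
        injective_of_dim_eq (phi (k := GrLC.deg0 𝒜) y) hsurj (t' + 1) hdimP hr
      let gφ : MvPolynomial (Fin (t' + 1)) (GrLC.deg0 𝒜) →ₛₗ[phi (k := GrLC.deg0 𝒜) y] R :=
        { toFun := phi (k := GrLC.deg0 𝒜) y
          map_add' := map_add _
          map_smul' := fun p q => by rw [smul_eq_mul, map_mul, smul_eq_mul] }
      have hφ : IsGrRingHom 𝒜 (stdC (GrLC.deg0 𝒜) t') (phi (k := GrLC.deg0 𝒜) y) :=
        fun j p hp => phi_mem y hk hy j p hp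
      have hV : IsRS (phi (k := GrLC.deg0 𝒜) y) 𝒜 (stdC (GrLC.deg0 𝒜) t') gφ :=
        ⟨⟨hinj, hsurj⟩, fun j x => ⟨fun hx => hφ j x hx, fun hx => mem_of_map_mem_ring hφ hinj hx⟩⟩
      obtain ⟨F⟩ := nonempty_starInjRes (stdC (GrLC.deg0 𝒜) t') (stdC (GrLC.deg0 𝒜) t')
      have hcmp := fun j => vanish_iff hφ m (irrC (GrLC.deg0 𝒜) t') (map_irr_le y hk hy m hmsp)
        ⟨1, by rw [pow_one]; exact le_map_irr y m hmsp hstd hyspan⟩ hV I F (t' + 1) j
      obtain ⟨-, hFtop⟩ := height_and_top (GrLC.deg0 𝒜) t' F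
      apply endDeg_eq_of_isTopDeg
      constructor
      · intro hbot
        apply hFtop.1
        rw [AddSubgroup.eq_bot_iff_forall]
        apply (hcmp _).2
        intro z hz
        rw [hbot] at hz
        exact (AddSubgroup.mem_bot).1 hz
      · intro j hj
        rw [AddSubgroup.eq_bot_iff_forall]
        apply (hcmp j).1
        intro x hx
        rw [hFtop.2 j hj] at hx
        exact (AddSubgroup.mem_bot).1 hx

end Main

end Groth.Agent.Lib27.StdPoly
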