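import Mathlib

/-!
# A triangulated category with a bounded t-structure is idempotent complete.
-/

set_option autoImplicit false

open CategoryTheory Limits Pretriangulated Triangulated ZeroObject

namespace Groth.Agent.Lib27.TKar

universe v u

section Pre

variable {C : Type u} [Category.{v} C] [Preadditive C]

/-- an endomorphism splits -/
def Splits {X : C} (e : X ⟶ X) : Prop :=
  ∃ (Y : C) (i : Y ⟶ X) (r : X ⟶ Y), i ≫ r = 𝟙 Y ∧ r ≫ i = e

lemma epe_eq {X : C} (e p : X ⟶ X) (he : e ≫ e = e) (hp : p ≫ p = p)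
    (hn : (e - p) ≫ (e - p) = 0) : e ≫ p ≫ e = e := by
  have h0 : (e - p) ≫ (e - p) = e - p ≫ e - (e ≫ p - p) := by
    rw [Preadditive.comp_sub, Preadditive.sub_comp, Preadditive.sub_comp, he, hp]
  rw [h0] at hn
  have h1 : e ≫ p + p ≫ e = e + p := by
    calc e ≫ p + p ≫ e = (e + p) - (e - p ≫ e - (e ≫ p - p)) := by abel
      _ = e + p := by rw [hn, sub_zero]
  have h2 : e ≫ (e ≫ p + p ≫ e) = e ≫ (e + p) := by rw [h1]
  rw [Preadditive.comp_add, Preadditive.comp_add, ← Category.assoc e e p, he] at h2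
  exact add_left_cancel (h2.trans (add_comm _ _))

lemma splits_of_sq_zero {X : C} (e p : X ⟶ X) (he : e ≫ e = e) (hp : p ≫ p = p)
    (hn : (e - p) ≫ (e - p) = 0) (h : Splits p) : Splits e := by
  obtain ⟨Y, i, r, hir, hri⟩ := h
  have hn' : (p - e) ≫ (p - e) = 0 := by
    have : p - e = -(e - p) := by abel
    rw [this, Preadditive.neg_comp, Preadditive.comp_neg, neg_neg, hn]
  have h1 := epe_eq e p he hp hn
  have h2 := epe_eq p e hp he hn'
  have hip : i ≫ p = i := by rw [← hri, ← Category.assoc, hir, Category.id_comp]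
  have hpr : p ≫ r = r := by rw [← hri, Category.assoc, hir, Category.comp_id]
  refine ⟨Y, i ≫ e, e ≫ r, ?_, ?_⟩
  · calc (i ≫ e) ≫ e ≫ r = i ≫ (e ≫ e) ≫ r := by simp only [Category.assoc]
      _ = i ≫ e ≫ r := by rw [he]
      _ = (i ≫ p) ≫ e ≫ (p ≫ r) := by rw [hip, hpr]
      _ = i ≫ (p ≫ e ≫ p) ≫ r := by simp only [Category.assoc]
      _ = 𝟙 Y := by rw [h2, hpr, hir]
  · calc (e ≫ r) ≫ i ≫ e = e ≫ (r ≫ i) ≫ e := by simp only [Category.assoc]
      _ = e := by rw [hri, h1]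

end Pre

section Tri

variable {C : Type u} [Category.{v} C] [Preadditive C] [HasZeroObject C] [HasShift C ℤ]
  [∀ n : ℤ, (shiftFunctor C n).Additive] [Pretriangulated C]

/-- An idempotent endomorphism of a distinguished triangle whose outer components split has a
split middle component. -/
lemma splits_hom₂ (T : Triangle C) (hT : T ∈ distTriang C) (φ : T ⟶ T)
    (he : φ.hom₂ ≫ φ.hom₂ = φ.hom₂) (h₁ : Splits φ.hom₁) (h₃ : Splits φ.hom₃) :
    Splits φ.hom₂ := by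
  obtain ⟨X₁, ia, ra, hia, hra⟩ := h₁
  obtain ⟨Z₁, ib, rb, hib, hrb⟩ := h₃
  have ha_ra : φ.hom₁ ≫ ra = ra := by rw [← hra, Category.assoc, hia, Category.comp_id]
  have hb_ib : ib ≫ φ.hom₃ = ib := by rw [← hrb, ← Category.assoc, hib, Category.id_comp]
  obtain ⟨Y₁, u₁, v₁, hT₁⟩ :=
    distinguished_cocone_triangle₂ (ib ≫ T.mor₃ ≫ ra⟦(1 : ℤ)⟧')
  obtain ⟨j, hj₁, hj₂⟩ := complete_distinguished_triangle_morphism₂ _ T hT₁ hT ia ib (by
    change (ib ≫ T.mor₃ ≫ ra⟦(1 : ℤ)⟧') ≫ ia⟦(1 : ℤ)⟧' = ib ≫ T.mor₃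
    rw [Category.assoc, Category.assoc, ← Functor.map_comp, hra, φ.comm₃, ← Category.assoc,
      hb_ib])
  obtain ⟨q, hq₁, hq₂⟩ := complete_distinguished_triangle_morphism₂ T _ hT hT₁ ra rb (by
    change T.mor₃ ≫ ra⟦(1 : ℤ)⟧' = rb ≫ ib ≫ T.mor₃ ≫ ra⟦(1 : ℤ)⟧'
    rw [← Category.assoc rb, hrb, ← Category.assoc, ← φ.comm₃, Category.assoc,
      ← Functor.map_comp, ha_ra])
  change Y₁ ⟶ T.obj₂ at j
  change T.obj₂ ⟶ Y₁ at q
  change u₁ ≫ j = ia ≫ T.mor₁ at hj₁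
  change v₁ ≫ ib = j ≫ T.mor₂ at hj₂
  change T.mor₁ ≫ q = ra ≫ u₁ at hq₁
  change T.mor₂ ≫ rb = q ≫ v₁ at hq₂
  -- `c = j ≫ q` is an isomorphism
  have hc₁ : u₁ ≫ j ≫ q = u₁ := by
    rw [← Category.assoc, hj₁, Category.assoc, hq₁, ← Category.assoc, hia, Category.id_comp]
  have hc₂ : (j ≫ q) ≫ v₁ = v₁ := by
    rw [Category.assoc, ← hq₂, ← Category.assoc, ← hj₂, Category.assoc, hib, Category.comp_id]
  let ψ : Triangle.mk u₁ v₁ (ib ≫ T.mor₃ ≫ ra⟦(1 : ℤ)⟧') ⟶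
      Triangle.mk u₁ v₁ (ib ≫ T.mor₃ ≫ ra⟦(1 : ℤ)⟧') :=
    { hom₁ := 𝟙 _
      hom₂ := j ≫ q
      hom₃ := 𝟙 _
      comm₁ := by
        change u₁ ≫ j ≫ q = 𝟙 _ ≫ u₁
        rw [hc₁, Category.id_comp]
      comm₂ := by
        change v₁ ≫ 𝟙 _ = (j ≫ q) ≫ v₁
        rw [hc₂, Category.comp_id]
      comm₃ := by
        change (ib ≫ T.mor₃ ≫ ra⟦(1 : ℤ)⟧') ≫ (𝟙 X₁)⟦(1 : ℤ)⟧' =
          𝟙 Z₁ ≫ ib ≫ T.mor₃ ≫ ra⟦(1 : ℤ)⟧'
        rw [CategoryTheory.Functor.map_id, Category.comp_id, Category.id_comp] }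
  haveI hc : IsIso (j ≫ q) :=
    isIso₂_of_isIso₁₃ ψ hT₁ hT₁ (by dsimp [ψ]; infer_instance) (by dsimp [ψ]; infer_instance)
  have hc₁' : u₁ ≫ inv (j ≫ q) = u₁ := by
    rw [IsIso.comp_inv_eq, hc₁]
  have hc₂' : inv (j ≫ q) ≫ v₁ = v₁ := by
    rw [IsIso.inv_comp_eq, hc₂]
  let p : T.obj₂ ⟶ T.obj₂ := (q ≫ inv (j ≫ q)) ≫ j
  have hjq' : j ≫ q ≫ inv (j ≫ q) = 𝟙 Y₁ := by
    rw [← Category.assoc, IsIso.hom_inv_id]
  have hp : p ≫ p = p := by
    dsimp only [p]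
    calc ((q ≫ inv (j ≫ q)) ≫ j) ≫ (q ≫ inv (j ≫ q)) ≫ j
        = (q ≫ inv (j ≫ q)) ≫ (j ≫ q ≫ inv (j ≫ q)) ≫ j := by simp only [Category.assoc]
      _ = (q ≫ inv (j ≫ q)) ≫ j := by rw [hjq', Category.id_comp]
  have hsp : Splits p := ⟨Y₁, j, q ≫ inv (j ≫ q), hjq', rfl⟩
  have hpv : p ≫ T.mor₂ = T.mor₂ ≫ φ.hom₃ := by
    dsimp only [p]
    rw [Category.assoc, Category.assoc, ← hj₂, ← Category.assoc (inv (j ≫ q)), hc₂',
      ← Category.assoc, ← hq₂, Category.assoc, hrb]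
  have hup : T.mor₁ ≫ p = φ.hom₁ ≫ T.mor₁ := by
    dsimp only [p]
    rw [← Category.assoc, ← Category.assoc, hq₁, Category.assoc ra, hc₁', Category.assoc, hj₁,
      ← Category.assoc, hra]
  have hnv : (φ.hom₂ - p) ≫ T.mor₂ = 0 := by
    rw [Preadditive.sub_comp, hpv, φ.comm₂, sub_self]
  have hun : T.mor₁ ≫ (φ.hom₂ - p) = 0 := by
    rw [Preadditive.comp_sub, hup, φ.comm₁, sub_self]
  obtain ⟨g, hg⟩ := Triangle.coyoneda_exact₂ T hT (φ.hom₂ - p) hnv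
  have hn : (φ.hom₂ - p) ≫ (φ.hom₂ - p) = 0 := by
    nth_rw 1 [hg]
    rw [Category.assoc, hun, comp_zero]
  exact splits_of_sq_zero φ.hom₂ p he hp hn hsp

variable [IsTriangulated C] (t : TStructure C)

/-- Idempotents of objects concentrated in a single degree split. -/
lemma splits_of_heart (n : ℤ) (X : C) [t.IsLE X n] [t.IsGE X n] (e : X ⟶ X) (he : e ≫ e = e) :
    Splits e := by
  obtain ⟨Cn, g, h, hT⟩ := distinguished_cocone_triangle (𝟙 X - e)
  have hfe : (𝟙 X - e) ≫ e = 0 := by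
    rw [Preadditive.sub_comp, Category.id_comp, he, sub_self]
  have hfg : (𝟙 X - e) ≫ g = 0 := comp_distTriang_mor_zero₁₂ _ hT
  have heg : e ≫ g = g := by
    rw [Preadditive.sub_comp, Category.id_comp, sub_eq_zero] at hfg
    exact hfg.symm
  obtain ⟨s, hs⟩ := Triangle.yoneda_exact₂ _ hT e hfe
  change Cn ⟶ X at s
  change e = g ≫ s at hs
  let tr : Cn ⟶ (t.truncGE n).obj Cn := (t.truncGEπ n).app Cn
  let s' : (t.truncGE n).obj Cn ⟶ X := t.descTruncGE s n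
  have hs' : tr ≫ s' = s := t.π_descTruncGE s n
  refine ⟨(t.truncGE n).obj Cn, s', g ≫ tr, ?_, ?_⟩
  · apply t.from_truncGE_obj_ext (n := n)
    change tr ≫ s' ≫ g ≫ tr = tr ≫ 𝟙 _
    rw [Category.comp_id, ← Category.assoc, hs']
    -- `s ≫ g ≫ tr = tr`
    have h1 : g ≫ (s ≫ g ≫ tr - tr) = 0 := by
      rw [Preadditive.comp_sub, ← Category.assoc, ← hs, ← Category.assoc, heg, sub_self]
    obtain ⟨z, hz⟩ := Triangle.yoneda_exact₃ _ hT (s ≫ g ≫ tr - tr) h1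
    change X⟦(1 : ℤ)⟧ ⟶ (t.truncGE n).obj Cn at z
    change s ≫ g ≫ tr - tr = h ≫ z at hz
    haveI : t.IsLE (X⟦(1 : ℤ)⟧) (n - 1) := t.isLE_shift X n 1 (n - 1) (by lia)
    have hz0 : z = 0 := t.zero z (n - 1) n (by lia)
    rw [hz0, comp_zero, sub_eq_zero] at hz
    exact hz
  · rw [Category.assoc, hs', ← hs]

/-- Idempotents of objects of bounded amplitude split. -/
theorem splits_of_amplitude : ∀ (k : ℕ) (m : ℤ) (X : C) [t.IsGE X m] [t.IsLE X (m + k - 1)]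
    (e : X ⟶ X), e ≫ e = e → Splits e := by
  intro k
  induction k with
  | zero =>
    intro m X _ _ e he
    have hX : IsZero X := by
      haveI : t.IsLE X (m - 1) := by simpa using (inferInstance : t.IsLE X (m + (0 : ℕ) - 1))
      exact t.isZero X (m - 1) m (by lia)
    exact ⟨0, 0, 0, (isZero_zero C).eq_of_src _ _, hX.eq_of_src _ _⟩
  | succ k ih =>
    intro m X _ hLE e he
    let n : ℤ := m + k
    haveI : t.IsLE X n := by
      have : m + ((k + 1 : ℕ) : ℤ) - 1 = n := by push_cast; ring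
      rw [this] at hLE
      exact hLE
    let φ := (t.triangleLTGE n).map e
    have hφ₂ : φ.hom₂ ≫ φ.hom₂ = φ.hom₂ := by
      dsimp [φ]
      exact he
    have h₁ : Splits φ.hom₁ := by
      dsimp [φ]
      haveI : t.IsLE ((t.truncLT n).obj X) (m + k - 1) :=
        (inferInstance : t.IsLE ((t.truncLT n).obj X) (n - 1))
      exact ih m ((t.truncLT n).obj X) ((t.truncLT n).map e) (by rw [← Functor.map_comp, he])
    have h₃ : Splits φ.hom₃ := by
      dsimp [φ]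
      exact splits_of_heart t n ((t.truncGE n).obj X) ((t.truncGE n).map e)
        (by rw [← Functor.map_comp, he])
    have := splits_hom₂ _ (t.triangleLTGE_distinguished n X) φ hφ₂ h₁ h₃
    dsimp [φ] at this
    exact this

theorem isIdempotentComplete_of_bounded (hb : ∀ X : C, t.bounded X) :
    IsIdempotentComplete C := by
  constructor
  intro X p hp
  obtain ⟨⟨a, ha⟩, ⟨b, hb'⟩⟩ := hb X
  haveI := ha
  haveI := hb'
  haveI : t.IsLE X (a + ((b - a + 1).toNat : ℕ) - 1) :=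
    t.isLE_of_le X b _ (by
      have := Int.self_le_toNat (b - a + 1)
      lia)
  exact splits_of_amplitude t (b - a + 1).toNat a X p hp

end Tri

end Groth.Agent.Lib27.TKar
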