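import Mathlib
import Groth.Prelude.Def_AbDual
import Groth.Prelude.Def_SGA7a

/-!
# Isogenies and Tate modules (formal part)
-/

set_option autoImplicit false
universe u
open CategoryTheory CategoryTheory.Limits AlgebraicGeometry MonObj

namespace Groth.Agent.Lib27.TateIsog

open AbDual

variable {S : Scheme.{u}} {A C : Over S} [GrpObj A] [IsCommMonObj A] [GrpObj C] [IsCommMonObj C]
  {l : ℕ} {T : Over S}

theorem compat_iter (z : TateMod A l T) (a m : ℕ) :
    (l ^ a) • (z : ℕ → Additive (T ⟶ A)) (m + a) = (z : ℕ → Additive (T ⟶ A)) m := by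
  induction a with
  | zero => simp
  | succ a ih =>
    rw [pow_succ, mul_smul, ← add_assoc, z.compat (m + a), ih]

/-- The Tate module has no `ℕ`-torsion. -/
theorem eq_zero_of_nsmul_eq_zero (hl : l.Prime) (z : TateMod A l T) (n : ℕ) (hn : 0 < n)
    (h : ∀ m, n • (z : ℕ → Additive (T ⟶ A)) m = 0) : z = 0 := by
  apply TateMod.ext
  intro m
  -- choose `a` with `l ^ (a+1) ∤ n`
  have hlt : n < l ^ (n + 1) := by
    calc n < 2 ^ n := Nat.lt_two_pow_self
      _ ≤ l ^ n := Nat.pow_le_pow_left hl.two_le n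
      _ ≤ l ^ (n + 1) := Nat.pow_le_pow_right hl.pos (Nat.le_succ n)
  have hnd : ¬ l ^ (n + 1) ∣ n := fun hd => absurd (Nat.le_of_dvd hn hd) (not_le.mpr hlt)
  set x := (z : ℕ → Additive (T ⟶ A)) (m + n) with hx
  have h1 : addOrderOf x ∣ n := addOrderOf_dvd_of_nsmul_eq_zero (h (m + n))
  have h2 : addOrderOf x ∣ l ^ (m + n) := addOrderOf_dvd_of_nsmul_eq_zero (z.torsion (m + n))
  obtain ⟨b, -, hb⟩ := (Nat.dvd_prime_pow hl).mp h2
  have hbn : b ≤ n := by
    by_contra hcon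
    push_neg at hcon
    apply hnd
    rw [hb] at h1
    exact dvd_trans (pow_dvd_pow l hcon) h1
  have h3 : (l ^ n) • x = 0 := by
    apply addOrderOf_dvd_iff_nsmul_eq_zero.mp
    rw [hb]
    exact pow_dvd_pow l hbn
  rw [← compat_iter z n m]
  exact h3

theorem tateMap_comp (u : C ⟶ A) [IsMonHom u] (v : A ⟶ C) [IsMonHom v] (n : ℕ)
    (huv : u ≫ v = (𝟙 C) ^ n) (z : TateMod C l T) (m : ℕ) :
    ((tateMap (l := l) (T := T) v (tateMap (l := l) (T := T) u z) : TateMod C l T) :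
      ℕ → Additive (T ⟶ C)) m = n • (z : ℕ → Additive (T ⟶ C)) m := by
  change Additive.ofMul ((((z : ℕ → Additive (T ⟶ C)) m).toMul ≫ u) ≫ v) = _
  rw [Category.assoc, huv, MonObj.comp_pow, Category.comp_id]
  rfl

end Groth.Agent.Lib27.TateIsog
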