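import Mathlib
import Groth.Prelude.Def_GrSyz
import Groth.Agent.Lib27.GrMin4

/-!
# The projective resolution attached to a graded free resolution in matrix form
-/

set_option autoImplicit false

universe u

namespace Groth.Agent.Lib27.TorRk

open CategoryTheory MonoidalCategory

section

variable {k : Type u} [CommRing k] {A : Type u} [CommRing A] [Algebra k A]
  {𝒜 : ℤ → Submodule k A} [GradedAlgebra 𝒜]
  {M : Type u} [AddCommGroup M] [Module k M] [Module A M]
  {ℳ : ℤ → Submodule k M} [DirectSum.Decomposition ℳ] [SetLike.GradedSMul 𝒜 ℳ]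

lemma dLin_comp (F : GrSyz.FreeRes 𝒜 ℳ) (i : ℕ) (w : Fin (F.rk (i + 2)) → A) :
    F.dLin i (F.dLin (i + 1) w) = 0 := by
  have : F.dLin (i + 1) w ∈ LinearMap.ker (F.dLin i) := by
    rw [F.exact_succ i]
    exact ⟨w, rfl⟩
  exact this

lemma aug_comp (F : GrSyz.FreeRes 𝒜 ℳ) (w : Fin (F.rk 1) → A) :
    F.augLin (F.dLin 0 w) = 0 := by
  have : F.dLin 0 w ∈ LinearMap.ker F.augLin := by
    rw [F.exact_zero]
    exact ⟨w, rfl⟩
  exact this

/-- the chain complex of the resolution. -/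
noncomputable def cx (F : GrSyz.FreeRes 𝒜 ℳ) : ChainComplex (ModuleCat.{u} A) ℕ :=
  ChainComplex.of (fun i => ModuleCat.of A (Fin (F.rk i) → A))
    (fun i => ModuleCat.ofHom (F.dLin i))
    (fun i => ModuleCat.hom_ext (LinearMap.ext fun w => dLin_comp F i w))

lemma cx_d (F : GrSyz.FreeRes 𝒜 ℳ) (i : ℕ) :
    (cx F).d (i + 1) i = ModuleCat.ofHom (F.dLin i) := by
  show ChainComplex.of.d (fun i => ModuleCat.of A (Fin (F.rk i) → A))
    (fun i => ModuleCat.ofHom (F.dLin i)) (i + 1) i = _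
  rw [ChainComplex.of_d]

/-- the augmentation. -/
noncomputable def cxπ (F : GrSyz.FreeRes 𝒜 ℳ) :
    cx F ⟶ (ChainComplex.single₀ (ModuleCat.{u} A)).obj (ModuleCat.of A M) :=
  ((cx F).toSingle₀Equiv _).symm ⟨ModuleCat.ofHom F.augLin, by
    rw [cx_d]
    exact ModuleCat.hom_ext (LinearMap.ext fun w => aug_comp F w)⟩

end

end Groth.Agent.Lib27.TorRk
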