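import Mathlib
import Groth.Prelude.Def_GrSyz
import Groth.Agent.Lib27.TorRk1

/-!
# The resolution is a projective resolution
-/

set_option autoImplicit false

universe u

namespace Groth.Agent.Lib27.TorRk

open CategoryTheory MonoidalCategory

section

variable {k : Type u} [CommRing k] {A : Type u} [CommRing A] [Algebra k A]
  {𝒜 : ℤ → Submodule k A} [GradedAlgebra 𝒜]
  {M : Type u} [AddCommGroup M] [Module k M] [Module A M]
  {ℳ : ℤ → Submodule k M} [DirectSum.Decomposition ℳ] [SetLike.GradedSMul 𝒜 ℳ]

lemma cxπ_f_zero (F : GrSyz.FreeRes 𝒜 ℳ) : (cxπ F).f 0 = ModuleCat.ofHom F.augLin := by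
  simp [cxπ, ChainComplex.toSingle₀Equiv]

lemma cx_quasiIso (F : GrSyz.FreeRes 𝒜 ℳ) : QuasiIso (cxπ F) where
  quasiIsoAt m := by
    induction m with
    | zero =>
      rw [ChainComplex.quasiIsoAt₀_iff, ShortComplex.quasiIso_iff_of_zeros' _ rfl rfl rfl]
      constructor
      · rw [ShortComplex.moduleCat_exact_iff_range_eq_ker]
        show LinearMap.range (ModuleCat.Hom.hom ((cx F).d 1 0)) =
          LinearMap.ker (ModuleCat.Hom.hom ((cxπ F).f 0))
        rw [cxπ_f_zero, cx_d]
        exact F.exact_zero.symm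
      · show Epi ((cxπ F).f 0)
        rw [cxπ_f_zero, ModuleCat.epi_iff_surjective]
        exact F.aug_surjective
    | succ m _ =>
      rw [quasiIsoAt_iff_exactAt' (hL := ChainComplex.exactAt_succ_single_obj ..),
          HomologicalComplex.exactAt_iff' _ (m + 2) (m + 1) m (by simp) (by simp)]
      rw [ShortComplex.moduleCat_exact_iff_range_eq_ker]
      show LinearMap.range (ModuleCat.Hom.hom ((cx F).d (m + 2) (m + 1))) =
        LinearMap.ker (ModuleCat.Hom.hom ((cx F).d (m + 1) m))
      rw [cx_d, cx_d]
      exact (F.exact_succ m).symm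

/-- the projective resolution. -/
noncomputable def projRes (F : GrSyz.FreeRes 𝒜 ℳ) :
    ProjectiveResolution (ModuleCat.of A M) where
  complex := cx F
  projective n := (IsProjective.iff_projective (Fin (F.rk n) → A)).1 inferInstance
  π := cxπ F
  quasiIso := cx_quasiIso F

end

end Groth.Agent.Lib27.TorRk
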