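import Mathlib
import Groth.Prelude.Def_GrSyz
import Groth.Agent.Lib27.TorRk2

/-!
# Tor against the residue field counts the ranks of a minimal resolution
-/

set_option autoImplicit false

universe u

namespace Groth.Agent.Lib27.TorRk

open CategoryTheory MonoidalCategory

/-- the homology of a complex with zero differentials. -/
noncomputable def homologyIsoOfZero {C : Type*} [Category C] [Abelian C] {ι : Type*}
    {c : ComplexShape ι} (K : HomologicalComplex C c) (h : ∀ i j, K.d i j = 0) (j : ι)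
    [K.HasHomology j] : K.homology j ≅ K.X j :=
  (K.isoHomologyπ _ j rfl (h _ _)).symm ≪≫ K.iCyclesIso j _ rfl (h _ _)

section

variable {A : Type u} [CommRing A]

lemma lTensor_mulVecLin_eq_zero (𝔪 : Ideal A) {n m : ℕ} (D : Matrix (Fin n) (Fin m) A)
    (hD : ∀ a b, D a b ∈ 𝔪) :
    LinearMap.lTensor (A ⧸ 𝔪) (Matrix.mulVecLin D) = 0 := by
  apply TensorProduct.ext'
  intro x v
  rw [LinearMap.lTensor_tmul, LinearMap.zero_apply]
  apply (TensorProduct.piScalarRight A A (A ⧸ 𝔪) (Fin n)).injective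
  rw [map_zero, TensorProduct.piScalarRight_apply, TensorProduct.piScalarRightHom_tmul]
  funext a
  have hc : Matrix.mulVecLin D v a ∈ 𝔪 := by
    show ∑ b, D a b * v b ∈ 𝔪
    exact Ideal.sum_mem _ fun b _ => Ideal.mul_mem_right _ _ (hD a b)
  obtain ⟨y, rfl⟩ := Ideal.Quotient.mk_surjective x
  show Matrix.mulVecLin D v a • (Ideal.Quotient.mk 𝔪 y) = 0
  rw [Algebra.smul_def, Ideal.Quotient.algebraMap_eq, ← map_mul, Ideal.Quotient.eq_zero_iff_mem]
  exact 𝔪.mul_mem_right _ hc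

lemma length_quot_eq_one (𝔪 : Ideal A) [h : 𝔪.IsMaximal] : Module.length A (A ⧸ 𝔪) = 1 := by
  rw [Module.length_eq_one_iff]
  exact isSimpleModule_iff_isCoatom.2 (Ideal.isMaximal_def.1 h)

end

section

variable {k : Type u} [CommRing k] {A : Type u} [CommRing A] [Algebra k A]
  {𝒜 : ℤ → Submodule k A} [GradedAlgebra 𝒜]
  {M : Type u} [AddCommGroup M] [Module k M] [Module A M]
  {ℳ : ℤ → Submodule k M} [DirectSum.Decomposition ℳ] [SetLike.GradedSMul 𝒜 ℳ]

theorem tor_length (𝔪 : Ideal A) [𝔪.IsMaximal] (F : GrSyz.FreeRes 𝒜 ℳ) (hF : F.IsMinimal 𝔪)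
    (i : ℕ) :
    Module.length A (((Tor (ModuleCat.{u} A) i).obj (ModuleCat.of A (A ⧸ 𝔪))).obj
      (ModuleCat.of A M)) = (F.rk i : ℕ∞) := by
  let G := (tensoringLeft (ModuleCat.{u} A)).obj (ModuleCat.of A (A ⧸ 𝔪))
  let K := (G.mapHomologicalComplex _).obj (cx F)
  have hd : ∀ a b, K.d a b = 0 := by
    intro a b
    by_cases hab : (ComplexShape.down ℕ).Rel a b
    · have hab' : b + 1 = a := hab
      subst hab'
      show G.map ((cx F).d (b + 1) b) = 0
      rw [cx_d]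
      show (ModuleCat.of A (A ⧸ 𝔪)) ◁ ModuleCat.ofHom (F.dLin b) = 0
      apply ModuleCat.hom_ext
      rw [ModuleCat.hom_whiskerLeft]
      exact lTensor_mulVecLin_eq_zero 𝔪 (F.d b) (hF b)
    · exact K.shape a b hab
  let e1 : ((Tor (ModuleCat.{u} A) i).obj (ModuleCat.of A (A ⧸ 𝔪))).obj (ModuleCat.of A M) ≅
      K.homology i := (projRes F).isoLeftDerivedObj G i
  let e2 : K.homology i ≅ K.X i := homologyIsoOfZero K hd i
  let e3 : ↑(K.X i) ≃ₗ[A] (Fin (F.rk i) → A ⧸ 𝔪) :=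
    TensorProduct.piScalarRight A A (A ⧸ 𝔪) (Fin (F.rk i))
  rw [(e1 ≪≫ e2).toLinearEquiv.length_eq, e3.length_eq, Module.length_pi, length_quot_eq_one]
  simp

end

end Groth.Agent.Lib27.TorRk
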