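import Mathlib
import Groth.Prelude.Def_GrSyz
import Groth.Agent.Lib27.TorRk3

/-!
# Polynomial rings: the irrelevant ideal is maximal; Tor ranks
-/

set_option autoImplicit false

universe u

namespace Groth.Agent.Lib27.TorRk

open CategoryTheory MvPolynomial Groth.Agent.Lib27.GrMin

variable (k : Type u) [Field k] (r : ℕ)

lemma irrel_eq_ker :
    (GrSyz.irrel (GrSyz.stdGr k (Fin (r + 1)))).toIdeal =
      RingHom.ker (MvPolynomial.constantCoeff : MvPolynomial (Fin (r + 1)) k →+* k) := by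
  ext a
  rw [RingHom.mem_ker, constantCoeff_eq]
  exact ⟨coeff_zero_of_mem_irrel k r a, mem_irrel_of_coeff_zero k r a⟩

instance irrel_isMaximal : ((GrSyz.irrel (GrSyz.stdGr k (Fin (r + 1)))).toIdeal).IsMaximal := by
  rw [irrel_eq_ker]
  exact RingHom.ker_isMaximal_of_surjective _ (fun c => ⟨C c, constantCoeff_C _ c⟩)

theorem poly_tor_length
    {M : Type u} [AddCommGroup M] [Module k M] [Module (MvPolynomial (Fin (r + 1)) k) M]
    (ℳ : ℤ → Submodule k M) [DirectSum.Decomposition ℳ]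
    [SetLike.GradedSMul (GrSyz.stdGr k (Fin (r + 1))) ℳ]
    (F : GrSyz.FreeRes (GrSyz.stdGr k (Fin (r + 1))) ℳ)
    (hF : F.IsMinimal (GrSyz.irrel (GrSyz.stdGr k (Fin (r + 1)))).toIdeal) (i : ℕ) :
    Module.length (MvPolynomial (Fin (r + 1)) k)
        (((CategoryTheory.Tor (ModuleCat.{u} (MvPolynomial (Fin (r + 1)) k)) i).obj
            (ModuleCat.of (MvPolynomial (Fin (r + 1)) k) ((MvPolynomial (Fin (r + 1)) k) ⧸
              (GrSyz.irrel (GrSyz.stdGr k (Fin (r + 1)))).toIdeal))).obj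
          (ModuleCat.of (MvPolynomial (Fin (r + 1)) k) M)) = (F.rk i : ℕ∞) :=
  tor_length _ F hF i

end Groth.Agent.Lib27.TorRk
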