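import Groth.Agent.Lib.Helper4.TorLES
import Groth.Agent.Lib.Helper9.TorSymm
import Groth.Agent.Lib.Helper21.TorBridge
import Groth.Agent.Lib.Helper28.TorFiltered
import Groth.Agent.Lib.Helper28.TorFiltered2
import Groth.Agent.Lib.Helper28.TorResidue
import Groth.Agent.Lib.Helper16.DepthExt
import Mathlib.Algebra.Colimit.Finiteness
import Mathlib.Algebra.Category.ModuleCat.Limits

/-!
# Toolkit: vanishing of `Tor_i(N, M)` in the first variable `N` (helper27)
-/

set_option autoImplicit false
universe u
open CategoryTheory CategoryTheory.Limits MonoidalCategory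

namespace Groth.Agent.Lib27.TorTools

open Groth.Agent.Lib.Helper4 Groth.Agent.Lib.Helper16.Depth

variable {A : Type u} [CommRing A] (M : ModuleCat.{u} A)

/-- `Tor_i(N, M) = 0`. -/
def W (i : ℕ) (N : Type u) [AddCommGroup N] [Module A N] : Prop :=
  IsZero (((Tor (ModuleCat.{u} A) i).obj (ModuleCat.of A N)).obj M)

variable {M}

theorem W_of_equiv {i : ℕ} {N N' : Type u} [AddCommGroup N] [Module A N] [AddCommGroup N']
    [Module A N'] (e : N ≃ₗ[A] N') (h : W M i N) : W M i N' := by
  unfold W at *
  have e' : ModuleCat.of A N ≅ ModuleCat.of A N' := e.toModuleIso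
  exact h.of_iso (((Tor (ModuleCat.{u} A) i).mapIso e').app M).symm

theorem W_of_subsingleton (i : ℕ) (N : Type u) [AddCommGroup N] [Module A N] [Subsingleton N] :
    W M (i + 1) N :=
  Groth.Agent.Lib.Helper28.TorResidue.isZero_tor_of_subsingleton (M := M) (ModuleCat.of A N) i

section SES

variable {N₁ N₂ N₃ : Type u} [AddCommGroup N₁] [Module A N₁] [AddCommGroup N₂] [Module A N₂]
  [AddCommGroup N₃] [Module A N₃] (f : N₁ →ₗ[A] N₂) (g : N₂ →ₗ[A] N₃)
  (hf : Function.Injective f) (hg : Function.Surjective g) (hfg : Function.Exact f g)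
include hf hg hfg

theorem W_mid {i : ℕ} (h1 : W M i N₁) (h3 : W M i N₃) : W M i N₂ :=
  isZero_tor_X₂ _ (shortExact_of_linearMaps f g hf hg hfg) M i h1 h3

theorem W_left {i : ℕ} (h3 : W M (i + 1) N₃) (h2 : W M i N₂) : W M i N₁ :=
  isZero_tor_X₁ _ (shortExact_of_linearMaps f g hf hg hfg) M i h3 h2

theorem W_right {i : ℕ} (h2 : W M (i + 1) N₂) (h1 : W M i N₁) : W M (i + 1) N₃ := by
  have hT := shortExact_of_linearMaps f g hf hg hfg
  have hinj := Groth.Agent.Lib.Helper28.TorFiltered2.δT_injective _ hT M i h2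
  have hmono : Mono (Groth.Agent.Lib.Helper28.TorFiltered2.δT _ hT M i) :=
    (ModuleCat.mono_iff_injective _).2 hinj
  exact IsZero.of_mono (Groth.Agent.Lib.Helper28.TorFiltered2.δT _ hT M i) h1

theorem W_one_right (h2 : W M 1 N₂) (hinj : Function.Injective (f.rTensor M)) : W M 1 N₃ :=
  Groth.Agent.Lib.Helper21.isZero_tor_one_of_injective_rTensor _ M
    (shortExact_of_linearMaps f g hf hg hfg) h2 hinj

end SES

/-- Reduction to finitely generated submodules. -/
theorem W_of_fg_submodules {i : ℕ} (N : Type u) [AddCommGroup N] [Module A N]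
    (h : ∀ N' : Submodule A N, N'.FG → W M i N') : W M i N := by
  classical
  let ι := {N' : Submodule A N // N'.FG}
  let G : ι → Type u := fun N' => N'.1
  let F : ModuleCat.{u} A ⥤ ModuleCat.{u} A := (Tor (ModuleCat.{u} A) i).flip.obj M
  haveI : PreservesColimitsOfShape ι F :=
    Groth.Agent.Lib.Helper28.TorFiltered.preservesColimitsOfShape_tor_flip i M ι
  have hc := ModuleCat.directLimitIsColimit (R := A) G (Module.fgSystem A N)
  have hc' := isColimitOfPreserves F hc
  have hz : IsZero (F.obj (ModuleCat.directLimitCocone (R := A) G (Module.fgSystem A N)).pt) := by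
    rw [IsZero.iff_id_eq_zero]
    apply hc'.hom_ext
    intro j
    have hj : IsZero (F.obj ((ModuleCat.directLimitDiagram (R := A) G
        (Module.fgSystem A N)).obj j)) := h j.1 j.2
    exact hj.eq_of_src _ _
  have e : ModuleCat.of A (Module.DirectLimit G (Module.fgSystem A N)) ≅ ModuleCat.of A N :=
    (Module.fgSystem.equiv A N).toModuleIso
  exact hz.of_iso (F.mapIso e).symm

end Groth.Agent.Lib27.TorTools
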