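import Mathlib

/-!
# A morphism killing two consecutive cohomology objects factors through a map `H^q → H^{q-1}[1]`.
-/

set_option autoImplicit false

open CategoryTheory Limits Pretriangulated Triangulated

namespace Groth.Agent.Lib27.TruncMap

universe w v u

section Abstract

variable {C : Type u} [Category.{v} C] [Preadditive C] [HasZeroObject C] [HasShift C ℤ]
  [∀ n : ℤ, (shiftFunctor C n).Additive] [Pretriangulated C]

lemma existsUnique_factor (T T' : Triangle C) (hT : T ∈ distTriang C) (hT' : T' ∈ distTriang C)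
    (φ : T ⟶ T') (h₁ : φ.hom₁ = 0) (h₃ : φ.hom₃ = 0)
    (v1 : ∀ u : T.obj₁ ⟶ T'.obj₃⟦(-1 : ℤ)⟧, u = 0)
    (v2 : ∀ z : T.obj₁⟦(1 : ℤ)⟧ ⟶ T'.obj₂, z = 0)
    (v3 : ∀ y : T.obj₃ ⟶ T'.obj₃⟦(-1 : ℤ)⟧, y = 0) :
    ∃! L : T.obj₃ ⟶ T'.obj₁, φ.hom₂ = T.mor₂ ≫ L ≫ T'.mor₁ := by
  have hT'r := inv_rot_of_distTriang _ hT'
  have e1 : φ.hom₂ ≫ T'.mor₂ = 0 := by rw [← φ.comm₂, h₃, comp_zero]
  obtain ⟨g₁, hg₁⟩ := Triangle.coyoneda_exact₂ T' hT' φ.hom₂ e1
  have e2 : (T.mor₁ ≫ g₁) ≫ T'.mor₁ = 0 := by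
    rw [Category.assoc, ← hg₁, φ.comm₁, h₁, zero_comp]
  obtain ⟨u, hu⟩ := Triangle.coyoneda_exact₂ T'.invRotate hT'r (T.mor₁ ≫ g₁) e2
  have e3 : T.mor₁ ≫ g₁ = 0 :=
    hu.trans ((congrArg (fun x : T.obj₁ ⟶ T'.invRotate.obj₁ => x ≫ T'.invRotate.mor₁)
      (v1 u)).trans zero_comp)
  obtain ⟨L, hL⟩ := Triangle.yoneda_exact₂ T hT g₁ e3
  have hex : φ.hom₂ = T.mor₂ ≫ L ≫ T'.mor₁ := by rw [hg₁, hL, Category.assoc]
  refine ⟨L, hex, ?_⟩
  intro L' hL'
  have e4 : T.mor₂ ≫ ((L' - L) ≫ T'.mor₁) = 0 := by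
    rw [Preadditive.sub_comp, Preadditive.comp_sub, ← hL', ← hex, sub_self]
  obtain ⟨z, hz⟩ := Triangle.yoneda_exact₃ T hT _ e4
  have e5 : (L' - L) ≫ T'.mor₁ = 0 := by rw [hz, v2 z, comp_zero]
  obtain ⟨y, hy⟩ := Triangle.coyoneda_exact₂ T'.invRotate hT'r (L' - L) e5
  have e6 : L' - L = 0 :=
    hy.trans ((congrArg (fun x : T.obj₃ ⟶ T'.invRotate.obj₁ => x ≫ T'.invRotate.mor₁)
      (v3 y)).trans zero_comp)
  exact sub_eq_zero.1 e6

end Abstract

section Derived

variable {C : Type u} [Category.{v} C] [Abelian C] [HasDerivedCategory.{w} C]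

open DerivedCategory

lemma map_eq_zero_of_heart {Z Z' : DerivedCategory C} (n : ℤ) [Z.IsGE n] [Z.IsLE n]
    [Z'.IsGE n] [Z'.IsLE n] (u : Z ⟶ Z') (hu : (homologyFunctor C n).map u = 0) : u = 0 := by
  obtain ⟨M, ⟨e⟩⟩ := exists_iso_singleFunctor_obj_of_isGE_of_isLE Z n
  obtain ⟨M', ⟨e'⟩⟩ := exists_iso_singleFunctor_obj_of_isGE_of_isLE Z' n
  obtain ⟨φ, hφ⟩ := (singleFunctor C n).map_surjective (e.inv ≫ u ≫ e'.hom)
  have h1 : (homologyFunctor C n).map ((singleFunctor C n).map φ) = 0 := by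
    rw [hφ, Functor.map_comp, Functor.map_comp, hu, zero_comp, comp_zero]
  have h2 : φ = 0 := by
    have := NatIso.naturality_1 (singleFunctorCompHomologyFunctorIso C n) φ
    dsimp at this
    rw [← this, h1, zero_comp, comp_zero]
  have h3 : e.inv ≫ u ≫ e'.hom = 0 := by rw [← hφ, h2, Functor.map_zero]
  have h4 : u = e.hom ≫ (e.inv ≫ u ≫ e'.hom) ≫ e'.inv := by simp
  rw [h4, h3, zero_comp, comp_zero]

lemma truncGELT_map_eq_zero (n : ℤ) {K K' : DerivedCategory C} (f : K ⟶ K')
    (hf : (homologyFunctor C n).map f = 0) :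
    ((TStructure.t (C := C)).truncGELT n (n + 1)).map f = 0 := by
  haveI : ∀ X : DerivedCategory C,
      (TStructure.t (C := C)).IsLE (((TStructure.t (C := C)).truncGELT n (n + 1)).obj X) n :=
    fun X => by
      dsimp [TStructure.truncGELT]
      infer_instance
  haveI : ∀ X : DerivedCategory C,
      (TStructure.t (C := C)).IsGE (((TStructure.t (C := C)).truncGELT n (n + 1)).obj X) n :=
    fun X => inferInstance
  apply map_eq_zero_of_heart n
  have m1 : Mono ((homologyFunctor C n).map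
      (((TStructure.t (C := C)).truncLTι (n + 1)).app K')) := by
    have := HomologySequence.mono_homologyMap_mor₁_iff _
      ((TStructure.t (C := C)).triangleLTGE_distinguished (n + 1) K') (n - 1) n (by lia)
    refine this.2 ?_
    apply IsZero.eq_of_src
    exact isZero_of_isGE _ (n + 1) (n - 1) (by lia)
  have e1 : Epi ((homologyFunctor C n).map
      (((TStructure.t (C := C)).truncGEπ n).app
        (((TStructure.t (C := C)).truncLT (n + 1)).obj K))) := by
    have := HomologySequence.epi_homologyMap_mor₂_iff _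
      ((TStructure.t (C := C)).triangleLTGE_distinguished n
        (((TStructure.t (C := C)).truncLT (n + 1)).obj K)) n (n + 1) rfl
    refine this.2 ?_
    apply IsZero.eq_of_tgt
    exact isZero_of_isLE _ (n - 1) (n + 1) (by lia)
  have s1 : (homologyFunctor C n).map
      (((TStructure.t (C := C)).truncLT (n + 1)).map f) = 0 := by
    rw [← cancel_mono ((homologyFunctor C n).map
      (((TStructure.t (C := C)).truncLTι (n + 1)).app K')), zero_comp, ← Functor.map_comp]
    have := ((TStructure.t (C := C)).truncLTι (n + 1)).naturality f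
    dsimp at this
    rw [this, Functor.map_comp, hf, comp_zero]
  rw [← cancel_epi ((homologyFunctor C n).map
      (((TStructure.t (C := C)).truncGEπ n).app
        (((TStructure.t (C := C)).truncLT (n + 1)).obj K))), comp_zero, ← Functor.map_comp]
  have := ((TStructure.t (C := C)).truncGEπ n).naturality
    (((TStructure.t (C := C)).truncLT (n + 1)).map f)
  dsimp at this
  dsimp [TStructure.truncGELT]
  rw [← this, Functor.map_comp, s1, zero_comp]

open ComposableArrows in
theorem main {K K' : DerivedCategory C} (f : K ⟶ K') (q : ℤ)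
    (h₁ : (DerivedCategory.homologyFunctor C (q - 1)).map f = 0)
    (h₂ : (DerivedCategory.homologyFunctor C q).map f = 0) :
    ∃! L : ((DerivedCategory.TStructure.t (C := C)).truncGELT q (q + 1)).obj K ⟶
        ((DerivedCategory.TStructure.t (C := C)).truncGELT (q - 1) q).obj K',
      ((DerivedCategory.TStructure.t (C := C)).truncGELT (q - 1) (q + 1)).map f =
        ((DerivedCategory.TStructure.t (C := C)).natTransTruncGEOfLE (q - 1) q (sub_one_lt q).le).app
            (((DerivedCategory.TStructure.t (C := C)).truncLT (q + 1)).obj K) ≫ L ≫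
          ((DerivedCategory.TStructure.t (C := C)).truncGE (q - 1)).map
            (((DerivedCategory.TStructure.t (C := C)).natTransTruncLTOfLE q (q + 1) (lt_add_one q).le).app K') := by
  have hab : (((q - 1 : ℤ)) : EInt) ≤ ((q : ℤ) : EInt) :=
    WithBotTop.coe_le_coe.2 (sub_one_lt q).le
  have hbc : ((q : ℤ) : EInt) ≤ (((q + 1 : ℤ)) : EInt) :=
    WithBotTop.coe_le_coe.2 (lt_add_one q).le
  let F := (TStructure.t (C := C)).triangleω₁δ _ _ _ hab hbc
  have hT := (TStructure.t (C := C)).triangleω₁δ_distinguished _ _ _ hab hbc K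
  have hT' := (TStructure.t (C := C)).triangleω₁δ_distinguished _ _ _ hab hbc K'
  have hm₂ : (F.obj K).mor₂ =
      ((TStructure.t (C := C)).natTransTruncGEOfLE (q - 1) q (sub_one_lt q).le).app
        (((TStructure.t (C := C)).truncLT (q + 1)).obj K) := by
    dsimp only [F]
    rw [TStructure.triangleω₁δ_obj_mor₂]
    rfl
  have hm₁ : (F.obj K').mor₁ =
      ((TStructure.t (C := C)).truncGE (q - 1)).map
        (((TStructure.t (C := C)).natTransTruncLTOfLE q (q + 1) (lt_add_one q).le).app K') := by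
    dsimp only [F]
    rw [TStructure.triangleω₁δ_obj_mor₁]
    rfl
  have hφ₁ : (F.map f).hom₁ = 0 := by
    have := truncGELT_map_eq_zero (q - 1) f h₁
    rw [show q - 1 + 1 = q by ring] at this
    exact this
  have hφ₃ : (F.map f).hom₃ = 0 := truncGELT_map_eq_zero q f h₂
  have key := existsUnique_factor (F.obj K) (F.obj K') hT hT' (F.map f) hφ₁ hφ₃ ?_ ?_ ?_
  · rw [hm₂, hm₁] at key
    exact key
  · intro u
    have i1 : (TStructure.t (C := C)).IsLE (((TStructure.t (C := C)).truncGE (q - 1)).obj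
        (((TStructure.t (C := C)).truncLT q).obj K)) (q - 1) := inferInstance
    have i2 : (TStructure.t (C := C)).IsGE ((((TStructure.t (C := C)).truncGE q).obj
        (((TStructure.t (C := C)).truncLT (q + 1)).obj K'))⟦(-1 : ℤ)⟧) (q + 1) :=
      (TStructure.t (C := C)).isGE_shift _ q (-1) (q + 1) (by lia)
    exact (TStructure.t (C := C)).zero_of_isLE_of_isGE u (q - 1) (q + 1) (by lia) i1 i2
  · intro z
    have i1 : (TStructure.t (C := C)).IsLE ((((TStructure.t (C := C)).truncGE (q - 1)).obj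
        (((TStructure.t (C := C)).truncLT q).obj K))⟦(1 : ℤ)⟧) (q - 2) :=
      (TStructure.t (C := C)).isLE_shift _ (q - 1) 1 (q - 2) (by lia)
    have i2 : (TStructure.t (C := C)).IsGE (((TStructure.t (C := C)).truncGE (q - 1)).obj
        (((TStructure.t (C := C)).truncLT (q + 1)).obj K')) (q - 1) := inferInstance
    exact (TStructure.t (C := C)).zero_of_isLE_of_isGE z (q - 2) (q - 1) (by lia) i1 i2
  · intro y
    have i1 : (TStructure.t (C := C)).IsLE (((TStructure.t (C := C)).truncGE q).obj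
        (((TStructure.t (C := C)).truncLT (q + 1)).obj K)) q := inferInstance
    have i2 : (TStructure.t (C := C)).IsGE ((((TStructure.t (C := C)).truncGE q).obj
        (((TStructure.t (C := C)).truncLT (q + 1)).obj K'))⟦(-1 : ℤ)⟧) (q + 1) :=
      (TStructure.t (C := C)).isGE_shift _ q (-1) (q + 1) (by lia)
    exact (TStructure.t (C := C)).zero_of_isLE_of_isGE y q (q + 1) (by lia) i1 i2

end Derived

end Groth.Agent.Lib27.TruncMap
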