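import Groth.Prelude.Def_DRing2
import Mathlib.Algebra.Homology.DerivedCategory.TStructure
import Mathlib.Algebra.Homology.DerivedCategory.Linear
import Mathlib.Algebra.Homology.DerivedCategory.FullyFaithful

/-!
# Objects of `D(R)` with cohomology in degrees `-1, 0`
-/

set_option autoImplicit false
universe u
attribute [local instance] HasDerivedCategory.standard
open CategoryTheory CategoryTheory.Limits CategoryTheory.Pretriangulated DerivedCategory
  DerivedCategory.TStructure

namespace Groth.Agent.Lib27.TwoTerm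

variable {R : Type u} [CommRing R]

lemma isZero_of_subsingleton (X : Dual.D R) (i : ℤ) (h : Subsingleton (Dual.HD R X i)) :
    IsZero ((DerivedCategory.homologyFunctor (ModuleCat.{u} R) i).obj X) :=
  ModuleCat.isZero_of_subsingleton _

lemma isLE_zero (K : Dual.D R) (hK : ∀ i : ℤ, i ≠ -1 → i ≠ 0 → Subsingleton (Dual.HD R K i)) :
    DerivedCategory.IsLE K 0 := by
  rw [DerivedCategory.isLE_iff]
  intro i hi
  exact isZero_of_subsingleton K i (hK i (by lia) (by lia))

lemma isGE_neg_one (K : Dual.D R)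
    (hK : ∀ i : ℤ, i ≠ -1 → i ≠ 0 → Subsingleton (Dual.HD R K i)) :
    DerivedCategory.IsGE K (-1) := by
  rw [DerivedCategory.isGE_iff]
  intro i hi
  exact isZero_of_subsingleton K i (hK i (by lia) (by lia))

/-- The cone of a map of two-term objects which is an iso on `H^0` and epi on `H^{-1}` lives in
degrees `≤ -2`. -/
lemma cone_isLE {K K' C : Dual.D R} (α : K ⟶ K') (β : K' ⟶ C) (γ : C ⟶ K⟦(1 : ℤ)⟧)
    (hT : Triangle.mk α β γ ∈ distTriang _)
    [DerivedCategory.IsLE K 0] [DerivedCategory.IsLE K' 0]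
    (h0 : IsIso ((DerivedCategory.homologyFunctor (ModuleCat.{u} R) 0).map α))
    (h1 : Epi ((DerivedCategory.homologyFunctor (ModuleCat.{u} R) (-1)).map α)) :
    DerivedCategory.IsLE C (-2) := by
  rw [DerivedCategory.isLE_iff]
  intro i hi
  have ex := HomologySequence.exact₃ _ hT i (i + 1) rfl
  refine ex.isZero_of_both_zeros ?_ ?_
  · refine (HomologySequence.epi_homologyMap_mor₁_iff _ hT i).1 ?_
    show Epi ((DerivedCategory.homologyFunctor (ModuleCat.{u} R) i).map α)
    by_cases hi1 : i = -1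
    · subst hi1; exact h1
    by_cases hi0 : i = 0
    · subst hi0; infer_instance
    · exact ⟨fun _ _ _ => (DerivedCategory.isZero_of_isLE K' 0 i (by lia)).eq_of_src _ _⟩
  · refine (HomologySequence.mono_homologyMap_mor₁_iff _ hT i (i + 1) rfl).1 ?_
    show Mono ((DerivedCategory.homologyFunctor (ModuleCat.{u} R) (i + 1)).map α)
    by_cases hi1 : i = -1
    · subst hi1
      exact inferInstanceAs (Mono ((DerivedCategory.homologyFunctor (ModuleCat.{u} R) 0).map α))
    · exact ⟨fun _ _ _ => (DerivedCategory.isZero_of_isLE K 0 (i + 1) (by lia)).eq_of_tgt _ _⟩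

instance (N : Type u) [AddCommGroup N] [Module R N] :
    DerivedCategory.IsGE ((Dual.inD R N)⟦(1 : ℤ)⟧) (-1) :=
  t.isGE_shift _ 0 1 (-1)

instance (N : Type u) [AddCommGroup N] [Module R N] :
    DerivedCategory.IsLE ((Dual.inD R N)⟦(1 : ℤ)⟧) (-1) :=
  t.isLE_shift _ 0 1 (-1)

end Groth.Agent.Lib27.TwoTerm
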