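import Groth.Agent.Lib27.TwoTerm
import Mathlib.Algebra.Homology.DerivedCategory.Ext.EnoughProjectives
import Mathlib.Algebra.Homology.ShortComplex.ModuleCat
import Mathlib.RingTheory.Noetherian.Basic
import Mathlib.CategoryTheory.Triangulated.TStructure.TruncLTGE
import Mathlib.CategoryTheory.Triangulated.TStructure.TruncLEGT

/-!
# Two-term objects of the derived category: presentation triangles
-/

set_option autoImplicit false
universe w v u
open CategoryTheory CategoryTheory.Limits CategoryTheory.Pretriangulated DerivedCategory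
  DerivedCategory.TStructure

namespace Groth.Agent.Lib27.TwoTerm

section General

variable {C : Type u} [Category.{v} C] [Abelian C] [HasDerivedCategory.{w} C]

/-- Morphisms from a projective object placed in degree `i` to an object of `D^{<i}` vanish. -/
lemma eq_zero_of_projective_of_isLE {P : C} [Projective P] (i n : ℤ) (hn : n < i)
    (X : DerivedCategory C) [X.IsLE n] (φ : (singleFunctor C i).obj P ⟶ X) : φ = 0 := by
  obtain ⟨L, hL, ⟨e⟩⟩ := X.exists_iso_Q_obj_of_isLE n
  have h := from_singleFunctor_obj_eq_zero_of_projective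
    ((singleFunctorIsoCompQ C i).inv.app P ≫ φ ≫ e.hom) n hn
  rw [← cancel_mono e.hom, ← cancel_epi ((singleFunctorIsoCompQ C i).inv.app P), h, zero_comp,
    comp_zero]

/-- `H^q(X ⟶ τ_{≥b} X)` is an isomorphism for `q ≥ b`. -/
lemma isIso_homology_truncGEπ (X : DerivedCategory C) (b q : ℤ) (hq : b ≤ q) :
    IsIso ((homologyFunctor C q).map ((t.truncGEπ b).app X)) := by
  have hT := t.triangleLTGE_distinguished b X
  have h1 : Mono ((homologyFunctor C q).map ((t.truncGEπ b).app X)) :=
    (HomologySequence.mono_homologyMap_mor₂_iff _ hT q).2 (by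
      apply IsZero.eq_of_src
      exact isZero_of_isLE ((t.truncLT b).obj X) (b - 1) q (by lia))
  have h2 : Epi ((homologyFunctor C q).map ((t.truncGEπ b).app X)) :=
    (HomologySequence.epi_homologyMap_mor₂_iff _ hT q (q + 1) rfl).2 (by
      apply IsZero.eq_of_tgt
      exact isZero_of_isLE ((t.truncLT b).obj X) (b - 1) (q + 1) (by lia))
  exact isIso_of_mono_of_epi _

/-- `H^0` of `single₀` of an epi is an epi. -/
lemma epi_homology_single_map {A B : C} (q : A ⟶ B) [Epi q] (n : ℤ) :
    Epi ((homologyFunctor C n).map ((singleFunctor C n).map q)) := by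
  have h := NatIso.naturality_2 (singleFunctorCompHomologyFunctorIso C n) q
  dsimp at h
  rw [← h]
  infer_instance

lemma mono_homology_single_map {A B : C} (q : A ⟶ B) [Mono q] (n : ℤ) :
    Mono ((homologyFunctor C n).map ((singleFunctor C n).map q)) := by
  have h := NatIso.naturality_2 (singleFunctorCompHomologyFunctorIso C n) q
  dsimp at h
  rw [← h]
  infer_instance

/-- Lifting a map `F ⟶ H^0(K)` from a projective `F` to `F[0] ⟶ K` (only surjectivity on `H^0`
is recorded). -/
lemma exists_lift_epi (K : DerivedCategory C) [K.IsLE 0] (F : C) [Projective F]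
    (p : F ⟶ (homologyFunctor C 0).obj K) [Epi p] :
    ∃ u : (singleFunctor C 0).obj F ⟶ K, Epi ((homologyFunctor C 0).map u) := by
  have hT := t.triangleLTGE_distinguished 0 K
  obtain ⟨Y, ⟨e⟩⟩ := exists_iso_singleFunctor_obj_of_isGE_of_isLE ((t.truncGE 0).obj K) 0
  have := isIso_homology_truncGEπ K 0 0 le_rfl
  let q : F ⟶ Y := p ≫ (homologyFunctor C 0).map ((t.truncGEπ 0).app K) ≫
    (homologyFunctor C 0).map e.hom ≫ (singleFunctorCompHomologyFunctorIso C 0).hom.app Y
  have hq : Epi q := by dsimp [q]; infer_instance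
  let v : (singleFunctor C 0).obj F ⟶ (t.truncGE 0).obj K := (singleFunctor C 0).map q ≫ e.inv
  have hv : v ≫ (t.truncGEδLT 0).app K = 0 := by
    have : ((t.truncLT 0).obj K).IsLE (-1) := t.isLE_truncLT_obj _ 0 (-1) (by lia)
    have : DerivedCategory.IsLE ((t.truncLT 0 ⋙ shiftFunctor (DerivedCategory C) (1 : ℤ)).obj K)
        (-2) := t.isLE_shift ((t.truncLT 0).obj K) (-1) 1 (-2)
    exact eq_zero_of_projective_of_isLE 0 (-2) (by lia) _ _
  obtain ⟨u, hu⟩ : ∃ u : (singleFunctor C 0).obj F ⟶ K, v = u ≫ (t.truncGEπ 0).app K :=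
    Triangle.coyoneda_exact₃ _ hT v hv
  refine ⟨u, ?_⟩
  have h1 : (homologyFunctor C 0).map u ≫ (homologyFunctor C 0).map ((t.truncGEπ 0).app K) =
      (homologyFunctor C 0).map v := by
    rw [← Functor.map_comp]
    exact congrArg _ hu.symm
  have h2 : Epi ((homologyFunctor C 0).map v) := by
    dsimp [v]
    rw [Functor.map_comp]
    have := epi_homology_single_map q 0
    infer_instance
  rw [← h1] at h2
  have h3 : ((homologyFunctor C 0).map u ≫
      (homologyFunctor C 0).map ((t.truncGEπ 0).app K)) ≫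
        inv ((homologyFunctor C 0).map ((t.truncGEπ 0).app K)) = (homologyFunctor C 0).map u := by
    rw [Category.assoc, IsIso.hom_inv_id, Category.comp_id]
  rw [← h3]
  infer_instance

/-- The fibre of a map `F[0] ⟶ K` which is epi on `H^0`, with `K` in degrees `[-1,0]`, is a module
in degree `0`: the presentation triangle `G[0] ⟶ F[0] ⟶ K ⟶ G[1]`. -/
theorem exists_presentation_triangle (K : DerivedCategory C) [K.IsGE (-1)] [K.IsLE 0]
    (F : C) (u : (singleFunctor C 0).obj F ⟶ K) (hu : Epi ((homologyFunctor C 0).map u)) :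
    ∃ (G : C) (φ : G ⟶ F) (β : K ⟶ ((singleFunctor C 0).obj G)⟦(1 : ℤ)⟧),
      Triangle.mk ((singleFunctor C 0).map φ) u β ∈ distTriang _ := by
  obtain ⟨Z, w, β₀, hT⟩ := distinguished_cocone_triangle₁ u
  have hZ1 : Z.IsLE 0 := by
    rw [DerivedCategory.isLE_iff]
    intro i hi
    have ex := HomologySequence.exact₁ _ hT (i - 1) i (by lia)
    refine ex.isZero_of_both_zeros ?_ ?_
    · show HomologySequence.δ _ (i - 1) i (by lia) = 0
      by_cases h1 : i = 1
      · subst h1
        exact (HomologySequence.epi_homologyMap_mor₂_iff _ hT 0 1 (by lia)).1 hu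
      · apply IsZero.eq_of_src
        exact isZero_of_isLE K 0 (i - 1) (by lia)
    · apply IsZero.eq_of_tgt
      exact isZero_of_isLE ((singleFunctor C 0).obj F) 0 i hi
  have hZ2 : Z.IsGE 0 := by
    rw [DerivedCategory.isGE_iff]
    intro i hi
    have ex := HomologySequence.exact₁ _ hT (i - 1) i (by lia)
    refine ex.isZero_of_both_zeros ?_ ?_
    · apply IsZero.eq_of_src
      exact isZero_of_isGE K (-1) (i - 1) (by lia)
    · apply IsZero.eq_of_tgt
      exact isZero_of_isGE ((singleFunctor C 0).obj F) 0 i hi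
  obtain ⟨G, ⟨e⟩⟩ := exists_iso_singleFunctor_obj_of_isGE_of_isLE Z 0
  obtain ⟨φ, hφ⟩ := (singleFunctor C 0).map_surjective (e.inv ≫ w)
  refine ⟨G, φ, β₀ ≫ e.hom⟦(1 : ℤ)⟧', ?_⟩
  refine isomorphic_distinguished _ hT _ ?_
  refine Triangle.isoMk _ _ e.symm (Iso.refl _) (Iso.refl _) ?_ ?_ ?_
  · show (singleFunctor C 0).map φ ≫ 𝟙 _ = e.inv ≫ w
    rw [Category.comp_id, hφ]
  · show u ≫ 𝟙 _ = 𝟙 _ ≫ u
    rw [Category.comp_id, Category.id_comp]
  · show (β₀ ≫ e.hom⟦(1 : ℤ)⟧') ≫ e.inv⟦(1 : ℤ)⟧' = 𝟙 _ ≫ β₀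
    rw [Category.id_comp, Category.assoc, ← Functor.map_comp, e.hom_inv_id,
      CategoryTheory.Functor.map_id, Category.comp_id]

/-- the two-term complex `G ⟶ F` in degrees `-1, 0`, as a mapping cone -/
noncomputable abbrev cx {G F : C} (φ : G ⟶ F) : CochainComplex C ℤ :=
  CochainComplex.mappingCone ((CochainComplex.singleFunctor C 0).map φ)

omit [HasDerivedCategory.{w} C] in
lemma isZero_cx_X {G F : C} (φ : G ⟶ F) (i : ℤ) (hi : i < -1 ∨ 0 < i) :
    IsZero ((cx φ).X i) := by
  rw [cx, CochainComplex.mappingCone.isZero_X_iff]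
  constructor
  · exact HomologicalComplex.isZero_single_obj_X _ _ _ _ (by lia)
  · exact HomologicalComplex.isZero_single_obj_X _ _ _ _ (by lia)

/-- the distinguished triangle `G[0] ⟶ F[0] ⟶ cx φ ⟶ G[1]` -/
lemma cx_triangle_distinguished {G F : C} (φ : G ⟶ F) :
    Triangle.mk ((singleFunctor C 0).map φ)
      (Q.map (CochainComplex.mappingCone.inr ((CochainComplex.singleFunctor C 0).map φ)) :
        (singleFunctor C 0).obj F ⟶ Q.obj (cx φ))
      (Q.map (CochainComplex.mappingCone.triangle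
          ((CochainComplex.singleFunctor C 0).map φ)).mor₃ ≫
        (Q.commShiftIso (1 : ℤ)).hom.app _) ∈ distTriang _ :=
  mappingCone_triangle_distinguished ((CochainComplex.singleFunctor C 0).map φ)

lemma exists_cx_triangle {G F : C} (φ : G ⟶ F) :
    ∃ (u : (singleFunctor C 0).obj F ⟶ Q.obj (cx φ))
      (β : Q.obj (cx φ) ⟶ ((singleFunctor C 0).obj G)⟦(1 : ℤ)⟧),
      Triangle.mk ((singleFunctor C 0).map φ) u β ∈ distTriang _ :=
  ⟨_, _, cx_triangle_distinguished φ⟩

/-- an object sitting in a presentation triangle is represented by the two-term complex -/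
lemma nonempty_iso_cx {G F : C} (φ : G ⟶ F) (K : DerivedCategory C)
    (u : (singleFunctor C 0).obj F ⟶ K) (β : K ⟶ ((singleFunctor C 0).obj G)⟦(1 : ℤ)⟧)
    (hT : Triangle.mk ((singleFunctor C 0).map φ) u β ∈ distTriang _) :
    Nonempty (Q.obj (cx φ) ≅ K) := by
  have e := isoTriangleOfIso₁₂ _ _ (cx_triangle_distinguished φ) hT (Iso.refl _) (Iso.refl _)
    ((Category.comp_id _).trans (Category.id_comp _).symm)
  exact ⟨Triangle.π₃.mapIso e⟩

section CxTerms

omit [HasDerivedCategory.{w} C]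

open CochainComplex HomologicalComplex

/-- the degree-zero term of a single complex -/
noncomputable def sIso (A : C) : ((CochainComplex.singleFunctor C 0).obj A).X 0 ≅ A :=
  singleObjXSelf (ComplexShape.up ℤ) 0 A

lemma sIso_map {A B : C} (f : A ⟶ B) :
    ((CochainComplex.singleFunctor C 0).map f).f 0 = (sIso A).hom ≫ f ≫ (sIso B).inv :=
  HomologicalComplex.single_map_f_self _ _ _

lemma isZero_single_X (A : C) (i : ℤ) (hi : i ≠ 0) :
    IsZero (((CochainComplex.singleFunctor C 0).obj A).X i) :=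
  HomologicalComplex.isZero_single_obj_X (ComplexShape.up ℤ) 0 A i hi

variable {G F : C} (φ : G ⟶ F)

/-- the degree `0` term of `cx φ` is `F` -/
noncomputable def cxXIso₀ : (cx φ).X 0 ≅ F where
  hom := (mappingCone.snd ((CochainComplex.singleFunctor C 0).map φ)).v 0 0 (add_zero 0) ≫
    (sIso F).hom
  inv := (sIso F).inv ≫ (mappingCone.inr ((CochainComplex.singleFunctor C 0).map φ)).f 0
  hom_inv_id := by
    have h := mappingCone.id_X ((CochainComplex.singleFunctor C 0).map φ) 0 1 (by lia)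
    have hz : (mappingCone.fst ((CochainComplex.singleFunctor C 0).map φ)).1.v 0 1 (by lia) = 0 :=
      (isZero_single_X G 1 (by lia)).eq_of_tgt _ _
    rw [hz, zero_comp, zero_add] at h
    rw [Category.assoc, Iso.hom_inv_id_assoc]
    exact h
  inv_hom_id := by
    rw [Category.assoc, mappingCone.inr_f_snd_v_assoc, Iso.inv_hom_id]

/-- the degree `-1` term of `cx φ` is `G` -/
noncomputable def cxXIso₁ : (cx φ).X (-1) ≅ G where
  hom := (mappingCone.fst ((CochainComplex.singleFunctor C 0).map φ)).1.v (-1) 0 (by lia) ≫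
    (sIso G).hom
  inv := (sIso G).inv ≫
    (mappingCone.inl ((CochainComplex.singleFunctor C 0).map φ)).v 0 (-1) (by lia)
  hom_inv_id := by
    have h := mappingCone.id_X ((CochainComplex.singleFunctor C 0).map φ) (-1) 0 (by lia)
    have hz : (mappingCone.snd ((CochainComplex.singleFunctor C 0).map φ)).v (-1) (-1)
        (add_zero _) = 0 :=
      (isZero_single_X F (-1) (by lia)).eq_of_tgt _ _
    rw [hz, zero_comp, add_zero] at h
    rw [Category.assoc, Iso.hom_inv_id_assoc]
    exact h
  inv_hom_id := by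
    rw [Category.assoc, mappingCone.inl_v_fst_v_assoc, Iso.inv_hom_id]

lemma cx_d : (cx φ).d (-1) 0 = (cxXIso₁ φ).hom ≫ φ ≫ (cxXIso₀ φ).inv := by
  rw [← cancel_epi (cxXIso₁ φ).inv, Iso.inv_hom_id_assoc]
  dsimp only [cxXIso₁, cxXIso₀]
  rw [Category.assoc, mappingCone.inl_v_d _ 0 (-1) 1 (by lia) (by lia)]
  have hz : ((CochainComplex.singleFunctor C 0).obj G).d 0 1 = 0 :=
    (isZero_single_X G 1 (by lia)).eq_of_tgt _ _
  rw [hz, zero_comp, sub_zero, sIso_map]
  simp only [Category.assoc, Iso.inv_hom_id_assoc]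

end CxTerms

section Factor

variable {G F : C} (φ : G ⟶ F) (K : DerivedCategory C)
  (u : (singleFunctor C 0).obj F ⟶ K) (β : K ⟶ ((singleFunctor C 0).obj G)⟦(1 : ℤ)⟧)
  (hT : Triangle.mk ((singleFunctor C 0).map φ) u β ∈ distTriang _)

include hT

/-- If the class `β ≫ g[1]` vanishes then `g` factors through `φ`. -/
lemma exists_factor_of_comp_eq_zero {G' : C} (g : G ⟶ G')
    (h : β ≫ ((singleFunctor C 0).map g)⟦(1 : ℤ)⟧' = 0) : ∃ r : F ⟶ G', φ ≫ r = g := by
  obtain ⟨g', hg'⟩ := Triangle.yoneda_exact₃ _ (rot_of_distTriang _ hT)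
    (((singleFunctor C 0).map g)⟦(1 : ℤ)⟧') h
  obtain ⟨g₀, rfl⟩ := (shiftFunctor (DerivedCategory C) (1 : ℤ)).map_surjective g'
  obtain ⟨ρ, rfl⟩ := (singleFunctor C 0).map_surjective g₀
  refine ⟨-ρ, ?_⟩
  apply (singleFunctor C 0).map_injective
  apply (shiftFunctor (DerivedCategory C) (1 : ℤ)).map_injective
  refine Eq.trans ?_ hg'.symm
  show _ = (-(((singleFunctor C 0).map φ)⟦(1 : ℤ)⟧')) ≫ _
  rw [Preadditive.comp_neg, Functor.map_neg, Functor.map_neg, Functor.map_comp, Functor.map_comp,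
    Preadditive.neg_comp]
  rfl

/-- Conversely, if `g` factors through `φ` then `β ≫ g[1] = 0`. -/
lemma comp_eq_zero_of_factor {G' : C} (g : G ⟶ G') (r : F ⟶ G') (hr : φ ≫ r = g) :
    β ≫ ((singleFunctor C 0).map g)⟦(1 : ℤ)⟧' = 0 := by
  have h : β ≫ ((singleFunctor C 0).map φ)⟦(1 : ℤ)⟧' = 0 := comp_distTriang_mor_zero₃₁ _ hT
  rw [← hr, Functor.map_comp, Functor.map_comp, reassoc_of% h, zero_comp]

/-- With `F` projective, every map from `K` to an object of `D^{≤ -1}` factors through `β`. -/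
lemma exists_factor_through_mor₃ [Projective F] (X : DerivedCategory C) [X.IsLE (-1)]
    (ξ : K ⟶ X) : ∃ γ : ((singleFunctor C 0).obj G)⟦(1 : ℤ)⟧ ⟶ X, ξ = β ≫ γ :=
  Triangle.yoneda_exact₃ _ hT ξ (eq_zero_of_projective_of_isLE 0 (-1) (by lia) _ _)

end Factor

section IsoCx

omit [HasDerivedCategory.{w} C]

/-- A complex concentrated in degrees `-1, 0` is isomorphic to the mapping cone model of its
differential. -/
noncomputable def cxIso (E : CochainComplex C ℤ)
    (hE : ∀ i : ℤ, i < -1 ∨ 0 < i → IsZero (E.X i)) : cx (E.d (-1) 0) ≅ E :=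
  HomologicalComplex.Hom.isoOfComponents
    (fun i =>
      if h₁ : i = -1 then (by subst h₁; exact cxXIso₁ (E.d (-1) 0))
      else if h₀ : i = 0 then (by subst h₀; exact cxXIso₀ (E.d (-1) 0))
      else (isZero_cx_X (E.d (-1) 0) i (by lia)).iso (hE i (by lia)))
    (by
      intro i j hij
      have hj : i + 1 = j := hij
      by_cases h₁ : i = -1
      · subst h₁
        obtain rfl : j = 0 := by lia
        rw [dif_pos rfl, dif_neg (by lia), dif_pos rfl]
        show (cxXIso₁ (E.d (-1) 0)).hom ≫ E.d (-1) 0 = _ ≫ (cxXIso₀ (E.d (-1) 0)).hom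
        rw [cx_d, Category.assoc, Category.assoc, Iso.inv_hom_id, Category.comp_id]
      · by_cases h₀ : i = 0
        · subst h₀
          apply (hE j (by lia)).eq_of_tgt
        · apply (isZero_cx_X (E.d (-1) 0) i (by lia)).eq_of_src)

end IsoCx

end General

section Modules

attribute [local instance] HasDerivedCategory.standard

variable {R : Type u} [CommRing R]

lemma finite_of_exact_noeth [IsNoetherianRing R] (S : ShortComplex (ModuleCat.{u} R))
    (hS : S.Exact) (_ : Module.Finite R S.X₁) (_ : Module.Finite R S.X₃) :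
    Module.Finite R S.X₂ := by
  have : IsNoetherian R S.X₃ := isNoetherian_of_isNoetherianRing_of_finite R S.X₃
  refine ⟨(⊤ : Submodule R S.X₂).fg_of_fg_map_of_fg_inf_ker S.g.hom ?_ ?_⟩
  · exact IsNoetherian.noetherian _
  · rw [top_inf_eq, ← hS.moduleCat_range_eq_ker, LinearMap.range_eq_map]
    exact Submodule.FG.map _ Module.Finite.fg_top

/-- In a presentation triangle over a Noetherian ring with `H^{-1}(K)` and `F` finite, `G` is
finite. -/
lemma finite_of_presentation_triangle [IsNoetherianRing R] {G F : ModuleCat.{u} R} (φ : G ⟶ F)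
    (K : DerivedCategory (ModuleCat.{u} R))
    (u : (singleFunctor (ModuleCat.{u} R) 0).obj F ⟶ K)
    (β : K ⟶ ((singleFunctor (ModuleCat.{u} R) 0).obj G)⟦(1 : ℤ)⟧)
    (hT : Triangle.mk ((singleFunctor (ModuleCat.{u} R) 0).map φ) u β ∈ distTriang _)
    (hK : Module.Finite R ((homologyFunctor (ModuleCat.{u} R) (-1)).obj K)) [Module.Finite R F] :
    Module.Finite R G := by
  have ex := HomologySequence.exact₁ _ hT (-1) 0 (by lia)
  have e₁ : (homologyFunctor (ModuleCat.{u} R) 0).obj
      ((singleFunctor (ModuleCat.{u} R) 0).obj G) ≅ G :=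
    (singleFunctorCompHomologyFunctorIso (ModuleCat.{u} R) 0).app G
  have e₂ : (homologyFunctor (ModuleCat.{u} R) 0).obj
      ((singleFunctor (ModuleCat.{u} R) 0).obj F) ≅ F :=
    (singleFunctorCompHomologyFunctorIso (ModuleCat.{u} R) 0).app F
  have hF' : Module.Finite R ((homologyFunctor (ModuleCat.{u} R) 0).obj
      ((singleFunctor (ModuleCat.{u} R) 0).obj F)) :=
    Module.Finite.equiv e₂.symm.toLinearEquiv
  have h2 : Module.Finite R ((homologyFunctor (ModuleCat.{u} R) 0).obj
      ((singleFunctor (ModuleCat.{u} R) 0).obj G)) :=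
    finite_of_exact_noeth _ ex hK hF'
  exact Module.Finite.equiv e₁.toLinearEquiv

end Modules

end Groth.Agent.Lib27.TwoTerm
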