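import Mathlib.RingTheory.Valuation.LocalSubring
import Mathlib.AlgebraicGeometry.ValuativeCriterion

/-!
# Valuation rings through a finite chain of specializations
-/

set_option autoImplicit false
universe u
open CategoryTheory AlgebraicGeometry IsLocalRing

namespace Groth.Agent.Lib27.ValChain

/-- Composite valuation rings: given a valuation subring `A` of `K` and a ring hom from a local ring
`R` to `A`, there is a smaller valuation subring `B ≤ A` through which the map factors by a local
homomorphism. -/
theorem exists_valuationSubring_le {K : Type*} [Field K] (A : ValuationSubring K)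
    {R : Type*} [CommRing R] [IsLocalRing R] (φ : R →+* A) :
    ∃ (B : ValuationSubring K) (_ : B ≤ A) (φ' : R →+* B), IsLocalHom φ' ∧
      ∀ r, ((φ' r : B) : K) = ((φ r : A) : K) := by
  classical
  let res : A →+* ResidueField A := IsLocalRing.residue A
  let Rbar : Subring (ResidueField A) := (res.comp φ).range
  have hRbar : IsLocalRing Rbar :=
    IsLocalRing.of_surjective' (res.comp φ).rangeRestrict (res.comp φ).rangeRestrict_surjective
  let D : Subring A := Rbar.comap res
  let f : D →+* Rbar := (res.comp D.subtype).codRestrict Rbar (fun d => d.2)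
  have hf : IsLocalHom f := by
    refine ⟨fun d hd => ?_⟩
    obtain ⟨e, he⟩ := hd.exists_right_inv
    have he' : res d.1 * e.1 = 1 := congrArg Subtype.val he
    have hne : res d.1 ≠ 0 := by
      intro h0; rw [h0, zero_mul] at he'; exact zero_ne_one he'
    have hdu : IsUnit d.1 := by
      by_contra hnu
      exact hne ((IsLocalRing.residue_eq_zero_iff _).mpr ((IsLocalRing.mem_maximalIdeal _).mpr hnu))
    obtain ⟨u, hu⟩ := hdu.exists_right_inv
    have hresu : res u = e.1 := by
      have h1 : res d.1 * res u = 1 := by rw [← map_mul, hu, map_one]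
      have hdunit : IsUnit (res d.1) := IsUnit.mk0 _ hne
      exact hdunit.mul_left_cancel (h1.trans he'.symm)
    have huD : u ∈ D := by
      show res u ∈ Rbar
      rw [hresu]; exact e.2
    exact isUnit_iff_exists_inv.mpr ⟨⟨u, huD⟩, Subtype.ext hu⟩
  have hD : IsLocalRing D := RingHom.domain_isLocalRing f
  let g : D →+* K := A.subtype.comp D.subtype
  obtain ⟨B, hB, hBloc⟩ := IsLocalRing.exists_factor_valuationRing g
  -- the maximal ideal of A lies in D and consists of nonunits of D
  have hmD : ∀ m : A, m ∈ maximalIdeal A → m ∈ D := by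
    intro m hm
    show res m ∈ Rbar
    rw [(IsLocalRing.residue_eq_zero_iff _).mpr hm]
    exact Rbar.zero_mem
  have hmnu : ∀ (m : A) (hm : m ∈ maximalIdeal A), ¬ IsUnit (⟨m, hmD m hm⟩ : D) := by
    intro m hm hu
    have : IsUnit m := hu.map D.subtype
    exact (IsLocalRing.mem_maximalIdeal _).mp hm this
  have hBA : B ≤ A := by
    intro x hxB
    by_contra hxA
    have hx0 : x ≠ 0 := by rintro rfl; exact hxA A.zero_mem
    have hinvA : x⁻¹ ∈ A := (A.mem_or_inv_mem x).resolve_left hxA
    have hinvm : (⟨x⁻¹, hinvA⟩ : A) ∈ maximalIdeal A := by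
      rw [IsLocalRing.mem_maximalIdeal]
      intro hu
      obtain ⟨v, hv⟩ := hu.exists_right_inv
      have hv' : x⁻¹ * (v : K) = 1 := congrArg Subtype.val hv
      have : (v : K) = x := by
        field_simp at hv'
        exact hv'
      exact hxA (this ▸ v.2)
    -- x⁻¹ is a nonunit of D hence of B, but x ∈ B
    have hnuB : ¬ IsUnit (g.codRestrict B.toSubring hB ⟨⟨x⁻¹, hinvA⟩, hmD _ hinvm⟩) := by
      intro hu
      exact hmnu _ hinvm (hBloc.map_nonunit _ hu)
    apply hnuB
    refine isUnit_iff_exists_inv.mpr ⟨⟨x, hxB⟩, ?_⟩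
    apply Subtype.ext
    show x⁻¹ * x = 1
    exact inv_mul_cancel₀ hx0
  -- the map R → D
  have hφD : ∀ r : R, φ r ∈ D := fun r => ⟨r, rfl⟩
  let φD : R →+* D := φ.codRestrict D hφD
  have hφDloc : IsLocalHom φD := by
    refine ⟨fun r hr => ?_⟩
    have h1 : IsUnit (f (φD r)) := hr.map f
    have h2 : f (φD r) = (res.comp φ).rangeRestrict r := Subtype.ext rfl
    rw [h2] at h1
    have hloc : IsLocalHom (res.comp φ).rangeRestrict :=
      .of_surjective _ (res.comp φ).rangeRestrict_surjective
    exact hloc.map_nonunit _ h1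
  refine ⟨B, hBA, (g.codRestrict B.toSubring hB).comp φD, ?_, fun r => rfl⟩
  exact @RingHom.isLocalHom_comp _ _ _ _ _ _ _ _ hBloc hφDloc

end Groth.Agent.Lib27.ValChain

namespace Groth.Agent.Lib27.ValChain

open AlgebraicGeometry

variable {Z : Scheme.{u}}

/-- A chain of successive specializations is a chain of specializations from the start. -/
theorem specializes_of_chain (z : ℕ → Z) (hz : ∀ i, z i ⤳ z (i + 1)) :
    ∀ i j, i ≤ j → z i ⤳ z j := by
  intro i j hij
  induction j, hij using Nat.le_induction with
  | base => exact specializes_rfl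
  | succ j _ ih => exact ih.trans (hz j)

/-- Through every chain of specializations `z 0 ⤳ z 1 ⤳ ⋯ ⤳ z n` of a scheme there passes a valuation
ring. -/
theorem exists_valuationRing_of_chain (z : ℕ → Z) (hz : ∀ i, z i ⤳ z (i + 1)) (n : ℕ) :
    ∃ (A : Type u) (_ : CommRing A) (_ : IsDomain A) (_ : ValuationRing A)
      (a : Spec (CommRingCat.of A) ⟶ Z) (q : ℕ → ↥(Spec (CommRingCat.of A))),
      (∀ j k, j ≤ k → k ≤ n → q j ⤳ q k) ∧ ∀ j, j ≤ n → a (q j) = z j := by
  classical
  have h0 : ∀ m, z 0 ⤳ z m := fun m => specializes_of_chain z hz 0 m (Nat.zero_le m)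
  let K : Type u := Z.residueField (z 0)
  let ψ : ∀ m, Z.presheaf.stalk (z m) →+* K := fun m =>
    (Z.presheaf.stalkSpecializes (h0 m) ≫ Z.residue (z 0)).hom
  -- the strengthened inductive statement
  suffices H : ∃ (A : ValuationSubring K) (φ : Z.presheaf.stalk (z n) →+* A), IsLocalHom φ ∧
      (∀ r, ((φ r : A) : K) = ψ n r) ∧ ∃ q : ℕ → ↥(Spec (CommRingCat.of A)),
      (∀ j k, j ≤ k → k ≤ n → q j ⤳ q k) ∧
      ∀ j, j ≤ n → (Spec.map (CommRingCat.ofHom φ) ≫ Z.fromSpecStalk (z n)) (q j) = z j by
    obtain ⟨A, φ, -, -, q, hq1, hq2⟩ := H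
    exact ⟨A, inferInstance, inferInstance, inferInstance, _, q, hq1, hq2⟩
  induction n with
  | zero =>
    let φ : Z.presheaf.stalk (z 0) →+* (⊤ : ValuationSubring K) :=
      (ψ 0).codRestrict (⊤ : ValuationSubring K).toSubring (fun _ => ValuationSubring.mem_top _)
    have hψ0 : ∀ r, ψ 0 r = (Z.residue (z 0)).hom r := by
      intro r
      show (Z.presheaf.stalkSpecializes (h0 0) ≫ Z.residue (z 0)).hom r = _
      have : Z.presheaf.stalkSpecializes (h0 0) = 𝟙 _ :=
        TopCat.Presheaf.stalkSpecializes_refl _ _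
      rw [this, Category.id_comp]
    have hφ : IsLocalHom φ := by
      refine ⟨fun r hr => ?_⟩
      have h1 : IsUnit (ψ 0 r) := hr.map (⊤ : ValuationSubring K).subtype
      rw [hψ0] at h1
      by_contra hnu
      have : (Z.residue (z 0)).hom r = 0 :=
        (IsLocalRing.residue_eq_zero_iff _).mpr ((IsLocalRing.mem_maximalIdeal _).mpr hnu)
      rw [this] at h1
      exact not_isUnit_zero h1
    refine ⟨⊤, φ, hφ, fun r => rfl, fun _ => IsLocalRing.closedPoint _, ?_, ?_⟩
    · intro j k _ _; exact specializes_rfl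
    · intro j _
      have hj : j = 0 := by omega
      subst hj
      rw [Scheme.Hom.comp_apply]
      have : (Spec.map (CommRingCat.ofHom φ)) (IsLocalRing.closedPoint _) =
          IsLocalRing.closedPoint (Z.presheaf.stalk (z 0)) :=
        IsLocalRing.comap_closedPoint φ
      rw [this, Scheme.fromSpecStalk_closedPoint]
  | succ n ih =>
    obtain ⟨A, φ, hφ, hφψ, q, hq1, hq2⟩ := ih
    let sp : Z.presheaf.stalk (z (n + 1)) →+* Z.presheaf.stalk (z n) :=
      (Z.presheaf.stalkSpecializes (hz n)).hom
    obtain ⟨B, hBA, φ', hφ', hφ'φ⟩ := exists_valuationSubring_le A (φ.comp sp)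
    have hψsucc : ∀ r, ψ n (sp r) = ψ (n + 1) r := by
      intro r
      show (Z.presheaf.stalkSpecializes (h0 n) ≫ Z.residue (z 0)).hom
        ((Z.presheaf.stalkSpecializes (hz n)).hom r) =
        (Z.presheaf.stalkSpecializes (h0 (n + 1)) ≫ Z.residue (z 0)).hom r
      rw [← CommRingCat.comp_apply, ← Category.assoc,
        TopCat.Presheaf.stalkSpecializes_comp]
    let incl : B →+* A := ValuationSubring.inclusion B A hBA
    let ι : Spec (CommRingCat.of A) ⟶ Spec (CommRingCat.of B) := Spec.map (CommRingCat.ofHom incl)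
    -- compatibility of the two morphisms to Z
    have hcomp : ι ≫ (Spec.map (CommRingCat.ofHom φ') ≫ Z.fromSpecStalk (z (n + 1))) =
        Spec.map (CommRingCat.ofHom φ) ≫ Z.fromSpecStalk (z n) := by
      have h1 : CommRingCat.ofHom φ' ≫ CommRingCat.ofHom incl =
          Z.presheaf.stalkSpecializes (hz n) ≫ CommRingCat.ofHom φ := by
        ext r
        exact hφ'φ r
      rw [← Category.assoc, ← Spec.map_comp, h1, Spec.map_comp, Category.assoc,
        Scheme.SpecMap_stalkSpecializes_fromSpecStalk]
      rfl
    refine ⟨B, φ', hφ', fun r => (hφ'φ r).trans ((hφψ (sp r)).trans (hψsucc r)),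
      fun j => if j ≤ n then ι (q j) else IsLocalRing.closedPoint _, ?_, ?_⟩
    · intro j k hjk hk
      by_cases hkn : k ≤ n
      · have hjn : j ≤ n := hjk.trans hkn
        simp only [hkn, hjn, if_true]
        exact (hq1 j k hjk hkn).map ι.continuous
      · simp only [hkn, if_false]
        exact IsLocalRing.specializes_closedPoint _
    · intro j hj
      by_cases hjn : j ≤ n
      · simp only [hjn, if_true]
        rw [← Scheme.Hom.comp_apply, hcomp]
        exact hq2 j hjn
      · have hj' : j = n + 1 := by omega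
        subst hj'
        simp only [hjn, if_false]
        rw [Scheme.Hom.comp_apply]
        have : (Spec.map (CommRingCat.ofHom φ')) (IsLocalRing.closedPoint _) =
            IsLocalRing.closedPoint (Z.presheaf.stalk (z (n + 1))) :=
          IsLocalRing.comap_closedPoint φ'
        rw [this, Scheme.fromSpecStalk_closedPoint]

end Groth.Agent.Lib27.ValChain
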