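import Mathlib
import Groth.Agent.Lib27.GrMin1

/-!
# ℤ-graded rings: homogeneous ideals f.g. ⇒ finite type over degree zero
-/

set_option autoImplicit false

universe u

namespace Groth.Agent.Lib27.ZGrNoeth

open Groth.Agent.Lib27.GrMin

section
variable {R A : Type*} [CommRing R] [CommRing A] [Algebra R A]
  (𝒜 : ℤ → Submodule R A) [GradedAlgebra 𝒜]

/-- projecting a linear combination of homogeneous elements. -/
lemma proj_sum (T : Finset A) (deg : A → ℤ) (hdeg : ∀ t ∈ T, t ∈ 𝒜 (deg t)) (f : A → A) (k : ℤ)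
    (y : A) (hy : y ∈ 𝒜 k) (h : y = ∑ t ∈ T, f t * t) :
    y = ∑ t ∈ T, cmp 𝒜 (k - deg t) (f t) * t := by
  calc y = cmp 𝒜 k y := (cmp_of_mem 𝒜 hy).symm
    _ = cmp 𝒜 k (∑ t ∈ T, f t * t) := by rw [← h]
    _ = ∑ t ∈ T, cmp 𝒜 k (f t * t) := map_sum _ _ _
    _ = ∑ t ∈ T, cmp 𝒜 (k - deg t) (f t) * t :=
        Finset.sum_congr rfl fun t ht => by
          rw [mul_comm, cmp_mul_of_left_mem 𝒜 k (f t) (hdeg t ht), mul_comm]

variable (h2 : ∀ S : Set A, (∀ x ∈ S, ∃ n, x ∈ 𝒜 n) → (Ideal.span S).FG)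

include h2 in
lemma exists_finset_gen (n : ℤ) (S : Set A) (hS : ∀ x ∈ S, x ∈ 𝒜 n) :
    ∃ T : Finset A, (↑T ⊆ S) ∧ ∀ y ∈ Ideal.span S, y ∈ 𝒜 n →
      ∃ c : A → A, (∀ t, c t ∈ 𝒜 0) ∧ y = ∑ t ∈ T, c t * t := by
  obtain ⟨T, hTS, hT⟩ := (Submodule.fg_span_iff_fg_span_finset_subset S).1
    (h2 S fun x hx => ⟨n, hS x hx⟩)
  refine ⟨T, hTS, fun y hy hyn => ?_⟩
  have hy' : y ∈ Submodule.span A (T : Set A) := hT ▸ hy
  obtain ⟨f, -, hf⟩ := Submodule.mem_span_finset.1 hy'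
  have := proj_sum 𝒜 T (fun _ => n) (fun t ht => hS t (hTS ht)) f n y hyn
    (by simpa [smul_eq_mul] using hf.symm)
  refine ⟨fun t => cmp 𝒜 0 (f t), fun t => cmp_mem 𝒜 _ _, ?_⟩
  simpa using this

include h2 in
lemma exists_finset_closure :
    ∃ T : Finset A, (∀ t ∈ T, ∃ n : ℤ, 0 ≤ n ∧ t ∈ 𝒜 n) ∧
      ∀ n : ℤ, 0 ≤ n → ∀ y ∈ 𝒜 n,
        y ∈ Subring.closure (((𝒜 0 : Submodule R A) : Set A) ∪ ↑T) := by
  classical
  have hG : ∀ n : ℤ, ∃ G : Finset A, (∀ t ∈ G, t ∈ 𝒜 n) ∧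
      ∀ y ∈ 𝒜 n, ∃ c : A → A, (∀ t, c t ∈ 𝒜 0) ∧ y = ∑ t ∈ G, c t * t := by
    intro n
    obtain ⟨G, hGS, hG⟩ := exists_finset_gen 𝒜 h2 n (𝒜 n : Set A) (fun x hx => hx)
    exact ⟨G, fun t ht => hGS ht, fun y hy => hG y (Ideal.subset_span hy) hy⟩
  choose G hGmem hGgen using hG
  set Sp : Set A := {a | ∃ n : ℤ, 0 < n ∧ a ∈ 𝒜 n} with hSp
  obtain ⟨Tp, hTpS, hTp⟩ := (Submodule.fg_span_iff_fg_span_finset_subset Sp).1
    (h2 Sp fun x hx => ⟨hx.choose, hx.choose_spec.2⟩)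
  have hdeg : ∀ t : A, ∃ n : ℤ, t ∈ Tp → (0 < n ∧ t ∈ 𝒜 n) := by
    intro t
    by_cases ht : t ∈ Tp
    · obtain ⟨n, hn, htn⟩ := hTpS ht
      exact ⟨n, fun _ => ⟨hn, htn⟩⟩
    · exact ⟨0, fun h => absurd h ht⟩
  choose deg hdeg using hdeg
  obtain ⟨d, hd⟩ : ∃ d : ℤ, ∀ t ∈ Tp, deg t ≤ d := by
    obtain ⟨d, hd⟩ := Finset.exists_le (Tp.image deg)
    exact ⟨d, fun t ht => hd _ (Finset.mem_image_of_mem _ ht)⟩
  let T : Finset A := Tp ∪ (Finset.Icc (1:ℤ) d).biUnion G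
  refine ⟨T, ?_, ?_⟩
  · intro t ht
    rcases Finset.mem_union.1 ht with ht | ht
    · exact ⟨deg t, (hdeg t ht).1.le, (hdeg t ht).2⟩
    · obtain ⟨n, hn, htn⟩ := Finset.mem_biUnion.1 ht
      exact ⟨n, by have := (Finset.mem_Icc.1 hn).1; omega, hGmem n t htn⟩
  · set C := Subring.closure (((𝒜 0 : Submodule R A) : Set A) ∪ ↑T) with hC
    have h0C : ∀ a ∈ 𝒜 0, a ∈ C := fun a ha => Subring.subset_closure (Or.inl ha)
    have hTC : ∀ t ∈ T, t ∈ C := fun t ht => Subring.subset_closure (Or.inr ht)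
    have key : ∀ k : ℕ, ∀ y ∈ 𝒜 (k : ℤ), y ∈ C := by
      intro k
      induction k using Nat.strong_induction_on with
      | _ k ih =>
        intro y hy
        rcases Nat.eq_zero_or_pos k with rfl | hk
        · exact h0C y (by simpa using hy)
        by_cases hkd : (k : ℤ) ≤ d
        · obtain ⟨c, hc, rfl⟩ := hGgen k y hy
          refine sum_mem fun t ht => mul_mem (h0C _ (hc t)) (hTC t ?_)
          exact Finset.mem_union_right _
            (Finset.mem_biUnion.2 ⟨k, Finset.mem_Icc.2 ⟨by omega, hkd⟩, ht⟩)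
        · push Not at hkd
          have hy' : y ∈ Submodule.span A (Tp : Set A) := by
            rw [← hTp]; exact Submodule.subset_span ⟨k, by omega, hy⟩
          obtain ⟨f, -, hf⟩ := Submodule.mem_span_finset.1 hy'
          have := proj_sum 𝒜 Tp deg (fun t ht => (hdeg t ht).2) f k y hy
            (by simpa [smul_eq_mul] using hf.symm)
          rw [this]
          refine sum_mem fun t ht => mul_mem ?_ (hTC t (Finset.mem_union_left _ ht))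
          have h1 := (hdeg t ht).1
          have h2' := hd t ht
          obtain ⟨m, hm⟩ : ∃ m : ℕ, (m : ℤ) = k - deg t := ⟨(k - deg t).toNat, by omega⟩
          have hmk : m < k := by omega
          rw [← hm]
          exact ih m hmk _ (cmp_mem 𝒜 _ _)
    intro n hn y hy
    obtain ⟨k, rfl⟩ := Int.eq_ofNat_of_zero_le hn
    exact key k y hy

include h2 in
lemma isNoetherianRing_zero : IsNoetherianRing (𝒜 0) := by
  rw [isNoetherianRing_iff_ideal_fg]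
  intro J
  let ι : (𝒜 0) →ₗ[𝒜 0] A := Algebra.linearMap (𝒜 0) A
  have hι : Function.Injective ι := Subtype.val_injective
  apply Submodule.fg_of_fg_map_injective ι hι
  obtain ⟨T, hTS, hT⟩ := exists_finset_gen 𝒜 h2 0 (Subtype.val '' (J : Set (𝒜 0)))
    (by rintro _ ⟨x, -, rfl⟩; exact x.2)
  have : Submodule.map ι J = Submodule.span (𝒜 0) (T : Set A) := by
    apply le_antisymm
    · rintro _ ⟨y, hy, rfl⟩
      obtain ⟨c, hc, hyc⟩ := hT (y : A) (Ideal.subset_span ⟨y, hy, rfl⟩) y.2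
      show (y : A) ∈ _
      rw [hyc]
      refine Submodule.sum_mem _ fun t ht => ?_
      have : c t * t = (⟨c t, hc t⟩ : 𝒜 0) • t := rfl
      rw [this]
      exact Submodule.smul_mem _ _ (Submodule.subset_span ht)
    · rw [Submodule.span_le]
      intro t ht
      obtain ⟨x, hx, hxt⟩ := hTS ht
      exact ⟨x, hx, hxt⟩
  rw [this]
  exact Submodule.fg_span T.finite_toSet

lemma adjoin_fg_of_closure (S : Set A) (T : Finset A) (hTS : ↑T ⊆ S)
    (hS : ∀ a ∈ S, a ∈ Subring.closure (((𝒜 0 : Submodule R A) : Set A) ∪ ↑T)) :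
    (Algebra.adjoin (𝒜 0) S).FG := by
  refine ⟨T, le_antisymm (Algebra.adjoin_mono hTS) (Algebra.adjoin_le fun a ha => ?_)⟩
  have : Subring.closure (((𝒜 0 : Submodule R A) : Set A) ∪ ↑T) ≤
      (Algebra.adjoin (𝒜 0) (T : Set A)).toSubring := by
    rw [Subring.closure_le]
    rintro x (hx | hx)
    · exact Subalgebra.algebraMap_mem _ (⟨x, hx⟩ : 𝒜 0)
    · exact Algebra.subset_adjoin hx
  exact this (hS a ha)

/-- the negated grading -/
noncomputable def negGradedAlgebra : GradedAlgebra (fun n : ℤ => 𝒜 (-n)) := by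
  letI : SetLike.GradedMonoid (fun n : ℤ => 𝒜 (-n)) :=
    { one_mem := by
        show (1 : A) ∈ 𝒜 (-0)
        rw [neg_zero]; exact SetLike.GradedOne.one_mem
      mul_mem := fun i j a b ha hb => by
        show a * b ∈ 𝒜 (-(i + j))
        rw [neg_add]; exact SetLike.GradedMul.mul_mem ha hb }
  have hint : DirectSum.IsInternal (fun n : ℤ => 𝒜 (-n)) := by
    have h := (DirectSum.isInternal_submodule_iff_iSupIndep_and_iSup_eq_top 𝒜).1
      (DirectSum.Decomposition.isInternal 𝒜)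
    rw [DirectSum.isInternal_submodule_iff_iSupIndep_and_iSup_eq_top]
    refine ⟨h.1.comp neg_injective, ?_⟩
    rw [← h.2]
    exact (Equiv.neg ℤ).iSup_comp (g := 𝒜)
  letI : DirectSum.Decomposition (fun n : ℤ => 𝒜 (-n)) := hint.chooseDecomposition
  exact { }

theorem two_imp_three (h : ∀ I : Ideal A, I.IsHomogeneous 𝒜 → I.FG) :
    IsNoetherianRing (𝒜 0) ∧
      (Algebra.adjoin (𝒜 0) {a : A | ∃ n : ℤ, 0 ≤ n ∧ a ∈ 𝒜 n}).FG ∧
      (Algebra.adjoin (𝒜 0) {a : A | ∃ n : ℤ, n ≤ 0 ∧ a ∈ 𝒜 n}).FG := by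
  have h2 : ∀ S : Set A, (∀ x ∈ S, ∃ n, x ∈ 𝒜 n) → (Ideal.span S).FG :=
    fun S hS => h _ (Ideal.homogeneous_span 𝒜 S hS)
  refine ⟨isNoetherianRing_zero 𝒜 h2, ?_, ?_⟩
  · obtain ⟨T, hT1, hT2⟩ := exists_finset_closure 𝒜 h2
    exact adjoin_fg_of_closure 𝒜 _ T (fun t ht => hT1 t ht)
      (fun a ⟨n, hn, ha⟩ => hT2 n hn a ha)
  · letI := negGradedAlgebra 𝒜
    have h2' : ∀ S : Set A, (∀ x ∈ S, ∃ n, x ∈ (fun n : ℤ => 𝒜 (-n)) n) → (Ideal.span S).FG :=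
      fun S hS => h2 S fun x hx => ⟨-(hS x hx).choose, (hS x hx).choose_spec⟩
    obtain ⟨T, hT1, hT2⟩ := exists_finset_closure (fun n : ℤ => 𝒜 (-n)) h2'
    refine adjoin_fg_of_closure 𝒜 _ T ?_ ?_
    · intro t ht
      obtain ⟨n, hn, htn⟩ := hT1 t ht
      exact ⟨-n, by omega, htn⟩
    · rintro a ⟨n, hn, ha⟩
      have := hT2 (-n) (by omega) a (by simpa using ha)
      simpa using this

theorem three_imp_four (h : IsNoetherianRing (𝒜 0) ∧
      (Algebra.adjoin (𝒜 0) {a : A | ∃ n : ℤ, 0 ≤ n ∧ a ∈ 𝒜 n}).FG ∧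
      (Algebra.adjoin (𝒜 0) {a : A | ∃ n : ℤ, n ≤ 0 ∧ a ∈ 𝒜 n}).FG) :
    IsNoetherianRing (𝒜 0) ∧ Algebra.FiniteType (𝒜 0) A := by
  classical
  refine ⟨h.1, ⟨?_⟩⟩
  have hsup := h.2.1.sup h.2.2
  have : Algebra.adjoin (𝒜 0) {a : A | ∃ n : ℤ, 0 ≤ n ∧ a ∈ 𝒜 n} ⊔
      Algebra.adjoin (𝒜 0) {a : A | ∃ n : ℤ, n ≤ 0 ∧ a ∈ 𝒜 n} = ⊤ := by
    rw [eq_top_iff]
    intro a _
    rw [← DirectSum.sum_support_decompose 𝒜 a]
    refine Subalgebra.sum_mem _ fun i _ => ?_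
    rcases le_total 0 i with hi | hi
    · exact Algebra.mem_sup_left
        (Algebra.subset_adjoin ⟨i, hi, (DirectSum.decompose 𝒜 a i).2⟩)
    · exact Algebra.mem_sup_right
        (Algebra.subset_adjoin ⟨i, hi, (DirectSum.decompose 𝒜 a i).2⟩)
  rwa [this] at hsup

end

end Groth.Agent.Lib27.ZGrNoeth
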